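import Groth.Prelude.Def_EGA43
import Mathlib

/-!
# Openness at a point and lifting of generizations (EGA IV 1.10.3)

Library of helper72.  `GenLift f x` : every generization of `f x` is the image of a generization
of `x`.  Ring level and scheme level versions of:
* open at `x` ⟹ generizations lift;
* (finite presentation) generizations lift ⟹ open at `x`.
-/

set_option autoImplicit false

namespace Groth.Agent.H72.OpenAt

open CategoryTheory AlgebraicGeometry Limits EGA43 PrimeSpectrum TopologicalSpace Topology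

universe u

section Top

variable {α β α₀ β₀ : Type*} [TopologicalSpace α] [TopologicalSpace β] [TopologicalSpace α₀]
  [TopologicalSpace β₀]

/-- Generizations of `f x` lift to generizations of `x`. -/
def GenLift (f : α → β) (x : α) : Prop :=
  ∀ y' : β, y' ⤳ f x → ∃ x' : α, x' ⤳ x ∧ f x' = y'

theorem isOpenAt_iff_of_isOpenEmbedding {f : α → β} {f₀ : α₀ → β₀} {j : α₀ → α} {i : β₀ → β}
    (hj : IsOpenEmbedding j) (hi : IsOpenEmbedding i) (h : ∀ u, f (j u) = i (f₀ u)) (u : α₀) :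
    IsOpenAt f (j u) ↔ IsOpenAt f₀ u := by
  constructor
  · intro H W₀ hW₀
    have h1 : j '' W₀ ∈ 𝓝 (j u) := hj.image_mem_nhds.mpr hW₀
    have h2 := H _ h1
    have h3 : f '' (j '' W₀) = i '' (f₀ '' W₀) := by
      rw [Set.image_image, Set.image_image]
      exact Set.image_congr fun a _ => h a
    rw [h3, h u] at h2
    exact hi.image_mem_nhds.mp h2
  · intro H W hW
    have h1 : j ⁻¹' W ∈ 𝓝 u := hj.continuous.continuousAt hW
    have h2 := H _ h1
    have h3 : i '' (f₀ '' (j ⁻¹' W)) ∈ 𝓝 (i (f₀ u)) := hi.image_mem_nhds.mpr h2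
    rw [← h u] at h3
    refine Filter.mem_of_superset h3 ?_
    rintro _ ⟨_, ⟨a, ha, rfl⟩, rfl⟩
    exact ⟨j a, ha, h a⟩

theorem genLift_iff_of_isOpenEmbedding {f : α → β} {f₀ : α₀ → β₀} {j : α₀ → α} {i : β₀ → β}
    (hj : IsOpenEmbedding j) (hi : IsOpenEmbedding i) (h : ∀ u, f (j u) = i (f₀ u)) (u : α₀) :
    GenLift f (j u) ↔ GenLift f₀ u := by
  constructor
  · intro H y₀ hy₀
    have h1 : i y₀ ⤳ f (j u) := by
      rw [h u]; exact hy₀.map hi.continuous
    obtain ⟨x', hx', hfx'⟩ := H _ h1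
    have hx'r : x' ∈ Set.range j := hx'.mem_open hj.isOpen_range ⟨u, rfl⟩
    obtain ⟨u', rfl⟩ := hx'r
    refine ⟨u', hj.toIsInducing.specializes_iff.mp hx', ?_⟩
    apply hi.injective
    rw [← h u', hfx']
  · intro H y' hy'
    rw [h u] at hy'
    have hy'r : y' ∈ Set.range i := hy'.mem_open hi.isOpen_range ⟨_, rfl⟩
    obtain ⟨y₀, rfl⟩ := hy'r
    obtain ⟨u', hu', hfu'⟩ := H y₀ (hi.toIsInducing.specializes_iff.mp hy')
    exact ⟨j u', hu'.map hj.continuous, by rw [h u', hfu']⟩

theorem isOpenAt_of_isOpenMap' {f : α → β} (hf : IsOpenMap f) (x : α) : IsOpenAt f x :=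
  fun _ hU => hf.image_mem_nhds hU

theorem isOpenMap_of_forall_isOpenAt {f : α → β} (hf : ∀ x, IsOpenAt f x) : IsOpenMap f := by
  rw [isOpenMap_iff_nhds_le]
  intro x s hs
  exact Filter.mem_of_superset (hf x _ (Filter.mem_map.mp hs)) (Set.image_preimage_subset f s)

end Top

section Ring

variable {R : Type u} [CommRing R]

/-- A constructible subset of `Spec R` containing all generizations of `p` is a neighbourhood
of `p`. -/
theorem mem_nhds_of_isConstructible {E : Set (PrimeSpectrum R)} (hE : IsConstructible E)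
    (p : PrimeSpectrum R) (h : ∀ y', y' ⤳ p → y' ∈ E) : E ∈ 𝓝 p := by
  obtain ⟨S, _, ρ, hρ⟩ := exists_range_eq_of_isConstructible hE.compl
  have key : ∃ s : R, s ∉ p.asIdeal ∧ ρ s = 0 := by
    by_contra hcon
    push_neg at hcon
    have hdisj : Disjoint ((⊥ : Ideal S) : Set S)
        ((p.asIdeal.primeCompl.map ρ : Submonoid S) : Set S) := by
      rw [Set.disjoint_left]
      rintro _ h0 ⟨s, hs, rfl⟩
      exact hcon s hs (by simpa using h0)
    obtain ⟨Q, hQ, -, hQd⟩ := Ideal.exists_le_prime_disjoint ⊥ _ hdisj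
    have hle : (comap ρ ⟨Q, hQ⟩) ≤ p := by
      intro r hr
      by_contra hrp
      exact Set.disjoint_left.mp hQd hr ⟨r, hrp, rfl⟩
    have h1 := h _ ((le_iff_specializes _ _).mp hle)
    have hmem : comap ρ ⟨Q, hQ⟩ ∈ Eᶜ := hρ ▸ Set.mem_range_self _
    exact hmem h1
  obtain ⟨s, hs, hs0⟩ := key
  refine Filter.mem_of_superset ((basicOpen s).isOpen.mem_nhds hs) ?_
  intro z hz
  by_contra hzE
  have hz' : z ∈ Set.range (comap ρ) := hρ ▸ hzE
  obtain ⟨Q, rfl⟩ := hz'
  apply hz
  change ρ s ∈ Q.asIdeal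
  rw [hs0]
  exact zero_mem _

variable {B : Type u} [CommRing B]

/-- Ring level: openness at `q` implies that generizations lift. -/
theorem genLift_of_isOpenAt (φ : R →+* B) (q : PrimeSpectrum B)
    (h : IsOpenAt (comap φ) q) : GenLift (comap φ) q := by
  intro y' hy'
  have hle : y'.asIdeal ≤ (comap φ q).asIdeal := (le_iff_specializes _ _).mpr hy'
  -- multiplicative set
  let M : Submonoid B := q.asIdeal.primeCompl ⊔ y'.asIdeal.primeCompl.map φ
  have hdisj : Disjoint ((y'.asIdeal.map φ : Ideal B) : Set B) (M : Set B) := by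
    rw [Set.disjoint_left]
    intro c hc hcM
    obtain ⟨b, hb, d, hd, rfl⟩ := Submonoid.mem_sup.mp hcM
    obtain ⟨r, hr, rfl⟩ := hd
    -- `D(b)` is a neighbourhood of `q`
    have h1 : (basicOpen b : Set (PrimeSpectrum B)) ∈ 𝓝 q := (basicOpen b).isOpen.mem_nhds hb
    have h2 := h _ h1
    obtain ⟨O, hO, hOo, hpO⟩ := mem_nhds_iff.mp h2
    have h3 : y' ∈ O := hy'.mem_open hOo hpO
    obtain ⟨q'', hq''b, hq''⟩ := hO h3
    have h4 : y'.asIdeal.map φ ≤ q''.asIdeal := by
      rw [Ideal.map_le_iff_le_comap, ← hq'']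
      exact le_rfl
    rcases q''.isPrime.mem_or_mem (h4 hc) with h5 | h5
    · exact hq''b h5
    · apply hr
      rw [← hq'']
      exact h5
  obtain ⟨Q, hQ, hQle, hQd⟩ := Ideal.exists_le_prime_disjoint _ M hdisj
  refine ⟨⟨Q, hQ⟩, ?_, ?_⟩
  · rw [← le_iff_specializes]
    intro b hb
    by_contra hbq
    exact Set.disjoint_left.mp hQd hb (Submonoid.mem_sup_left (S := q.asIdeal.primeCompl) hbq)
  · apply PrimeSpectrum.ext
    apply le_antisymm
    · intro r hr
      by_contra hry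
      exact Set.disjoint_left.mp hQd hr
        (Submonoid.mem_sup_right (T := y'.asIdeal.primeCompl.map φ) ⟨r, hry, rfl⟩)
    · intro r hr
      exact hQle (Ideal.mem_map_of_mem φ hr)

/-- Ring level: for finitely presented ring maps, lifting of generizations implies openness at
the point. -/
theorem isOpenAt_of_genLift (φ : R →+* B) (hφ : φ.FinitePresentation) (q : PrimeSpectrum B)
    (h : GenLift (comap φ) q) : IsOpenAt (comap φ) q := by
  intro W hW
  obtain ⟨_, ⟨b, rfl⟩, hqb, hbW⟩ :=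
    (isTopologicalBasis_basic_opens (R := B)).mem_nhds_iff.mp hW
  have hE : IsConstructible (comap φ '' (basicOpen b : Set (PrimeSpectrum B))) :=
    isConstructible_comap_image hφ isConstructible_basicOpen
  refine Filter.mem_of_superset (mem_nhds_of_isConstructible hE _ ?_) (Set.image_mono hbW)
  intro y' hy'
  obtain ⟨x', hx', rfl⟩ := h y' hy'
  exact ⟨x', hx'.mem_open (basicOpen b).isOpen hqb, rfl⟩

end Ring

section Scheme

/-- Affine chart of the source at a point, over a given open piece of the target. -/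
theorem exists_chart_over {X Y V : Scheme.{u}} (f : X ⟶ Y) (x : X) (i : V ⟶ Y) [IsOpenImmersion i]
    (hx : f.base x ∈ Set.range i.base) :
    ∃ (B : CommRingCat.{u}) (j : Spec B ⟶ X) (f₀ : Spec B ⟶ V) (_ : IsOpenImmersion j)
      (q : Spec B), j.base q = x ∧ j ≫ f = f₀ ≫ i ∧
      (LocallyOfFinitePresentation f → LocallyOfFinitePresentation f₀) ∧
      (LocallyOfFiniteType f → LocallyOfFiniteType f₀) := by
  obtain ⟨v, hv⟩ := hx
  obtain ⟨p, hp1, hp2⟩ := Scheme.Pullback.exists_preimage_pullback (f := f) (g := i) x v hv.symm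
  let 𝒰 := (pullback f i).affineOpenCover
  obtain ⟨q, hq⟩ := 𝒰.covers p
  refine ⟨𝒰.X (𝒰.idx p), 𝒰.f (𝒰.idx p) ≫ pullback.fst f i, 𝒰.f (𝒰.idx p) ≫ pullback.snd f i,
    inferInstance, q, ?_, ?_, ?_, ?_⟩
  · rw [Scheme.Hom.comp_base, TopCat.coe_comp, Function.comp_apply]
    erw [hq]
    exact hp1
  · rw [Category.assoc, Category.assoc, pullback.condition]
  · intro _; infer_instance
  · intro _; infer_instance

/-- Affine charts of source and target at a point. -/
theorem exists_chart {X Y : Scheme.{u}} (f : X ⟶ Y) (x : X) :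
    ∃ (R B : CommRingCat.{u}) (φ : R ⟶ B) (j : Spec B ⟶ X) (i : Spec R ⟶ Y)
      (_ : IsOpenImmersion j) (_ : IsOpenImmersion i) (q : Spec B), j.base q = x ∧
      j ≫ f = Spec.map φ ≫ i ∧ (LocallyOfFinitePresentation f → φ.hom.FinitePresentation) := by
  let 𝒱 := Y.affineOpenCover
  obtain ⟨B, j, f₀, hj, q, hq, hcomm, hfp, -⟩ :=
    exists_chart_over f x (𝒱.f (𝒱.idx (f.base x))) (𝒱.covers (f.base x))
  refine ⟨𝒱.X (𝒱.idx (f.base x)), B, Spec.preimage f₀, j, 𝒱.f (𝒱.idx (f.base x)), hj,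
    inferInstance, q, hq, ?_, ?_⟩
  · rw [Spec.map_preimage]; exact hcomm
  · intro h
    have h1 := hfp h
    rw [← Spec.map_preimage f₀] at h1
    exact (HasRingHomProperty.Spec_iff (P := @LocallyOfFinitePresentation)).mp h1

theorem genLift_of_isOpenAt_scheme {X Y : Scheme.{u}} (f : X ⟶ Y) (x : X)
    (h : IsOpenAt f.base x) : GenLift f.base x := by
  obtain ⟨R, B, φ, j, i, hj, hi, q, rfl, hcomm, -⟩ := exists_chart f x
  have hpt : ∀ u, f.base (j.base u) = i.base ((Spec.map φ).base u) := fun u => by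
    rw [← Scheme.Hom.comp_apply, ← Scheme.Hom.comp_apply, hcomm]
  rw [genLift_iff_of_isOpenEmbedding j.isOpenEmbedding i.isOpenEmbedding hpt]
  rw [isOpenAt_iff_of_isOpenEmbedding j.isOpenEmbedding i.isOpenEmbedding hpt] at h
  exact genLift_of_isOpenAt φ.hom q h

theorem isOpenAt_of_genLift_scheme {X Y : Scheme.{u}} (f : X ⟶ Y)
    [hf : LocallyOfFinitePresentation f] (x : X)
    (h : GenLift f.base x) : IsOpenAt f.base x := by
  obtain ⟨R, B, φ, j, i, hj, hi, q, rfl, hcomm, hfp⟩ := exists_chart f x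
  have hpt : ∀ u, f.base (j.base u) = i.base ((Spec.map φ).base u) := fun u => by
    rw [← Scheme.Hom.comp_apply, ← Scheme.Hom.comp_apply, hcomm]
  rw [isOpenAt_iff_of_isOpenEmbedding j.isOpenEmbedding i.isOpenEmbedding hpt]
  rw [genLift_iff_of_isOpenEmbedding j.isOpenEmbedding i.isOpenEmbedding hpt] at h
  exact isOpenAt_of_genLift φ.hom (hfp hf) q h

theorem isOpenAt_iff_genLift_scheme {X Y : Scheme.{u}} (f : X ⟶ Y)
    [LocallyOfFinitePresentation f] (x : X) : IsOpenAt f.base x ↔ GenLift f.base x :=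
  ⟨genLift_of_isOpenAt_scheme f x, isOpenAt_of_genLift_scheme f x⟩

/-- The statement of S3404. -/
theorem main {X Y : Scheme.{u}} (f : X ⟶ Y) (x : X) :
    (EGA43.IsOpenAt f.base x → ∀ y' : Y, y' ⤳ f.base x → ∃ x' : X, x' ⤳ x ∧ f.base x' = y') ∧
    (LocallyOfFinitePresentation f →
      ((EGA43.IsOpenAt f.base x) ↔
        ∀ y' : Y, y' ⤳ f.base x → ∃ x' : X, x' ⤳ x ∧ f.base x' = y')) :=
  ⟨genLift_of_isOpenAt_scheme f x, fun _ => isOpenAt_iff_genLift_scheme f x⟩

end Scheme

end Groth.Agent.H72.OpenAt
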