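import Groth.Agent.H72.NormalBir2

/-!
# Extending rational sections of integral morphisms over normal schemes (helper72)
-/

set_option autoImplicit false
set_option linter.style.haveILetI false
universe u

namespace Groth.Agent.H72.NormalBir

open AlgebraicGeometry CategoryTheory CategoryTheory.Limits TopologicalSpace

section RedInduced

variable {X : Scheme.{u}} (C : Closeds X)

/-- The reduced induced closed subscheme structure is reduced. -/
instance isReduced_vanishingIdeal_subscheme :
    IsReduced (Scheme.IdealSheafData.vanishingIdeal C).subscheme := by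
  haveI : ∀ W, IsReduced ((Scheme.IdealSheafData.vanishingIdeal C).subschemeCover.openCover.X W) := by
    intro (W : X.affineOpens)
    show IsReduced (Spec (.of (Γ(X, W.1) ⧸ (Scheme.IdealSheafData.vanishingIdeal C).ideal W)))
    rw [affine_isReduced_iff]
    show _root_.IsReduced (Γ(X, W.1) ⧸ (Scheme.IdealSheafData.vanishingIdeal C).ideal W)
    rw [← Ideal.isRadical_iff_quotient_reduced, Scheme.IdealSheafData.vanishingIdeal_ideal]
    exact PrimeSpectrum.isRadical_vanishingIdeal _
  exact IsReduced.of_openCover _ (Scheme.IdealSheafData.vanishingIdeal C).subschemeCover.openCover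

theorem irreducibleSpace_vanishingIdeal_subscheme (hC : IsIrreducible (C : Set X)) :
    IrreducibleSpace (Scheme.IdealSheafData.vanishingIdeal C).subscheme := by
  let ι := (Scheme.IdealSheafData.vanishingIdeal C).subschemeι
  have hemb : Topology.IsEmbedding ι := ι.isEmbedding
  let e := hemb.toHomeomorph
  have hr : Set.range ι = (C : Set X) := by
    rw [Scheme.IdealSheafData.range_subschemeι, Scheme.IdealSheafData.coe_support_vanishingIdeal]
  haveI : IrreducibleSpace (Set.range ι) := Subtype.irreducibleSpace (hr ▸ hC)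
  exact (Homeomorph.irreducibleSpace_iff e).mpr inferInstance

end RedInduced

end Groth.Agent.H72.NormalBir

namespace Groth.Agent.H72.NormalBir

open AlgebraicGeometry CategoryTheory CategoryTheory.Limits TopologicalSpace

/-- A morphism from a reduced scheme factors through the reduced induced structure on any closed
subset containing its image. -/
theorem vanishingIdeal_le_ker {U X : Scheme.{u}} [IsReduced U] (s : U ⟶ X) (C : Closeds X)
    (hC : Set.range s ⊆ (C : Set X)) : Scheme.IdealSheafData.vanishingIdeal C ≤ s.ker := by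
  refine Scheme.IdealSheafData.le_ofIdeals_iff.mpr fun W f hf => ?_
  rw [Scheme.IdealSheafData.vanishingIdeal_ideal] at hf
  rw [RingHom.mem_ker, ← basicOpen_eq_bot_iff, ← Scheme.preimage_basicOpen, eq_bot_iff]
  intro x hx
  exfalso
  have hx' : s x ∈ X.basicOpen f := hx
  have hxW : s x ∈ W.1 := X.basicOpen_le f hx'
  let 𝔭 := W.2.primeIdealOf ⟨s x, hxW⟩
  have h𝔭 : W.2.fromSpec 𝔭 = s x := W.2.fromSpec_primeIdealOf ⟨s x, hxW⟩
  have h1 : 𝔭 ∈ W.2.fromSpec ⁻¹' (C : Set X) := by
    show W.2.fromSpec 𝔭 ∈ (C : Set X)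
    rw [h𝔭]; exact hC ⟨x, rfl⟩
  have h2 : f ∈ 𝔭.asIdeal := (PrimeSpectrum.mem_vanishingIdeal _ _).mp hf 𝔭 h1
  have h3 : 𝔭 ∈ W.2.fromSpec ⁻¹ᵁ X.basicOpen f := by
    show W.2.fromSpec 𝔭 ∈ X.basicOpen f
    rw [h𝔭]; exact hx'
  rw [W.2.fromSpec_preimage_basicOpen] at h3
  exact h3 h2

theorem exists_section_extension {X X' : Scheme.{u}} [IsIntegral X] (hX : Pi1.IsNormalScheme X)
    (g : X' ⟶ X) [IsIntegralHom g] (U : X.Opens) (hU : Dense (U : Set X))
    (s : (U : Scheme.{u}) ⟶ X') (hs : s ≫ g = U.ι) :
    ∃ s' : X ⟶ X', s' ≫ g = 𝟙 X ∧ U.ι ≫ s' = s := by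
  haveI : Nonempty U := by
    obtain ⟨x, hx⟩ := hU.nonempty
    exact ⟨⟨x, hx⟩⟩
  let C : Closeds X' := Closeds.closure (Set.range s)
  have hCirr : IsIrreducible (C : Set X') := by
    show IsIrreducible (closure (Set.range s))
    rw [← Set.image_univ]
    exact ((IrreducibleSpace.isIrreducible_univ _).image s s.continuous.continuousOn).closure
  let J := Scheme.IdealSheafData.vanishingIdeal C
  haveI : IrreducibleSpace J.subscheme := irreducibleSpace_vanishingIdeal_subscheme C hCirr
  haveI : IsIntegral J.subscheme := isIntegral_of_irreducibleSpace_of_isReduced _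
  have hle : J.subschemeι.ker ≤ s.ker := by
    rw [Scheme.IdealSheafData.ker_subschemeι]
    exact vanishingIdeal_le_ker s C subset_closure
  let s₁ : (U : Scheme.{u}) ⟶ J.subscheme := IsClosedImmersion.lift J.subschemeι s hle
  have hs₁ : s₁ ≫ J.subschemeι = s := IsClosedImmersion.lift_fac _ _ _
  have hs₁' : s₁ ≫ (J.subschemeι ≫ g) = U.ι := by rw [← Category.assoc, hs₁, hs]
  haveI : IsIso (J.subschemeι ≫ g) :=
    isIso_of_rational_section hX (J.subschemeι ≫ g) U hU s₁ hs₁'
  refine ⟨inv (J.subschemeι ≫ g) ≫ J.subschemeι, ?_, ?_⟩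
  · rw [Category.assoc, IsIso.inv_hom_id]
  · rw [← hs₁', Category.assoc, IsIso.hom_inv_id_assoc, hs₁]

end Groth.Agent.H72.NormalBir
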