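import Mathlib

set_option autoImplicit false

/-!
# Adic completion along a principal ideal and weakly regular sequences

Let `a : A` and `I = (a)`.  If `r` is `M`-regular and `M / rM` has bounded `a`-power torsion then
`r` is regular on the `a`-adic completion `M^` and `M^ / r M^ ≃ (M / r M)^`.
-/

open RingTheory.Sequence Submodule
open scoped Pointwise

namespace Groth.Agent.H72.AdicReg

universe u v

variable {A : Type u} [CommRing A] (a : A)

/-- Bounded `a`-power torsion. -/
def BddTors (Q : Type v) [AddCommGroup Q] [Module A Q] : Prop :=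
  ∃ N : ℕ, ∀ x : Q, (∃ m : ℕ, a ^ m • x = 0) → a ^ N • x = 0

theorem BddTors.of_equiv {Q Q' : Type*} [AddCommGroup Q] [Module A Q] [AddCommGroup Q']
    [Module A Q'] (e : Q ≃ₗ[A] Q') (h : BddTors a Q) : BddTors a Q' := by
  obtain ⟨N, hN⟩ := h
  refine ⟨N, fun x ⟨m, hm⟩ => ?_⟩
  have h1 : a ^ N • e.symm x = 0 := hN (e.symm x) ⟨m, by rw [← map_smul, hm, map_zero]⟩
  have h2 := congrArg e h1
  rwa [map_smul, e.apply_symm_apply, map_zero] at h2

variable {M : Type v} [AddCommGroup M] [Module A M]

theorem mem_span_pow_smul_top_iff (n : ℕ) (x : M) :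
    x ∈ ((Ideal.span {a}) ^ n • ⊤ : Submodule A M) ↔ ∃ y : M, a ^ n • y = x := by
  rw [Ideal.span_singleton_pow, Submodule.ideal_span_singleton_smul,
    Submodule.mem_smul_pointwise_iff_exists]
  simp

/-- The Artin–Rees type estimate. -/
theorem mem_of_smul_mem {r : A} (hr : IsSMulRegular M r) {N : ℕ}
    (hN : ∀ x : QuotSMulTop r M, (∃ m : ℕ, a ^ m • x = 0) → a ^ N • x = 0) (n : ℕ) (x : M)
    (hx : r • x ∈ ((Ideal.span {a}) ^ (n + N) • ⊤ : Submodule A M)) :
    x ∈ ((Ideal.span {a}) ^ n • ⊤ : Submodule A M) := by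
  rw [mem_span_pow_smul_top_iff] at hx ⊢
  obtain ⟨y, hy⟩ := hx
  have h1 : a ^ N • (Submodule.Quotient.mk y : QuotSMulTop r M) = 0 := by
    apply hN
    refine ⟨n + N, ?_⟩
    rw [← Submodule.Quotient.mk_smul, hy, Submodule.Quotient.mk_eq_zero]
    exact Submodule.smul_mem_pointwise_smul _ _ _ Submodule.mem_top
  rw [← Submodule.Quotient.mk_smul, Submodule.Quotient.mk_eq_zero,
    Submodule.mem_smul_pointwise_iff_exists] at h1
  obtain ⟨z, -, hz⟩ := h1
  refine ⟨z, ?_⟩
  apply hr
  change r • (a ^ n • z) = r • x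
  rw [← hy, pow_add, mul_smul, ← hz, smul_comm]

theorem mk_eq_zero_iff (f : AdicCompletion.AdicCauchySequence (Ideal.span {a}) M) :
    AdicCompletion.mk (Ideal.span {a}) M f = 0 ↔
      ∀ n, f n ∈ ((Ideal.span {a}) ^ n • ⊤ : Submodule A M) := by
  constructor
  · intro h n
    have := congrArg (fun x => x.val n) h
    simpa using this
  · intro h
    apply AdicCompletion.ext
    intro n
    simpa using h n

/-- `r` stays regular on the completion. -/
theorem isSMulRegular_completion {r : A} (hr : IsSMulRegular M r)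
    (hb : BddTors a (QuotSMulTop r M)) :
    IsSMulRegular (AdicCompletion (Ideal.span {a}) M) r := by
  obtain ⟨N, hN⟩ := hb
  rw [isSMulRegular_iff_right_eq_zero_of_smul]
  intro x
  induction x using AdicCompletion.induction_on with
  | h f =>
    intro hx
    rw [← map_smul, mk_eq_zero_iff] at hx
    apply AdicCompletion.mk_zero_of
    refine ⟨0, fun n _ => ⟨n + N, by lia, n, le_rfl, ?_⟩⟩
    exact mem_of_smul_mem a hr hN n _ (hx (n + N))

/-- Exactness in the middle: the kernel of `M^ → (M/rM)^` is `r M^`. -/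
theorem exists_smul_eq_of_map_eq_zero {r : A} (hr : IsSMulRegular M r)
    (hb : BddTors a (QuotSMulTop r M)) (x : AdicCompletion (Ideal.span {a}) M)
    (hx : AdicCompletion.map (Ideal.span {a}) (r • (⊤ : Submodule A M)).mkQ x = 0) :
    ∃ y : AdicCompletion (Ideal.span {a}) M, r • y = x := by
  obtain ⟨N, hN⟩ := hb
  induction x using AdicCompletion.induction_on with
  | h f =>
    rw [AdicCompletion.map_mk, mk_eq_zero_iff] at hx
    have h1 : ∀ n, ∃ y : M, f n - r • y ∈ ((Ideal.span {a}) ^ n • ⊤ : Submodule A M) := by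
      intro n
      have h2 := hx n
      rw [mem_span_pow_smul_top_iff] at h2
      obtain ⟨q, hq⟩ := h2
      obtain ⟨w, rfl⟩ := Submodule.Quotient.mk_surjective _ q
      have h3 : (Submodule.Quotient.mk (f n - a ^ n • w) : QuotSMulTop r M) = 0 := by
        rw [Submodule.Quotient.mk_sub, Submodule.Quotient.mk_smul, hq]
        exact sub_self _
      rw [Submodule.Quotient.mk_eq_zero, Submodule.mem_smul_pointwise_iff_exists] at h3
      obtain ⟨y, -, hy⟩ := h3
      refine ⟨y, ?_⟩
      rw [mem_span_pow_smul_top_iff]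
      exact ⟨w, by rw [hy]; abel⟩
    choose y hy using h1
    have hcau : ∀ n, y (n + N) ≡ y (n + 1 + N) [SMOD ((Ideal.span {a}) ^ n • ⊤ : Submodule A M)] := by
      intro n
      rw [SModEq.sub_mem]
      apply mem_of_smul_mem a hr hN n
      have e1 : r • (y (n + N) - y (n + 1 + N)) =
          (f (n + 1 + N) - r • y (n + 1 + N)) - (f (n + N) - r • y (n + N))
            - (f (n + 1 + N) - f (n + N)) := by
        rw [smul_sub]; abel
      rw [e1]
      refine Submodule.sub_mem _ (Submodule.sub_mem _ ?_ (hy (n + N))) ?_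
      · exact Submodule.smul_mono_left (Ideal.pow_le_pow_right (by lia)) (hy (n + 1 + N))
      · have := f.property (show n + N ≤ n + 1 + N by lia)
        rw [SModEq.comm, SModEq.sub_mem] at this
        exact this
    refine ⟨AdicCompletion.mk _ M (AdicCompletion.AdicCauchySequence.mk _ M (fun n => y (n + N)) hcau), ?_⟩
    rw [← map_smul, ← sub_eq_zero, ← map_sub, mk_eq_zero_iff]
    intro n
    change r • y (n + N) - f n ∈ _
    have e2 : r • y (n + N) - f n = (f (n + N) - f n) - (f (n + N) - r • y (n + N)) := by abel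
    rw [e2]
    refine Submodule.sub_mem _ ?_ ?_
    · have := f.property (show n ≤ n + N by lia)
      rw [SModEq.comm, SModEq.sub_mem] at this
      exact this
    · exact Submodule.smul_mono_left (Ideal.pow_le_pow_right (by lia)) (hy (n + N))

section Main

variable (M)

/-- The map `M^ → (M/rM)^` as an `A`-linear map. -/
noncomputable def phi (r : A) :
    AdicCompletion (Ideal.span {a}) M →ₗ[A] AdicCompletion (Ideal.span {a}) (QuotSMulTop r M) :=
  (AdicCompletion.map (Ideal.span {a}) (r • (⊤ : Submodule A M)).mkQ).restrictScalars A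

theorem phi_surjective (r : A) : Function.Surjective (phi a M r) :=
  AdicCompletion.map_surjective _ (Submodule.mkQ_surjective _)

variable {M}

theorem ker_phi {r : A} (hr : IsSMulRegular M r) (hb : BddTors a (QuotSMulTop r M)) :
    LinearMap.ker (phi a M r) = r • (⊤ : Submodule A (AdicCompletion (Ideal.span {a}) M)) := by
  ext x
  rw [LinearMap.mem_ker, Submodule.mem_smul_pointwise_iff_exists]
  constructor
  · intro hx
    obtain ⟨y, hy⟩ := exists_smul_eq_of_map_eq_zero a hr hb x hx
    exact ⟨y, Submodule.mem_top, hy⟩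
  · rintro ⟨y, -, rfl⟩
    rw [map_smul]
    induction y using AdicCompletion.induction_on with
    | h f =>
      change r • AdicCompletion.map _ _ (AdicCompletion.mk _ M f) = 0
      rw [AdicCompletion.map_mk, ← map_smul, mk_eq_zero_iff]
      intro n
      change r • (Submodule.Quotient.mk (f n) : QuotSMulTop r M) ∈ _
      rw [← Submodule.Quotient.mk_smul]
      have : (Submodule.Quotient.mk (r • f n) : QuotSMulTop r M) = 0 := by
        rw [Submodule.Quotient.mk_eq_zero]
        exact Submodule.smul_mem_pointwise_smul _ _ _ Submodule.mem_top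
      rw [this]
      exact Submodule.zero_mem _

/-- `M^ / r M^ ≃ (M / r M)^`. -/
noncomputable def quotEquiv {r : A} (hr : IsSMulRegular M r) (hb : BddTors a (QuotSMulTop r M)) :
    QuotSMulTop r (AdicCompletion (Ideal.span {a}) M) ≃ₗ[A]
      AdicCompletion (Ideal.span {a}) (QuotSMulTop r M) :=
  (Submodule.quotEquivOfEq _ _ (ker_phi a hr hb).symm).trans
    ((phi a M r).quotKerEquivOfSurjective (phi_surjective a M r))

end Main

/-- Bounded torsion on all the partial quotients. -/
def BddTorsSeq (M : Type v) [AddCommGroup M] [Module A M] (rs : List A) : Prop :=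
  ∀ i ≤ rs.length, BddTors a (M ⧸ (Ideal.ofList (rs.take i) • ⊤ : Submodule A M))

theorem BddTorsSeq.quot {r : A} {rs : List A} (h : BddTorsSeq a M (r :: rs)) :
    BddTorsSeq a (QuotSMulTop r M) rs := by
  intro i hi
  have h1 := h (i + 1) (by simpa using hi)
  rw [List.take_succ_cons] at h1
  exact h1.of_equiv a (Submodule.quotOfListConsSMulTopEquivQuotSMulTopInner M r (rs.take i))

theorem BddTorsSeq.bddTors {rs : List A} (h : BddTorsSeq a M rs) : BddTors a M := by
  have h1 := h 0 (Nat.zero_le _)
  refine h1.of_equiv a (Submodule.quotEquivOfEqBot _ ?_)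
  simp

theorem main_module (rs : List A) : ∀ (M : Type v) [AddCommGroup M] [Module A M],
    IsWeaklyRegular M rs → BddTorsSeq a M rs →
    IsWeaklyRegular (AdicCompletion (Ideal.span {a}) M) rs ∧
      ∀ x : AdicCompletion (Ideal.span {a}) M,
        AdicCompletion.map (Ideal.span {a})
          (Ideal.ofList rs • (⊤ : Submodule A M)).mkQ x = 0 →
        x ∈ (Ideal.ofList rs • ⊤ : Submodule A (AdicCompletion (Ideal.span {a}) M)) := by
  induction rs with
  | nil =>
    intro M _ _ _ _
    refine ⟨IsWeaklyRegular.nil _ _, fun x hx => ?_⟩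
    have hbot : (Ideal.ofList ([] : List A) • ⊤ : Submodule A M) = ⊥ := by simp
    have h1 : (Ideal.ofList ([] : List A) • (⊤ : Submodule A M)).mkQ =
        ((Submodule.quotEquivOfEqBot _ hbot).symm : M →ₗ[A] _) :=
      (Submodule.coe_quotEquivOfEqBot_symm _ hbot).symm
    rw [h1] at hx
    have h2 : x = 0 := by
      have := (AdicCompletion.congr (Ideal.span {a})
        (Submodule.quotEquivOfEqBot _ hbot).symm).injective
      apply this
      rw [map_zero]
      exact hx
    rw [h2]
    exact Submodule.zero_mem _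
  | cons r rs ih =>
    intro M _ _ hreg hb
    rw [isWeaklyRegular_cons_iff] at hreg
    obtain ⟨hr, hrs⟩ := hreg
    have hbQ : BddTorsSeq a (QuotSMulTop r M) rs := hb.quot a
    have hbQ0 : BddTors a (QuotSMulTop r M) := hbQ.bddTors a
    obtain ⟨ih1, ih2⟩ := ih (QuotSMulTop r M) hrs hbQ
    refine ⟨?_, fun x hx => ?_⟩
    · rw [isWeaklyRegular_cons_iff]
      refine ⟨isSMulRegular_completion a hr hbQ0, ?_⟩
      exact ((quotEquiv a hr hbQ0).isWeaklyRegular_congr rs).mpr ih1
    · -- the kernel
      have hcomp : ((Submodule.quotOfListConsSMulTopEquivQuotSMulTopInner M r rs).toLinearMap ∘ₗ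
          (Ideal.ofList (r :: rs) • (⊤ : Submodule A M)).mkQ) =
          (Ideal.ofList rs • (⊤ : Submodule A (QuotSMulTop r M))).mkQ ∘ₗ
            (r • (⊤ : Submodule A M)).mkQ := by
        ext m
        rfl
      have h1 : AdicCompletion.map (Ideal.span {a})
          (Ideal.ofList rs • (⊤ : Submodule A (QuotSMulTop r M))).mkQ (phi a M r x) = 0 := by
        change AdicCompletion.map (Ideal.span {a}) _ (AdicCompletion.map (Ideal.span {a}) _ x) = 0
        rw [AdicCompletion.map_comp_apply, ← hcomp, ← AdicCompletion.map_comp_apply, hx, map_zero]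
      have h2 := ih2 _ h1
      have h3 : (Ideal.ofList rs • ⊤ : Submodule A (AdicCompletion (Ideal.span {a})
          (QuotSMulTop r M))) = Submodule.map (phi a M r) (Ideal.ofList rs • ⊤) := by
        rw [Submodule.map_smul'', Submodule.map_top,
          LinearMap.range_eq_top.mpr (phi_surjective a M r)]
      rw [h3] at h2
      obtain ⟨x', hx', hxx'⟩ := h2
      have h4 : x - x' ∈ LinearMap.ker (phi a M r) := by
        rw [LinearMap.mem_ker, map_sub, hxx', sub_self]
      rw [ker_phi a hr hbQ0] at h4
      rw [Ideal.ofList_cons_smul]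
      have : x = (x - x') + x' := by abel
      rw [this]
      exact Submodule.add_mem_sup h4 hx'

/-- The statement of S14275. -/
theorem main (A : Type u) [CommRing A] (a : A) (rs : List A)
    (hreg : IsWeaklyRegular A rs)
    (hbd : ∀ i ≤ rs.length, ∃ N : ℕ, ∀ x : A ⧸ Ideal.ofList (rs.take i),
      (∃ m : ℕ, a ^ m • x = 0) → a ^ N • x = 0) :
    IsWeaklyRegular (AdicCompletion (Ideal.span {a}) A)
        (rs.map (algebraMap A (AdicCompletion (Ideal.span {a}) A))) ∧
      Function.Surjective (AdicCompletion.map (Ideal.span {a}) (Ideal.ofList rs).mkQ) ∧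
      LinearMap.ker (AdicCompletion.map (Ideal.span {a}) (Ideal.ofList rs).mkQ) =
        (Ideal.ofList rs).map (algebraMap A (AdicCompletion (Ideal.span {a}) A)) := by
  have hsm : ∀ J : Ideal A, (J • ⊤ : Submodule A A) = J := fun J => by
    rw [smul_eq_mul, Ideal.mul_top]
  have hb : BddTorsSeq a A rs := by
    intro i hi
    exact BddTors.of_equiv a (Submodule.quotEquivOfEq _ _ (hsm _).symm) (hbd i hi)
  obtain ⟨h1, h2⟩ := main_module a rs A hreg hb
  refine ⟨(isWeaklyRegular_map_algebraMap_iff (AdicCompletion (Ideal.span {a}) A)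
    (AdicCompletion (Ideal.span {a}) A) rs).mpr h1,
    AdicCompletion.map_surjective _ (Submodule.mkQ_surjective _), ?_⟩
  -- the kernel
  have hcomp : (Ideal.ofList rs).mkQ =
      ((Submodule.quotEquivOfEq _ _ (hsm (Ideal.ofList rs))).toLinearMap ∘ₗ
        (Ideal.ofList rs • (⊤ : Submodule A A)).mkQ) := by
    rfl
  apply le_antisymm
  · intro x hx
    rw [LinearMap.mem_ker, hcomp, ← AdicCompletion.map_comp_apply] at hx
    have hx' : AdicCompletion.map (Ideal.span {a})
        (Ideal.ofList rs • (⊤ : Submodule A A)).mkQ x = 0 := by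
      have := (AdicCompletion.congr (Ideal.span {a})
        (Submodule.quotEquivOfEq _ _ (hsm (Ideal.ofList rs)))).injective
      apply this
      rw [map_zero]
      exact hx
    have h3 := h2 x hx'
    refine Submodule.smul_induction_on h3 (fun r hr y _ => ?_) (fun y z hy hz => ?_)
    · rw [← algebraMap_smul (AdicCompletion (Ideal.span {a}) A) r y, smul_eq_mul]
      exact Ideal.mul_mem_right _ _ (Ideal.mem_map_of_mem _ hr)
    · exact Ideal.add_mem _ hy hz
  · intro x hx
    have hmem : ∀ r ∈ Ideal.ofList rs, AdicCompletion.map (Ideal.span {a}) (Ideal.ofList rs).mkQ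
        (algebraMap A (AdicCompletion (Ideal.span {a}) A) r) = 0 := by
      intro r hr
      have h4 : algebraMap A (AdicCompletion (Ideal.span {a}) A) r =
          AdicCompletion.of (Ideal.span {a}) A r := rfl
      rw [h4, AdicCompletion.map_of]
      have h5 : (Ideal.ofList rs).mkQ r = 0 := by
        rw [Submodule.mkQ_apply, Submodule.Quotient.mk_eq_zero]
        exact hr
      rw [h5, map_zero]
    rw [LinearMap.mem_ker]
    change x ∈ Ideal.span _ at hx
    refine Submodule.span_induction ?_ ?_ ?_ ?_ hx
    · rintro _ ⟨r, hr, rfl⟩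
      exact hmem r hr
    · exact map_zero _
    · intro y z _ _ hy hz
      rw [map_add, hy, hz, add_zero]
    · intro c y _ hy
      have := (AdicCompletion.map (Ideal.span {a}) (Ideal.ofList rs).mkQ).map_smul c y
      rw [hy, smul_zero] at this
      exact this

end Groth.Agent.H72.AdicReg
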