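import Groth.Agent.Lib.Helper28.BettiPC
import Groth.Agent.Lib.Helper49.QCohLocal
import Groth.Agent.Lib.Helper49.TildeFinLocFree

/-!
# Acyclic bounded above complexes of finite locally free modules on an affine scheme are
contractible (helper72)
-/

set_option autoImplicit false
universe u

namespace Groth.Agent.H72.AffineContract

open CategoryTheory CategoryTheory.Limits AlgebraicGeometry

section General

variable {C D : Type*} [Category C] [Category D] [Preadditive C] [Preadditive D]

/-- transport a contraction along an isomorphism of complexes -/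
noncomputable def homotopyIdZeroOfIso {K L : CochainComplex C ℤ} (e : K ≅ L)
    (h : Homotopy (𝟙 K) 0) : Homotopy (𝟙 L) 0 :=
  (Homotopy.ofEq (by simp)).trans (((h.compRight e.hom).compLeft e.inv).trans
    (Homotopy.ofEq (by simp)))

/-- additive functors preserve contractions -/
noncomputable def mapHomotopyIdZero (F : C ⥤ D) [F.Additive] {K : CochainComplex C ℤ}
    (h : Homotopy (𝟙 K) 0) :
    Homotopy (𝟙 ((F.mapHomologicalComplex (ComplexShape.up ℤ)).obj K)) 0 :=
  (Homotopy.ofEq (by simp)).trans ((F.mapHomotopy h).trans (Homotopy.ofEq (by simp)))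

end General

section Abelian

variable {C D : Type*} [Category C] [Category D] [Abelian C] [Abelian D]

lemma acyclic_map (F : C ⥤ D) [F.Additive] [PreservesFiniteLimits F] [PreservesFiniteColimits F]
    {K : CochainComplex C ℤ} (h : K.Acyclic) :
    ((F.mapHomologicalComplex (ComplexShape.up ℤ)).obj K).Acyclic := by
  intro i
  have hi : (K.sc i).Exact := h i
  exact hi.map F

lemma acyclic_of_map (F : C ⥤ D) [F.Additive] [PreservesFiniteLimits F]
    [PreservesFiniteColimits F] [F.Faithful]
    {K : CochainComplex C ℤ} (h : ((F.mapHomologicalComplex (ComplexShape.up ℤ)).obj K).Acyclic) :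
    K.Acyclic := by
  intro i
  have hi : ((K.sc i).map F).Exact := h i
  exact ((K.sc i).exact_map_iff_of_faithful F).mp hi

lemma acyclic_of_iso {K L : CochainComplex C ℤ} (e : K ≅ L) (h : K.Acyclic) : L.Acyclic := by
  intro i
  rw [HomologicalComplex.exactAt_iff_isZero_homology] at *
  exact (h i |> (HomologicalComplex.exactAt_iff_isZero_homology K i).mp).of_iso
    ((HomologicalComplex.homologyFunctor C _ i).mapIso e.symm)

end Abelian

/-- the case of `Spec R` -/
theorem contractible_spec {R : CommRingCat.{u}}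
    (E : CochainComplex (Spec (CommRingCat.of R)).Modules ℤ) (b : ℤ)
    (hEb : ∀ i : ℤ, b < i → IsZero (E.X i))
    (hE : ∀ i : ℤ, FlatMod.IsFinLocFree (E.X i)) (hac : E.Acyclic) :
    Nonempty (Homotopy (𝟙 E) 0) := by
  haveI := Groth.Agent.Lib.Helper49.preservesFiniteLimits_tilde R
  haveI := Groth.Agent.Lib.Helper49.preservesFiniteColimits_tilde R
  have hqc : ∀ i, (E.X i).IsQuasicoherent := fun i =>
    Groth.Agent.Lib.Helper49.isQuasicoherent_of_isFinLocFree (E.X i) (hE i)
  let M := Groth.Agent.Lib.Helper28.BettiPC.ΓCx E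
  let e : ((tilde.functor R).mapHomologicalComplex (ComplexShape.up ℤ)).obj M ≅ E :=
    Groth.Agent.Lib.Helper28.BettiPC.tildeΓCxIso E hqc
  have hMac : M.Acyclic := acyclic_of_map (tilde.functor R) (acyclic_of_iso e.symm hac)
  haveI : M.IsStrictlyLE b := by
    rw [CochainComplex.isStrictlyLE_iff]
    intro i hi
    exact Functor.map_isZero (moduleSpecΓFunctor (R := R)) (hEb i hi)
  haveI : ∀ n : ℤ, Projective (M.X n) := by
    intro n
    have ei : tilde (M.X n) ≅ E.X n := (HomologicalComplex.eval _ _ n).mapIso e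
    have hfl : FlatMod.IsFinLocFree (tilde (M.X n)) :=
      Groth.Agent.Lib.Helper14.isFinLocFree_of_iso ei.symm (hE n)
    have hp := ((Groth.Agent.Lib.Helper49.isFinLocFree_tilde_iff (M.X n)).mp hfl).2
    exact (IsProjective.iff_projective (M.X n)).mp hp
  haveI : M.IsKProjective := CochainComplex.isKProjective_of_projective M b
  have hM : Homotopy (𝟙 M) 0 := CochainComplex.IsKProjective.homotopyZero (𝟙 M) hMac
  exact ⟨homotopyIdZeroOfIso e (mapHomotopyIdZero (tilde.functor R) hM)⟩

/-- **Main theorem.** -/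
theorem contractible_of_acyclic {X : Scheme.{u}} [IsAffine X]
    (E : CochainComplex X.Modules ℤ) (b : ℤ) (hEb : ∀ i : ℤ, b < i → IsZero (E.X i))
    (hE : ∀ i : ℤ, FlatMod.IsFinLocFree (E.X i)) (hac : E.Acyclic) :
    Nonempty (Homotopy (𝟙 E) 0) := by
  let ι : Spec (CommRingCat.of Γ(X, ⊤)) ⟶ X := X.isoSpec.inv
  let κ : X ⟶ Spec (CommRingCat.of Γ(X, ⊤)) := X.isoSpec.hom
  let rι := Scheme.Modules.restrictFunctor ι
  let rκ := Scheme.Modules.restrictFunctor κ
  let E' := (rι.mapHomologicalComplex (ComplexShape.up ℤ)).obj E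
  obtain ⟨h'⟩ := contractible_spec (R := Γ(X, ⊤)) E' b
    (fun i hi => Functor.map_isZero rι (hEb i hi))
    (fun i => Groth.Agent.Lib.Helper30.PerfRestrict.isFinLocFree_restrict ι _ (hE i))
    (acyclic_map rι hac)
  have hκι : κ ≫ ι = 𝟙 X := X.isoSpec.hom_inv_id
  let α : rι ⋙ rκ ≅ 𝟭 X.Modules :=
    (Scheme.Modules.restrictFunctorComp κ ι).symm ≪≫
      Scheme.Modules.restrictFunctorCongr hκι ≪≫ Scheme.Modules.restrictFunctorId
  let β : (rκ.mapHomologicalComplex (ComplexShape.up ℤ)).obj E' ≅ E :=
    HomologicalComplex.Hom.isoOfComponents (fun i => α.app (E.X i))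
      (fun i j _ => (α.hom.naturality (E.d i j)).symm)
  exact ⟨homotopyIdZeroOfIso β (mapHomotopyIdZero rκ h')⟩

end Groth.Agent.H72.AffineContract
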