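import Groth.Prelude.Def_W4c1btstackcountsChain
import Mathlib

/-!
# Chains of matrices: the total space and the shift operator (helper72)

For a chain `f i : Matrix (Fin (d (i+1))) (Fin (d i)) k` we work in the total space
`Tot k d = Π j, (Fin (d j) → k)` with the degree-one operator `shift f`.  This avoids all
casts between `i + (n+1)` and `(i+1) + n`.
-/

set_option autoImplicit false

namespace Groth.Agent.H72.Chain
open W4c1btstackcounts Module

variable {k : Type*} [Field k] {d : ℕ → ℕ}

/-- Chains of matrices. -/
abbrev Ch (k : Type*) [Field k] (d : ℕ → ℕ) := (i : ℕ) → Matrix (Fin (d (i + 1))) (Fin (d i)) k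

/-- The total space. -/
abbrev Tot (k : Type*) [Field k] (d : ℕ → ℕ) := (j : ℕ) → (Fin (d j) → k)

/-- The inclusion of the `j`-th summand. -/
noncomputable abbrev inc (k : Type*) [Field k] (d : ℕ → ℕ) (j : ℕ) : (Fin (d j) → k) →ₗ[k] Tot k d :=
  LinearMap.single k (fun j => Fin (d j) → k) j

lemma inc_injective (j : ℕ) : Function.Injective (inc k d j) :=
  Pi.single_injective (M := fun j => Fin (d j) → k) j

/-- components of the shift operator -/
noncomputable def shiftComp (f : Ch k d) : (j : ℕ) → (Tot k d →ₗ[k] (Fin (d j) → k))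
  | 0 => 0
  | j + 1 => (Matrix.toLin' (f j)).comp (LinearMap.proj j)

/-- The shift operator of a chain. -/
noncomputable def shift (f : Ch k d) : Tot k d →ₗ[k] Tot k d := LinearMap.pi (shiftComp f)

lemma shift_inc (f : Ch k d) (j : ℕ) (v : Fin (d j) → k) :
    shift f (inc k d j v) = inc k d (j + 1) (Matrix.toLin' (f j) v) := by
  funext j'
  cases j' with
  | zero =>
    simp [shift, shiftComp, inc]
  | succ j' =>
    by_cases h : j' = j
    · subst h
      simp [shift, shiftComp, inc]
    · have h' : j' + 1 ≠ j + 1 := by omega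
      simp [shift, shiftComp, inc, Pi.single_eq_of_ne h, Pi.single_eq_of_ne h']

/-- The image of the `i`-th summand under the `n`-th power of the shift. -/
noncomputable def Im (f : Ch k d) (i n : ℕ) : Submodule k (Tot k d) :=
  (LinearMap.range (inc k d i)).map ((shift f) ^ n)

lemma Im_zero (f : Ch k d) (i : ℕ) : Im f i 0 = LinearMap.range (inc k d i) := by
  unfold Im
  rw [pow_zero, Module.End.one_eq_id, Submodule.map_id]

lemma Im_succ (f : Ch k d) (i n : ℕ) : Im f i (n + 1) = (Im f i n).map (shift f) := by
  unfold Im
  rw [pow_succ', Module.End.mul_eq_comp, Submodule.map_comp]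

lemma Im_succ_le (f : Ch k d) (i n : ℕ) : Im f i (n + 1) ≤ Im f (i + 1) n := by
  unfold Im
  rw [pow_succ, Module.End.mul_eq_comp, Submodule.map_comp]
  apply Submodule.map_mono
  rintro _ ⟨_, ⟨v, rfl⟩, rfl⟩
  exact ⟨_, (shift_inc f i v).symm⟩

lemma Im_eq_map_iterImage (f : Ch k d) (i n : ℕ) :
    Im f i n = (iterImage f i n).map (inc k d (i + n)) := by
  induction n with
  | zero =>
    rw [Im_zero]
    simp [iterImage]
  | succ n ih =>
    rw [Im_succ, ih]
    change _ = Submodule.map (inc k d (i + n + 1))
      ((iterImage f i n).map (Matrix.toLin' (f (i + n))))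
    rw [← Submodule.map_comp, ← Submodule.map_comp]
    congr 1
    apply LinearMap.ext
    intro v
    exact shift_inc f (i + n) v

instance (f : Ch k d) (i n : ℕ) : FiniteDimensional k (Im f i n) := by
  unfold Im
  infer_instance

lemma finrank_map_of_injOn {V W : Type*} [AddCommGroup V] [Module k V] [AddCommGroup W]
    [Module k W] (φ : V →ₗ[k] W) (S : Submodule k V) (h : Set.InjOn φ S) :
    finrank k (S.map φ) = finrank k S := by
  have hinj : Function.Injective (φ.domRestrict S) := by
    intro x y hxy
    exact Subtype.ext (h x.2 y.2 hxy)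
  have := LinearMap.finrank_range_of_inj hinj
  rw [LinearMap.range_domRestrict] at this
  exact this

lemma finrank_Im (f : Ch k d) (i n : ℕ) :
    finrank k (Im f i n) = finrank k (iterImage f i n) := by
  rw [Im_eq_map_iterImage]
  exact finrank_map_of_injOn _ _ ((inc_injective (i + n)).injOn)

/-- the rank function -/
noncomputable def rk (f : Ch k d) (i n : ℕ) : ℕ := finrank k (Im f i n)

lemma rankArray_eq (f : Ch k d) (i n : ℕ) : rankArray f i (i + n) = rk f i n := by
  unfold rankArray rk
  rw [if_pos (Nat.le_add_right i n), finrank_Im]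
  rw [Nat.add_sub_cancel_left]

lemma rankArray_eq' (f : Ch k d) {i j : ℕ} (h : i ≤ j) : rankArray f i j = rk f i (j - i) := by
  obtain ⟨n, rfl⟩ := Nat.exists_eq_add_of_le h
  rw [rankArray_eq, Nat.add_sub_cancel_left]

lemma rk_zero (f : Ch k d) (i : ℕ) : rk f i 0 = d i := by
  unfold rk
  rw [finrank_Im]
  change finrank k (⊤ : Submodule k (Fin (d (i + 0)) → k)) = d i
  rw [finrank_top]
  simp

lemma rk_succ_le (f : Ch k d) (i n : ℕ) : rk f i (n + 1) ≤ rk f i n := by
  unfold rk
  rw [Im_succ]
  exact Submodule.finrank_map_le _ _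

lemma rk_succ_le' (f : Ch k d) (i n : ℕ) : rk f i (n + 1) ≤ rk f (i + 1) n := by
  unfold rk
  exact Submodule.finrank_mono (Im_succ_le f i n)

/-- rank–nullity for a restricted map, in inequality form. -/
lemma finrank_map_add_le {V : Type*} [AddCommGroup V] [Module k V]
    (F : V →ₗ[k] V) (A B : Submodule k V) [FiniteDimensional k A] (hBA : B ≤ A) :
    finrank k (A.map F) + finrank k B ≤ finrank k A + finrank k (B.map F) := by
  have : FiniteDimensional k B := Submodule.finiteDimensional_of_le hBA
  have hA := LinearMap.finrank_range_add_finrank_ker (F.domRestrict A)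
  have hB := LinearMap.finrank_range_add_finrank_ker (F.domRestrict B)
  rw [LinearMap.range_domRestrict] at hA hB
  -- kernel of restriction to B embeds into kernel of restriction to A
  have hle : finrank k (LinearMap.ker (F.domRestrict B)) ≤
      finrank k (LinearMap.ker (F.domRestrict A)) := by
    let ι : LinearMap.ker (F.domRestrict B) →ₗ[k] LinearMap.ker (F.domRestrict A) :=
      { toFun := fun x => ⟨⟨x.1.1, hBA x.1.2⟩, by
          have := x.2
          simp only [LinearMap.mem_ker, LinearMap.domRestrict_apply] at this ⊢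
          exact this⟩
        map_add' := fun x y => rfl
        map_smul' := fun c x => rfl }
    apply LinearMap.finrank_le_finrank_of_injective (f := ι)
    intro x y hxy
    apply Subtype.ext
    apply Subtype.ext
    exact congrArg (fun z => (z.1.1 : V)) hxy
  omega

lemma rk_submodular (f : Ch k d) (i n : ℕ) :
    rk f (i + 1) (n + 1) + rk f i (n + 1) ≤ rk f (i + 1) n + rk f i (n + 2) := by
  unfold rk
  rw [Im_succ f (i + 1) n, Im_succ f i (n + 1)]
  exact finrank_map_add_le (shift f) (Im f (i + 1) n) (Im f i (n + 1)) (Im_succ_le f i n)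

end Groth.Agent.H72.Chain
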