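import Mathlib

/-!
# Block shift matrices (helper72)

Combinatorial core of the normal form of a chain of matrices: given two "columns"
`b, c : ℕ → ℕ` (partial sums of block sizes) with `c (i+1) - c i ≤ b (i+1) - b i`, the matrix
`blkMat` maps the coordinate subspace `E N (b i)` onto `E N' (c i)` for every `i ≤ J`.
-/

set_option autoImplicit false

namespace Groth.Agent.H72.Chain
open Module

/-- source index function -/
def src (b c : ℕ → ℕ) : ℕ → ℕ → ℕ
  | 0, _ => 0
  | J + 1, s => if s < c J then src b c J s else s - c J + b J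

/-- the block conditions -/
structure Blk (b c : ℕ → ℕ) (J : ℕ) : Prop where
  b0 : b 0 = 0
  c0 : c 0 = 0
  bmono : ∀ i < J, b i ≤ b (i + 1)
  cmono : ∀ i < J, c i ≤ c (i + 1)
  blk : ∀ i < J, c (i + 1) + b i ≤ b (i + 1) + c i

variable {b c : ℕ → ℕ}

lemma Blk.pred {J : ℕ} (h : Blk b c (J + 1)) : Blk b c J :=
  ⟨h.b0, h.c0, fun i hi => h.bmono i (by omega), fun i hi => h.cmono i (by omega),
    fun i hi => h.blk i (by omega)⟩

lemma Blk.b_le {J : ℕ} (h : Blk b c J) {i i' : ℕ} (hii : i ≤ i') (hi' : i' ≤ J) : b i ≤ b i' := by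
  induction i', hii using Nat.le_induction with
  | base => exact le_refl _
  | succ n hn ih => exact le_trans (ih (by omega)) (h.bmono n (by omega))

lemma Blk.c_le {J : ℕ} (h : Blk b c J) {i i' : ℕ} (hii : i ≤ i') (hi' : i' ≤ J) : c i ≤ c i' := by
  induction i', hii using Nat.le_induction with
  | base => exact le_refl _
  | succ n hn ih => exact le_trans (ih (by omega)) (h.cmono n (by omega))

lemma src_lt : ∀ {J : ℕ}, Blk b c J → ∀ i ≤ J, ∀ s < c i, src b c J s < b i := by
  intro J
  induction J with
  | zero =>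
    intro h i hi s hs
    have : i = 0 := by omega
    subst this
    rw [h.c0] at hs
    omega
  | succ J ih =>
    intro h i hi s hs
    unfold src
    split_ifs with hsJ
    · by_cases hiJ : i ≤ J
      · exact ih h.pred i hiJ s hs
      · have : i = J + 1 := by omega
        subst this
        exact lt_of_lt_of_le (ih h.pred J (le_refl J) s hsJ) (h.bmono J (by omega))
    · have hiJ : i = J + 1 := by
        by_contra hne
        have : c i ≤ c J := h.c_le (by omega) (by omega)
        omega
      subst hiJ
      have := h.blk J (by omega)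
      omega

lemma le_src : ∀ {J : ℕ}, Blk b c J → ∀ i ≤ J, ∀ s, c i ≤ s → s < c J → b i ≤ src b c J s := by
  intro J
  induction J with
  | zero =>
    intro h i hi s _ hs
    rw [h.c0] at hs
    omega
  | succ J ih =>
    intro h i hi s hs hsJ
    unfold src
    split_ifs with hsJ'
    · have hiJ : i ≤ J := by
        by_contra hne
        have : i = J + 1 := by omega
        subst this
        have := h.cmono J (by omega)
        omega
      exact ih h.pred i hiJ s hs hsJ'
    · have hiJ : i ≤ J := by
        by_contra hne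
        have : i = J + 1 := by omega
        subst this
        omega
      have := h.b_le hiJ (by omega : J ≤ J + 1)
      omega

lemma src_inj : ∀ {J : ℕ}, Blk b c J → ∀ s₁ s₂, s₁ < c J → s₂ < c J →
    src b c J s₁ = src b c J s₂ → s₁ = s₂ := by
  intro J
  induction J with
  | zero =>
    intro h s₁ s₂ h1 _ _
    rw [h.c0] at h1
    omega
  | succ J ih =>
    intro h s₁ s₂ h1 h2 heq
    unfold src at heq
    split_ifs at heq with ha hb hb
    · exact ih h.pred s₁ s₂ ha hb heq
    · have := src_lt h.pred J (le_refl J) s₁ ha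
      omega
    · have := src_lt h.pred J (le_refl J) s₂ hb
      omega
    · omega

variable (k : Type*) [Field k]

/-- the block shift matrix -/
noncomputable def blkMat (N N' : ℕ) (b c : ℕ → ℕ) (J : ℕ) : Matrix (Fin N') (Fin N) k :=
  Matrix.of fun s t => if (s : ℕ) < c J ∧ (t : ℕ) = src b c J s then 1 else 0

/-- the coordinate subspace of vectors supported on the first `x` coordinates -/
def E (n x : ℕ) : Submodule k (Fin n → k) where
  carrier := {w | ∀ t : Fin n, x ≤ t.val → w t = 0}
  add_mem' := by
    intro u v hu hv t ht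
    simp [hu t ht, hv t ht]
  zero_mem' := by
    intro t _
    rfl
  smul_mem' := by
    intro a u hu t ht
    simp [hu t ht]

variable {k}

lemma mem_E {n x : ℕ} {w : Fin n → k} : w ∈ E k n x ↔ ∀ t : Fin n, x ≤ t.val → w t = 0 := Iff.rfl

lemma E_eq_top {n x : ℕ} (h : n ≤ x) : E k n x = ⊤ := by
  rw [eq_top_iff]
  intro w _ t ht
  have := t.2
  omega

/-- extension by zero -/
def ext0 {n : ℕ} (w : Fin n → k) : ℕ → k := fun t => if h : t < n then w ⟨t, h⟩ else 0

lemma ext0_of_lt {n : ℕ} (w : Fin n → k) {t : ℕ} (h : t < n) : ext0 w t = w ⟨t, h⟩ := by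
  unfold ext0
  rw [dif_pos h]

lemma ext0_eq_zero_of_mem_E {n x : ℕ} {w : Fin n → k} (hw : w ∈ E k n x) {t : ℕ} (ht : x ≤ t) :
    ext0 w t = 0 := by
  unfold ext0
  split_ifs with h
  · exact hw ⟨t, h⟩ ht
  · rfl

lemma blkMat_mulVec (N N' : ℕ) (b c : ℕ → ℕ) (J : ℕ) (w : Fin N → k) (s : Fin N') :
    (blkMat k N N' b c J).mulVec w s =
      if (s : ℕ) < c J then ext0 w (src b c J s) else 0 := by
  unfold Matrix.mulVec dotProduct blkMat
  simp only [Matrix.of_apply]
  split_ifs with hs
  · by_cases hN : src b c J s < N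
    · rw [ext0_of_lt w hN]
      rw [Finset.sum_eq_single (⟨src b c J s, hN⟩ : Fin N)]
      · simp [hs]
      · intro t _ ht
        have : (t : ℕ) ≠ src b c J s := fun h => ht (Fin.ext h)
        simp [this]
      · intro h
        exact absurd (Finset.mem_univ _) h
    · unfold ext0
      rw [dif_neg hN]
      apply Finset.sum_eq_zero
      intro t _
      have : (t : ℕ) ≠ src b c J s := fun h => hN (h ▸ t.2)
      simp [this]
  · apply Finset.sum_eq_zero
    intro t _
    simp [hs]

theorem map_blkMat_E {N N' : ℕ} {J : ℕ} (h : Blk b c J) (hN : b J ≤ N) {i : ℕ} (hi : i ≤ J) :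
    (E k N (b i)).map (Matrix.toLin' (blkMat k N N' b c J)) = E k N' (c i) := by
  apply le_antisymm
  · rintro _ ⟨w, hw, rfl⟩
    intro s hs
    rw [Matrix.toLin'_apply, blkMat_mulVec]
    split_ifs with hsJ
    · exact ext0_eq_zero_of_mem_E hw (le_src h i hi s hs hsJ)
    · rfl
  · intro w' hw'
    classical
    refine ⟨fun t => ∑ s : Fin N', if (s : ℕ) < c i ∧ src b c J s = t then w' s else 0, ?_, ?_⟩
    · intro t ht
      apply Finset.sum_eq_zero
      intro s _
      rw [if_neg]
      rintro ⟨hs, hst⟩
      have := src_lt h i hi s hs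
      omega
    · funext s₀
      rw [Matrix.toLin'_apply, blkMat_mulVec]
      split_ifs with hs₀
      · have hlt : src b c J s₀ < N := lt_of_lt_of_le (src_lt h J (le_refl J) s₀ hs₀) hN
        rw [ext0_of_lt _ hlt]
        simp only
        rw [Finset.sum_eq_single s₀]
        · by_cases hs₀i : (s₀ : ℕ) < c i
          · rw [if_pos ⟨hs₀i, rfl⟩]
          · rw [if_neg (fun hh => hs₀i hh.1)]
            exact (hw' s₀ (not_lt.mp hs₀i)).symm
        · intro s _ hs
          rw [if_neg]
          rintro ⟨hsi, hsrc⟩
          apply hs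
          apply Fin.ext
          exact src_inj h s s₀ (lt_of_lt_of_le hsi (h.c_le hi (le_refl J))) hs₀ hsrc
        · intro hh
          exact absurd (Finset.mem_univ _) hh
      · exact (hw' s₀ (le_trans (h.c_le hi (le_refl J)) (not_lt.mp hs₀))).symm

theorem finrank_E {n x : ℕ} (h : x ≤ n) : finrank k (E k n x) = x := by
  classical
  let ι : (Fin x → k) →ₗ[k] (Fin n → k) :=
    { toFun := fun u t => if ht : (t : ℕ) < x then u ⟨t, ht⟩ else 0
      map_add' := by
        intro u v
        funext t
        by_cases ht : (t : ℕ) < x <;> simp [ht]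
      map_smul' := by
        intro a u
        funext t
        by_cases ht : (t : ℕ) < x <;> simp [ht] }
  have hinj : Function.Injective ι := by
    intro u v huv
    funext t
    have := congrFun huv ⟨t, lt_of_lt_of_le t.2 h⟩
    simpa [ι] using this
  have hrange : LinearMap.range ι = E k n x := by
    apply le_antisymm
    · rintro _ ⟨u, rfl⟩ t ht
      simp [ι, not_lt.mpr ht]
    · intro w hw
      refine ⟨fun t => w ⟨t, lt_of_lt_of_le t.2 h⟩, ?_⟩
      funext t
      by_cases ht : (t : ℕ) < x
      · simp [ι, ht]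
      · simp only [ι, LinearMap.coe_mk, AddHom.coe_mk, dif_neg ht]
        exact (hw t (not_lt.mp ht)).symm
  rw [← hrange, LinearMap.finrank_range_of_inj hinj]
  simp

end Groth.Agent.H72.Chain
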