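import Groth.Agent.H72.ChainBasic

/-!
# Invariance of the rank array under change of bases; admissibility of rank arrays (helper72)
-/

set_option autoImplicit false

namespace Groth.Agent.H72.Chain
open W4c1btstackcounts Module

variable {k : Type*} [Field k] {d : ℕ → ℕ}

lemma toLin'_gl_left_inv {n : ℕ} (g : Matrix.GeneralLinearGroup (Fin n) k) (w : Fin n → k) :
    Matrix.toLin' ((g⁻¹ : Matrix.GeneralLinearGroup (Fin n) k) : Matrix (Fin n) (Fin n) k)
      (Matrix.toLin' (g : Matrix (Fin n) (Fin n) k) w) = w := by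
  rw [← Matrix.toLin'_mul_apply]
  have : ((g⁻¹ : Matrix.GeneralLinearGroup (Fin n) k) : Matrix (Fin n) (Fin n) k) *
      (g : Matrix (Fin n) (Fin n) k) = 1 := by
    rw [← Units.val_mul, inv_mul_cancel, Units.val_one]
  rw [this, Matrix.toLin'_one, LinearMap.id_apply]

lemma toLin'_gl_right_inv {n : ℕ} (g : Matrix.GeneralLinearGroup (Fin n) k) (w : Fin n → k) :
    Matrix.toLin' (g : Matrix (Fin n) (Fin n) k)
      (Matrix.toLin' ((g⁻¹ : Matrix.GeneralLinearGroup (Fin n) k) : Matrix (Fin n) (Fin n) k) w)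
        = w := by
  have := toLin'_gl_left_inv g⁻¹ w
  rwa [inv_inv] at this

lemma toLin'_gl_injective {n : ℕ} (g : Matrix.GeneralLinearGroup (Fin n) k) :
    Function.Injective (Matrix.toLin' (g : Matrix (Fin n) (Fin n) k)) :=
  Function.LeftInverse.injective (toLin'_gl_left_inv g)

lemma toLin'_gl_surjective {n : ℕ} (g : Matrix.GeneralLinearGroup (Fin n) k) :
    Function.Surjective (Matrix.toLin' (g : Matrix (Fin n) (Fin n) k)) :=
  Function.RightInverse.surjective (toLin'_gl_right_inv g)

lemma iterImage_conj (g : (j : ℕ) → Matrix.GeneralLinearGroup (Fin (d j)) k) (f : Ch k d)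
    (i n : ℕ) :
    iterImage (conj g f) i n =
      (iterImage f i n).map (Matrix.toLin' (g (i + n) : Matrix (Fin (d (i + n))) (Fin (d (i + n))) k)) := by
  induction n with
  | zero =>
    change (⊤ : Submodule k (Fin (d (i + 0)) → k)) = Submodule.map _ ⊤
    rw [Submodule.map_top, LinearMap.range_eq_top.mpr (toLin'_gl_surjective (g (i + 0)))]
  | succ n ih =>
    change (iterImage (conj g f) i n).map (Matrix.toLin' (conj g f (i + n))) =
      ((iterImage f i n).map (Matrix.toLin' (f (i + n)))).map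
        (Matrix.toLin' (g (i + n + 1) : Matrix (Fin (d (i + n + 1))) (Fin (d (i + n + 1))) k))
    rw [ih, ← Submodule.map_comp, ← Submodule.map_comp, ← Matrix.toLin'_mul, ← Matrix.toLin'_mul]
    congr 2
    unfold conj
    have : ((g (i + n))⁻¹ : Matrix.GeneralLinearGroup (Fin (d (i + n))) k).1 *
      ((g (i + n)) : Matrix.GeneralLinearGroup (Fin (d (i + n))) k).1 = 1 := by
      rw [← Units.val_mul, inv_mul_cancel, Units.val_one]
    rw [Matrix.mul_assoc _ _ (g (i + n)).1, this, Matrix.mul_one]

theorem rankArray_conj (g : (j : ℕ) → Matrix.GeneralLinearGroup (Fin (d j)) k) (f : Ch k d)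
    (i j : ℕ) : rankArray (conj g f) i j = rankArray f i j := by
  unfold rankArray
  split_ifs with h
  · rw [iterImage_conj]
    exact finrank_map_of_injOn _ _ ((toLin'_gl_injective _).injOn)
  · rfl

theorem isRankArray_rankArray (f : Ch k d) (r : ℕ) : IsRankArray d r (rankArray f) := by
  refine ⟨?_, ?_, ?_, ?_⟩
  · intro j _ _
    have := rankArray_eq f j 0
    rw [Nat.add_zero] at this
    rw [this, rk_zero]
  · intro i j _ hij _
    obtain ⟨n, rfl⟩ : ∃ n, j = i + 1 + n := ⟨j - (i + 1), by omega⟩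
    have h1 := rankArray_eq f i (n + 1)
    have h2 := rankArray_eq f (i + 1) n
    have e : i + (n + 1) = i + 1 + n := by omega
    rw [e] at h1
    rw [h1, h2]
    exact rk_succ_le' f i n
  · intro i j _ hij _
    obtain ⟨n, rfl⟩ : ∃ n, j = i + n := ⟨j - i, by omega⟩
    have h1 := rankArray_eq f i (n + 1)
    have h2 := rankArray_eq f i n
    have e : i + (n + 1) = i + n + 1 := by omega
    rw [e] at h1
    rw [h1, h2]
    exact rk_succ_le f i n
  · intro i j hi hij _
    obtain ⟨i', rfl⟩ : ∃ i', i = i' + 1 := ⟨i - 1, by omega⟩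
    obtain ⟨n, rfl⟩ : ∃ n, j = i' + 1 + n := ⟨j - (i' + 1), by omega⟩
    have h1 := rankArray_eq f (i' + 1) (n + 1)
    have h2 := rankArray_eq f i' (n + 1)
    have h3 := rankArray_eq f (i' + 1) n
    have h4 := rankArray_eq f i' (n + 2)
    have e1 : i' + 1 + (n + 1) = i' + 1 + n + 1 := by omega
    have e2 : i' + (n + 1) = i' + 1 + n := by omega
    have e4 : i' + (n + 2) = i' + 1 + n + 1 := by omega
    rw [e1] at h1
    rw [e2] at h2
    rw [e4] at h4
    have e5 : i' + 1 - 1 = i' := by omega
    rw [e5, h1, h2, h3, h4]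
    exact rk_submodular f i' n

end Groth.Agent.H72.Chain
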