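import Mathlib

/-!
# Extending a partial flag-compatible injection (helper72)

`flagExt`: `V`, `W` finite-dimensional of the same dimension, with increasing ℕ-indexed flags
`K`, `K'` (eventually `⊤`) of equal dimensions.  A linear map `φ : V → W` that is injective on a
subspace `U` and satisfies `u ∈ K n ↔ φ u ∈ K' n` for `u ∈ U` can be replaced by an injective
linear map `ψ` agreeing with `φ` on `U` and satisfying `v ∈ K n ↔ ψ v ∈ K' n` for all `v`.
-/

set_option autoImplicit false

namespace Groth.Agent.H72.Chain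
open Module

variable {k : Type*} [Field k]

lemma finrank_map_of_injOn' {V W : Type*} [AddCommGroup V] [Module k V] [AddCommGroup W]
    [Module k W] (φ : V →ₗ[k] W) (S : Submodule k V) (h : Set.InjOn φ S) :
    finrank k (S.map φ) = finrank k S := by
  have hinj : Function.Injective (φ.domRestrict S) := by
    intro x y hxy
    exact Subtype.ext (h x.2 y.2 hxy)
  have := LinearMap.finrank_range_of_inj hinj
  rw [LinearMap.range_domRestrict] at this
  exact this

theorem flagExt {V W : Type*} [AddCommGroup V] [Module k V] [FiniteDimensional k V]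
    [AddCommGroup W] [Module k W] [FiniteDimensional k W]
    (K : ℕ → Submodule k V) (K' : ℕ → Submodule k W)
    (hK : Monotone K) (hK' : Monotone K') (m : ℕ) (hKm : K m = ⊤)
    (hdim : ∀ n, finrank k (K n) = finrank k (K' n))
    (U : Submodule k V) :
    ∀ (φ : V →ₗ[k] W), Set.InjOn φ U → (∀ u ∈ U, ∀ n, u ∈ K n ↔ φ u ∈ K' n) →
    ∃ ψ : V →ₗ[k] W, Function.Injective ψ ∧ (∀ u ∈ U, ψ u = φ u) ∧
      ∀ v n, v ∈ K n ↔ ψ v ∈ K' n := by
  induction U using IsNoetherian.induction with
  | hgt U IH =>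
  intro φ hinj hcompat
  by_cases hU : U = ⊤
  · subst hU
    refine ⟨φ, ?_, fun _ _ => rfl, fun v n => hcompat v trivial n⟩
    intro x y hxy
    exact hinj trivial trivial hxy
  -- choose the least index with `K l ⊄ U`
  have hex : ∃ n, ¬ K n ≤ U := ⟨m, by rw [hKm]; intro h; exact hU (top_le_iff.mp h)⟩
  classical
  obtain ⟨l, hl, hmin⟩ : ∃ l, ¬ K l ≤ U ∧ ∀ n < l, K n ≤ U :=
    ⟨Nat.find hex, Nat.find_spec hex, fun n hn => not_not.mp (Nat.find_min hex hn)⟩
  obtain ⟨v, hvK, hvU⟩ := SetLike.not_le_iff_exists.mp hl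
  have hzero : ∀ u ∈ U, φ u = 0 → u = 0 := fun u hu h =>
    hinj hu U.zero_mem (by rw [h, map_zero])
  -- `K' l ⊄ φ(U)`
  have hl' : ¬ K' l ≤ U.map φ := by
    intro hle
    have heq : K' l = (U ⊓ K l).map φ := by
      apply le_antisymm
      · intro w hw
        obtain ⟨u, hu, rfl⟩ := hle hw
        exact ⟨u, ⟨hu, (hcompat u hu l).mpr hw⟩, rfl⟩
      · rintro _ ⟨u, ⟨hu, huK⟩, rfl⟩
        exact (hcompat u hu l).mp huK
    have h1 : finrank k (K' l) = finrank k (U ⊓ K l : Submodule k V) := by
      rw [heq]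
      exact finrank_map_of_injOn' φ _ (hinj.mono inf_le_left)
    have h2 : finrank k (U ⊓ K l : Submodule k V) < finrank k (K l) := by
      apply Submodule.finrank_lt_finrank_of_lt
      refine lt_of_le_of_ne inf_le_right ?_
      intro h
      exact hl (h ▸ inf_le_left)
    have := hdim l
    omega
  obtain ⟨v', hv'K, hv'U⟩ := SetLike.not_le_iff_exists.mp hl'
  obtain ⟨g, hgU, hgv⟩ := LinearMap.exists_extend_of_notMem (φ.domRestrict U) hvU v'
  have hgU' : ∀ u ∈ U, g u = φ u := fun u hu => by
    have := congrArg (fun h => h ⟨u, hu⟩) hgU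
    simpa using this
  -- elements of the enlarged subspace
  have hmem : ∀ x ∈ U ⊔ Submodule.span k {v}, ∃ u ∈ U, ∃ c : k, x = u + c • v := by
    intro x hx
    obtain ⟨u, hu, y, hy, rfl⟩ := Submodule.mem_sup.mp hx
    obtain ⟨c, rfl⟩ := Submodule.mem_span_singleton.mp hy
    exact ⟨u, hu, c, rfl⟩
  have hgx : ∀ u ∈ U, ∀ c : k, g (u + c • v) = φ u + c • v' := by
    intro u hu c
    rw [map_add, map_smul, hgU' u hu, hgv]
  have hginj : Set.InjOn g (U ⊔ Submodule.span k {v} : Submodule k V) := by
    apply LinearMap.injOn_of_disjoint_ker (le_refl _)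
    rw [Submodule.disjoint_def]
    intro x hx hxker
    obtain ⟨u, hu, c, rfl⟩ := hmem x hx
    rw [LinearMap.mem_ker, hgx u hu c] at hxker
    have hc : c = 0 := by
      by_contra hc
      apply hv'U
      refine ⟨(-c⁻¹) • u, U.smul_mem _ hu, ?_⟩
      rw [map_smul]
      have : φ u = -(c • v') := eq_neg_of_add_eq_zero_left hxker
      rw [this, smul_neg, neg_smul, neg_neg, smul_smul, inv_mul_cancel₀ hc, one_smul]
    subst hc
    rw [zero_smul, add_zero] at hxker
    rw [hzero u hu hxker, zero_smul, add_zero]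
  have hlt : U < U ⊔ Submodule.span k {v} := Submodule.lt_sup_iff_notMem.mpr hvU
  have hgcompat : ∀ x ∈ U ⊔ Submodule.span k {v}, ∀ n, x ∈ K n ↔ g x ∈ K' n := by
    intro x hx n
    by_cases hn : l ≤ n
    · obtain ⟨u, hu, c, rfl⟩ := hmem x hx
      rw [hgx u hu c]
      have h1 : c • v ∈ K n := (K n).smul_mem _ (hK hn hvK)
      have h2 : c • v' ∈ K' n := (K' n).smul_mem _ (hK' hn hv'K)
      rw [Submodule.add_mem_iff_left _ h1, Submodule.add_mem_iff_left _ h2]
      exact hcompat u hu n
    · have hn' : n < l := not_le.mp hn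
      have hKU : K n ≤ U := hmin n hn'
      have hK'eq : K' n = (K n).map φ := by
        symm
        apply Submodule.eq_of_le_of_finrank_eq
        · rintro _ ⟨u, hu, rfl⟩
          exact (hcompat u (hKU hu) n).mp hu
        · rw [finrank_map_of_injOn' φ _ (hinj.mono hKU)]
          exact hdim n
      constructor
      · intro hxK
        rw [hgU' x (hKU hxK)]
        exact (hcompat x (hKU hxK) n).mp hxK
      · intro hgxK
        rw [hK'eq] at hgxK
        obtain ⟨κ, hκ, hκx⟩ := hgxK
        have hκU : κ ∈ U := hKU hκ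
        have : g κ = g x := by rw [hgU' κ hκU, hκx]
        have hκx' : κ = x := hginj (le_sup_left (a := U) hκU) hx this
        rw [← hκx']
        exact hκ
  obtain ⟨ψ, hψinj, hψU, hψK⟩ := IH _ hlt g hginj hgcompat
  refine ⟨ψ, hψinj, fun u hu => ?_, hψK⟩
  rw [hψU u (le_sup_left (a := U) hu), hgU' u hu]

end Groth.Agent.H72.Chain
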