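import Groth.Agent.H72.ChainConj
import Groth.Agent.H72.FlagExt

/-!
# Chains with equal rank arrays are conjugate (helper72)
-/

set_option autoImplicit false

namespace Groth.Agent.H72.Chain
open W4c1btstackcounts Module

variable {k : Type*} [Field k] {d : ℕ → ℕ}

/-- kernel of the `n`-fold composite out of the `j`-th space -/
noncomputable def Ker (f : Ch k d) (j n : ℕ) : Submodule k (Fin (d j) → k) :=
  LinearMap.ker (((shift f) ^ n).comp (inc k d j))

lemma mem_Ker (f : Ch k d) (j n : ℕ) (v : Fin (d j) → k) :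
    v ∈ Ker f j n ↔ ((shift f) ^ n) (inc k d j v) = 0 := by
  rw [Ker, LinearMap.mem_ker, LinearMap.comp_apply]

lemma mem_Ker_succ (f : Ch k d) (j n : ℕ) (v : Fin (d j) → k) :
    v ∈ Ker f j (n + 1) ↔ Matrix.toLin' (f j) v ∈ Ker f (j + 1) n := by
  rw [mem_Ker, mem_Ker, pow_succ, Module.End.mul_apply, shift_inc]

lemma mem_Ker_one (f : Ch k d) (j : ℕ) (v : Fin (d j) → k) :
    v ∈ Ker f j 1 ↔ Matrix.toLin' (f j) v = 0 := by
  rw [mem_Ker_succ, mem_Ker, pow_zero, Module.End.one_apply]
  constructor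
  · intro h
    exact inc_injective (j + 1) (by rw [h, map_zero])
  · intro h
    rw [h, map_zero]

lemma Ker_mono (f : Ch k d) (j : ℕ) : Monotone (Ker f j) := by
  apply monotone_nat_of_le_succ
  intro n v hv
  rw [mem_Ker] at hv ⊢
  rw [pow_succ', Module.End.mul_apply, hv, map_zero]

lemma finrank_Ker (f : Ch k d) (j n : ℕ) : finrank k (Ker f j n) + rk f j n = d j := by
  have := LinearMap.finrank_range_add_finrank_ker (((shift f) ^ n).comp (inc k d j))
  rw [LinearMap.range_comp] at this
  simp only [Module.finrank_fintype_fun_eq_card, Fintype.card_fin] at this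
  unfold Ker rk Im
  omega

/-- the flag used at level `j` -/
noncomputable def flag (f : Ch k d) (r j : ℕ) (n : ℕ) : Submodule k (Fin (d j) → k) :=
  if n ≤ r - j then Ker f j n else ⊤

lemma flag_mono (f : Ch k d) (r j : ℕ) : Monotone (flag f r j) := by
  intro n n' h
  unfold flag
  split_ifs with h1 h2 h2
  · exact Ker_mono f j h
  · exact le_top
  · omega
  · exact le_refl _

lemma flag_top (f : Ch k d) (r j : ℕ) : flag f r j (r - j + 1) = ⊤ := by
  unfold flag
  rw [if_neg (by omega)]

lemma flag_of_le (f : Ch k d) {r j n : ℕ} (h : j + n ≤ r) : flag f r j n = Ker f j n := by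
  unfold flag
  rw [if_pos (by omega)]

lemma flag_pos (f : Ch k d) {r j n : ℕ} (h : n ≤ r - j) : flag f r j n = Ker f j n := by
  unfold flag
  rw [if_pos h]

lemma flag_neg (f : Ch k d) {r j n : ℕ} (h : ¬ n ≤ r - j) : flag f r j n = ⊤ := by
  unfold flag
  rw [if_neg h]

/-- compatibility of an endomorphism of the `j`-th space with the two kernel flags -/
def Good (f f' : Ch k d) (r j : ℕ) (ψ : (Fin (d j) → k) →ₗ[k] (Fin (d j) → k)) : Prop :=
  Function.Injective ψ ∧ ∀ v n, j + n ≤ r → (v ∈ Ker f j n ↔ ψ v ∈ Ker f' j n)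

variable {f f' : Ch k d} {r : ℕ}

lemma finrank_flag_eq (H : ∀ i n, 1 ≤ i → i + n ≤ r → rk f i n = rk f' i n) {j : ℕ}
    (hj : 1 ≤ j) (n : ℕ) :
    finrank k (flag f r j n) = finrank k (flag f' r j n) := by
  by_cases h : n ≤ r - j
  · rw [flag_pos f h, flag_pos f' h]
    by_cases hjr : j ≤ r
    · have h1 := finrank_Ker f j n
      have h2 := finrank_Ker f' j n
      have := H j n hj (by omega)
      omega
    · have hn : n = 0 := by omega
      subst hn
      have h1 := finrank_Ker f j 0
      have h2 := finrank_Ker f' j 0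
      rw [rk_zero] at h1 h2
      omega
  · rw [flag_neg f h, flag_neg f' h]

lemma exists_good_of_partial (H : ∀ i n, 1 ≤ i → i + n ≤ r → rk f i n = rk f' i n) {j : ℕ}
    (hj : 1 ≤ j) (U : Submodule k (Fin (d j) → k))
    (φ : (Fin (d j) → k) →ₗ[k] (Fin (d j) → k)) (hinj : Set.InjOn φ U)
    (hcompat : ∀ u ∈ U, ∀ n, j + n ≤ r → (u ∈ Ker f j n ↔ φ u ∈ Ker f' j n)) :
    ∃ ψ, Good f f' r j ψ ∧ ∀ u ∈ U, ψ u = φ u := by
  obtain ⟨ψ, hψ, hψU, hψK⟩ := flagExt (flag f r j) (flag f' r j) (flag_mono f r j)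
    (flag_mono f' r j) (r - j + 1) (flag_top f r j) (finrank_flag_eq H hj) U φ hinj (by
      intro u hu n
      by_cases h : n ≤ r - j
      · rw [flag_pos f h, flag_pos f' h]
        by_cases hjr : j ≤ r
        · exact hcompat u hu n (by omega)
        · have hn : n = 0 := by omega
          subst hn
          rw [mem_Ker, mem_Ker]
          simp only [pow_zero, Module.End.one_apply]
          constructor
          · intro h0
            have : u = 0 := inc_injective j (by rw [h0, map_zero])
            rw [this, map_zero, map_zero]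
          · intro h0
            have h1 : φ u = 0 := inc_injective j (by rw [h0, map_zero])
            have : u = 0 := hinj hu U.zero_mem (by rw [h1, map_zero])
            rw [this, map_zero]
      · rw [flag_neg f h, flag_neg f' h]
        simp)
  refine ⟨ψ, ⟨hψ, fun v n hn => ?_⟩, hψU⟩
  have := hψK v n
  rwa [flag_of_le f hn, flag_of_le f' hn] at this

lemma exists_good_base (H : ∀ i n, 1 ≤ i → i + n ≤ r → rk f i n = rk f' i n) {j : ℕ}
    (hj : 1 ≤ j) : ∃ ψ, Good f f' r j ψ := by
  obtain ⟨ψ, hψ, -⟩ := exists_good_of_partial H hj ⊥ 0 (by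
      intro x hx y hy _
      have hx' : x = 0 := (Submodule.mem_bot k).mp hx
      have hy' : y = 0 := (Submodule.mem_bot k).mp hy
      rw [hx', hy']) (by
      intro u hu n _
      rw [Submodule.mem_bot] at hu
      subst hu
      simp)
  exact ⟨ψ, hψ⟩

/-- factor a linear map through another one with smaller kernel -/
lemma exists_factor {V W X : Type*} [AddCommGroup V] [Module k V] [AddCommGroup W] [Module k W]
    [AddCommGroup X] [Module k X] (A : V →ₗ[k] W) (B : V →ₗ[k] X)
    (h : LinearMap.ker A ≤ LinearMap.ker B) : ∃ φ : W →ₗ[k] X, ∀ v, φ (A v) = B v := by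
  obtain ⟨s, hs⟩ := LinearMap.exists_rightInverse_of_surjective A.rangeRestrict
    (LinearMap.range_rangeRestrict A)
  obtain ⟨φ, hφ⟩ := LinearMap.exists_extend (B.comp s)
  refine ⟨φ, fun v => ?_⟩
  have h1 : φ (A v) = B (s ⟨A v, LinearMap.mem_range_self A v⟩) := by
    have := congrArg (fun g => g ⟨A v, LinearMap.mem_range_self A v⟩) hφ
    simpa using this
  rw [h1]
  have h2 : A (s ⟨A v, LinearMap.mem_range_self A v⟩) = A v := by
    have := congrArg (fun g => (g ⟨A v, LinearMap.mem_range_self A v⟩ : LinearMap.range A).1) hs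
    simpa using this
  have h3 : s ⟨A v, LinearMap.mem_range_self A v⟩ - v ∈ LinearMap.ker B := by
    apply h
    rw [LinearMap.mem_ker, map_sub, h2, sub_self]
  rw [LinearMap.mem_ker, map_sub, sub_eq_zero] at h3
  exact h3

lemma exists_good_step (H : ∀ i n, 1 ≤ i → i + n ≤ r → rk f i n = rk f' i n) {j : ℕ}
    (_hj : 1 ≤ j) (hjr : j + 1 ≤ r) (ψ : (Fin (d j) → k) →ₗ[k] (Fin (d j) → k))
    (hψ : Good f f' r j ψ) :
    ∃ ψ', Good f f' r (j + 1) ψ' ∧
      ∀ v, ψ' (Matrix.toLin' (f j) v) = Matrix.toLin' (f' j) (ψ v) := by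
  obtain ⟨φ, hφ⟩ := exists_factor (Matrix.toLin' (f j)) ((Matrix.toLin' (f' j)).comp ψ) (by
    intro v hv
    rw [LinearMap.mem_ker] at hv
    rw [LinearMap.mem_ker, LinearMap.comp_apply, ← mem_Ker_one]
    exact (hψ.2 v 1 hjr).mp ((mem_Ker_one f j v).mpr hv))
  simp only [LinearMap.comp_apply] at hφ
  obtain ⟨ψ', hψ', hψ'U⟩ := exists_good_of_partial H (Nat.le_add_left 1 j)
    (LinearMap.range (Matrix.toLin' (f j))) φ (by
      apply LinearMap.injOn_of_disjoint_ker (le_refl _)
      rw [Submodule.disjoint_def]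
      rintro _ ⟨v, rfl⟩ hx
      rw [LinearMap.mem_ker, hφ, ← mem_Ker_one] at hx
      exact (mem_Ker_one f j v).mp ((hψ.2 v 1 hjr).mpr hx)) (by
      rintro _ ⟨v, rfl⟩ n hn
      rw [hφ, ← mem_Ker_succ, ← mem_Ker_succ]
      exact hψ.2 v (n + 1) (by omega))
  exact ⟨ψ', hψ', fun v => by rw [hψ'U _ (LinearMap.mem_range_self _ v), hφ]⟩

/-- the inductive construction of compatible injective endomorphisms -/
lemma exists_family (H : ∀ i n, 1 ≤ i → i + n ≤ r → rk f i n = rk f' i n) :
    ∀ j, 1 ≤ j → j ≤ r →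
    ∃ Ψ : (i : ℕ) → ((Fin (d i) → k) →ₗ[k] (Fin (d i) → k)),
      (∀ i, Function.Injective (Ψ i)) ∧ Good f f' r j (Ψ j) ∧
      ∀ i, 1 ≤ i → i + 1 ≤ j → ∀ v,
        Ψ (i + 1) (Matrix.toLin' (f i) v) = Matrix.toLin' (f' i) (Ψ i v) := by
  intro j hj
  induction j, hj using Nat.le_induction with
  | base =>
    intro _
    obtain ⟨ψ, hψ⟩ := exists_good_base H (le_refl 1)
    classical
    refine ⟨Function.update (fun i => LinearMap.id) 1 ψ, ?_, ?_, ?_⟩
    · intro i
      by_cases hi : i = 1
      · subst hi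
        rw [Function.update_self]
        exact hψ.1
      · rw [Function.update_of_ne hi]
        exact Function.injective_id
    · rw [Function.update_self]
      exact hψ
    · intro i h1 h2
      omega
  | succ j hj ih =>
    intro hjr
    obtain ⟨Ψ, hΨinj, hΨgood, hΨcomm⟩ := ih (by omega)
    obtain ⟨ψ', hψ', hcomm⟩ := exists_good_step H hj hjr (Ψ j) hΨgood
    classical
    refine ⟨Function.update Ψ (j + 1) ψ', ?_, ?_, ?_⟩
    · intro i
      by_cases hi : i = j + 1
      · subst hi
        rw [Function.update_self]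
        exact hψ'.1
      · rw [Function.update_of_ne hi]
        exact hΨinj i
    · rw [Function.update_self]
      exact hψ'
    · intro i h1 h2 v
      by_cases hi : i = j
      · subst hi
        rw [Function.update_self, Function.update_of_ne (by omega)]
        exact hcomm v
      · rw [Function.update_of_ne (by omega), Function.update_of_ne (by omega)]
        exact hΨcomm i h1 (by omega) v

/-- an injective endomorphism of `k^n` gives an element of `GL_n(k)` -/
lemma exists_gl_of_injective {n : ℕ} (ψ : (Fin n → k) →ₗ[k] (Fin n → k))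
    (h : Function.Injective ψ) :
    ∃ g : Matrix.GeneralLinearGroup (Fin n) k,
      Matrix.toLin' (g : Matrix (Fin n) (Fin n) k) = ψ := by
  have hbij : Function.Bijective ψ := ⟨h, LinearMap.injective_iff_surjective.mp h⟩
  have hunit : IsUnit ψ := (Module.End.isUnit_iff ψ).mpr hbij
  have hunit' : IsUnit (LinearMap.toMatrix' ψ) := by
    have := hunit.map (LinearMap.toMatrixAlgEquiv' (R := k) (n := Fin n))
    simpa using this
  refine ⟨hunit'.unit, ?_⟩
  rw [IsUnit.unit_spec, Matrix.toLin'_toMatrix']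

theorem exists_conj_of_rk_eq (H : ∀ i n, 1 ≤ i → i + n ≤ r → rk f i n = rk f' i n) :
    ∃ g : (j : ℕ) → Matrix.GeneralLinearGroup (Fin (d j)) k,
      ∀ i : ℕ, 1 ≤ i → i + 1 ≤ r → conj g f i = f' i := by
  by_cases hr : 1 ≤ r
  · obtain ⟨Ψ, hΨinj, -, hΨcomm⟩ := exists_family H r hr (le_refl r)
    choose g hg using fun j => exists_gl_of_injective (Ψ j) (hΨinj j)
    refine ⟨g, fun i h1 h2 => ?_⟩
    unfold conj
    have key : (g (i + 1)).1 * f i = f' i * (g i).1 := by
      apply Matrix.toLin'.injective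
      rw [Matrix.toLin'_mul, Matrix.toLin'_mul, hg, hg]
      apply LinearMap.ext
      intro v
      exact hΨcomm i h1 h2 v
    rw [key, Matrix.mul_assoc]
    have : (g i).1 * ((g i)⁻¹ : Matrix.GeneralLinearGroup (Fin (d i)) k).1 = 1 := by
      rw [← Units.val_mul, mul_inv_cancel, Units.val_one]
    rw [this, Matrix.mul_one]
  · exact ⟨fun _ => 1, fun i h1 h2 => by omega⟩

end Groth.Agent.H72.Chain
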