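import Groth.Agent.H72.ChainBlock
import Groth.Agent.H72.ChainOrbit

/-!
# Normal form of a chain of matrices with prescribed rank array (helper72)
-/

set_option autoImplicit false

namespace Groth.Agent.H72.Chain
open W4c1btstackcounts Module

variable {k : Type*} [Field k] {d : ℕ → ℕ}

/-- the array extended by `0` in row `0` -/
def astar (a : ℕ → ℕ → ℕ) (i j : ℕ) : ℕ := if i = 0 then 0 else a i j

lemma astar_zero (a : ℕ → ℕ → ℕ) (j : ℕ) : astar a 0 j = 0 := by simp [astar]

lemma astar_of_pos (a : ℕ → ℕ → ℕ) {i : ℕ} (hi : 1 ≤ i) (j : ℕ) : astar a i j = a i j := by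
  unfold astar
  rw [if_neg (by omega)]

/-- the normal form chain -/
noncomputable def normalForm (k : Type*) [Field k] (d : ℕ → ℕ) (a : ℕ → ℕ → ℕ) : Ch k d :=
  fun j => blkMat k (d j) (d (j + 1)) (fun i => astar a i j) (fun i => astar a i (j + 1)) j

variable {a : ℕ → ℕ → ℕ} {r : ℕ}

lemma blk_of_isRankArray (ha : IsRankArray d r a) {j : ℕ} (hj : 1 ≤ j) (hjr : j + 1 ≤ r) :
    Blk (fun i => astar a i j) (fun i => astar a i (j + 1)) j := by
  obtain ⟨h1, h2, h3, h4⟩ := ha
  refine ⟨astar_zero a j, astar_zero a (j + 1), ?_, ?_, ?_⟩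
  · intro i hi
    by_cases hi0 : i = 0
    · subst hi0
      rw [astar_zero]
      exact Nat.zero_le _
    · rw [astar_of_pos a (by omega), astar_of_pos a (by omega)]
      exact h2 i j (by omega) hi (by omega)
  · intro i hi
    by_cases hi0 : i = 0
    · subst hi0
      rw [astar_zero]
      exact Nat.zero_le _
    · rw [astar_of_pos a (by omega), astar_of_pos a (by omega)]
      exact h2 i (j + 1) (by omega) (by omega) (by omega)
  · intro i hi
    by_cases hi0 : i = 0
    · subst hi0
      rw [astar_zero, astar_zero, astar_of_pos a (by omega), astar_of_pos a (by omega)]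
      have := h3 1 j (le_refl 1) hj (by omega)
      omega
    · rw [astar_of_pos a (by omega), astar_of_pos a (by omega), astar_of_pos a (by omega),
        astar_of_pos a (by omega)]
      have := h4 (i + 1) j (by omega) (by omega) (by omega)
      rw [Nat.add_sub_cancel] at this
      exact this

lemma a_le_diag (ha : IsRankArray d r a) : ∀ (m i j : ℕ), 1 ≤ i → i + m = j → j ≤ r →
    a i j ≤ a j j := by
  intro m
  induction m with
  | zero =>
    intro i j _ hij _
    have : i = j := by omega
    subst this
    exact le_refl _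
  | succ m ih =>
    intro i j hi hij hjr
    exact le_trans (ha.2.1 i j hi (by omega) hjr) (ih (i + 1) j (by omega) (by omega) hjr)

lemma a_le_d (ha : IsRankArray d r a) {i j : ℕ} (hi : 1 ≤ i) (hij : i ≤ j) (hjr : j ≤ r) :
    a i j ≤ d j := by
  have h1 := a_le_diag ha (j - i) i j hi (by omega) hjr
  have h2 := ha.1 j (by omega) hjr
  omega

theorem iterImage_normalForm (ha : IsRankArray d r a) {i : ℕ} (hi : 1 ≤ i) :
    ∀ n, i + n ≤ r → iterImage (normalForm k d a) i n = E k (d (i + n)) (a i (i + n)) := by
  intro n
  induction n with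
  | zero =>
    intro hir
    change (⊤ : Submodule k (Fin (d i) → k)) = E k (d i) (a i i)
    rw [E_eq_top]
    rw [ha.1 i hi hir]
  | succ n ih =>
    intro hir
    change (iterImage (normalForm k d a) i n).map (Matrix.toLin' (normalForm k d a (i + n))) =
      E k (d (i + n + 1)) (a i (i + n + 1))
    rw [ih (by omega)]
    have hblk := blk_of_isRankArray (d := d) ha (j := i + n) (by omega) (by omega)
    have hN : (fun i' => astar a i' (i + n)) (i + n) ≤ d (i + n) := by
      change astar a (i + n) (i + n) ≤ d (i + n)
      rw [astar_of_pos a (by omega), ha.1 (i + n) (by omega) (by omega)]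
    have key := map_blkMat_E (k := k) (N := d (i + n)) (N' := d (i + n + 1)) hblk hN
      (i := i) (by omega)
    have e1 : astar a i (i + n) = a i (i + n) := astar_of_pos a hi _
    have e2 : astar a i (i + n + 1) = a i (i + n + 1) := astar_of_pos a hi _
    rw [e1, e2] at key
    exact key

theorem rankArray_normalForm (ha : IsRankArray d r a) {i j : ℕ} (hi : 1 ≤ i) (hij : i ≤ j)
    (hjr : j ≤ r) : rankArray (normalForm k d a) i j = a i j := by
  obtain ⟨n, rfl⟩ := Nat.exists_eq_add_of_le hij
  unfold rankArray
  rw [if_pos hij, Nat.add_sub_cancel_left, iterImage_normalForm ha hi n hjr]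
  exact finrank_E (a_le_d ha hi hij hjr)

end Groth.Agent.H72.Chain
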