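import Groth.Agent.H72.OpenUO

/-!
# Pieces of EGA IV 14.4.? (S4945): openness, universal openness and dominating components

Library of helper72.
-/

set_option autoImplicit false

namespace Groth.Agent.H72.Chev45

open CategoryTheory AlgebraicGeometry Limits EGA43 TopologicalSpace Topology
open Groth.Agent.Lib.Helper55

universe u

/-- b) ⇒ c): if `f` is open at a maximal point `z` of its fibre, there is an irreducible component
through `z` dominating `Y` with the right dimensions. -/
theorem exists_component_of_isOpenAt {X Y : Scheme.{u}} [IrreducibleSpace Y]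
    [IsLocallyNoetherian Y] (f : X ⟶ Y) [LocallyOfFiniteType f] (z : X)
    (hmax : ∀ w : X, f.base w = f.base z → w ⤳ z → w = z) (hopen : IsOpenAt f.base z) :
    ∃ Z ∈ irreducibleComponents (X : Type u), ∃ hz : z ∈ Z, Dense (f.base '' Z) ∧
      FlatMor.localDim ↥(Z ∩ f.base ⁻¹' {f.base z}) ⟨z, ⟨hz, rfl⟩⟩ =
        topologicalKrullDim ↥(Z ∩ f.base ⁻¹' {genericPoint Y}) := by
  obtain ⟨ξ, d, hξmax, hξz, hfξ, htrξ, -, hfd⟩ :=
    exists_dominant_maximal_point_of_isOpenAt f z hopen hmax
  have hZ := closure_mem_irreducibleComponents_of_maximal ξ hξmax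
  have hz : z ∈ closure ({ξ} : Set X) := specializes_iff_mem_closure.mp hξz
  refine ⟨closure {ξ}, hZ, hz, ?_, ?_⟩
  · rw [dense_iff_closure_eq, closure_image_eq_of_isGenericPoint f _ ξ rfl, hfξ]
    exact (genericPoint_spec Y).def
  · have h1 : FlatMor.localDim ↥(closure ({ξ} : Set X) ∩ f.base ⁻¹' {f.base z})
        ⟨z, ⟨hz, rfl⟩⟩ = d := by
      apply le_antisymm
      · exact (localDim_inter_fibre_le f _ z hz).trans hfd.le
      · exact trdeg_le_localDim_inter_fibre f ⟨closure {ξ}, isClosed_closure⟩ z ξ hz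
          (subset_closure rfl) hξz d htrξ
    obtain ⟨m, hm1, hm2⟩ := Groth.Agent.S3393.dim_closure_inter_fibre f (genericPoint Y) ξ hfξ
    have hmd : m = d := by
      have : ((m : ℕ) : Cardinal) = ((d : ℕ) : Cardinal) := by rw [← hm2, ← htrξ]
      exact_mod_cast this
    rw [h1, hm1, hmd]

set_option backward.isDefEq.respectTransparency.types false in
/-- c) ⇒ a): a point on an irreducible component dominating `Y` with the right dimensions, over a
geometrically unibranch point, is a point of universal openness. -/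
theorem isUnivOpenAt_of_component {X Y : Scheme.{u}} [IrreducibleSpace Y]
    [IsLocallyNoetherian Y] (f : X ⟶ Y) [LocallyOfFiniteType f] (z : X)
    (hY : CAlg2.IsGeomUnibranch (Y.presheaf.stalk (f.base z)))
    (Z : Set X) (hZ : Z ∈ irreducibleComponents (X : Type u)) (hz : z ∈ Z)
    (hdense : Dense (f.base '' Z))
    (hdim : FlatMor.localDim ↥(Z ∩ f.base ⁻¹' {f.base z}) ⟨z, ⟨hz, rfl⟩⟩ =
      topologicalKrullDim ↥(Z ∩ f.base ⁻¹' {genericPoint Y})) : IsUnivOpenAt f z := by
  have hZcl : IsClosed Z := isClosed_of_mem_irreducibleComponents Z hZ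
  obtain ⟨ξ, hξ⟩ := QuasiSober.sober hZ.1 hZcl
  have hfξ : f.base ξ = genericPoint Y := by
    have h1 : closure ({f.base ξ} : Set Y) = Set.univ := by
      rw [← closure_image_eq_of_isGenericPoint f Z ξ hξ]
      exact dense_iff_closure_eq.mp hdense
    exact (show IsGenericPoint (f.base ξ) Set.univ from h1).eq (genericPoint_spec Y)
  obtain ⟨m, hm1, hm2⟩ := Groth.Agent.S3393.dim_closure_inter_fibre f (genericPoint Y) ξ hfξ
  rw [hξ.def] at hm1
  rw [hm1] at hdim
  obtain ⟨Zc, hZc⟩ : ∃ Zc : TopologicalSpace.Closeds X, (Zc : Set X) = Z := ⟨⟨Z, hZcl⟩, rfl⟩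
  have hrange : Set.range (Scheme.IdealSheafData.vanishingIdeal Zc).subschemeι.base = Z := by
    rw [Scheme.IdealSheafData.range_subschemeι, Scheme.IdealSheafData.coe_support_vanishingIdeal,
      hZc]
  have hirrZ : IsIrreducible
      (Set.range (Scheme.IdealSheafData.vanishingIdeal Zc).subschemeι.base) := by
    rw [hrange]; exact hZ.1
  haveI : IrreducibleSpace ↥(Scheme.IdealSheafData.vanishingIdeal Zc).subscheme :=
    irreducibleSpace_of_isEmbedding _
      (Scheme.IdealSheafData.vanishingIdeal Zc).subschemeι.isEmbedding hirrZ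
  obtain ⟨z₁, hz₁⟩ : z ∈ Set.range (Scheme.IdealSheafData.vanishingIdeal Zc).subschemeι.base := by
    rw [hrange]; exact hz
  have hgp : (Scheme.IdealSheafData.vanishingIdeal Zc).subschemeι.base
      (genericPoint ↥(Scheme.IdealSheafData.vanishingIdeal Zc).subscheme) = ξ := by
    have h1 : IsGenericPoint ((Scheme.IdealSheafData.vanishingIdeal Zc).subschemeι.base
        (genericPoint ↥(Scheme.IdealSheafData.vanishingIdeal Zc).subscheme))
        (closure ((Scheme.IdealSheafData.vanishingIdeal Zc).subschemeι.base '' Set.univ)) :=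
      (genericPoint_spec _).image (Scheme.IdealSheafData.vanishingIdeal Zc).subschemeι.continuous
    rw [Set.image_univ, hrange, hZcl.closure_eq] at h1
    exact h1.eq hξ
  subst hgp
  subst hz₁
  have hE : EGA43.IsEquidimAt ((Scheme.IdealSheafData.vanishingIdeal Zc).subschemeι ≫ f) z₁ := by
    apply Groth.Agent.H72.OpenUO.isEquidimAt_of_irreducible _ z₁ m
    · rw [Scheme.Hom.comp_apply]; exact hfξ
    · rw [trdeg_residueField_preimmersion_comp]; exact hm2
    · rw [fibreDimAt_preimmersion_comp_eq f _ z₁]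
      have hset : Set.range (Scheme.IdealSheafData.vanishingIdeal Zc).subschemeι.base ∩
          f.base ⁻¹' {f.base ((Scheme.IdealSheafData.vanishingIdeal Zc).subschemeι.base z₁)} =
          Z ∩ f.base ⁻¹'
            {f.base ((Scheme.IdealSheafData.vanishingIdeal Zc).subschemeι.base z₁)} := by
        rw [hrange]
      rw [localDim_congr_set hset _ _ ⟨hz, rfl⟩, hdim]
  have h1 := Groth.Agent.H72.Chevalley.isUnivOpenAt_of_isEquidimAt
    ((Scheme.IdealSheafData.vanishingIdeal Zc).subschemeι ≫ f) z₁ hY hE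
  exact Groth.Agent.S4926.result _ f z₁ h1

set_option backward.isDefEq.respectTransparency.types false in
/-- d) ⇒ a) at a point: a quasi-finite dominant quasi-section through `x`, over a geometrically
unibranch point, forces universal openness at `x`. -/
theorem isUnivOpenAt_of_quasiSection {X Y : Scheme.{u}} [IrreducibleSpace Y]
    [IsLocallyNoetherian Y] (f : X ⟶ Y) (x : X)
    (hY : CAlg2.IsGeomUnibranch (Y.presheaf.stalk (f.base x)))
    (T : Scheme.{u}) (i : T ⟶ X) [IrreducibleSpace ↥T] (hx : x ∈ Set.range i.base)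
    [LocallyOfFiniteType (i ≫ f)] [LocallyQuasiFinite (i ≫ f)] [IsDominant (i ≫ f)] :
    IsUnivOpenAt f x := by
  obtain ⟨t, rfl⟩ := hx
  apply Groth.Agent.S4926.result i f t
  have hW : (Set.univ : Set Y) ∈ irreducibleComponents (Y : Type u) := by
    rw [irreducibleComponents_eq_singleton]; rfl
  have hgen : IsGenericPoint ((i ≫ f).base (genericPoint ↥T)) (Set.univ : Set Y) := by
    have h1 : IsGenericPoint ((i ≫ f).base (genericPoint ↥T))
        (closure ((i ≫ f).base '' Set.univ)) :=
      (genericPoint_spec ↥T).image (i ≫ f).continuous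
    rw [Set.image_univ, (Scheme.Hom.denseRange (i ≫ f)).closure_range] at h1
    exact h1
  exact Groth.Agent.H72.UnibranchUO.isUnivOpenAt_of_isGeomUnibranch (i ≫ f) t
    (genericPoint ↥T) hY ((genericPoint_spec ↥T).specializes (Set.mem_univ _)) Set.univ hW hgen

/-- Openness at the closed points of a fibre implies openness at all points of the fibre
(fibres are Jacobson spaces). -/
theorem isOpenAt_of_forall_closed {X Y : Scheme.{u}} (f : X ⟶ Y) [LocallyOfFiniteType f] (x : X)
    (H : ∀ x₀ : X, f.base x₀ = f.base x →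
      (∀ x' : X, f.base x' = f.base x → x₀ ⤳ x' → x' = x₀) → IsOpenAt f.base x₀) :
    IsOpenAt f.base x := by
  intro U hU
  obtain ⟨U', hU'U, hU'o, hxU'⟩ := mem_nhds_iff.mp hU
  have hZcl : IsClosed (closure ({f.asFiber x} : Set ↥(f.fiber (f.base x)))) := isClosed_closure
  have hJ := closure_inter_closedPoints hZcl
  have hVo : IsOpen ((f.fiberι (f.base x)).base ⁻¹' U') :=
    hU'o.preimage (f.fiberι (f.base x)).continuous
  have ha : f.asFiber x ∈ (f.fiberι (f.base x)).base ⁻¹' U' := by
    change (f.fiberι (f.base x)).base (f.asFiber x) ∈ U'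
    rw [f.fiberι_asFiber]; exact hxU'
  have ha' : f.asFiber x ∈ closure (closure ({f.asFiber x} : Set ↥(f.fiber (f.base x))) ∩
      closedPoints ↥(f.fiber (f.base x))) := by
    rw [hJ]; exact subset_closure rfl
  obtain ⟨b, hbV, hbZ, hbcl⟩ := mem_closure_iff.mp ha' _ hVo ha
  obtain ⟨x₀, hx₀⟩ : ∃ x₀, (f.fiberι (f.base x)).base b = x₀ := ⟨_, rfl⟩
  have hfx₀ : f.base x₀ = f.base x := by
    have : x₀ ∈ Set.range (f.fiberι (f.base x)).base := ⟨b, hx₀⟩
    rw [f.range_fiberι] at this
    exact this
  have hx₀U' : x₀ ∈ U' := by rw [← hx₀]; exact hbV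
  have hclosed : ∀ x' : X, f.base x' = f.base x → x₀ ⤳ x' → x' = x₀ := by
    intro x' hfx' hsp
    have hx'r : x' ∈ Set.range (f.fiberι (f.base x)).base := by
      rw [f.range_fiberι]; exact hfx'
    obtain ⟨b', rfl⟩ := hx'r
    have hbb' : b ⤳ b' := by
      apply (f.fiberι (f.base x)).isEmbedding.toIsInducing.specializes_iff.mp
      rw [hx₀]; exact hsp
    have hb'mem : b' ∈ closure ({b} : Set ↥(f.fiber (f.base x))) :=
      specializes_iff_mem_closure.mp hbb'
    have hbc : IsClosed ({b} : Set ↥(f.fiber (f.base x))) := hbcl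
    rw [hbc.closure_eq] at hb'mem
    rw [Set.mem_singleton_iff.mp hb'mem, hx₀]
  have h1 := H x₀ hfx₀ hclosed U' (hU'o.mem_nhds hx₀U')
  rw [hfx₀] at h1
  exact Filter.mem_of_superset h1 (Set.image_mono hU'U)

end Groth.Agent.H72.Chev45
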