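import Groth.Agent.H72.QuasiSection
import Groth.Agent.Lib.Helper24.UnivOpenAt

/-!
# b) ⇒ d) of EGA IV 14.5.? (S4945): quasi-sections through closed points of a fibre on which the
morphism is open

Library of helper72.
-/

set_option autoImplicit false

namespace Groth.Agent.H72.Chev45d

open CategoryTheory AlgebraicGeometry Limits EGA43 TopologicalSpace Topology
open Groth.Agent.Lib.Helper55

universe u

set_option backward.isDefEq.respectTransparency.types false in
/-- If `f` is open at all points of the fibre through `x`, and `x` is closed in its fibre, there is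
a quasi-finite dominant quasi-section through `x`. -/
theorem hasQuasiSection_of_isOpenAt {X Y : Scheme.{u}} [IrreducibleSpace Y]
    [IsLocallyNoetherian Y] (f : X ⟶ Y) [LocallyOfFiniteType f] (x : X)
    (hcl : ∀ x' : X, f.base x' = f.base x → x ⤳ x' → x' = x)
    (h : ∀ z : X, f.base z = f.base x → IsOpenAt f.base z) :
    Groth.Agent.H72.QuasiSection.HasQuasiSection f x := by
  obtain ⟨z, hfz, hzx, hzmax, n, hn, hFx, -, -⟩ := exists_maximal_point_fiber f x
  obtain ⟨ξ, d, hξmax, hξz, hfξ, htrξ, htrz, hfd⟩ :=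
    exists_dominant_maximal_point_of_isOpenAt f z (h z hfz)
      (fun w hw hwz => hzmax w (hw.trans hfz) hwz)
  have hnd : n = d := by
    have : ((n : ℕ) : Cardinal) = ((d : ℕ) : Cardinal) := by rw [← hn, ← htrz]
    exact_mod_cast this
  obtain ⟨Zc, hZc⟩ : ∃ Zc : TopologicalSpace.Closeds X, (Zc : Set X) = closure {ξ} :=
    ⟨⟨closure {ξ}, isClosed_closure⟩, rfl⟩
  have hrange : Set.range (Scheme.IdealSheafData.vanishingIdeal Zc).subschemeι.base =
      closure {ξ} := by
    rw [Scheme.IdealSheafData.range_subschemeι, Scheme.IdealSheafData.coe_support_vanishingIdeal,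
      hZc]
  have hirrZ : IsIrreducible
      (Set.range (Scheme.IdealSheafData.vanishingIdeal Zc).subschemeι.base) := by
    rw [hrange]; exact isIrreducible_singleton.closure
  haveI : IrreducibleSpace ↥(Scheme.IdealSheafData.vanishingIdeal Zc).subscheme :=
    irreducibleSpace_of_isEmbedding _
      (Scheme.IdealSheafData.vanishingIdeal Zc).subschemeι.isEmbedding hirrZ
  obtain ⟨x₁, hx₁⟩ : x ∈ Set.range (Scheme.IdealSheafData.vanishingIdeal Zc).subschemeι.base := by
    rw [hrange]; exact specializes_iff_mem_closure.mp (hξz.trans hzx)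
  have hgp : (Scheme.IdealSheafData.vanishingIdeal Zc).subschemeι.base
      (genericPoint ↥(Scheme.IdealSheafData.vanishingIdeal Zc).subscheme) = ξ := by
    have h1 : IsGenericPoint ((Scheme.IdealSheafData.vanishingIdeal Zc).subschemeι.base
        (genericPoint ↥(Scheme.IdealSheafData.vanishingIdeal Zc).subscheme))
        (closure ((Scheme.IdealSheafData.vanishingIdeal Zc).subschemeι.base '' Set.univ)) :=
      (genericPoint_spec _).image (Scheme.IdealSheafData.vanishingIdeal Zc).subschemeι.continuous
    rw [Set.image_univ, hrange, closure_closure] at h1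
    exact h1.eq (show IsGenericPoint ξ (closure {ξ}) from rfl)
  subst hgp
  subst hx₁
  have hE : EGA43.IsEquidimAt ((Scheme.IdealSheafData.vanishingIdeal Zc).subschemeι ≫ f) x₁ := by
    apply Groth.Agent.H72.OpenUO.isEquidimAt_of_irreducible _ x₁ d
    · rw [Scheme.Hom.comp_apply]; exact hfξ
    · rw [trdeg_residueField_preimmersion_comp]; exact htrξ
    · refine (fibreDimAt_preimmersion_comp_le f _ x₁).trans ?_
      rw [hFx, hnd]
  have hcl₁ : ∀ w' : ↥(Scheme.IdealSheafData.vanishingIdeal Zc).subscheme,
      ((Scheme.IdealSheafData.vanishingIdeal Zc).subschemeι ≫ f).base w' =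
        ((Scheme.IdealSheafData.vanishingIdeal Zc).subschemeι ≫ f).base x₁ →
      x₁ ⤳ w' → w' = x₁ := by
    intro w' hfw' hsp
    apply (Scheme.IdealSheafData.vanishingIdeal Zc).subschemeι.isEmbedding.injective
    apply hcl
    · rw [Scheme.Hom.comp_apply, Scheme.Hom.comp_apply] at hfw'
      exact hfw'
    · exact hsp.map (Scheme.IdealSheafData.vanishingIdeal Zc).subschemeι.continuous
  obtain ⟨T, i, h1, h2, h3, ⟨t, ht⟩, h5, h6, h7, h8⟩ :=
    Groth.Agent.H72.QuasiSection.hasQuasiSection
      ((Scheme.IdealSheafData.vanishingIdeal Zc).subschemeι ≫ f) x₁ hE hcl₁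
  refine ⟨T, i ≫ (Scheme.IdealSheafData.vanishingIdeal Zc).subschemeι, inferInstance, h2, h3,
    ⟨t, ?_⟩, ?_, ?_, ?_, ?_⟩
  · rw [Scheme.Hom.comp_apply, ht]
  · rw [Category.assoc]; exact h5
  · rw [Category.assoc]; exact h6
  · rw [Category.assoc]; exact h7
  · rw [Category.assoc]; exact h8

end Groth.Agent.H72.Chev45d
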