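import Groth.Agent.H72.UnibranchUO
import Groth.Agent.S4936
import Groth.Agent.S4925
import Groth.Agent.S4926

/-!
# Chevalley's criterion for universal openness (EGA IV 14.4.1), second half

Library of helper72.  If `f : X ⟶ Y` (locally of finite type, `Y` locally Noetherian) factors on a
neighbourhood `U` of `x` through a locally quasi-finite `Y`-morphism `g : U ⟶ 𝔸ᵉ_Y` mapping
irreducible components dominantly to irreducible components, and `Y` is geometrically unibranch at
`f x`, then `f` is universally open at `x`.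
-/

set_option autoImplicit false

namespace Groth.Agent.H72.Chevalley

open CategoryTheory AlgebraicGeometry Limits EGA43 TopologicalSpace Topology
open Groth.Agent.H72.UnibranchUO

universe u

/-- Affine space over `Y` is universally open over `Y`. -/
theorem universallyOpen_affineSpace (e : ℕ) (Y : Scheme.{u}) :
    UniversallyOpen (𝔸(ULift.{u} (Fin e); Y) ↘ Y) := by
  haveI : Smooth (𝔸(ULift.{u} (Fin e); Y) ↘ Y) :=
    Groth.Agent.Lib.Helper61.GU.smooth_affineSpace (ULift.{u} (Fin e)) Y
  infer_instance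

set_option backward.isDefEq.respectTransparency.types false in
/-- Second half of Chevalley's criterion. -/
theorem isUnivOpenAt_of_lqf_affineSpace {X Y : Scheme.{u}} [IsLocallyNoetherian Y] (f : X ⟶ Y)
    [LocallyOfFiniteType f] (x : X)
    (hY : CAlg2.IsGeomUnibranch (Y.presheaf.stalk (f.base x)))
    (e : ℕ) (U : X.Opens) (g : (U : Scheme.{u}) ⟶ 𝔸(ULift.{u} (Fin e); Y)) (hxU : x ∈ U)
    (hg : g ≫ (𝔸(ULift.{u} (Fin e); Y) ↘ Y) = U.ι ≫ f) (hqf : LocallyQuasiFinite g)
    (hcomp : ∀ Z ∈ irreducibleComponents (↥U : Type u),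
      closure (g.base '' Z) ∈ irreducibleComponents (↥𝔸(ULift.{u} (Fin e); Y) : Type u)) :
    IsUnivOpenAt f x := by
  haveI : LocallyOfFiniteType (g ≫ (𝔸(ULift.{u} (Fin e); Y) ↘ Y)) := by
    rw [hg]; infer_instance
  haveI : LocallyOfFiniteType g := locallyOfFiniteType_of_comp g (𝔸(ULift.{u} (Fin e); Y) ↘ Y)
  haveI : Smooth (𝔸(ULift.{u} (Fin e); Y) ↘ Y) :=
    Groth.Agent.Lib.Helper61.GU.smooth_affineSpace (ULift.{u} (Fin e)) Y
  haveI : IsLocallyNoetherian 𝔸(ULift.{u} (Fin e); Y) :=
    LocallyOfFiniteType.isLocallyNoetherian (𝔸(ULift.{u} (Fin e); Y) ↘ Y)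
  let x' : (U : Scheme.{u}) := ⟨x, hxU⟩
  have hx' : U.ι.base x' = x := rfl
  -- the generic point of a component through `x'`
  have hZ : irreducibleComponent x' ∈ irreducibleComponents (↥U : Type u) :=
    irreducibleComponent_mem_irreducibleComponents x'
  have hirr : IsIrreducible (irreducibleComponent x') := isIrreducible_irreducibleComponent
  have hcl : IsClosed (irreducibleComponent x') := isClosed_irreducibleComponent
  let ξ := hirr.genericPoint
  have hξ : IsGenericPoint ξ (irreducibleComponent x') := by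
    have := hirr.isGenericPoint_genericPoint_closure
    rwa [hcl.closure_eq] at this
  have hξx : ξ ⤳ x' := by
    rw [specializes_iff_mem_closure, hξ.def]
    exact mem_irreducibleComponent
  have hξW : IsGenericPoint (g.base ξ) (closure (g.base '' irreducibleComponent x')) :=
    hξ.image g.continuous
  -- the local ring of the affine space
  have hpt : f.base x = (𝔸(ULift.{u} (Fin e); Y) ↘ Y).base (g.base x') := by
    rw [← Scheme.Hom.comp_apply, hg, Scheme.Hom.comp_apply, hx']
  rw [hpt] at hY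
  have hstalk := Groth.Agent.S4936.result e (g.base x') hY
  have h5 : IsUnivOpenAt g x' :=
    isUnivOpenAt_of_isGeomUnibranch g x' ξ hstalk hξx _ (hcomp _ hZ) hξW
  have h6 : IsUnivOpenAt (𝔸(ULift.{u} (Fin e); Y) ↘ Y) (g.base x') :=
    (UODvr.universallyOpen_iff_forall_isUnivOpenAt _).mp (universallyOpen_affineSpace e Y) _
  have h7 := Groth.Agent.S4925.result g (𝔸(ULift.{u} (Fin e); Y) ↘ Y) x' h5 h6
  rw [hg] at h7
  exact Groth.Agent.S4926.result U.ι f x' h7

/-- Chevalley's criterion, given the quasi-finite factorizations through affine spaces. -/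
theorem universallyOpen_of_forall_exists_lqf {X Y : Scheme.{u}} [IsLocallyNoetherian Y]
    (hY : ∀ y : Y, CAlg2.IsGeomUnibranch (Y.presheaf.stalk y)) (f : X ⟶ Y) [LocallyOfFiniteType f]
    (H : ∀ x : X, ∃ (e : ℕ) (U : X.Opens) (g : (U : Scheme.{u}) ⟶ 𝔸(ULift.{u} (Fin e); Y)),
        x ∈ U ∧ g ≫ (𝔸(ULift.{u} (Fin e); Y) ↘ Y) = U.ι ≫ f ∧ LocallyQuasiFinite g ∧
        ∀ Z ∈ irreducibleComponents (↥U : Type u),
          closure (g.base '' Z) ∈ irreducibleComponents (↥𝔸(ULift.{u} (Fin e); Y) : Type u)) :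
    UniversallyOpen f := by
  rw [UODvr.universallyOpen_iff_forall_isUnivOpenAt]
  intro x
  obtain ⟨e, U, g, hxU, hg, hqf, hcomp⟩ := H x
  exact isUnivOpenAt_of_lqf_affineSpace f x (hY _) e U g hxU hg hqf hcomp

end Groth.Agent.H72.Chevalley
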