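import Groth.Agent.H72.UnibranchUO2
import Groth.Agent.S4936
import Groth.Agent.S4925
import Groth.Agent.S4926
import Groth.Agent.S3386
import Groth.Agent.H72.Chevalley

/-!
# Chevalley's criterion for universal openness without Noetherian hypotheses

Library of helper72.  Over a base with finitely many irreducible components, a morphism locally of
finite type which is equidimensional at `x`, with `f x` a geometrically unibranch point, is
universally open at `x` (EGA IV 14.4.1 in the form used by Suslin–Voevodsky).
-/

set_option autoImplicit false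

namespace Groth.Agent.H72.Chevalley2

open CategoryTheory AlgebraicGeometry Limits EGA43 TopologicalSpace Topology

universe u

/-- In a space with finitely many irreducible components, a point lying on a unique irreducible
component has that component as a neighbourhood. -/
theorem mem_nhds_of_unique_component {T : Type*} [TopologicalSpace T]
    (hfin : (irreducibleComponents T).Finite) (t : T) (W : Set T)
    (hW : W ∈ irreducibleComponents T)
    (huniq : ∀ Z ∈ irreducibleComponents T, t ∈ Z → Z = W) : W ∈ 𝓝 t := by
  have hcl : IsClosed (⋃ Z ∈ irreducibleComponents T \ {W}, Z) := by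
    apply Set.Finite.isClosed_biUnion (hfin.subset Set.diff_subset)
    intro Z hZ
    exact isClosed_of_mem_irreducibleComponents Z hZ.1
  have ht : t ∈ (⋃ Z ∈ irreducibleComponents T \ {W}, Z)ᶜ := by
    intro h
    obtain ⟨Z, ⟨hZ, hne⟩, htZ⟩ := Set.mem_iUnion₂.mp h
    exact hne (huniq Z hZ htZ)
  refine Filter.mem_of_superset (hcl.isOpen_compl.mem_nhds ht) ?_
  intro s hs
  by_contra hsW
  apply hs
  refine Set.mem_iUnion₂.mpr ⟨irreducibleComponent s,
    ⟨irreducibleComponent_mem_irreducibleComponents s, ?_⟩, mem_irreducibleComponent⟩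
  intro h
  rw [Set.mem_singleton_iff] at h
  exact hsW (h ▸ mem_irreducibleComponent)

/-- If the nilradical of the stalk at `y` is prime, `y` lies on a unique irreducible component. -/
theorem irreducibleComponent_unique_of_isPrime_nilradical (X : Scheme.{u}) (y : X)
    (hnp : (nilradical (X.presheaf.stalk y)).IsPrime) (Z₁ Z₂ : Set X)
    (h₁ : Z₁ ∈ irreducibleComponents X) (h₂ : Z₂ ∈ irreducibleComponents X) (hy₁ : y ∈ Z₁)
    (hy₂ : y ∈ Z₂) : Z₁ = Z₂ := by
  let ξ : PrimeSpectrum (X.presheaf.stalk y) := ⟨nilradical _, hnp⟩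
  suffices H : ∀ Z ∈ irreducibleComponents X, y ∈ Z → Z = closure {(X.fromSpecStalk y).base ξ} by
    rw [H Z₁ h₁ hy₁, H Z₂ h₂ hy₂]
  intro Z hZ hyZ
  have hZirr : IsIrreducible Z := hZ.1
  have hZcl : IsClosed Z := isClosed_of_mem_irreducibleComponents Z hZ
  obtain ⟨g, hg⟩ := QuasiSober.sober hZirr hZcl
  have hgy : g ⤳ y := by
    rw [specializes_iff_mem_closure, hg.def]; exact hyZ
  obtain ⟨P, hP⟩ : g ∈ Set.range (X.fromSpecStalk y).base := by
    rw [Scheme.range_fromSpecStalk]; exact hgy
  have hηg : (X.fromSpecStalk y).base ξ ⤳ g := by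
    rw [← hP]
    exact ((PrimeSpectrum.le_iff_specializes ξ P).mp (nilradical_le_prime P.asIdeal)).map
      (X.fromSpecStalk y).continuous
  have hsub : Z ⊆ closure {(X.fromSpecStalk y).base ξ} := by
    rw [← hg.def]
    exact closure_minimal (Set.singleton_subset_iff.mpr (specializes_iff_mem_closure.mp hηg))
      isClosed_closure
  exact hZ.eq_of_subset isIrreducible_singleton.closure hsub

/-- Affine space over a scheme with finitely many irreducible components has finitely many
irreducible components. -/
theorem finite_irreducibleComponents_affineSpace (n : Type u) (Y : Scheme.{u})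
    (hfin : (irreducibleComponents (Y : Type u)).Finite) :
    (irreducibleComponents (↥𝔸(n; Y) : Type u)).Finite := by
  have e := Scheme.Hom.irreducibleComponentsEquiv (𝔸(n; Y) ↘ Y) (AffineSpace.isOpenMap_over Y)
  haveI : Finite (irreducibleComponents (Y : Type u)) := hfin
  exact Set.finite_coe_iff.mp (Finite.of_equiv _ e.symm)

set_option backward.isDefEq.respectTransparency.types false in
/-- Second half of Chevalley's criterion, without Noetherian hypotheses. -/
theorem isUnivOpenAt_of_lqf_affineSpace {X Y : Scheme.{u}}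
    (hfin : (irreducibleComponents (Y : Type u)).Finite) (f : X ⟶ Y)
    [LocallyOfFiniteType f] (x : X)
    (hY : CAlg2.IsGeomUnibranch (Y.presheaf.stalk (f.base x)))
    (e : ℕ) (U : X.Opens) (g : (U : Scheme.{u}) ⟶ 𝔸(ULift.{u} (Fin e); Y)) (hxU : x ∈ U)
    (hg : g ≫ (𝔸(ULift.{u} (Fin e); Y) ↘ Y) = U.ι ≫ f) (hqf : LocallyQuasiFinite g)
    (hcomp : ∀ Z ∈ irreducibleComponents (↥U : Type u),
      closure (g.base '' Z) ∈ irreducibleComponents (↥𝔸(ULift.{u} (Fin e); Y) : Type u)) :
    IsUnivOpenAt f x := by
  haveI : LocallyOfFiniteType (g ≫ (𝔸(ULift.{u} (Fin e); Y) ↘ Y)) := by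
    rw [hg]; infer_instance
  haveI : LocallyOfFiniteType g := locallyOfFiniteType_of_comp g (𝔸(ULift.{u} (Fin e); Y) ↘ Y)
  let x' : (U : Scheme.{u}) := ⟨x, hxU⟩
  have hx' : U.ι.base x' = x := rfl
  -- the generic point of a component through `x'`
  have hZ : irreducibleComponent x' ∈ irreducibleComponents (↥U : Type u) :=
    irreducibleComponent_mem_irreducibleComponents x'
  have hirr : IsIrreducible (irreducibleComponent x') := isIrreducible_irreducibleComponent
  have hcl : IsClosed (irreducibleComponent x') := isClosed_irreducibleComponent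
  let ξ := hirr.genericPoint
  have hξ : IsGenericPoint ξ (irreducibleComponent x') := by
    have := hirr.isGenericPoint_genericPoint_closure
    rwa [hcl.closure_eq] at this
  have hξx : ξ ⤳ x' := by
    rw [specializes_iff_mem_closure, hξ.def]
    exact mem_irreducibleComponent
  have hξW : IsGenericPoint (g.base ξ) (closure (g.base '' irreducibleComponent x')) :=
    hξ.image g.continuous
  -- the local ring of the affine space
  have hpt : f.base x = (𝔸(ULift.{u} (Fin e); Y) ↘ Y).base (g.base x') := by
    rw [← Scheme.Hom.comp_apply, hg, Scheme.Hom.comp_apply, hx']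
  rw [hpt] at hY
  have hstalk := Groth.Agent.S4936.result e (g.base x') hY
  haveI : IsDomain (CAlg2.red ((𝔸(ULift.{u} (Fin e); Y)).presheaf.stalk (g.base x'))) :=
    hstalk.1.1
  have hnp : (nilradical ((𝔸(ULift.{u} (Fin e); Y)).presheaf.stalk (g.base x'))).IsPrime :=
    (Ideal.Quotient.isDomain_iff_prime _).mp inferInstance
  have hW := hcomp _ hZ
  have hxW : g.base x' ∈ closure (g.base '' irreducibleComponent x') :=
    subset_closure ⟨x', mem_irreducibleComponent, rfl⟩
  have hnhd : closure {g.base ξ} ∈ 𝓝 (g.base x') := by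
    rw [hξW.def]
    apply mem_nhds_of_unique_component
      (finite_irreducibleComponents_affineSpace (ULift.{u} (Fin e)) Y hfin) _ _ hW
    intro Z hZ' hxZ
    exact irreducibleComponent_unique_of_isPrime_nilradical _ _ hnp Z _ hZ' hW hxZ hxW
  have h5 : IsUnivOpenAt g x' :=
    UnibranchUO2.isUnivOpenAt_of_isGeomUnibranch g x' ξ hstalk hξx hnhd
  have h6 : IsUnivOpenAt (𝔸(ULift.{u} (Fin e); Y) ↘ Y) (g.base x') :=
    (UODvr.universallyOpen_iff_forall_isUnivOpenAt _).mp
      (Groth.Agent.H72.Chevalley.universallyOpen_affineSpace e Y) _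
  have h7 := Groth.Agent.S4925.result g (𝔸(ULift.{u} (Fin e); Y) ↘ Y) x' h5 h6
  rw [hg] at h7
  exact Groth.Agent.S4926.result U.ι f x' h7

/-- **Chevalley's criterion, pointwise, without Noetherian hypotheses**: over a base with
finitely many irreducible components, a morphism locally of finite type which is equidimensional
at `x`, with `f x` a geometrically unibranch point, is universally open at `x`. -/
theorem isUnivOpenAt_of_isEquidimAt {X Y : Scheme.{u}}
    (hfin : (irreducibleComponents (Y : Type u)).Finite) (f : X ⟶ Y)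
    [LocallyOfFiniteType f] (x : X)
    (hY : CAlg2.IsGeomUnibranch (Y.presheaf.stalk (f.base x)))
    (h : EGA43.IsEquidimAt f x) : IsUnivOpenAt f x := by
  obtain ⟨e, U, g, hxU, hg, hqf, hcomp⟩ := (Groth.Agent.S3386.result f x).1 h
  exact isUnivOpenAt_of_lqf_affineSpace hfin f x hY e U g hxU hg hqf hcomp

end Groth.Agent.H72.Chevalley2
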