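import Groth.Agent.H72.Chevalley
import Groth.Agent.S3386

/-!
# Chevalley's criterion for universal openness, pointwise form (EGA IV 14.4.1)

Library of helper72.
-/

set_option autoImplicit false

namespace Groth.Agent.H72.Chevalley

open CategoryTheory AlgebraicGeometry Limits EGA43 TopologicalSpace Topology

universe u

/-- **Chevalley's criterion, pointwise**: over a locally Noetherian base, a morphism locally of
finite type which is equidimensional at `x`, with `f x` a geometrically unibranch point, is
universally open at `x`. -/
theorem isUnivOpenAt_of_isEquidimAt {X Y : Scheme.{u}} [IsLocallyNoetherian Y] (f : X ⟶ Y)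
    [LocallyOfFiniteType f] (x : X)
    (hY : CAlg2.IsGeomUnibranch (Y.presheaf.stalk (f.base x)))
    (h : EGA43.IsEquidimAt f x) : IsUnivOpenAt f x := by
  obtain ⟨e, U, g, hxU, hg, hqf, hcomp⟩ := (Groth.Agent.S3386.result f x).1 h
  exact isUnivOpenAt_of_lqf_affineSpace f x hY e U g hxU hg hqf hcomp

end Groth.Agent.H72.Chevalley
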