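import Groth.Agent.Lib.Helper3.QFLocal

/-!
# Quasi-finite points over a Henselian local ring: the local ring is a finite quotient

Library of helper72.
-/

set_option autoImplicit false

namespace Groth.Agent.H72.HensQF

open IsLocalRing Groth.Agent.Lib.Helper3

universe u

/-- Over a Henselian local ring `R`, for a finite type algebra `S` and a prime `q` over the
maximal ideal at which `S` is quasi-finite, the localization `S_q` is a quotient of `S`. -/
theorem algebraMap_localization_surjective_of_quasiFiniteAt (R : Type u) [CommRing R]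
    [HenselianLocalRing R] (S : Type u) [CommRing S] [Algebra R S] [Algebra.FiniteType R S]
    (q : Ideal S) [q.IsPrime] (hover : q.LiesOver (maximalIdeal R))
    (hqf : Algebra.QuasiFiniteAt R q) :
    Function.Surjective (algebraMap S (Localization.AtPrime q)) := by
  obtain ⟨e, he, hfin, hno⟩ := exists_idempotent_split_of_finiteType R S
  have hee : e * (1 - e) = 0 := by rw [mul_sub, mul_one, he.eq, sub_self]
  -- `e ∉ q`
  have heq : e ∉ q := by
    intro heq
    have hker : RingHom.ker (Ideal.Quotient.mk (Ideal.span ({e} : Set S))) ≤ q := by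
      rw [Ideal.mk_ker, Ideal.span_le]
      simpa using heq
    let q' : Ideal (S ⧸ Ideal.span ({e} : Set S)) := q.map (Ideal.Quotient.mk _)
    have hq'p : q'.IsPrime :=
      Ideal.map_isPrime_of_surjective Ideal.Quotient.mk_surjective hker
    have hcomap : q = q'.comap (Ideal.Quotient.mk (Ideal.span ({e} : Set S))) := by
      rw [Ideal.comap_map_of_surjective _ Ideal.Quotient.mk_surjective, ← RingHom.ker_eq_comap_bot,
        sup_eq_left.mpr hker]
    have hover' : q'.LiesOver (maximalIdeal R) := by
      constructor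
      have h1 : q'.under R = q.under R := by
        change Ideal.comap (algebraMap R (S ⧸ Ideal.span ({e} : Set S))) q' = _
        rw [show algebraMap R (S ⧸ Ideal.span ({e} : Set S)) =
          (Ideal.Quotient.mk _).comp (algebraMap R S) from rfl, ← Ideal.comap_comap, ← hcomap]
      rw [h1]
      exact hover.over
    have hqf' : Algebra.QuasiFiniteAt R q' :=
      Algebra.QuasiFiniteAt.of_surjectiveOnStalks q (Ideal.Quotient.mkₐ R _)
        (RingHom.surjectiveOnStalks_of_surjective Ideal.Quotient.mk_surjective) q' hcomap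
    exact hno q' hover' hqf'
  have h1eq : 1 - e ∈ q := by
    have : e * (1 - e) ∈ q := hee ▸ zero_mem _
    exact ((‹q.IsPrime›).mem_or_mem this).resolve_left heq
  have hker : RingHom.ker (Ideal.Quotient.mk (Ideal.span ({1 - e} : Set S))) ≤ q := by
    rw [Ideal.mk_ker, Ideal.span_le]
    simpa using h1eq
  obtain ⟨q₁, hq₁⟩ : ∃ q₁ : Ideal (S ⧸ Ideal.span ({1 - e} : Set S)),
      q₁ = q.map (Ideal.Quotient.mk _) := ⟨_, rfl⟩
  have hq₁p : q₁.IsPrime := by
    rw [hq₁]; exact Ideal.map_isPrime_of_surjective Ideal.Quotient.mk_surjective hker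
  have hcomap : q = q₁.comap (Ideal.Quotient.mk (Ideal.span ({1 - e} : Set S))) := by
    rw [hq₁, Ideal.comap_map_of_surjective _ Ideal.Quotient.mk_surjective,
      ← RingHom.ker_eq_comap_bot, sup_eq_left.mpr hker]
  have hint : Algebra.IsIntegral R (S ⧸ Ideal.span ({1 - e} : Set S)) :=
    Algebra.IsIntegral.of_finite R _
  have hq₁max : q₁.IsMaximal := by
    apply Ideal.isMaximal_of_isIntegral_of_isMaximal_comap (R := R) q₁
    have h1 : q₁.comap (algebraMap R (S ⧸ Ideal.span ({1 - e} : Set S))) = q.under R := by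
      rw [show algebraMap R (S ⧸ Ideal.span ({1 - e} : Set S)) =
        (Ideal.Quotient.mk _).comp (algebraMap R S) from rfl, ← Ideal.comap_comap, ← hcomap]
    rw [h1, ← hover.over]
    exact maximalIdeal.isMaximal R
  have hsurj := algebraMap_localization_surjective_of_finite R
    (S ⧸ Ideal.span ({1 - e} : Set S)) q₁
  -- transfer
  intro x
  obtain ⟨a, s, rfl⟩ := IsLocalization.exists_mk'_eq q.primeCompl x
  have hs₁ : Ideal.Quotient.mk (Ideal.span ({1 - e} : Set S)) s.1 ∈ q₁.primeCompl := by
    intro h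
    have hsq : s.1 ∉ q := s.2
    apply hsq
    have h' : s.1 ∈ q₁.comap (Ideal.Quotient.mk (Ideal.span ({1 - e} : Set S))) := h
    rwa [← hcomap] at h'
  obtain ⟨b₁, hb₁⟩ := hsurj (IsLocalization.mk' (Localization.AtPrime q₁)
    (Ideal.Quotient.mk (Ideal.span ({1 - e} : Set S)) a)
    ⟨Ideal.Quotient.mk (Ideal.span ({1 - e} : Set S)) s.1, hs₁⟩)
  rw [IsLocalization.eq_mk'_iff_mul_eq, ← map_mul,
    IsLocalization.eq_iff_exists q₁.primeCompl] at hb₁
  obtain ⟨c₁, hc₁⟩ := hb₁
  obtain ⟨b, rfl⟩ := Ideal.Quotient.mk_surjective b₁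
  obtain ⟨c, hc⟩ := Ideal.Quotient.mk_surjective c₁.1
  have hcq : c ∉ q := by
    intro h
    have hc₁q : c₁.1 ∉ q₁ := c₁.2
    apply hc₁q
    rw [← hc]
    have h' : c ∈ q₁.comap (Ideal.Quotient.mk (Ideal.span ({1 - e} : Set S))) := by
      rw [← hcomap]; exact h
    exact h'
  have h2 : c * (b * s.1 - a) ∈ Ideal.span ({1 - e} : Set S) := by
    rw [← Ideal.Quotient.eq_zero_iff_mem, map_mul, map_sub, map_mul, hc, mul_sub, sub_eq_zero]
    exact hc₁
  obtain ⟨r, hr⟩ := Ideal.mem_span_singleton'.mp h2
  have h3 : e * c * (b * s.1 - a) = 0 := by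
    have : e * c * (b * s.1 - a) = r * (e * (1 - e)) := by
      rw [mul_assoc e c, ← hr]; ring
    rw [this, hee, mul_zero]
  have hu : IsUnit (algebraMap S (Localization.AtPrime q) (e * c)) :=
    IsLocalization.map_units (Localization.AtPrime q)
      (⟨e * c, fun h => (‹q.IsPrime›.mem_or_mem h).elim heq hcq⟩ : q.primeCompl)
  refine ⟨b, ?_⟩
  rw [IsLocalization.eq_mk'_iff_mul_eq, ← map_mul]
  have h4 : algebraMap S (Localization.AtPrime q) (e * c) *
      (algebraMap S (Localization.AtPrime q) (b * s.1) -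
        algebraMap S (Localization.AtPrime q) a) = 0 := by
    rw [← map_sub, ← map_mul, h3, map_zero]
  exact sub_eq_zero.mp (hu.mul_right_eq_zero.mp h4)

end Groth.Agent.H72.HensQF
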