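import Groth.Agent.H72.QuasiSection
import Groth.Agent.H72.HensQF

/-!
# Finite local multisections over a complete local domain (EGA IV 14.5.?, S4974)

Library of helper72.
-/

set_option autoImplicit false

namespace Groth.Agent.H72.CompleteSection

open CategoryTheory AlgebraicGeometry Limits EGA43 TopologicalSpace Topology IsLocalRing

universe u

set_option backward.isDefEq.respectTransparency.types false in
/-- A quasi-finite quasi-section over a Henselian local domain contains a finite local one. -/
theorem exists_finite_local {A : Type u} [CommRing A] [IsDomain A] [HenselianLocalRing A]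
    {X T : Scheme.{u}} (f : X ⟶ Spec (CommRingCat.of A)) (i : T ⟶ X) [IsImmersion i]
    [IrreducibleSpace ↥T] [IsReduced T] [LocallyOfFiniteType (i ≫ f)]
    [LocallyQuasiFinite (i ≫ f)] [IsDominant (i ≫ f)] (t : T)
    (ht : f.base (i.base t) = closedPoint A) :
    ∃ (A' : Type u) (_ : CommRing A') (_ : IsDomain A') (_ : IsLocalRing A') (_ : Algebra A A')
      (_ : Module.Finite A A'),
      Function.Injective (algebraMap A A') ∧
      ∃ h : Spec (CommRingCat.of A') ⟶ X,
        h ≫ f = Spec.map (CommRingCat.ofHom (algebraMap A A')) ∧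
        IsImmersion h ∧ i.base t ∈ Set.range h.base := by
  haveI : IsIntegral T := isIntegral_of_irreducibleSpace_of_isReduced T
  obtain ⟨U, hU, htU, -⟩ := exists_isAffineOpen_mem_and_subset (x := t) (U := ⊤) trivial
  haveI : Nonempty ↥(U : Scheme.{u}) := ⟨⟨t, htU⟩⟩
  haveI : IsDomain Γ(T, U) := IsIntegral.component_integral U
  obtain ⟨φ, hφ⟩ : ∃ φ : CommRingCat.of A ⟶ Γ(T, U), Spec.map φ = hU.fromSpec ≫ i ≫ f :=
    ⟨Spec.preimage _, Spec.map_preimage _⟩
  have hlft : LocallyOfFiniteType (Spec.map φ) := by rw [hφ]; infer_instance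
  have hlqf : LocallyQuasiFinite (Spec.map φ) := by rw [hφ]; infer_instance
  have hft : φ.hom.FiniteType := (HasRingHomProperty.Spec_iff (P := @LocallyOfFiniteType)).mp hlft
  have hqf : φ.hom.QuasiFinite := (HasRingHomProperty.Spec_iff (P := @LocallyQuasiFinite)).mp hlqf
  letI : Algebra A Γ(T, U) := φ.hom.toAlgebra
  haveI : Algebra.FiniteType A Γ(T, U) := hft
  haveI : Algebra.QuasiFinite A Γ(T, U) := hqf
  obtain ⟨q, hq⟩ : ∃ q : PrimeSpectrum Γ(T, U), q = hU.primeIdealOf ⟨t, htU⟩ := ⟨_, rfl⟩
  have hqt : hU.fromSpec.base q = t := by rw [hq]; exact hU.fromSpec_primeIdealOf ⟨t, htU⟩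
  haveI : q.asIdeal.IsPrime := q.2
  have hover : q.asIdeal.LiesOver (maximalIdeal A) := by
    constructor
    have h1 : (Spec.map φ).base q = closedPoint A := by
      rw [hφ, Scheme.Hom.comp_apply, Scheme.Hom.comp_apply, hqt, ht]
    have h2 := congrArg PrimeSpectrum.asIdeal h1
    exact h2.symm
  have hqfa : Algebra.QuasiFiniteAt A q.asIdeal := inferInstance
  have hfin := Groth.Agent.Lib.Helper3.finite_localization_of_quasiFiniteAt A Γ(T, U) q.asIdeal
    hover hqfa
  have hsurj := Groth.Agent.H72.HensQF.algebraMap_localization_surjective_of_quasiFiniteAt A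
    Γ(T, U) q.asIdeal hover hqfa
  have hinjS : Function.Injective (algebraMap Γ(T, U) (Localization.AtPrime q.asIdeal)) :=
    IsLocalization.injective _ (Ideal.primeCompl_le_nonZeroDivisors q.asIdeal)
  haveI : IsDomain (Localization.AtPrime q.asIdeal) :=
    IsLocalization.isDomain_localization (Ideal.primeCompl_le_nonZeroDivisors q.asIdeal)
  -- injectivity of `φ`
  have hinjφ : Function.Injective φ.hom := by
    have hdom : IsDominant (Spec.map φ) := by
      rw [hφ]
      haveI : IsDominant hU.fromSpec := by
        constructor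
        rw [DenseRange, hU.range_fromSpec]
        exact U.2.dense ⟨t, htU⟩
      infer_instance
    have hd : DenseRange (PrimeSpectrum.comap φ.hom) := (Spec.map φ).denseRange
    rw [PrimeSpectrum.denseRange_comap_iff_ker_le_nilRadical] at hd
    rw [injective_iff_map_eq_zero]
    intro a ha
    have : a ∈ nilradical A := hd ha
    rwa [nilradical_eq_zero, Ideal.zero_eq_bot, Ideal.mem_bot] at this
  refine ⟨Localization.AtPrime q.asIdeal, inferInstance, inferInstance, inferInstance,
    inferInstance, hfin, ?_, ?_⟩
  · rw [IsScalarTower.algebraMap_eq A Γ(T, U) (Localization.AtPrime q.asIdeal)]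
    exact hinjS.comp hinjφ
  · refine ⟨Spec.map (CommRingCat.ofHom (algebraMap Γ(T, U) (Localization.AtPrime q.asIdeal))) ≫
      hU.fromSpec ≫ i, ?_, ?_, ?_⟩
    · rw [Category.assoc, Category.assoc, ← hφ, ← Spec.map_comp]
      congr 1
    · haveI : IsClosedImmersion (Spec.map (CommRingCat.ofHom
          (algebraMap Γ(T, U) (Localization.AtPrime q.asIdeal)))) :=
        IsClosedImmersion.spec_of_surjective _ hsurj
      infer_instance
    · refine ⟨closedPoint (Localization.AtPrime q.asIdeal), ?_⟩
      rw [Scheme.Hom.comp_apply, Scheme.Hom.comp_apply]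
      have h1 : (Spec.map (CommRingCat.ofHom
          (algebraMap Γ(T, U) (Localization.AtPrime q.asIdeal)))).base
          (closedPoint (Localization.AtPrime q.asIdeal)) = q := by
        apply PrimeSpectrum.ext
        exact IsLocalization.AtPrime.under_maximalIdeal (Localization.AtPrime q.asIdeal) q.asIdeal
      rw [h1, hqt]

end Groth.Agent.H72.CompleteSection
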