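import Groth.Agent.H72.OpenAt

/-!
# Universal openness at a point: reduction to base changes of finite type

Library of helper72.
-/

set_option autoImplicit false

namespace Groth.Agent.H72.UOLimit

open CategoryTheory AlgebraicGeometry Limits EGA43 PrimeSpectrum TopologicalSpace Topology
open TensorProduct
open Groth.Agent.H72.OpenAt

universe u

section Ring

theorem exists_compositum {κ k₀ k' : Type u} [Field κ] [Field k₀] [Field k'] (f₁ : κ →+* k₀)
    (f₂ : κ →+* k') :
    ∃ (L : Type u) (_ : Field L) (g₁ : k₀ →+* L) (g₂ : k' →+* L), g₁.comp f₁ = g₂.comp f₂ := by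
  letI := f₁.toAlgebra
  letI := f₂.toAlgebra
  haveI : Nontrivial (k₀ ⊗[κ] k') :=
    Algebra.TensorProduct.nontrivial_of_algebraMap_injective_of_flat_left (R := κ) k₀ k'
      (algebraMap κ k').injective
  obtain ⟨M, hM⟩ := Ideal.exists_maximal (k₀ ⊗[κ] k')
  letI := Ideal.Quotient.field M
  refine ⟨(k₀ ⊗[κ] k') ⧸ M, inferInstance,
    (Ideal.Quotient.mk M).comp Algebra.TensorProduct.includeLeftRingHom,
    (Ideal.Quotient.mk M).comp
      (Algebra.TensorProduct.includeRight (R := κ) (A := k₀) (B := k')).toRingHom, ?_⟩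
  ext a
  simp only [RingHom.coe_comp, Function.comp_apply, Algebra.TensorProduct.includeLeftRingHom_apply,
    AlgHom.toRingHom_eq_coe, RingHom.coe_coe, Algebra.TensorProduct.includeRight_apply]
  congr 1
  change (algebraMap κ k₀ a) ⊗ₜ[κ] (1 : k') = (1 : k₀) ⊗ₜ[κ] (algebraMap κ k' a)
  rw [Algebra.algebraMap_eq_smul_one, Algebra.algebraMap_eq_smul_one (A := k'),
    TensorProduct.smul_tmul]

variable {R P B R' : Type u} [CommRing R] [CommRing P] [CommRing B] [CommRing R']
  [Algebra R P] [Algebra R B] [Algebra R R']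

/-- Points of `Spec (R' ⊗ B)` surject onto pairs of compatible points of `Spec (P ⊗ B)` and
`Spec R'` over `Spec P`. -/
theorem exists_prime_tensor (θ : P →ₐ[R] R') (q₀ : PrimeSpectrum (P ⊗[R] B))
    (p' : PrimeSpectrum R')
    (h : comap (algebraMap P (P ⊗[R] B)) q₀ = comap θ.toRingHom p') :
    ∃ Q : PrimeSpectrum (R' ⊗[R] B),
      comap (Algebra.TensorProduct.map θ (AlgHom.id R B)).toRingHom Q = q₀ ∧
      comap (algebraMap R' (R' ⊗[R] B)) Q = p' := by
  let p₀ : PrimeSpectrum P := comap θ.toRingHom p'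
  have h1 : p₀.asIdeal = q₀.asIdeal.comap (algebraMap P (P ⊗[R] B)) := by
    have := congrArg PrimeSpectrum.asIdeal h
    exact this.symm
  let f₁ := Ideal.ResidueField.map p₀.asIdeal q₀.asIdeal (algebraMap P (P ⊗[R] B)) h1
  let f₂ := Ideal.ResidueField.map p₀.asIdeal p'.asIdeal θ.toRingHom rfl
  obtain ⟨L, _, g₁, g₂, hg⟩ := exists_compositum f₁ f₂
  let a₂ : R' →+* L := g₂.comp (algebraMap R' p'.asIdeal.ResidueField)
  let a₁ : B →+* L := (g₁.comp (algebraMap (P ⊗[R] B) q₀.asIdeal.ResidueField)).comp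
    (Algebra.TensorProduct.includeRight (R := R) (A := P) (B := B)).toRingHom
  have key : ∀ p : P, g₁ (algebraMap (P ⊗[R] B) q₀.asIdeal.ResidueField
      (algebraMap P (P ⊗[R] B) p)) = g₂ (algebraMap R' p'.asIdeal.ResidueField (θ p)) := by
    intro p
    have e1 : f₁ (algebraMap P p₀.asIdeal.ResidueField p) =
        algebraMap _ _ (algebraMap P (P ⊗[R] B) p) :=
      Ideal.ResidueField.map_algebraMap _ _ _ h1 p
    have e2 : f₂ (algebraMap P p₀.asIdeal.ResidueField p) = algebraMap _ _ (θ p) :=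
      Ideal.ResidueField.map_algebraMap _ _ _ rfl p
    rw [← e1, ← e2]
    exact congrArg (fun φ : _ →+* L => φ (algebraMap P p₀.asIdeal.ResidueField p)) hg
  letI : Algebra R L := (a₂.comp (algebraMap R R')).toAlgebra
  have hcomm : ∀ r : R, a₁ (algebraMap R B r) = a₂ (algebraMap R R' r) := by
    intro r
    have e3 : (1 : P) ⊗ₜ[R] (algebraMap R B r) = algebraMap P (P ⊗[R] B) (algebraMap R P r) := by
      rw [Algebra.TensorProduct.algebraMap_apply, Algebra.algebraMap_self, RingHom.id_apply]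
      exact (Algebra.TensorProduct.tmul_one_eq_one_tmul r).symm
    change g₁ (algebraMap _ _ ((1 : P) ⊗ₜ[R] (algebraMap R B r))) = _
    rw [e3, key, θ.commutes]
    rfl
  let A₂ : R' →ₐ[R] L := { a₂ with commutes' := fun r => rfl }
  let A₁ : B →ₐ[R] L := { a₁ with commutes' := fun r => hcomm r }
  let Φ : R' ⊗[R] B →ₐ[R] L := Algebra.TensorProduct.lift A₂ A₁ (fun _ _ => Commute.all _ _)
  have hΦ : ∀ c : P ⊗[R] B, Φ (Algebra.TensorProduct.map θ (AlgHom.id R B) c) =
      g₁ (algebraMap _ q₀.asIdeal.ResidueField c) := by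
    intro c
    induction c using TensorProduct.induction_on with
    | zero => simp
    | add x y hx hy => rw [map_add, map_add, hx, hy, map_add, map_add]
    | tmul p b =>
      rw [Algebra.TensorProduct.map_tmul, Algebra.TensorProduct.lift_tmul]
      have e4 : p ⊗ₜ[R] b = algebraMap P (P ⊗[R] B) p * ((1 : P) ⊗ₜ[R] b) := by
        rw [Algebra.TensorProduct.algebraMap_apply, Algebra.algebraMap_self, RingHom.id_apply,
          Algebra.TensorProduct.tmul_mul_tmul, mul_one, one_mul]
      rw [e4, map_mul, map_mul, key]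
      rfl
  refine ⟨⟨RingHom.ker Φ.toRingHom, RingHom.ker_isPrime _⟩, ?_, ?_⟩
  · apply PrimeSpectrum.ext
    ext c
    change Φ (Algebra.TensorProduct.map θ (AlgHom.id R B) c) = 0 ↔ c ∈ q₀.asIdeal
    rw [hΦ, map_eq_zero_iff _ g₁.injective, Ideal.algebraMap_residueField_eq_zero]
  · apply PrimeSpectrum.ext
    ext r'
    change Φ (algebraMap R' (R' ⊗[R] B) r') = 0 ↔ r' ∈ p'.asIdeal
    rw [Algebra.TensorProduct.algebraMap_apply, Algebra.algebraMap_self, RingHom.id_apply,
      Algebra.TensorProduct.lift_tmul, map_one, mul_one]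
    change g₂ (algebraMap R' p'.asIdeal.ResidueField r') = 0 ↔ _
    rw [map_eq_zero_iff _ g₂.injective, Ideal.algebraMap_residueField_eq_zero]

/-- Flipped version of `exists_prime_tensor`, with the varying factor on the right. -/
theorem exists_prime_tensor' (θ : P →ₐ[R] R') (q₀ : PrimeSpectrum (B ⊗[R] P))
    (p' : PrimeSpectrum R')
    (h : comap (Algebra.TensorProduct.includeRight (R := R) (A := B) (B := P)).toRingHom q₀ =
      comap θ.toRingHom p') :
    ∃ Q : PrimeSpectrum (B ⊗[R] R'),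
      comap (Algebra.TensorProduct.map (AlgHom.id B B) θ).toRingHom Q = q₀ ∧
      comap (Algebra.TensorProduct.includeRight (R := R) (A := B) (B := R')).toRingHom Q = p' := by
  let c₁ : P ⊗[R] B ≃ₐ[R] B ⊗[R] P := Algebra.TensorProduct.comm R P B
  let c₂ : R' ⊗[R] B ≃ₐ[R] B ⊗[R] R' := Algebra.TensorProduct.comm R R' B
  have hsq : ∀ c : P ⊗[R] B, c₂ (Algebra.TensorProduct.map θ (AlgHom.id R B) c) =
      Algebra.TensorProduct.map (AlgHom.id B B) θ (c₁ c) := by
    intro c
    induction c using TensorProduct.induction_on with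
    | zero => simp
    | add x y hx hy => simp only [map_add, hx, hy]
    | tmul p b => simp [c₁, c₂]
  have h' : comap (algebraMap P (P ⊗[R] B)) (comap c₁.toAlgHom.toRingHom q₀) =
      comap θ.toRingHom p' := by
    rw [← h]
    apply PrimeSpectrum.ext
    ext p
    change c₁ (algebraMap P (P ⊗[R] B) p) ∈ q₀.asIdeal ↔ (1 : B) ⊗ₜ[R] p ∈ q₀.asIdeal
    rw [Algebra.TensorProduct.algebraMap_apply, Algebra.algebraMap_self, RingHom.id_apply]
    simp [c₁]
  obtain ⟨Q, hQ1, hQ2⟩ := exists_prime_tensor θ (comap c₁.toAlgHom.toRingHom q₀) p' h'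
  refine ⟨comap c₂.symm.toAlgHom.toRingHom Q, ?_, ?_⟩
  · apply PrimeSpectrum.ext
    ext c
    have e1 := congrArg (fun I : PrimeSpectrum (P ⊗[R] B) => c₁.symm c ∈ I.asIdeal) hQ1
    simp only [eq_iff_iff] at e1
    change c₂.symm (Algebra.TensorProduct.map (AlgHom.id B B) θ c) ∈ Q.asIdeal ↔ _
    have e2 : c₂.symm (Algebra.TensorProduct.map (AlgHom.id B B) θ c) =
        Algebra.TensorProduct.map θ (AlgHom.id R B) (c₁.symm c) := by
      apply c₂.injective
      rw [AlgEquiv.apply_symm_apply, hsq, AlgEquiv.apply_symm_apply]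
    rw [e2]
    refine Iff.trans ?_ (Iff.trans e1 ?_)
    · rfl
    · change c₁ (c₁.symm c) ∈ q₀.asIdeal ↔ _
      rw [AlgEquiv.apply_symm_apply]
  · rw [← hQ2]
    apply PrimeSpectrum.ext
    ext r'
    change c₂.symm ((1 : B) ⊗ₜ[R] r') ∈ Q.asIdeal ↔ algebraMap R' (R' ⊗[R] B) r' ∈ Q.asIdeal
    rw [Algebra.TensorProduct.algebraMap_apply, Algebra.algebraMap_self, RingHom.id_apply]
    simp [c₂]

omit [Algebra R P] in
/-- Ring level limit lemma: openness at a point of `Spec (B ⊗ R') → Spec R'` can be tested on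
the finitely generated subalgebras of `R'`. -/
theorem isOpenAt_tensor_of_fg (z : PrimeSpectrum (B ⊗[R] R'))
    (H : ∀ C : Subalgebra R R', C.FG →
      IsOpenAt (comap (Algebra.TensorProduct.includeRight (R := R) (A := B) (B := C)).toRingHom)
        (comap (Algebra.TensorProduct.map (AlgHom.id B B) C.val).toRingHom z)) :
    IsOpenAt (comap (Algebra.TensorProduct.includeRight (R := R) (A := B) (B := R')).toRingHom)
      z := by
  intro W hW
  obtain ⟨_, ⟨c', rfl⟩, hzc, hcW⟩ :=
    (isTopologicalBasis_basic_opens (R := B ⊗[R] R')).mem_nhds_iff.mp hW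
  obtain ⟨C, hC, c₀, hc₀⟩ := exists_fg_and_mem_baseChange c'
  set Θ := Algebra.TensorProduct.map (AlgHom.id B B) C.val with hΘ
  have hc₀' : Θ c₀ = c' := hc₀
  set z₀ := comap Θ.toRingHom z with hz₀
  have hz₀c : z₀ ∈ (basicOpen c₀ : Set (PrimeSpectrum (B ⊗[R] C))) := by
    change Θ c₀ ∉ z.asIdeal
    rw [hc₀']
    exact hzc
  have h1 := H C hC _ ((basicOpen c₀).isOpen.mem_nhds hz₀c)
  -- commutativity
  have hcomm : comap (Algebra.TensorProduct.includeRight (R := R) (A := B) (B := C)).toRingHom z₀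
      = comap C.val.toRingHom
        (comap (Algebra.TensorProduct.includeRight (R := R) (A := B) (B := R')).toRingHom z) := by
    apply PrimeSpectrum.ext
    ext r
    change Θ ((1 : B) ⊗ₜ[R] r) ∈ z.asIdeal ↔ (1 : B) ⊗ₜ[R] (C.val r) ∈ z.asIdeal
    rw [hΘ, Algebra.TensorProduct.map_tmul]
    simp
  rw [hcomm] at h1
  have h2 := (continuous_comap C.val.toRingHom).continuousAt h1
  refine Filter.mem_of_superset h2 ?_
  rintro p'' ⟨q₀, hq₀c, hq₀⟩
  obtain ⟨Q, hQ1, hQ2⟩ := exists_prime_tensor' (B := B) C.val q₀ p'' hq₀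
  refine ⟨Q, hcW ?_, hQ2⟩
  change c' ∉ Q.asIdeal
  rw [← hc₀']
  intro hmem
  apply hq₀c
  rw [← hQ1]
  exact hmem

end Ring

section Scheme

open Algebra.TensorProduct CommRingCat RingHomClass

section Chart

variable {X Y T : Scheme.{u}} (f : X ⟶ Y) (g : T ⟶ Y)
  (R B R' : Type u) [CommRing R] [CommRing B] [CommRing R'] [Algebra R B] [Algebra R R']
  (i : Spec (.of R) ⟶ Y) (j : Spec (.of B) ⟶ X) (j' : Spec (.of R') ⟶ T)
  [IsOpenImmersion i] [IsOpenImmersion j] [IsOpenImmersion j']
  (hjf : j ≫ f = Spec.map (CommRingCat.ofHom (algebraMap R B)) ≫ i)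
  (hjg : j' ≫ g = Spec.map (CommRingCat.ofHom (algebraMap R R')) ≫ i)

/-- The affine chart `Spec (B ⊗ R') ⟶ X ×_Y T` of a fibre product. -/
noncomputable def chartMap : Spec (.of (B ⊗[R] R')) ⟶ pullback f g :=
  (pullbackSpecIso R B R').inv ≫ pullback.map _ _ f g j j' i hjf.symm hjg.symm

instance : IsOpenImmersion (chartMap f g R B R' i j j' hjf hjg) := by
  unfold chartMap; infer_instance

theorem chartMap_fst : chartMap f g R B R' i j j' hjf hjg ≫ pullback.fst f g =
    Spec.map (ofHom includeLeftRingHom) ≫ j := by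
  unfold chartMap pullback.map
  rw [Category.assoc, pullback.lift_fst, pullbackSpecIso_inv_fst_assoc]

theorem chartMap_snd : chartMap f g R B R' i j j' hjf hjg ≫ pullback.snd f g =
    Spec.map (ofHom (R := R') (S := B ⊗[R] R') (toRingHom includeRight)) ≫ j' := by
  unfold chartMap pullback.map
  rw [Category.assoc, pullback.lift_snd, pullbackSpecIso_inv_snd_assoc]

theorem range_chartMap : Set.range (chartMap f g R B R' i j j' hjf hjg).base =
    (pullback.fst f g).base ⁻¹' Set.range j.base ∩ (pullback.snd f g).base ⁻¹' Set.range j'.base := by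
  unfold chartMap
  rw [Scheme.Hom.comp_base, TopCat.coe_comp, Set.range_comp,
    Set.range_eq_univ.mpr (pullbackSpecIso R B R').inv.surjective, Set.image_univ]
  exact Scheme.Pullback.range_map _ _ _ _ _ _ _ _ _

theorem isOpenAt_chartMap_iff (z : Spec (.of (B ⊗[R] R'))) :
    IsOpenAt (pullback.snd f g).base ((chartMap f g R B R' i j j' hjf hjg).base z) ↔
      IsOpenAt (PrimeSpectrum.comap
        (Algebra.TensorProduct.includeRight (R := R) (A := B) (B := R')).toRingHom) z := by
  refine isOpenAt_iff_of_isOpenEmbedding (chartMap f g R B R' i j j' hjf hjg).isOpenEmbedding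
    j'.isOpenEmbedding (fun u => ?_) z
  rw [← Scheme.Hom.comp_apply, chartMap_snd]
  rfl

theorem chartMap_fst_apply (z : Spec (.of (B ⊗[R] R'))) :
    (pullback.fst f g).base ((chartMap f g R B R' i j j' hjf hjg).base z) =
      j.base (PrimeSpectrum.comap includeLeftRingHom z) := by
  rw [← Scheme.Hom.comp_apply, chartMap_fst]
  rfl

end Chart

/-- Universal openness at a point can be tested after base changes locally of finite type. -/
theorem isUnivOpenAt_of_finiteType {X Y : Scheme.{u}} (f : X ⟶ Y) (x : X)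
    (H : ∀ (T : Scheme.{u}) (g : T ⟶ Y) [LocallyOfFiniteType g] (x' : ↥(pullback f g)),
      (pullback.fst f g).base x' = x → IsOpenAt (pullback.snd f g).base x') :
    IsUnivOpenAt f x := by
  intro Y' g x' hx'
  obtain ⟨R, i, hi, hcov⟩ : ∃ (R : CommRingCat.{u}) (i : Spec R ⟶ Y), IsOpenImmersion i ∧
      f.base x ∈ Set.range i.base :=
    ⟨_, Y.affineOpenCover.f (Y.affineOpenCover.idx (f.base x)), inferInstance,
      Y.affineOpenCover.covers (f.base x)⟩
  obtain ⟨B, j, f₀, hj, qB, hqB, hjf, -, -⟩ := exists_chart_over f x i hcov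
  have ht : g.base ((pullback.snd f g).base x') = f.base x := by
    rw [← hx', ← Scheme.Hom.comp_apply, ← Scheme.Hom.comp_apply, pullback.condition]
  obtain ⟨R', j', g₀, hj', qR', hqR', hjg, -, -⟩ :=
    exists_chart_over g ((pullback.snd f g).base x') i (by rw [ht]; exact hcov)
  obtain ⟨φ, rfl⟩ := Spec.map_surjective f₀
  obtain ⟨ψ, rfl⟩ := Spec.map_surjective g₀
  algebraize [φ.hom, ψ.hom]
  have hjf' : j ≫ f = Spec.map (CommRingCat.ofHom (algebraMap R B)) ≫ i := hjf
  have hjg' : j' ≫ g = Spec.map (CommRingCat.ofHom (algebraMap R R')) ≫ i := hjg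
  have hx'r : x' ∈ Set.range (chartMap f g R B R' i j j' hjf' hjg').base := by
    rw [range_chartMap]
    exact ⟨⟨qB, by rw [hqB, hx']⟩, ⟨qR', hqR'⟩⟩
  obtain ⟨z, rfl⟩ := hx'r
  rw [isOpenAt_chartMap_iff]
  apply isOpenAt_tensor_of_fg
  intro C hC
  haveI : Algebra.FiniteType R C := (Subalgebra.fg_iff_finiteType C).mp hC
  let gC : Spec (.of C) ⟶ Y := Spec.map (CommRingCat.ofHom (algebraMap R C)) ≫ i
  haveI : LocallyOfFiniteType gC := by
    have : LocallyOfFiniteType (Spec.map (CommRingCat.ofHom (algebraMap R C))) := by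
      rw [HasRingHomProperty.Spec_iff (P := @LocallyOfFiniteType)]
      exact RingHom.finiteType_algebraMap.mpr inferInstance
    infer_instance
  have hjgC : 𝟙 (Spec (.of C)) ≫ gC = Spec.map (CommRingCat.ofHom (algebraMap R C)) ≫ i :=
    Category.id_comp _
  have h1 := H (Spec (.of C)) gC ((chartMap f gC R B C i j (𝟙 _) hjf' hjgC).base
    (PrimeSpectrum.comap (Algebra.TensorProduct.map (AlgHom.id B B) C.val).toRingHom z)) ?_
  · rwa [isOpenAt_chartMap_iff] at h1
  · rw [chartMap_fst_apply, ← hx', chartMap_fst_apply]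
    congr 1

end Scheme

end Groth.Agent.H72.UOLimit
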