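import Mathlib
import Groth.Agent.H72.UOLimit

/-!
# The curve argument: lifting generizations over finite type bases from finite bases

Library of helper72.  Main result `GLift_of_finite`: for a Noetherian ring `R` and a finite type
`R`-algebra `B`, if generizations lift along `Spec (R' ⊗ B) → Spec R'` for all finite `R`-algebras
`R'`, then they lift along `Spec (A ⊗ B) → Spec A` for all finite type `R`-algebras `A`.
-/

set_option autoImplicit false

namespace Groth.Agent.H72.CurveUO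

open PrimeSpectrum TensorProduct Topology Polynomial
open Groth.Agent.H72.OpenAt Groth.Agent.H72.UOLimit

universe u

section Zariski

variable {R T₁ : Type u} [CommRing R] [CommRing T₁] [Algebra R T₁] [Algebra.FiniteType R T₁]

attribute [local instance] FractionRing.liftAlgebra in
/-- (Z0) residue fields at maximal ideals of finite type algebras are algebraic over the image
of the base. -/
theorem isAlgebraic_quotient_of_isMaximal (M : Ideal T₁) [hM : M.IsMaximal] :
    Algebra.IsAlgebraic (R ⧸ M.comap (algebraMap R T₁)) (T₁ ⧸ M) := by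
  letI : Field (T₁ ⧸ M) := Ideal.Quotient.field M
  haveI : (M.comap (algebraMap R T₁)).IsPrime := Ideal.comap_isPrime _ _
  haveI : Algebra.FiniteType R (T₁ ⧸ M) :=
    Algebra.FiniteType.of_surjective (Ideal.Quotient.mkₐ R M) Ideal.Quotient.mk_surjective
  haveI : Algebra.FiniteType (R ⧸ M.comap (algebraMap R T₁)) (T₁ ⧸ M) :=
    Algebra.FiniteType.of_restrictScalars_finiteType R _ _
  haveI : FaithfulSMul (R ⧸ M.comap (algebraMap R T₁)) (T₁ ⧸ M) :=
    (faithfulSMul_iff_algebraMap_injective _ _).mpr Ideal.algebraMap_quotient_injective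
  haveI : Algebra.FiniteType (FractionRing (R ⧸ M.comap (algebraMap R T₁))) (T₁ ⧸ M) :=
    Algebra.FiniteType.of_restrictScalars_finiteType (R ⧸ M.comap (algebraMap R T₁)) _ _
  haveI : Module.Finite (FractionRing (R ⧸ M.comap (algebraMap R T₁))) (T₁ ⧸ M) :=
    finite_of_finite_type_of_isJacobsonRing _ _
  haveI : Algebra.IsAlgebraic (FractionRing (R ⧸ M.comap (algebraMap R T₁))) (T₁ ⧸ M) :=
    Algebra.IsAlgebraic.of_finite _ _
  constructor
  intro x
  rw [IsFractionRing.isAlgebraic_iff (R ⧸ M.comap (algebraMap R T₁))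
    (FractionRing (R ⧸ M.comap (algebraMap R T₁)))]
  exact Algebra.IsAlgebraic.isAlgebraic x

variable {A : Type u} [CommRing A] [Algebra R A]

/-- (Z1) -/
theorem exists_mul_sub_mem_of_isMaximal (ψ : A →ₐ[R] T₁) (M : Ideal T₁) [hM : M.IsMaximal]
    (a : A) (ha : ψ a ∉ M) :
    ∃ r : R, algebraMap R T₁ r ∉ M ∧ ∃ a' : A, ψ (a * a') - algebraMap R T₁ r ∈ M := by
  letI : Field (T₁ ⧸ M) := Ideal.Quotient.field M
  haveI := isAlgebraic_quotient_of_isMaximal (R := R) M
  set t : T₁ ⧸ M := Ideal.Quotient.mk M (ψ a) with ht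
  have ht0 : t ≠ 0 := by
    rw [ht, Ne, Ideal.Quotient.eq_zero_iff_mem]
    exact ha
  have halg : IsAlgebraic (R ⧸ M.comap (algebraMap R T₁)) t := Algebra.IsAlgebraic.isAlgebraic t
  obtain ⟨q, hq0, hq⟩ := halg.exists_nonzero_coeff_and_aeval_eq_zero
    (mem_nonZeroDivisors_of_ne_zero ht0)
  obtain ⟨p, rfl⟩ := Polynomial.map_surjective (Ideal.Quotient.mk (M.comap (algebraMap R T₁)))
    Ideal.Quotient.mk_surjective q
  have h1 : aeval (ψ a) p ∈ M := by
    rw [← Ideal.Quotient.eq_zero_iff_mem]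
    have h2 : Ideal.Quotient.mk M (aeval (ψ a) p) = aeval t p := by
      rw [ht]
      exact (Polynomial.aeval_algHom_apply (Ideal.Quotient.mkₐ R M) (ψ a) p).symm
    rw [h2, ← hq]
    exact (Polynomial.aeval_map_algebraMap (R ⧸ M.comap (algebraMap R T₁)) t p).symm
  have hc : algebraMap R T₁ (p.coeff 0) ∉ M := by
    intro hmem
    apply hq0
    rw [Polynomial.coeff_map, Ideal.Quotient.eq_zero_iff_mem]
    exact hmem
  refine ⟨-p.coeff 0, ?_, aeval a p.divX, ?_⟩
  · rw [map_neg]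
    intro hmem
    exact hc (by simpa using M.neg_mem hmem)
  · have h3 : aeval (ψ a) p = ψ (a * aeval a p.divX) - algebraMap R T₁ (-p.coeff 0) := by
      conv_lhs => rw [← Polynomial.divX_mul_X_add p]
      rw [map_add, map_mul, aeval_X, aeval_C, map_mul, ← Polynomial.aeval_algHom_apply, map_neg]
      ring
    rw [← h3]
    exact h1

/-- (CF) the contraction of a maximal ideal of a finite type algebra is closed in its fibre. -/
theorem eq_of_le_of_comap_eq (ψ : A →ₐ[R] T₁) (M : Ideal T₁) [hM : M.IsMaximal]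
    (e' : Ideal A) [e'.IsPrime] (hle : M.comap ψ ≤ e')
    (hfib : e'.comap (algebraMap R A) = (M.comap ψ).comap (algebraMap R A)) :
    e' = M.comap ψ := by
  apply le_antisymm _ hle
  intro a ha
  by_contra hae
  obtain ⟨r, hr, a', ha'⟩ := exists_mul_sub_mem_of_isMaximal ψ M a hae
  have h1 : a * a' - algebraMap R A r ∈ M.comap ψ := by
    rw [Ideal.mem_comap, map_sub, AlgHom.commutes]
    exact ha'
  have h2 : algebraMap R A r ∈ e' := by
    have := e'.sub_mem (e'.mul_mem_right a' ha) (hle h1)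
    simpa using this
  have h3 : r ∈ (M.comap ψ).comap (algebraMap R A) := by
    rw [← hfib]
    exact h2
  apply hr
  have : ψ (algebraMap R A r) ∈ M := h3
  rwa [AlgHom.commutes] at this

end Zariski

section Covering

/-- In a Noetherian domain, if every nonzero prime below the prime `e` contains the nonzero element
`a`, then there is no prime strictly between `0` and `e`. -/
theorem eq_of_forall_mem_of_ne_bot {D : Type u} [CommRing D] [IsDomain D] [IsNoetherianRing D]
    (e : Ideal D) [he : e.IsPrime] (a : D) (ha0 : a ≠ 0) (hae : a ∈ e)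
    (hall : ∀ P' : Ideal D, P'.IsPrime → P' ≠ ⊥ → P' ≤ e → a ∈ P')
    (P' : Ideal D) [hP' : P'.IsPrime] (hP'0 : P' ≠ ⊥) (hP'e : P' ≤ e) : P' = e := by
  by_contra hne
  have hlt : P' < e := lt_of_le_of_ne hP'e hne
  have hbot : (⊥ : Ideal D) < P' := bot_lt_iff_ne_bot.mpr hP'0
  haveI : (⊥ : Ideal D).IsPrime := Ideal.isPrime_bot
  -- height of `e` is at least two
  have hht : (2 : ℕ∞) ≤ e.height := by
    have h1 := Ideal.height_add_one_le_of_lt_of_isPrime hbot
    have h2 := Ideal.height_add_one_le_of_lt_of_isPrime hlt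
    calc (2 : ℕ∞) = 0 + 1 + 1 := by norm_num
      _ ≤ (⊥ : Ideal D).height + 1 + 1 := by gcongr; exact zero_le
      _ ≤ P'.height + 1 := by gcongr
      _ ≤ e.height := h2
  have hfin := (Ideal.span {a}).finite_minimalPrimes_of_isNoetherianRing
  have hnot : ¬(e : Set D) ⊆ ⋃ K ∈ hfin.toFinset, (K : Set D) := by
    refine (Ideal.subset_union_prime ⊥ ⊥ ?_).not.mpr ?_
    · rintro K hK - -
      rw [Set.Finite.mem_toFinset] at hK
      exact hK.isPrime
    · push Not
      intro K hK hle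
      rw [Set.Finite.mem_toFinset] at hK
      have h1 := Ideal.height_le_one_of_isPrincipal_of_mem_minimalPrimes (Ideal.span {a}) K hK
      have h2 := (hht.trans (Ideal.height_mono hle)).trans h1
      norm_num at h2
  simp_rw [Set.not_subset, Set.mem_iUnion, not_exists, Set.Finite.mem_toFinset] at hnot
  obtain ⟨x, hxe, hxK⟩ := hnot
  -- a minimal prime over `a` below `e`
  obtain ⟨K₀, hK₀, -⟩ := Ideal.exists_minimalPrimes_le (I := Ideal.span {a}) (J := e)
    (by rwa [Ideal.span_le, Set.singleton_subset_iff])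
  have hx0 : x ≠ 0 := by
    rintro rfl
    exact hxK K₀ hK₀ (zero_mem _)
  obtain ⟨Q', hQ', hQ'e⟩ := Ideal.exists_minimalPrimes_le (I := Ideal.span {x}) (J := e)
    (by rwa [Ideal.span_le, Set.singleton_subset_iff])
  haveI := hQ'.isPrime
  have hxQ' : x ∈ Q' := hQ'.1.2 (Ideal.subset_span rfl)
  have hQ'0 : Q' ≠ ⊥ := by
    rintro rfl
    exact hx0 (by simpa using hxQ')
  have haQ' : a ∈ Q' := hall Q' inferInstance hQ'0 hQ'e
  obtain ⟨K, hK, hKQ'⟩ := Ideal.exists_minimalPrimes_le (I := Ideal.span {a}) (J := Q')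
    (by rwa [Ideal.span_le, Set.singleton_subset_iff])
  haveI := hK.isPrime
  have hK0 : (⊥ : Ideal D) < K := by
    rw [bot_lt_iff_ne_bot]
    rintro rfl
    exact ha0 (by simpa using hK.1.2 (Ideal.subset_span rfl))
  have hKeq : K = Q' := by
    by_contra hne'
    have hlt' : K < Q' := lt_of_le_of_ne hKQ' hne'
    have h1 := Ideal.height_add_one_le_of_lt_of_isPrime hK0
    have h2 := Ideal.height_add_one_le_of_lt_of_isPrime hlt'
    have h3 := Ideal.height_le_one_of_isPrincipal_of_mem_minimalPrimes (Ideal.span {x}) Q' hQ'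
    have : (2 : ℕ∞) ≤ 1 := by
      calc (2 : ℕ∞) = 0 + 1 + 1 := by norm_num
        _ ≤ (⊥ : Ideal D).height + 1 + 1 := by gcongr; exact zero_le
        _ ≤ K.height + 1 := by gcongr
        _ ≤ Q'.height := h2
        _ ≤ 1 := h3
    norm_num at this
  exact hxK K hK (hKeq ▸ hxQ')

variable {A : Type u} [CommRing A] [IsNoetherianRing A]

theorem eq_or_eq_of_maximal_not_mem (P e : PrimeSpectrum A) (hPe : P ≤ e) (a : A)
    (haP : a ∉ P.asIdeal) (hae : a ∈ e.asIdeal)
    (hmax : ∀ P' : PrimeSpectrum A, P ≤ P' → P' ≤ e → a ∉ P'.asIdeal → P' = P)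
    (P' : PrimeSpectrum A) (h1 : P ≤ P') (h2 : P' ≤ e) : P' = P ∨ P' = e := by
  by_cases hP' : P' = P
  · exact Or.inl hP'
  right
  let f : A →+* A ⧸ P.asIdeal := Ideal.Quotient.mk P.asIdeal
  have hsurj : Function.Surjective f := Ideal.Quotient.mk_surjective
  have hker : RingHom.ker f = P.asIdeal := Ideal.mk_ker
  have hcm : ∀ I : Ideal A, P.asIdeal ≤ I → (I.map f).comap f = I := by
    intro I hI
    rw [Ideal.comap_map_of_surjective _ hsurj, ← RingHom.ker_eq_comap_bot, hker]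
    exact sup_eq_left.mpr hI
  haveI : (e.asIdeal.map f).IsPrime :=
    Ideal.map_isPrime_of_surjective hsurj (by rw [hker]; exact hPe)
  haveI : (P'.asIdeal.map f).IsPrime :=
    Ideal.map_isPrime_of_surjective hsurj (by rw [hker]; exact h1)
  have key : P'.asIdeal.map f = e.asIdeal.map f := by
    apply eq_of_forall_mem_of_ne_bot (e.asIdeal.map f) (f a)
    · rw [Ne, Ideal.Quotient.eq_zero_iff_mem]; exact haP
    · exact Ideal.mem_map_of_mem f hae
    · intro Q hQ hQ0 hQe
      let QA : PrimeSpectrum A := ⟨Q.comap f, Ideal.comap_isPrime f Q⟩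
      have hPQ : P ≤ QA := by
        intro x hx
        change f x ∈ Q
        have : f x = 0 := by rw [Ideal.Quotient.eq_zero_iff_mem]; exact hx
        rw [this]; exact zero_mem _
      have hQe' : QA ≤ e := by
        intro x hx
        have : x ∈ (e.asIdeal.map f).comap f := hQe hx
        rwa [hcm _ hPe] at this
      by_contra haQ
      have h3 := hmax QA hPQ hQe' haQ
      apply hQ0
      have h4 : Q = (Q.comap f).map f := (Ideal.map_comap_of_surjective f hsurj Q).symm
      rw [h4]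
      have h5 : Q.comap f = P.asIdeal := congrArg PrimeSpectrum.asIdeal h3
      rw [h5, Ideal.map_eq_bot_iff_le_ker, hker]
    · intro hbot
      apply hP'
      apply le_antisymm _ h1
      intro x hx
      have : f x ∈ P'.asIdeal.map f := Ideal.mem_map_of_mem f hx
      rw [hbot, Ideal.mem_bot, Ideal.Quotient.eq_zero_iff_mem] at this
      exact this
    · exact Ideal.map_mono h2
  apply PrimeSpectrum.ext
  rw [← hcm _ h1, ← hcm _ hPe, key]

end Covering

section QF

variable {R D : Type u} [CommRing R] [CommRing D] [Algebra R D] [Algebra.FiniteType R D]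

/-- A point which is minimal and maximal in its fibre is isolated in its fibre, hence the algebra
is quasi-finite there. -/
theorem quasiFiniteAt_of_isMin_of_isMax (ē : PrimeSpectrum D)
    (hmin : ∀ q : PrimeSpectrum D, q ≤ ē →
      comap (algebraMap R D) q = comap (algebraMap R D) ē → q = ē)
    (hmax : ∀ q : PrimeSpectrum D, ē ≤ q →
      comap (algebraMap R D) q = comap (algebraMap R D) ē → q = ē) :
    Algebra.QuasiFiniteAt R ē.asIdeal := by
  apply Algebra.QuasiFiniteAt.of_isOpen_singleton_fiber ē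
  set c₀ := comap (algebraMap R D) ē with hc₀
  let hΦ := PrimeSpectrum.preimageHomeomorphFiber R D c₀
  let o := PrimeSpectrum.preimageOrderIsoFiber R D c₀
  have hoΦ : ∀ y, hΦ y = o y := fun _ => rfl
  haveI : IsNoetherianRing (c₀.asIdeal.Fiber D) :=
    Algebra.FiniteType.isNoetherianRing c₀.asIdeal.ResidueField _
  haveI : IsJacobsonRing (c₀.asIdeal.Fiber D) :=
    isJacobsonRing_of_finiteType (A := c₀.asIdeal.ResidueField)
  set x := hΦ ⟨ē, rfl⟩ with hx
  have hopen : IsOpen ({x} : Set (PrimeSpectrum (c₀.asIdeal.Fiber D))) := by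
    have htfae := (PrimeSpectrum.isOpen_singleton_tfae_of_isNoetherian_of_isJacobsonRing x).out 2 0
    apply htfae.mp
    constructor
    · rw [isClosed_singleton_iff_isMaximal, ← isMax_iff]
      intro y hxy
      obtain ⟨y', rfl⟩ := o.surjective y
      rw [hx, hoΦ, o.le_iff_le] at hxy
      have : y'.1 = ē := hmax y'.1 hxy y'.2
      have : y' = ⟨ē, rfl⟩ := Subtype.ext this
      rw [this, hx, hoΦ]
    · rw [stableUnderGeneralization_singleton, ← isMin_iff]
      intro y hyx
      obtain ⟨y', rfl⟩ := o.surjective y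
      rw [hx, hoΦ, o.le_iff_le] at hyx
      have : y'.1 = ē := hmin y'.1 hyx y'.2
      have : y' = ⟨ē, rfl⟩ := Subtype.ext this
      rw [this, hx, hoΦ]
  have := hΦ.isOpen_preimage.mpr hopen
  convert this using 1
  ext y
  simp only [Set.mem_singleton_iff, Set.mem_preimage]
  rw [hx]
  exact ⟨fun h => by rw [h], fun h => hΦ.injective h⟩

end QF

section Ring

variable (R B : Type u) [CommRing R] [CommRing B] [Algebra R B]

/-- `GLift R B A`: generizations lift along `Spec (A ⊗ B) → Spec A`. -/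
def GLift (A : Type u) [CommRing A] [Algebra R A] : Prop :=
  ∀ Q : PrimeSpectrum (A ⊗[R] B), GenLift (comap (algebraMap A (A ⊗[R] B))) Q

variable {R B}
variable {A₁ A₂ : Type u} [CommRing A₁] [CommRing A₂] [Algebra R A₁] [Algebra R A₂]

theorem comap_comap_map (θ : A₁ →ₐ[R] A₂) (Q : PrimeSpectrum (A₂ ⊗[R] B)) :
    comap (algebraMap A₁ (A₁ ⊗[R] B))
      (comap (Algebra.TensorProduct.map θ (AlgHom.id R B)).toRingHom Q) =
    comap θ.toRingHom (comap (algebraMap A₂ (A₂ ⊗[R] B)) Q) := by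
  apply PrimeSpectrum.ext
  ext a
  change Algebra.TensorProduct.map θ (AlgHom.id R B) (a ⊗ₜ 1) ∈ Q.asIdeal ↔
    (θ a) ⊗ₜ[R] (1 : B) ∈ Q.asIdeal
  rw [Algebra.TensorProduct.map_tmul]
  rfl

theorem exists_den_tensor (θ : A₁ →ₐ[R] A₂)
    (hden : ∀ x : A₂, ∃ u : A₁, IsUnit (θ u) ∧ θ u * x ∈ Set.range θ) (y : A₂ ⊗[R] B) :
    ∃ u : A₁, IsUnit (θ u) ∧ ∃ y₁ : A₁ ⊗[R] B,
      (θ u ⊗ₜ[R] (1 : B)) * y = Algebra.TensorProduct.map θ (AlgHom.id R B) y₁ := by
  induction y using TensorProduct.induction_on with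
  | zero => exact ⟨1, by simp, 0, by simp⟩
  | tmul a b =>
    obtain ⟨u, hu, a₁, ha₁⟩ := hden a
    refine ⟨u, hu, a₁ ⊗ₜ b, ?_⟩
    rw [Algebra.TensorProduct.tmul_mul_tmul, one_mul, Algebra.TensorProduct.map_tmul, ha₁]
    rfl
  | add x y hx hy =>
    obtain ⟨u, hu, x₁, hx₁⟩ := hx
    obtain ⟨v, hv, y₁, hy₁⟩ := hy
    refine ⟨u * v, by rw [map_mul]; exact hu.mul hv,
      (v ⊗ₜ[R] (1 : B)) * x₁ + (u ⊗ₜ[R] (1 : B)) * y₁, ?_⟩
    have e1 : Algebra.TensorProduct.map θ (AlgHom.id R B) (v ⊗ₜ[R] (1 : B)) = θ v ⊗ₜ[R] (1 : B) := by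
      rw [Algebra.TensorProduct.map_tmul]; rfl
    have e2 : Algebra.TensorProduct.map θ (AlgHom.id R B) (u ⊗ₜ[R] (1 : B)) = θ u ⊗ₜ[R] (1 : B) := by
      rw [Algebra.TensorProduct.map_tmul]; rfl
    have : (θ u * θ v) ⊗ₜ[R] (1 : B) = (θ u ⊗ₜ[R] (1 : B)) * (θ v ⊗ₜ[R] (1 : B)) := by
      rw [Algebra.TensorProduct.tmul_mul_tmul, one_mul]
    rw [map_add, map_mul (Algebra.TensorProduct.map θ (AlgHom.id R B)),
      map_mul (Algebra.TensorProduct.map θ (AlgHom.id R B)), e1, e2, ← hx₁, ← hy₁, map_mul, this]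
    ring

theorem GLift_of_den (θ : A₁ →ₐ[R] A₂)
    (hden : ∀ x : A₂, ∃ u : A₁, IsUnit (θ u) ∧ θ u * x ∈ Set.range θ) (h : GLift R B A₁) :
    GLift R B A₂ := by
  intro Q p' hp'
  set Θ := Algebra.TensorProduct.map θ (AlgHom.id R B) with hΘ
  have h1 : comap θ.toRingHom p' ⤳ comap (algebraMap A₁ (A₁ ⊗[R] B)) (comap Θ.toRingHom Q) := by
    rw [comap_comap_map]
    exact hp'.map (continuous_comap θ.toRingHom)
  obtain ⟨q', hq', hq'p⟩ := h (comap Θ.toRingHom Q) _ h1
  obtain ⟨Q', hQ'1, hQ'2⟩ := exists_prime_tensor θ q' p' hq'p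
  refine ⟨Q', ?_, hQ'2⟩
  rw [← le_iff_specializes]
  intro y hy
  obtain ⟨u, hu, y₁, hy₁⟩ := exists_den_tensor θ hden y
  have h2 : Θ y₁ ∈ Q'.asIdeal := by
    rw [← hy₁]
    exact Ideal.mul_mem_left _ _ hy
  have h3 : y₁ ∈ q'.asIdeal := by
    rw [← hQ'1]
    exact h2
  have h4 : y₁ ∈ (comap Θ.toRingHom Q).asIdeal := (le_iff_specializes _ _).mpr hq' h3
  have h5 : (θ u ⊗ₜ[R] (1 : B)) * y ∈ Q.asIdeal := by
    rw [hy₁]
    exact h4
  have h6 : IsUnit (θ u ⊗ₜ[R] (1 : B)) := by
    have := hu.map (algebraMap A₂ (A₂ ⊗[R] B))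
    exact this
  rcases Q.isPrime.mem_or_mem h5 with h7 | h7
  · exact absurd (Q.asIdeal.eq_top_of_isUnit_mem h7 h6) Q.isPrime.ne_top
  · exact h7

variable {A : Type u} [CommRing A] [Algebra R A]

theorem flat_fibre_tensor (K F : Type u) [Field K] [Algebra R K] [CommRing F] [Algebra R F]
    [Algebra K F] [IsScalarTower R K F] : (algebraMap F (F ⊗[R] B)).Flat := by
  rw [RingHom.flat_algebraMap_iff]
  exact Module.Flat.of_linearEquiv
    (Algebra.TensorProduct.cancelBaseChange R K F F B).symm.toLinearEquiv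

/-- Going down via an extension of the base over which generizations lift. -/
theorem exists_le_of_GLift_extension {F : Type u} [CommRing F] [Algebra R F] (θ : A →ₐ[R] F)
    (hgl : GLift R B F) (PF eF : PrimeSpectrum F) (hle : PF ≤ eF)
    (Q₁ : PrimeSpectrum (A ⊗[R] B))
    (hQ₁ : comap (algebraMap A (A ⊗[R] B)) Q₁ = comap θ.toRingHom eF) :
    ∃ Q₂ : PrimeSpectrum (A ⊗[R] B), Q₂ ≤ Q₁ ∧
      comap (algebraMap A (A ⊗[R] B)) Q₂ = comap θ.toRingHom PF := by
  obtain ⟨Q₁', hQ₁'1, hQ₁'2⟩ := exists_prime_tensor (B := B) θ Q₁ eF hQ₁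
  obtain ⟨Q₂', hQ₂', hQ₂'P⟩ := hgl Q₁' PF (by rw [hQ₁'2]; exact (le_iff_specializes _ _).mp hle)
  refine ⟨comap (Algebra.TensorProduct.map θ (AlgHom.id R B)).toRingHom Q₂', ?_, ?_⟩
  · rw [← hQ₁'1]
    exact (le_iff_specializes _ _).mpr
      (hQ₂'.map (continuous_comap (Algebra.TensorProduct.map θ (AlgHom.id R B)).toRingHom))
  · rw [comap_comap_map, hQ₂'P]

/-- Vertical case: going down inside a fibre. -/
theorem exists_le_of_same_fibre (P e : PrimeSpectrum A) (hPe : P ≤ e)
    (hfib : comap (algebraMap R A) P = comap (algebraMap R A) e)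
    (Q₁ : PrimeSpectrum (A ⊗[R] B)) (hQ₁ : comap (algebraMap A (A ⊗[R] B)) Q₁ = e) :
    ∃ Q₂ : PrimeSpectrum (A ⊗[R] B), Q₂ ≤ Q₁ ∧ comap (algebraMap A (A ⊗[R] B)) Q₂ = P := by
  set c₀ := comap (algebraMap R A) e with hc₀
  let θ : A →ₐ[R] c₀.asIdeal.Fiber A := Algebra.TensorProduct.includeRight
  let o := PrimeSpectrum.preimageOrderIsoFiber R A c₀
  have hle : o ⟨P, hfib⟩ ≤ o ⟨e, rfl⟩ := o.monotone hPe
  have heF : comap θ.toRingHom (o ⟨e, rfl⟩) = e :=
    congrArg Subtype.val (o.symm_apply_apply ⟨e, rfl⟩)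
  have hPF : comap θ.toRingHom (o ⟨P, hfib⟩) = P :=
    congrArg Subtype.val (o.symm_apply_apply ⟨P, hfib⟩)
  have hflat := flat_fibre_tensor (R := R) (B := B) c₀.asIdeal.ResidueField (c₀.asIdeal.Fiber A)
  have hgl : GLift R B (c₀.asIdeal.Fiber A) := fun Q y' hy' =>
    hflat.generalizingMap_comap (a := Q) (b := y') hy'
  obtain ⟨Q₂, hQ₂, hQ₂P⟩ := exists_le_of_GLift_extension θ hgl _ _ hle Q₁ (by rw [hQ₁, heF])
  exact ⟨Q₂, hQ₂, by rw [hQ₂P, hPF]⟩

/-- Horizontal case for a domain `D` at a prime `ē` covering `0`. -/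
theorem GLift_localization_of_quasiFiniteAt {D : Type u} [CommRing D] [IsDomain D] [Algebra R D]
    [Algebra.FiniteType R D]
    (HR : ∀ (R' : Type u) [CommRing R'] [Algebra R R'] [Module.Finite R R'], GLift R B R')
    (ē : Ideal D) [ē.IsPrime] [Algebra.QuasiFiniteAt R ē] :
    ∃ r : D, r ∉ ē ∧ GLift R B (Localization.Away r) := by
  obtain ⟨R', hR'fg, r, hr, hbij⟩ :=
    Algebra.QuasiFiniteAt.exists_fg_and_exists_notMem_and_awayMap_bijective (R := R) ē
  haveI : Module.Finite R R' := ⟨(Submodule.fg_top _).mpr hR'fg⟩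
  refine ⟨r.1, hr, ?_⟩
  let θ₁ : R' →ₐ[R] Localization.Away r.1 :=
    (IsScalarTower.toAlgHom R D (Localization.Away r.1)).comp R'.val
  apply GLift_of_den θ₁ _ (HR R')
  intro x
  obtain ⟨y, rfl⟩ := hbij.2 x
  obtain ⟨n, y₁, hy₁⟩ := IsLocalization.Away.surj r y
  refine ⟨r ^ n, ?_, y₁, ?_⟩
  · rw [map_pow]
    apply IsUnit.pow
    exact IsLocalization.Away.algebraMap_isUnit r.1
  · have e1 : ∀ z : R', Localization.awayMap R'.val.toRingHom r (algebraMap R' _ z) =
        algebraMap D (Localization.Away r.1) (z : D) := fun z => IsLocalization.map_eq _ _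
    have key := congrArg (Localization.awayMap R'.val.toRingHom r) hy₁
    rw [map_mul, map_pow, e1, e1] at key
    have h3 : θ₁ (r ^ n) = algebraMap D (Localization.Away r.1) (r.1) ^ n := by
      rw [map_pow]; rfl
    rw [h3]
    exact key.symm.trans (mul_comm _ _)

/-- Horizontal case. -/
theorem exists_le_of_horizontal [Algebra.FiniteType R A]
    (HR : ∀ (R' : Type u) [CommRing R'] [Algebra R R'] [Module.Finite R R'], GLift R B R')
    (P e : PrimeSpectrum A) (hPe : P ≤ e)
    (hcov : ∀ P' : PrimeSpectrum A, P ≤ P' → P' ≤ e → P' = P ∨ P' = e)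
    (hfib : comap (algebraMap R A) P ≠ comap (algebraMap R A) e)
    (hCF : ∀ e' : PrimeSpectrum A, e ≤ e' →
      comap (algebraMap R A) e' = comap (algebraMap R A) e → e' = e)
    (Q₁ : PrimeSpectrum (A ⊗[R] B)) (hQ₁ : comap (algebraMap A (A ⊗[R] B)) Q₁ = e) :
    ∃ Q₂ : PrimeSpectrum (A ⊗[R] B), Q₂ ≤ Q₁ ∧ comap (algebraMap A (A ⊗[R] B)) Q₂ = P := by
  let mkD : A →ₐ[R] A ⧸ P.asIdeal := Ideal.Quotient.mkₐ R P.asIdeal
  let f : A →+* A ⧸ P.asIdeal := Ideal.Quotient.mk P.asIdeal
  have hsurj : Function.Surjective f := Ideal.Quotient.mk_surjective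
  have hker : RingHom.ker f = P.asIdeal := Ideal.mk_ker
  haveI : (e.asIdeal.map f).IsPrime :=
    Ideal.map_isPrime_of_surjective hsurj (by rw [hker]; exact hPe)
  let ēD : PrimeSpectrum (A ⧸ P.asIdeal) := ⟨e.asIdeal.map f, inferInstance⟩
  have hcomap : comap f ēD = e := by
    apply PrimeSpectrum.ext
    change (e.asIdeal.map f).comap f = e.asIdeal
    rw [Ideal.comap_map_of_surjective _ hsurj, ← RingHom.ker_eq_comap_bot, hker]
    exact sup_eq_left.mpr hPe
  have hPle : ∀ q : PrimeSpectrum (A ⧸ P.asIdeal), P ≤ comap f q := by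
    intro q a ha
    change f a ∈ q.asIdeal
    have : f a = 0 := by
      rw [Ideal.Quotient.eq_zero_iff_mem]; exact ha
    rw [this]; exact zero_mem _
  have hinj : Function.Injective (comap f) := comap_injective_of_surjective _ hsurj
  have hfibD : ∀ q : PrimeSpectrum (A ⧸ P.asIdeal), comap (algebraMap R (A ⧸ P.asIdeal)) q =
      comap (algebraMap R A) (comap f q) := by
    intro q
    rw [← comap_comp_apply]
    congr 1
  haveI : Algebra.FiniteType R (A ⧸ P.asIdeal) := Algebra.FiniteType.of_surjective mkD hsurj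
  haveI : Algebra.QuasiFiniteAt R ēD.asIdeal := by
    apply quasiFiniteAt_of_isMin_of_isMax
    · intro q hq hqfib
      have h1 : comap f q ≤ e := by
        rw [← hcomap]
        exact fun a ha => hq ha
      rcases hcov _ (hPle q) h1 with h2 | h2
      · exfalso
        apply hfib
        rw [← h2, ← hfibD, hqfib, hfibD, hcomap]
      · apply hinj
        rw [h2, hcomap]
    · intro q hq hqfib
      have h1 : e ≤ comap f q := by
        rw [← hcomap]
        exact fun a ha => hq ha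
      apply hinj
      rw [hcomap]
      apply hCF _ h1
      rw [← hfibD, hqfib, hfibD, hcomap]
  obtain ⟨r, hr, hgl⟩ := GLift_localization_of_quasiFiniteAt (B := B) HR ēD.asIdeal
  have hr0 : r ≠ 0 := by
    rintro rfl
    exact hr (zero_mem _)
  have hpow : Submonoid.powers r ≤ nonZeroDivisors (A ⧸ P.asIdeal) :=
    powers_le_nonZeroDivisors_of_noZeroDivisors hr0
  haveI : IsDomain (Localization.Away r) := IsLocalization.isDomain_localization hpow
  let θ₂ : A →ₐ[R] Localization.Away r :=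
    (IsScalarTower.toAlgHom R (A ⧸ P.asIdeal) (Localization.Away r)).comp mkD
  have hdisj : Disjoint (Submonoid.powers r : Set (A ⧸ P.asIdeal)) (ēD.asIdeal : Set _) := by
    rw [Set.disjoint_left]
    rintro _ ⟨n, rfl⟩ hmem
    exact hr (ēD.isPrime.mem_of_pow_mem n hmem)
  haveI : (ēD.asIdeal.map (algebraMap (A ⧸ P.asIdeal) (Localization.Away r))).IsPrime :=
    IsLocalization.isPrime_of_isPrime_disjoint (Submonoid.powers r) _ _ ēD.isPrime hdisj
  let er : PrimeSpectrum (Localization.Away r) :=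
    ⟨ēD.asIdeal.map (algebraMap (A ⧸ P.asIdeal) (Localization.Away r)), inferInstance⟩
  let botr : PrimeSpectrum (Localization.Away r) := ⟨⊥, Ideal.isPrime_bot⟩
  have her : comap θ₂.toRingHom er = e := by
    rw [← hcomap]
    apply PrimeSpectrum.ext
    change ((ēD.asIdeal.map (algebraMap (A ⧸ P.asIdeal) (Localization.Away r))).under
      (A ⧸ P.asIdeal)).comap f = _
    rw [IsLocalization.under_map_of_isPrime_disjoint (Submonoid.powers r) _ ēD.isPrime hdisj]
    rfl
  have hbotr : comap θ₂.toRingHom botr = P := by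
    apply PrimeSpectrum.ext
    ext a
    change algebraMap (A ⧸ P.asIdeal) (Localization.Away r) (f a) ∈ (⊥ : Ideal _) ↔ _
    rw [Ideal.mem_bot, IsLocalization.to_map_eq_zero_iff (Localization.Away r) hpow,
      Ideal.Quotient.eq_zero_iff_mem]
  obtain ⟨Q₂, hQ₂, hQ₂P⟩ := exists_le_of_GLift_extension θ₂ hgl botr er bot_le Q₁
    (by rw [hQ₁, her])
  exact ⟨Q₂, hQ₂, by rw [hQ₂P, hbotr]⟩

/-- (RL) -/
theorem GLift_of_finite [IsNoetherianRing R] [Algebra.FiniteType R B]
    (HR : ∀ (R' : Type u) [CommRing R'] [Algebra R R'] [Module.Finite R R'], GLift R B R')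
    (A : Type u) [CommRing A] [Algebra R A] [Algebra.FiniteType R A] : GLift R B A := by
  intro Q c' hc'
  have hle : c'.asIdeal ≤ (comap (algebraMap A (A ⊗[R] B)) Q).asIdeal :=
    (le_iff_specializes _ _).mpr hc'
  haveI : IsNoetherianRing A := Algebra.FiniteType.isNoetherianRing R A
  haveI : Algebra.FiniteType R (A ⊗[R] B) := Algebra.FiniteType.trans (S := A) inferInstance
    inferInstance
  let φ := algebraMap A (A ⊗[R] B)
  let M : Submonoid (A ⊗[R] B) := Q.asIdeal.primeCompl ⊔ c'.asIdeal.primeCompl.map φ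
  have hdisj : Disjoint ((c'.asIdeal.map φ : Ideal (A ⊗[R] B)) : Set (A ⊗[R] B)) (M : Set _) := by
    rw [Set.disjoint_left]
    intro x hxJ hxM
    obtain ⟨s, hs, d, hd, rfl⟩ := Submonoid.mem_sup.mp hxM
    obtain ⟨a, ha, rfl⟩ := hd
    change s ∉ Q.asIdeal at hs
    change a ∉ c'.asIdeal at ha
    -- the localization at `s`
    let Ts := Localization.Away s
    haveI : Algebra.FiniteType R Ts := Algebra.FiniteType.trans (S := A ⊗[R] B) inferInstance
      (IsLocalization.finiteType_of_monoid_fg (Submonoid.powers s) Ts)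
    have hJQ : c'.asIdeal.map φ ≤ Q.asIdeal := Ideal.map_le_iff_le_comap.mpr hle
    have hne : (c'.asIdeal.map φ).map (algebraMap (A ⊗[R] B) Ts) ≠ ⊤ := by
      intro htop
      have h1 : Q.asIdeal.map (algebraMap (A ⊗[R] B) Ts) = ⊤ :=
        top_le_iff.mp (htop ▸ Ideal.map_mono hJQ)
      have h2 := (IsLocalization.map_algebraMap_ne_top_iff_disjoint (Submonoid.powers s) Ts
        Q.asIdeal).mpr ?_
      · exact h2 h1
      · rw [Set.disjoint_left]
        rintro _ ⟨n, rfl⟩ hmem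
        exact hs (Q.isPrime.mem_of_pow_mem n hmem)
    obtain ⟨Mx, hMx, hJM⟩ := Ideal.exists_le_maximal _ hne
    let ψ : A →ₐ[R] Ts := (IsScalarTower.toAlgHom R (A ⊗[R] B) Ts).comp
      (IsScalarTower.toAlgHom R A (A ⊗[R] B))
    let Q₁ : PrimeSpectrum (A ⊗[R] B) := ⟨Mx.comap (algebraMap (A ⊗[R] B) Ts), inferInstance⟩
    let e : PrimeSpectrum A := comap φ Q₁
    have he : e.asIdeal = Mx.comap ψ := rfl
    have hsQ₁ : s ∉ Q₁.asIdeal := by
      intro hmem
      have h1 : algebraMap (A ⊗[R] B) Ts s ∈ Mx := hmem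
      exact hMx.ne_top (Ideal.eq_top_of_isUnit_mem _ h1 (IsLocalization.Away.algebraMap_isUnit s))
    have hJQ₁ : c'.asIdeal.map φ ≤ Q₁.asIdeal := by
      intro x hx
      exact hJM (Ideal.mem_map_of_mem _ hx)
    have hc'e : c' ≤ e := by
      intro x hx
      exact hJQ₁ (Ideal.mem_map_of_mem φ hx)
    have hae : a ∈ e.asIdeal := by
      change φ a ∈ Q₁.asIdeal
      rcases Q₁.isPrime.mem_or_mem (hJQ₁ hxJ) with h | h
      · exact absurd h hsQ₁
      · exact h
    have hCF : ∀ e' : PrimeSpectrum A, e ≤ e' →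
        comap (algebraMap R A) e' = comap (algebraMap R A) e → e' = e := by
      intro e' hee' hfib
      apply PrimeSpectrum.ext
      rw [he]
      exact eq_of_le_of_comap_eq ψ Mx e'.asIdeal hee' (congrArg PrimeSpectrum.asIdeal hfib)
    -- choose `P`
    let S : Set (Ideal A) := {I | I.IsPrime ∧ c'.asIdeal ≤ I ∧ I ≤ e.asIdeal ∧ a ∉ I}
    have hSne : S.Nonempty := ⟨c'.asIdeal, c'.isPrime, le_rfl, hc'e, ha⟩
    obtain ⟨PI, ⟨hPprime, hc'P, hPe, haP⟩, hPmax⟩ :=
      set_has_maximal_iff_noetherian.mpr (inferInstance : IsNoetherian A A) S hSne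
    let P : PrimeSpectrum A := ⟨PI, hPprime⟩
    have hmax : ∀ P' : PrimeSpectrum A, P ≤ P' → P' ≤ e → a ∉ P'.asIdeal → P' = P := by
      intro P' h1 h2 h3
      by_contra hne'
      have hlt : PI < P'.asIdeal := lt_of_le_of_ne h1 (fun h => hne' (PrimeSpectrum.ext h.symm))
      exact hPmax P'.asIdeal ⟨P'.isPrime, hc'P.trans h1, h2, h3⟩ hlt
    have hcov := eq_or_eq_of_maximal_not_mem P e hPe a haP hae hmax
    obtain ⟨Q₂, hQ₂, hQ₂P⟩ : ∃ Q₂ : PrimeSpectrum (A ⊗[R] B), Q₂ ≤ Q₁ ∧ comap φ Q₂ = P := by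
      by_cases hfib : comap (algebraMap R A) P = comap (algebraMap R A) e
      · exact exists_le_of_same_fibre P e hPe hfib Q₁ rfl
      · exact exists_le_of_horizontal HR P e hPe hcov hfib hCF Q₁ rfl
    have hJQ₂ : c'.asIdeal.map φ ≤ Q₂.asIdeal := by
      rw [Ideal.map_le_iff_le_comap]
      intro x hx
      have : x ∈ (comap φ Q₂).asIdeal := by rw [hQ₂P]; exact hc'P hx
      exact this
    have hsQ₂ : s ∉ Q₂.asIdeal := fun h => hsQ₁ (hQ₂ h)
    rcases Q₂.isPrime.mem_or_mem (hJQ₂ hxJ) with h | h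
    · exact hsQ₂ h
    · apply haP
      have : a ∈ (comap φ Q₂).asIdeal := h
      rwa [hQ₂P] at this
  obtain ⟨Q', hQ', hQ'le, hQ'd⟩ := Ideal.exists_le_prime_disjoint _ M hdisj
  refine ⟨⟨Q', hQ'⟩, ?_, ?_⟩
  · rw [← le_iff_specializes]
    intro b hb
    by_contra hbq
    exact Set.disjoint_left.mp hQ'd hb (Submonoid.mem_sup_left (S := Q.asIdeal.primeCompl) hbq)
  · apply PrimeSpectrum.ext
    apply le_antisymm
    · intro r hr
      by_contra hry
      exact Set.disjoint_left.mp hQ'd hr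
        (Submonoid.mem_sup_right (T := c'.asIdeal.primeCompl.map φ) ⟨r, hry, rfl⟩)
    · intro r hr
      exact hQ'le (Ideal.mem_map_of_mem φ hr)

end Ring

end Groth.Agent.H72.CurveUO
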