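import Mathlib
import Groth.Agent.H72.CurveUO

/-!
# The curve argument, pointwise version

Library of helper72.  Pointwise version of `CurveUO`: `GLiftAt_of_finite`.  For a Noetherian ring
`R`, an `R`-algebra `B` and a prime `qB` of `B`: if generizations lift along
`Spec (R' ⊗ B) → Spec R'` at all points over `qB`, for all finite `R`-algebras `R'`, then the same
holds for all finite type `R`-algebras `A`.
-/

set_option autoImplicit false

namespace Groth.Agent.H72.CurveUOAt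

open PrimeSpectrum TensorProduct Topology Polynomial
open Groth.Agent.H72.OpenAt Groth.Agent.H72.UOLimit Groth.Agent.H72.CurveUO

universe u

section Ring

variable (R B : Type u) [CommRing R] [CommRing B] [Algebra R B]

/-- The point of `Spec B` below a point of `Spec (A ⊗ B)`. -/
noncomputable abbrev ptB {A : Type u} [CommRing A] [Algebra R A] (Q : PrimeSpectrum (A ⊗[R] B)) :
    PrimeSpectrum B :=
  comap (Algebra.TensorProduct.includeRight (R := R) (A := A) (B := B)).toRingHom Q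

/-- `GLiftAt R B qB A`: generizations lift along `Spec (A ⊗ B) → Spec A` at the points
over `qB`. -/
def GLiftAt (qB : PrimeSpectrum B) (A : Type u) [CommRing A] [Algebra R A] : Prop :=
  ∀ Q : PrimeSpectrum (A ⊗[R] B), ptB R B Q = qB → GenLift (comap (algebraMap A (A ⊗[R] B))) Q

variable {R B}
variable {A₁ A₂ : Type u} [CommRing A₁] [CommRing A₂] [Algebra R A₁] [Algebra R A₂]

theorem ptB_comap_map (θ : A₁ →ₐ[R] A₂) (Q : PrimeSpectrum (A₂ ⊗[R] B)) :
    ptB R B (comap (Algebra.TensorProduct.map θ (AlgHom.id R B)).toRingHom Q) = ptB R B Q := by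
  apply PrimeSpectrum.ext
  ext b
  change Algebra.TensorProduct.map θ (AlgHom.id R B) ((1 : A₁) ⊗ₜ b) ∈ Q.asIdeal ↔
    (1 : A₂) ⊗ₜ[R] b ∈ Q.asIdeal
  rw [Algebra.TensorProduct.map_tmul, map_one]
  rfl

theorem GLiftAt_of_den (qB : PrimeSpectrum B) (θ : A₁ →ₐ[R] A₂)
    (hden : ∀ x : A₂, ∃ u : A₁, IsUnit (θ u) ∧ θ u * x ∈ Set.range θ) (h : GLiftAt R B qB A₁) :
    GLiftAt R B qB A₂ := by
  intro Q hQB p' hp'
  set Θ := Algebra.TensorProduct.map θ (AlgHom.id R B) with hΘ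
  have h1 : comap θ.toRingHom p' ⤳ comap (algebraMap A₁ (A₁ ⊗[R] B)) (comap Θ.toRingHom Q) := by
    rw [comap_comap_map]
    exact hp'.map (continuous_comap θ.toRingHom)
  obtain ⟨q', hq', hq'p⟩ := h (comap Θ.toRingHom Q) (by rw [ptB_comap_map, hQB]) _ h1
  obtain ⟨Q', hQ'1, hQ'2⟩ := exists_prime_tensor θ q' p' hq'p
  refine ⟨Q', ?_, hQ'2⟩
  rw [← le_iff_specializes]
  intro y hy
  obtain ⟨u, hu, y₁, hy₁⟩ := exists_den_tensor θ hden y
  have h2 : Θ y₁ ∈ Q'.asIdeal := by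
    rw [← hy₁]
    exact Ideal.mul_mem_left _ _ hy
  have h3 : y₁ ∈ q'.asIdeal := by
    rw [← hQ'1]
    exact h2
  have h4 : y₁ ∈ (comap Θ.toRingHom Q).asIdeal := (le_iff_specializes _ _).mpr hq' h3
  have h5 : (θ u ⊗ₜ[R] (1 : B)) * y ∈ Q.asIdeal := by
    rw [hy₁]
    exact h4
  have h6 : IsUnit (θ u ⊗ₜ[R] (1 : B)) := by
    have := hu.map (algebraMap A₂ (A₂ ⊗[R] B))
    exact this
  rcases Q.isPrime.mem_or_mem h5 with h7 | h7
  · exact absurd (Q.asIdeal.eq_top_of_isUnit_mem h7 h6) Q.isPrime.ne_top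
  · exact h7

variable {A : Type u} [CommRing A] [Algebra R A]

/-- Going down via an extension of the base over which generizations lift. -/
theorem exists_le_of_GLiftAt_extension (qB : PrimeSpectrum B)
    {F : Type u} [CommRing F] [Algebra R F] (θ : A →ₐ[R] F)
    (hgl : GLiftAt R B qB F) (PF eF : PrimeSpectrum F) (hle : PF ≤ eF)
    (Q₁ : PrimeSpectrum (A ⊗[R] B)) (hQ₁B : ptB R B Q₁ = qB)
    (hQ₁ : comap (algebraMap A (A ⊗[R] B)) Q₁ = comap θ.toRingHom eF) :
    ∃ Q₂ : PrimeSpectrum (A ⊗[R] B), Q₂ ≤ Q₁ ∧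
      comap (algebraMap A (A ⊗[R] B)) Q₂ = comap θ.toRingHom PF := by
  obtain ⟨Q₁', hQ₁'1, hQ₁'2⟩ := exists_prime_tensor (B := B) θ Q₁ eF hQ₁
  obtain ⟨Q₂', hQ₂', hQ₂'P⟩ := hgl Q₁' (by rw [← ptB_comap_map θ Q₁', hQ₁'1, hQ₁B]) PF
    (by rw [hQ₁'2]; exact (le_iff_specializes _ _).mp hle)
  refine ⟨comap (Algebra.TensorProduct.map θ (AlgHom.id R B)).toRingHom Q₂', ?_, ?_⟩
  · rw [← hQ₁'1]
    exact (le_iff_specializes _ _).mpr
      (hQ₂'.map (continuous_comap (Algebra.TensorProduct.map θ (AlgHom.id R B)).toRingHom))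
  · rw [comap_comap_map, hQ₂'P]

/-- Horizontal case for a domain `D` at a prime `ē` covering `0`. -/
theorem GLiftAt_localization_of_quasiFiniteAt (qB : PrimeSpectrum B)
    {D : Type u} [CommRing D] [IsDomain D] [Algebra R D]
    [Algebra.FiniteType R D]
    (HR : ∀ (R' : Type u) [CommRing R'] [Algebra R R'] [Module.Finite R R'], GLiftAt R B qB R')
    (ē : Ideal D) [ē.IsPrime] [Algebra.QuasiFiniteAt R ē] :
    ∃ r : D, r ∉ ē ∧ GLiftAt R B qB (Localization.Away r) := by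
  obtain ⟨R', hR'fg, r, hr, hbij⟩ :=
    Algebra.QuasiFiniteAt.exists_fg_and_exists_notMem_and_awayMap_bijective (R := R) ē
  haveI : Module.Finite R R' := ⟨(Submodule.fg_top _).mpr hR'fg⟩
  refine ⟨r.1, hr, ?_⟩
  let θ₁ : R' →ₐ[R] Localization.Away r.1 :=
    (IsScalarTower.toAlgHom R D (Localization.Away r.1)).comp R'.val
  apply GLiftAt_of_den qB θ₁ _ (HR R')
  intro x
  obtain ⟨y, rfl⟩ := hbij.2 x
  obtain ⟨n, y₁, hy₁⟩ := IsLocalization.Away.surj r y
  refine ⟨r ^ n, ?_, y₁, ?_⟩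
  · rw [map_pow]
    apply IsUnit.pow
    exact IsLocalization.Away.algebraMap_isUnit r.1
  · have e1 : ∀ z : R', Localization.awayMap R'.val.toRingHom r (algebraMap R' _ z) =
        algebraMap D (Localization.Away r.1) (z : D) := fun z => IsLocalization.map_eq _ _
    have key := congrArg (Localization.awayMap R'.val.toRingHom r) hy₁
    rw [map_mul, map_pow, e1, e1] at key
    have h3 : θ₁ (r ^ n) = algebraMap D (Localization.Away r.1) (r.1) ^ n := by
      rw [map_pow]; rfl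
    rw [h3]
    exact key.symm.trans (mul_comm _ _)

/-- Horizontal case. -/
theorem exists_le_of_horizontal_at (qB : PrimeSpectrum B) [Algebra.FiniteType R A]
    (HR : ∀ (R' : Type u) [CommRing R'] [Algebra R R'] [Module.Finite R R'], GLiftAt R B qB R')
    (P e : PrimeSpectrum A) (hPe : P ≤ e)
    (hcov : ∀ P' : PrimeSpectrum A, P ≤ P' → P' ≤ e → P' = P ∨ P' = e)
    (hfib : comap (algebraMap R A) P ≠ comap (algebraMap R A) e)
    (hCF : ∀ e' : PrimeSpectrum A, e ≤ e' →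
      comap (algebraMap R A) e' = comap (algebraMap R A) e → e' = e)
    (Q₁ : PrimeSpectrum (A ⊗[R] B)) (hQ₁B : ptB R B Q₁ = qB)
    (hQ₁ : comap (algebraMap A (A ⊗[R] B)) Q₁ = e) :
    ∃ Q₂ : PrimeSpectrum (A ⊗[R] B), Q₂ ≤ Q₁ ∧ comap (algebraMap A (A ⊗[R] B)) Q₂ = P := by
  let mkD : A →ₐ[R] A ⧸ P.asIdeal := Ideal.Quotient.mkₐ R P.asIdeal
  let f : A →+* A ⧸ P.asIdeal := Ideal.Quotient.mk P.asIdeal
  have hsurj : Function.Surjective f := Ideal.Quotient.mk_surjective
  have hker : RingHom.ker f = P.asIdeal := Ideal.mk_ker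
  haveI : (e.asIdeal.map f).IsPrime :=
    Ideal.map_isPrime_of_surjective hsurj (by rw [hker]; exact hPe)
  let ēD : PrimeSpectrum (A ⧸ P.asIdeal) := ⟨e.asIdeal.map f, inferInstance⟩
  have hcomap : comap f ēD = e := by
    apply PrimeSpectrum.ext
    change (e.asIdeal.map f).comap f = e.asIdeal
    rw [Ideal.comap_map_of_surjective _ hsurj, ← RingHom.ker_eq_comap_bot, hker]
    exact sup_eq_left.mpr hPe
  have hPle : ∀ q : PrimeSpectrum (A ⧸ P.asIdeal), P ≤ comap f q := by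
    intro q a ha
    change f a ∈ q.asIdeal
    have : f a = 0 := by
      rw [Ideal.Quotient.eq_zero_iff_mem]; exact ha
    rw [this]; exact zero_mem _
  have hinj : Function.Injective (comap f) := comap_injective_of_surjective _ hsurj
  have hfibD : ∀ q : PrimeSpectrum (A ⧸ P.asIdeal), comap (algebraMap R (A ⧸ P.asIdeal)) q =
      comap (algebraMap R A) (comap f q) := by
    intro q
    rw [← comap_comp_apply]
    congr 1
  haveI : Algebra.FiniteType R (A ⧸ P.asIdeal) := Algebra.FiniteType.of_surjective mkD hsurj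
  haveI : Algebra.QuasiFiniteAt R ēD.asIdeal := by
    apply quasiFiniteAt_of_isMin_of_isMax
    · intro q hq hqfib
      have h1 : comap f q ≤ e := by
        rw [← hcomap]
        exact fun a ha => hq ha
      rcases hcov _ (hPle q) h1 with h2 | h2
      · exfalso
        apply hfib
        rw [← h2, ← hfibD, hqfib, hfibD, hcomap]
      · apply hinj
        rw [h2, hcomap]
    · intro q hq hqfib
      have h1 : e ≤ comap f q := by
        rw [← hcomap]
        exact fun a ha => hq ha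
      apply hinj
      rw [hcomap]
      apply hCF _ h1
      rw [← hfibD, hqfib, hfibD, hcomap]
  obtain ⟨r, hr, hgl⟩ := GLiftAt_localization_of_quasiFiniteAt (B := B) qB HR ēD.asIdeal
  have hr0 : r ≠ 0 := by
    rintro rfl
    exact hr (zero_mem _)
  have hpow : Submonoid.powers r ≤ nonZeroDivisors (A ⧸ P.asIdeal) :=
    powers_le_nonZeroDivisors_of_noZeroDivisors hr0
  haveI : IsDomain (Localization.Away r) := IsLocalization.isDomain_localization hpow
  let θ₂ : A →ₐ[R] Localization.Away r :=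
    (IsScalarTower.toAlgHom R (A ⧸ P.asIdeal) (Localization.Away r)).comp mkD
  have hdisj : Disjoint (Submonoid.powers r : Set (A ⧸ P.asIdeal)) (ēD.asIdeal : Set _) := by
    rw [Set.disjoint_left]
    rintro _ ⟨n, rfl⟩ hmem
    exact hr (ēD.isPrime.mem_of_pow_mem n hmem)
  haveI : (ēD.asIdeal.map (algebraMap (A ⧸ P.asIdeal) (Localization.Away r))).IsPrime :=
    IsLocalization.isPrime_of_isPrime_disjoint (Submonoid.powers r) _ _ ēD.isPrime hdisj
  let er : PrimeSpectrum (Localization.Away r) :=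
    ⟨ēD.asIdeal.map (algebraMap (A ⧸ P.asIdeal) (Localization.Away r)), inferInstance⟩
  let botr : PrimeSpectrum (Localization.Away r) := ⟨⊥, Ideal.isPrime_bot⟩
  have her : comap θ₂.toRingHom er = e := by
    rw [← hcomap]
    apply PrimeSpectrum.ext
    change ((ēD.asIdeal.map (algebraMap (A ⧸ P.asIdeal) (Localization.Away r))).under
      (A ⧸ P.asIdeal)).comap f = _
    rw [IsLocalization.under_map_of_isPrime_disjoint (Submonoid.powers r) _ ēD.isPrime hdisj]
    rfl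
  have hbotr : comap θ₂.toRingHom botr = P := by
    apply PrimeSpectrum.ext
    ext a
    change algebraMap (A ⧸ P.asIdeal) (Localization.Away r) (f a) ∈ (⊥ : Ideal _) ↔ _
    rw [Ideal.mem_bot, IsLocalization.to_map_eq_zero_iff (Localization.Away r) hpow,
      Ideal.Quotient.eq_zero_iff_mem]
  obtain ⟨Q₂, hQ₂, hQ₂P⟩ := exists_le_of_GLiftAt_extension qB θ₂ hgl botr er bot_le Q₁ hQ₁B
    (by rw [hQ₁, her])
  exact ⟨Q₂, hQ₂, by rw [hQ₂P, hbotr]⟩

end Ring

section Q1

variable {R B : Type u} [CommRing R] [CommRing B] [Algebra R B]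

/-- Openness over a field in a tower. -/
theorem isOpenMap_comap_tensor_of_field_tower (k F C : Type u) [Field k] [Algebra R k]
    [CommRing F] [Algebra R F] [Algebra k F] [IsScalarTower R k F] [CommRing C] [Algebra R C] :
    IsOpenMap (comap (algebraMap F (F ⊗[R] C))) := by
  let e := Algebra.TensorProduct.cancelBaseChange R k F F C
  have h1 : IsOpenMap (comap (algebraMap F (F ⊗[k] (k ⊗[R] C)))) :=
    PrimeSpectrum.isOpenMap_comap_algebraMap_tensorProduct_of_field
  have h2 : IsOpenMap (comap e.toAlgHom.toRingHom) :=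
    (isHomeomorph_comap_of_bijective (f := e.toAlgHom.toRingHom) e.bijective).isOpenMap
  have heq : comap (algebraMap F (F ⊗[k] (k ⊗[R] C))) ∘ comap e.toAlgHom.toRingHom =
      comap (algebraMap F (F ⊗[R] C)) := by
    funext w
    simp only [Function.comp_apply]
    rw [← comap_comp_apply]
    congr 1
    exact e.toAlgHom.comp_algebraMap
  rw [← heq]
  exact h1.comp h2

theorem exists_prime_field_tower {A k F K : Type u} [CommRing A] [Algebra R A] [Field k]
    [Algebra R k] [CommRing F] [Algebra R F] [Algebra k F] [IsScalarTower R k F]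
    [Algebra.FiniteType k F] [Field K] [Algebra R K] (θ : A →ₐ[R] F) (θK : B →ₐ[R] K)
    (Q : PrimeSpectrum (A ⊗[R] B)) (pF : PrimeSpectrum F)
    (hpF : comap (algebraMap A (A ⊗[R] B)) Q = comap θ.toRingHom pF)
    (hK : ptB R B Q = comap θK.toRingHom ⟨⊥, Ideal.isPrime_bot⟩)
    (Z : Set (PrimeSpectrum F)) (hZ : IsClosed Z) (hpZ : pF ∈ Z) (s : A ⊗[R] B)
    (hs : s ∉ Q.asIdeal) :
    ∃ Q₁ : PrimeSpectrum (F ⊗[R] K), Algebra.TensorProduct.map θ θK s ∉ Q₁.asIdeal ∧
      comap (algebraMap F (F ⊗[R] K)) Q₁ ∈ Z ∧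
      IsClosed {comap (algebraMap F (F ⊗[R] K)) Q₁} := by
  obtain ⟨Q', hQ'1, hQ'2⟩ := exists_prime_tensor (B := B) θ Q pF hpF
  have h1 : comap (Algebra.TensorProduct.includeRight (R := R) (A := F) (B := B)).toRingHom Q' =
      comap θK.toRingHom ⟨⊥, Ideal.isPrime_bot⟩ := by
    have := ptB_comap_map θ Q'
    rw [hQ'1] at this
    rw [← hK]
    exact this.symm
  obtain ⟨Q'', hQ''1, hQ''2⟩ := exists_prime_tensor' (B := F) θK Q' ⟨⊥, Ideal.isPrime_bot⟩ h1
  set Θ := Algebra.TensorProduct.map θ θK with hΘdef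
  have hΘ : ∀ t, Θ t = Algebra.TensorProduct.map (AlgHom.id F F) θK
      (Algebra.TensorProduct.map θ (AlgHom.id R B) t) := by
    intro t
    induction t using TensorProduct.induction_on with
    | zero => simp
    | tmul a b => simp [hΘdef]
    | add x y hx hy => rw [map_add, map_add, map_add, hx, hy]
  have hQ''Q : ∀ t, Θ t ∈ Q''.asIdeal ↔ t ∈ Q.asIdeal := by
    intro t
    rw [hΘ, ← hQ'1, ← hQ''1]
    rfl
  have hopen := isOpenMap_comap_tensor_of_field_tower (R := R) k F K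
  have hV : IsOpen (comap (algebraMap F (F ⊗[R] K)) '' (basicOpen (Θ s) : Set _)) :=
    hopen _ (basicOpen (Θ s)).isOpen
  have hQ''U : Q'' ∈ (basicOpen (Θ s) : Set (PrimeSpectrum (F ⊗[R] K))) := by
    change Θ s ∉ Q''.asIdeal
    rw [hQ''Q]
    exact hs
  have hpF' : comap (algebraMap F (F ⊗[R] K)) Q'' = pF := by
    rw [← hQ'2, ← hQ''1, ← comap_comp_apply]
    congr 1
    exact ((Algebra.TensorProduct.map (AlgHom.id F F) θK).comp_algebraMap).symm
  have : IsJacobsonRing F := isJacobsonRing_of_finiteType (A := k)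
  obtain ⟨m, ⟨⟨Q₁, hQ₁U, rfl⟩, hmZ⟩, hmcl⟩ := nonempty_inter_closedPoints
    (Z := (comap (algebraMap F (F ⊗[R] K)) '' (basicOpen (Θ s) : Set _)) ∩ Z)
    ⟨pF, ⟨Q'', hQ''U, hpF'⟩, hpZ⟩ (hV.isLocallyClosed.inter hZ.isLocallyClosed)
  exact ⟨Q₁, hQ₁U, hmZ, hmcl⟩

theorem exists_prime_closed_fibre {A : Type u} [CommRing A] [Algebra R A] [Algebra.FiniteType R A]
    (Q : PrimeSpectrum (A ⊗[R] B)) (I : Ideal A)
    (hI : I ≤ (comap (algebraMap A (A ⊗[R] B)) Q).asIdeal) (s : A ⊗[R] B) (hs : s ∉ Q.asIdeal) :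
    ∃ Q₁ : PrimeSpectrum (A ⊗[R] B), ptB R B Q₁ = ptB R B Q ∧
      I ≤ (comap (algebraMap A (A ⊗[R] B)) Q₁).asIdeal ∧ s ∉ Q₁.asIdeal ∧
      ∀ e' : PrimeSpectrum A, comap (algebraMap A (A ⊗[R] B)) Q₁ ≤ e' →
        comap (algebraMap R A) e' =
          comap (algebraMap R A) (comap (algebraMap A (A ⊗[R] B)) Q₁) →
        e' = comap (algebraMap A (A ⊗[R] B)) Q₁ := by
  set qB := ptB R B Q with hqB
  set eQ := comap (algebraMap A (A ⊗[R] B)) Q with heQ
  set c₀ := comap (algebraMap R A) eQ with hc₀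
  let θ : A →ₐ[R] c₀.asIdeal.Fiber A := Algebra.TensorProduct.includeRight
  let o := PrimeSpectrum.preimageOrderIsoFiber R A c₀
  let θK : B →ₐ[R] qB.asIdeal.ResidueField := IsScalarTower.toAlgHom R B _
  let pF : PrimeSpectrum (c₀.asIdeal.Fiber A) := o ⟨eQ, rfl⟩
  have hpF : eQ = comap θ.toRingHom pF :=
    (congrArg Subtype.val (o.symm_apply_apply ⟨eQ, rfl⟩)).symm
  have hK : ptB R B Q = comap θK.toRingHom ⟨⊥, Ideal.isPrime_bot⟩ := by
    apply PrimeSpectrum.ext
    ext b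
    change b ∈ qB.asIdeal ↔ algebraMap B qB.asIdeal.ResidueField b ∈ (⊥ : Ideal _)
    rw [Ideal.mem_bot, Ideal.algebraMap_residueField_eq_zero]
  let Z : Set (PrimeSpectrum (c₀.asIdeal.Fiber A)) := comap θ.toRingHom ⁻¹' zeroLocus I
  have hZ : IsClosed Z := (isClosed_zeroLocus _).preimage (continuous_comap θ.toRingHom)
  have hpZ : pF ∈ Z := by
    change comap θ.toRingHom pF ∈ zeroLocus (I : Set A)
    rw [← hpF]
    exact hI
  obtain ⟨Q₁G, hsQ₁G, hQ₁Z, hcl⟩ := exists_prime_field_tower (k := c₀.asIdeal.ResidueField)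
    θ θK Q pF hpF hK Z hZ hpZ s hs
  set Θ := Algebra.TensorProduct.map θ θK with hΘdef
  set m := comap (algebraMap (c₀.asIdeal.Fiber A) (c₀.asIdeal.Fiber A ⊗[R] qB.asIdeal.ResidueField))
    Q₁G with hm
  have hmmax : m.asIdeal.IsMaximal := (isClosed_singleton_iff_isMaximal _).mp hcl
  have heq : comap (algebraMap A (A ⊗[R] B)) (comap Θ.toRingHom Q₁G) = comap θ.toRingHom m := by
    apply PrimeSpectrum.ext
    ext a
    change Θ (a ⊗ₜ 1) ∈ Q₁G.asIdeal ↔ (θ a) ⊗ₜ[R] (1 : qB.asIdeal.ResidueField) ∈ Q₁G.asIdeal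
    rw [hΘdef, Algebra.TensorProduct.map_tmul, map_one]
  refine ⟨comap Θ.toRingHom Q₁G, ?_, ?_, ?_, ?_⟩
  · apply PrimeSpectrum.ext
    ext b
    change Θ (1 ⊗ₜ b) ∈ Q₁G.asIdeal ↔ b ∈ qB.asIdeal
    rw [hΘdef, Algebra.TensorProduct.map_tmul, map_one]
    constructor
    · intro h
      by_contra hb
      have hu : IsUnit (θK b) := by
        rw [isUnit_iff_ne_zero]
        intro h0
        exact hb ((Ideal.algebraMap_residueField_eq_zero).mp h0)
      have hu' : IsUnit ((1 : c₀.asIdeal.Fiber A) ⊗ₜ[R] (θK b)) :=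
        hu.map (Algebra.TensorProduct.includeRight (R := R) (A := c₀.asIdeal.Fiber A)
          (B := qB.asIdeal.ResidueField))
      exact Q₁G.isPrime.ne_top (Ideal.eq_top_of_isUnit_mem _ h hu')
    · intro hb
      have h0 : θK b = 0 := (Ideal.algebraMap_residueField_eq_zero).mpr hb
      rw [h0, TensorProduct.tmul_zero]
      exact zero_mem _
  · rw [heq]
    exact hQ₁Z
  · exact hsQ₁G
  · rw [heq]
    intro e' hle hfib
    have hmfib : comap (algebraMap R A) (comap θ.toRingHom m) = c₀ := (o.symm m).2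
    have he'fib : comap (algebraMap R A) e' = c₀ := by rw [hfib, hmfib]
    have h1 : o ⟨comap θ.toRingHom m, hmfib⟩ = m := o.apply_symm_apply m
    have h2 : o ⟨comap θ.toRingHom m, hmfib⟩ ≤ o ⟨e', he'fib⟩ := o.monotone hle
    rw [h1] at h2
    have h3 : o ⟨e', he'fib⟩ = m := by
      apply PrimeSpectrum.ext
      exact (hmmax.eq_of_le (o ⟨e', he'fib⟩).isPrime.ne_top h2).symm
    have h4 := congrArg Subtype.val (o.symm_apply_apply ⟨e', he'fib⟩)
    rw [h3] at h4
    exact h4.symm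

end Q1

section Main

variable {R B : Type u} [CommRing R] [CommRing B] [Algebra R B]

/-- (RL), pointwise version. -/
theorem GLiftAt_of_finite [IsNoetherianRing R] (qB : PrimeSpectrum B)
    (HR : ∀ (R' : Type u) [CommRing R'] [Algebra R R'] [Module.Finite R R'], GLiftAt R B qB R')
    (A : Type u) [CommRing A] [Algebra R A] [Algebra.FiniteType R A] : GLiftAt R B qB A := by
  intro Q hQB c' hc'
  have hle : c'.asIdeal ≤ (comap (algebraMap A (A ⊗[R] B)) Q).asIdeal :=
    (le_iff_specializes _ _).mpr hc'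
  haveI : IsNoetherianRing A := Algebra.FiniteType.isNoetherianRing R A
  let φ := algebraMap A (A ⊗[R] B)
  let M : Submonoid (A ⊗[R] B) := Q.asIdeal.primeCompl ⊔ c'.asIdeal.primeCompl.map φ
  have hdisj : Disjoint ((c'.asIdeal.map φ : Ideal (A ⊗[R] B)) : Set (A ⊗[R] B)) (M : Set _) := by
    rw [Set.disjoint_left]
    intro x hxJ hxM
    obtain ⟨s, hs, d, hd, rfl⟩ := Submonoid.mem_sup.mp hxM
    obtain ⟨a, ha, rfl⟩ := hd
    change s ∉ Q.asIdeal at hs
    change a ∉ c'.asIdeal at ha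
    obtain ⟨Q₁, hQ₁B, hc'Q₁, hsQ₁, hCF⟩ := exists_prime_closed_fibre Q c'.asIdeal hle s hs
    set e : PrimeSpectrum A := comap φ Q₁ with he
    have hJQ₁ : c'.asIdeal.map φ ≤ Q₁.asIdeal := Ideal.map_le_iff_le_comap.mpr hc'Q₁
    have hc'e : c' ≤ e := hc'Q₁
    have hae : a ∈ e.asIdeal := by
      change φ a ∈ Q₁.asIdeal
      rcases Q₁.isPrime.mem_or_mem (hJQ₁ hxJ) with h | h
      · exact absurd h hsQ₁
      · exact h
    -- choose `P`
    let S : Set (Ideal A) := {I | I.IsPrime ∧ c'.asIdeal ≤ I ∧ I ≤ e.asIdeal ∧ a ∉ I}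
    have hSne : S.Nonempty := ⟨c'.asIdeal, c'.isPrime, le_rfl, hc'e, ha⟩
    obtain ⟨PI, ⟨hPprime, hc'P, hPe, haP⟩, hPmax⟩ :=
      set_has_maximal_iff_noetherian.mpr (inferInstance : IsNoetherian A A) S hSne
    let P : PrimeSpectrum A := ⟨PI, hPprime⟩
    have hmax : ∀ P' : PrimeSpectrum A, P ≤ P' → P' ≤ e → a ∉ P'.asIdeal → P' = P := by
      intro P' h1 h2 h3
      by_contra hne'
      have hlt : PI < P'.asIdeal := lt_of_le_of_ne h1 (fun h => hne' (PrimeSpectrum.ext h.symm))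
      exact hPmax P'.asIdeal ⟨P'.isPrime, hc'P.trans h1, h2, h3⟩ hlt
    have hcov := eq_or_eq_of_maximal_not_mem P e hPe a haP hae hmax
    obtain ⟨Q₂, hQ₂, hQ₂P⟩ : ∃ Q₂ : PrimeSpectrum (A ⊗[R] B), Q₂ ≤ Q₁ ∧ comap φ Q₂ = P := by
      by_cases hfib : comap (algebraMap R A) P = comap (algebraMap R A) e
      · exact exists_le_of_same_fibre P e hPe hfib Q₁ rfl
      · exact exists_le_of_horizontal_at qB HR P e hPe hcov hfib hCF Q₁ (hQ₁B.trans hQB) rfl
    have hJQ₂ : c'.asIdeal.map φ ≤ Q₂.asIdeal := by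
      rw [Ideal.map_le_iff_le_comap]
      intro x hx
      have : x ∈ (comap φ Q₂).asIdeal := by rw [hQ₂P]; exact hc'P hx
      exact this
    have hsQ₂ : s ∉ Q₂.asIdeal := fun h => hsQ₁ (hQ₂ h)
    rcases Q₂.isPrime.mem_or_mem (hJQ₂ hxJ) with h | h
    · exact hsQ₂ h
    · apply haP
      have : a ∈ (comap φ Q₂).asIdeal := h
      rwa [hQ₂P] at this
  obtain ⟨Q', hQ', hQ'le, hQ'd⟩ := Ideal.exists_le_prime_disjoint _ M hdisj
  refine ⟨⟨Q', hQ'⟩, ?_, ?_⟩
  · rw [← le_iff_specializes]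
    intro b hb
    by_contra hbq
    exact Set.disjoint_left.mp hQ'd hb (Submonoid.mem_sup_left (S := Q.asIdeal.primeCompl) hbq)
  · apply PrimeSpectrum.ext
    apply le_antisymm
    · intro r hr
      by_contra hry
      exact Set.disjoint_left.mp hQ'd hr
        (Submonoid.mem_sup_right (T := c'.asIdeal.primeCompl.map φ) ⟨r, hry, rfl⟩)
    · intro r hr
      exact hQ'le (Ideal.mem_map_of_mem φ hr)

end Main

end Groth.Agent.H72.CurveUOAt
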