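import Groth.Agent.H72.Chev45d
import Groth.Agent.Lib.Helper55.EquidimSub
import Groth.Agent.Lib.Helper55.OpenAtDim

/-!
# A morphism equidimensional at `x` over a geometrically unibranch point has an equidimensional
local ring at `x` (EGA IV 14.4.6, a) ⇒ b))

Library of helper72.
-/

set_option autoImplicit false

namespace Groth.Agent.H72.EquidimStalk

open CategoryTheory AlgebraicGeometry Limits EGA43 TopologicalSpace Topology
open Groth.Agent.Lib.Helper55

universe u

/-- Variant of `OpenUO.isEquidimAt_of_irreducible` without irreducibility of the base. -/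
theorem isEquidimAt_of_irreducible' {X₁ Y : Scheme.{u}} [IrreducibleSpace X₁]
    [IsLocallyNoetherian Y] (g : X₁ ⟶ Y) [LocallyOfFiniteType g] (x₁ : X₁) (d : ℕ)
    (hgen : closure ({g.base (genericPoint X₁)} : Set Y) ∈ irreducibleComponents (Y : Type u))
    (htr : @Algebra.trdeg (Y.residueField (g.base (genericPoint X₁)))
      (X₁.residueField (genericPoint X₁)) _ _
      (g.residueFieldMap (genericPoint X₁)).hom.toAlgebra = d)
    (hfd : FlatMor.fibreDimAt g x₁ ≤ d) : EGA43.IsEquidimAt g x₁ := by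
  have hξ : IsGenericPoint (genericPoint X₁) (Set.univ : Set X₁) := genericPoint_spec X₁
  apply isEquidimAt_of_components g x₁ d
  intro Xj hXj hx
  rw [irreducibleComponents_eq_singleton, Set.mem_singleton_iff] at hXj
  subst hXj
  have himg : closure (g.base '' (Set.univ : Set X₁)) =
      closure ({g.base (genericPoint X₁)} : Set Y) :=
    closure_image_eq_of_isGenericPoint g Set.univ _ hξ
  refine ⟨?_, ?_, ?_⟩
  · rw [himg]; exact hgen
  · intro η hηc
    rw [himg] at hηc
    have hηeq : g.base (genericPoint X₁) = η :=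
      (show IsGenericPoint (g.base (genericPoint X₁)) (closure {g.base (genericPoint X₁)}) from
        rfl).eq hηc
    obtain ⟨m, hm1, hm2⟩ := Groth.Agent.S3393.dim_closure_inter_fibre g η (genericPoint X₁) hηeq
    rw [hξ.def] at hm1
    have hmd : m = d := by
      have : ((m : ℕ) : Cardinal) = ((d : ℕ) : Cardinal) := by rw [← hm2, ← htr]
      exact_mod_cast this
    rw [hm1, hmd]
  · apply le_antisymm
    · exact (localDim_inter_fibre_le g Set.univ x₁ hx).trans hfd
    · exact trdeg_le_localDim_inter_fibre g ⟨Set.univ, isClosed_univ⟩ x₁ (genericPoint X₁)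
        hx (Set.mem_univ _) (hξ.specializes (Set.mem_univ _)) d htr

/-- For a closed point-like pair `z ⤳ x₁` in the same fibre of `g`, the codimension of `x₁` in the
closure of `z` is at least the drop of the transcendence degrees. -/
theorem trdeg_le_stalk_closure_add_trdeg {X₁ Y : Scheme.{u}} [IsLocallyNoetherian Y]
    (g : X₁ ⟶ Y) [LocallyOfFiniteType g] (z x₁ : X₁) (hzx : z ⤳ x₁) (hfz : g.base z = g.base x₁)
    {U : X₁.Opens} (hU : IsAffineOpen U) (hxU : x₁ ∈ U) (hzU : z ∈ U) (n t : ℕ)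
    (hn : @Algebra.trdeg (Y.residueField (g.base z)) (X₁.residueField z) _ _
      (g.residueFieldMap z).hom.toAlgebra = n)
    (ht : @Algebra.trdeg (Y.residueField (g.base x₁)) (X₁.residueField x₁) _ _
      (g.residueFieldMap x₁).hom.toAlgebra = t) :
    (n : WithBot ℕ∞) ≤ ((((hU.primeIdealOf ⟨x₁, hxU⟩).asIdeal.map
        (Ideal.Quotient.mk (hU.primeIdealOf ⟨z, hzU⟩).asIdeal)).height : ℕ∞) : WithBot ℕ∞) +
      (t : WithBot ℕ∞) := by
  have hX₁ : IsLocallyNoetherian X₁ := LocallyOfFiniteType.isLocallyNoetherian g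
  obtain ⟨Zc, hZc⟩ : ∃ Zc : TopologicalSpace.Closeds X₁, (Zc : Set X₁) = closure {z} :=
    ⟨⟨closure {z}, isClosed_closure⟩, rfl⟩
  have hrange : Set.range (Scheme.IdealSheafData.vanishingIdeal Zc).subschemeι.base =
      closure {z} := by
    rw [Scheme.IdealSheafData.range_subschemeι, Scheme.IdealSheafData.coe_support_vanishingIdeal,
      hZc]
  have hirrZ : IsIrreducible
      (Set.range (Scheme.IdealSheafData.vanishingIdeal Zc).subschemeι.base) := by
    rw [hrange]; exact isIrreducible_singleton.closure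
  haveI : IrreducibleSpace ↥(Scheme.IdealSheafData.vanishingIdeal Zc).subscheme :=
    irreducibleSpace_of_isEmbedding _
      (Scheme.IdealSheafData.vanishingIdeal Zc).subschemeι.isEmbedding hirrZ
  obtain ⟨x', hx'⟩ : x₁ ∈ Set.range (Scheme.IdealSheafData.vanishingIdeal Zc).subschemeι.base := by
    rw [hrange]; exact specializes_iff_mem_closure.mp hzx
  have hgp : (Scheme.IdealSheafData.vanishingIdeal Zc).subschemeι.base
      (genericPoint ↥(Scheme.IdealSheafData.vanishingIdeal Zc).subscheme) = z := by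
    have h1 : IsGenericPoint ((Scheme.IdealSheafData.vanishingIdeal Zc).subschemeι.base
        (genericPoint ↥(Scheme.IdealSheafData.vanishingIdeal Zc).subscheme))
        (closure ((Scheme.IdealSheafData.vanishingIdeal Zc).subschemeι.base '' Set.univ)) :=
      (genericPoint_spec _).image (Scheme.IdealSheafData.vanishingIdeal Zc).subschemeι.continuous
    rw [Set.image_univ, hrange, closure_closure] at h1
    exact h1.eq (show IsGenericPoint z (closure {z}) from rfl)
  subst hgp
  subst hx'
  rw [← ringKrullDim_stalk_closedImmersion (Scheme.IdealSheafData.vanishingIdeal Zc).subschemeι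
    x' hU hxU hzU]
  -- the fibre of the closed subscheme
  obtain ⟨t', ht', hfd⟩ := fibreDimAt_eq_stalk_fiber_add_trdeg
    ((Scheme.IdealSheafData.vanishingIdeal Zc).subschemeι ≫ g) x'
  rw [trdeg_residueField_preimmersion_comp, ht] at ht'
  have htt' : t' = t := by exact_mod_cast ht'.symm
  subst htt'
  have h1 := trdeg_le_fibreDimAt_of_specializes
    ((Scheme.IdealSheafData.vanishingIdeal Zc).subschemeι ≫ g)
    (genericPoint ↥(Scheme.IdealSheafData.vanishingIdeal Zc).subscheme) x'
    (Groth.Agent.Lib.Helper55.genericPoint_specializes x') n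
    (by rw [trdeg_residueField_preimmersion_comp]; exact hn)
  rw [hfd] at h1
  refine h1.trans (add_le_add_left ?_ _)
  exact ringKrullDim_stalk_fiber_le _ x'

set_option backward.isDefEq.respectTransparency.types false in
/-- **Lower bound of the dimension formula** for an irreducible scheme equidimensional over a
geometrically unibranch point: `dim O_{Y,y} + e ≤ dim O_{X₁,x₁} + trdeg κ(x₁)/κ(y)`. -/
theorem stalk_add_le_of_irreducible {X₁ Y : Scheme.{u}} [IrreducibleSpace X₁]
    [IsLocallyNoetherian Y] (g : X₁ ⟶ Y) [LocallyOfFiniteType g] (x₁ : X₁) (e t : ℕ)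
    (hY : CAlg2.IsGeomUnibranch (Y.presheaf.stalk (g.base x₁)))
    (hgen : closure ({g.base (genericPoint X₁)} : Set Y) ∈ irreducibleComponents (Y : Type u))
    (htr : @Algebra.trdeg (Y.residueField (g.base (genericPoint X₁)))
      (X₁.residueField (genericPoint X₁)) _ _
      (g.residueFieldMap (genericPoint X₁)).hom.toAlgebra = e)
    (hfd : FlatMor.fibreDimAt g x₁ ≤ e)
    (ht : @Algebra.trdeg (Y.residueField (g.base x₁)) (X₁.residueField x₁) _ _
      (g.residueFieldMap x₁).hom.toAlgebra = t) :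
    ringKrullDim (Y.presheaf.stalk (g.base x₁)) + (e : WithBot ℕ∞) ≤
      ringKrullDim (X₁.presheaf.stalk x₁) + (t : WithBot ℕ∞) := by
  have hX₁ : IsLocallyNoetherian X₁ := LocallyOfFiniteType.isLocallyNoetherian g
  obtain ⟨z, hfz, hzx, hzmax, n, hn, hFx, hFz, -⟩ := exists_maximal_point_fiber g x₁
  have hen : (e : WithBot ℕ∞) ≤ n := by
    rw [← hFx]
    exact trdeg_le_fibreDimAt_of_specializes g (genericPoint X₁) x₁
      (Groth.Agent.Lib.Helper55.genericPoint_specializes x₁) e htr
  have hne : (n : WithBot ℕ∞) ≤ e := by rw [← hFx]; exact hfd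
  have hne' : n = e := by
    have h1 : n ≤ e := by exact_mod_cast hne
    have h2 : e ≤ n := by exact_mod_cast hen
    omega
  subst hne'
  have hE : EGA43.IsEquidimAt g z :=
    isEquidimAt_of_irreducible' g z n hgen htr (by rw [hFz])
  have hUO := Groth.Agent.H72.Chevalley.isUnivOpenAt_of_isEquidimAt g z (by rw [hfz]; exact hY) hE
  have hopen : EGA43.IsOpenAt g.base z :=
    Groth.Agent.Lib.Helper24.isOpenAt_snd_of_isUnivOpenAt hUO (IsPullback.id_horiz g) z rfl
  have h1 := ringKrullDim_stalk_le_of_isOpenAt g z hopen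
    (fun z' h1 h2 => hzmax z' (h1.trans hfz) h2)
  obtain ⟨U, hU, hxU, -⟩ := exists_isAffineOpen_mem_and_subset (x := x₁) (U := ⊤) trivial
  have hzU : z ∈ U := hzx.mem_open U.2 hxU
  have h2 := trdeg_le_stalk_closure_add_trdeg g z x₁ hzx hfz hU hxU hzU n t hn ht
  have hp1 : (hU.primeIdealOf ⟨x₁, hxU⟩).asIdeal.IsPrime := (hU.primeIdealOf _).2
  have hp2 : (hU.primeIdealOf ⟨z, hzU⟩).asIdeal.IsPrime := (hU.primeIdealOf _).2
  have hle' : (hU.primeIdealOf ⟨z, hzU⟩).asIdeal ≤ (hU.primeIdealOf ⟨x₁, hxU⟩).asIdeal :=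
    (primeIdealOf_le_iff_specializes hU z x₁ hzU hxU).mpr hzx
  have hPp : ((hU.primeIdealOf ⟨x₁, hxU⟩).asIdeal.map
      (Ideal.Quotient.mk (hU.primeIdealOf ⟨z, hzU⟩).asIdeal)).IsPrime :=
    map_mk_isPrime_of_le _ _ hle'
  have hadd := Groth.Agent.H8.DimFormula.height_map_mk_add_height_le Γ(X₁, U)
    (hU.primeIdealOf ⟨z, hzU⟩).asIdeal (hU.primeIdealOf ⟨x₁, hxU⟩).asIdeal hle'
  have hadd' : ((((hU.primeIdealOf ⟨x₁, hxU⟩).asIdeal.map
      (Ideal.Quotient.mk (hU.primeIdealOf ⟨z, hzU⟩).asIdeal)).height : ℕ∞) : WithBot ℕ∞) +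
      (((hU.primeIdealOf ⟨z, hzU⟩).asIdeal.height : ℕ∞) : WithBot ℕ∞) ≤
      (((hU.primeIdealOf ⟨x₁, hxU⟩).asIdeal.height : ℕ∞) : WithBot ℕ∞) := by
    exact_mod_cast hadd
  rw [Groth.Agent.S4442.ringKrullDim_stalk_eq_height X₁ hU x₁ hxU]
  rw [Groth.Agent.S4442.ringKrullDim_stalk_eq_height X₁ hU z hzU, hfz] at h1
  calc ringKrullDim (Y.presheaf.stalk (g.base x₁)) + (n : WithBot ℕ∞)
      ≤ (((hU.primeIdealOf ⟨z, hzU⟩).asIdeal.height : ℕ∞) : WithBot ℕ∞) +
        (((((hU.primeIdealOf ⟨x₁, hxU⟩).asIdeal.map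
          (Ideal.Quotient.mk (hU.primeIdealOf ⟨z, hzU⟩).asIdeal)).height : ℕ∞) : WithBot ℕ∞) +
          (t : WithBot ℕ∞)) := add_le_add h1 h2
    _ = (((((hU.primeIdealOf ⟨x₁, hxU⟩).asIdeal.map
          (Ideal.Quotient.mk (hU.primeIdealOf ⟨z, hzU⟩).asIdeal)).height : ℕ∞) : WithBot ℕ∞) +
        (((hU.primeIdealOf ⟨z, hzU⟩).asIdeal.height : ℕ∞) : WithBot ℕ∞)) + (t : WithBot ℕ∞) := by
      rw [← add_assoc, add_comm (((hU.primeIdealOf ⟨z, hzU⟩).asIdeal.height : ℕ∞) : WithBot ℕ∞)]
    _ ≤ _ := add_le_add_left hadd' _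

set_option backward.isDefEq.respectTransparency.types false in
/-- **EGA IV 14.4.6, a) ⇒ b), first half**: if `f` is equidimensional at `x` and `f x` is a
geometrically unibranch point, the local ring `O_{X,x}` is equidimensional. -/
theorem isEquidim_stalk_of_isEquidimAt {X Y : Scheme.{u}} [IsLocallyNoetherian Y] (f : X ⟶ Y)
    [LocallyOfFiniteType f] (x : X) (hY : CAlg2.IsGeomUnibranch (Y.presheaf.stalk (f.base x)))
    (hE : EGA43.IsEquidimAt f x) : EGA4.IsEquidim (X.presheaf.stalk x) := by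
  have hX : IsLocallyNoetherian X := LocallyOfFiniteType.isLocallyNoetherian f
  obtain ⟨e, U, hxU, h1, h2⟩ := hE
  have hfd : FlatMor.fibreDimAt f x = e := fibreDimAt_eq_of_isEquidimAt f x h2 hxU
  obtain ⟨t, ht, hfd'⟩ := fibreDimAt_eq_stalk_fiber_add_trdeg f x
  have hupper : ringKrullDim (X.presheaf.stalk x) + (t : WithBot ℕ∞) ≤
      ringKrullDim (Y.presheaf.stalk (f.base x)) + (e : WithBot ℕ∞) := by
    rw [← hfd, hfd', ← add_assoc]
    exact add_le_add_left (ringKrullDim_stalk_le_add_stalk_fiber f x) _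
  intro p hp
  obtain ⟨P, hP⟩ : ∃ P : PrimeSpectrum (X.presheaf.stalk x), P.asIdeal = p := ⟨⟨p, hp.1.1⟩, rfl⟩
  subst hP
  have hξx : stalkPoint x P ⤳ x := stalkPoint_specializes x P
  have hξmax := stalkPoint_maximal_of_mem_minimalPrimes x P hp
  have hξU : stalkPoint x P ∈ U := hξx.mem_open U.2 hxU
  obtain ⟨ξ, hξ⟩ : ∃ ξ, stalkPoint x P = ξ := ⟨_, rfl⟩
  rw [hξ] at hξx hξmax hξU
  have htrξ := trdeg_eq_of_isEquidimAt f h2 ξ hξU (fun w₁ _ hw => hξmax w₁ hw)
  have hcompY : closure ({f.base ξ} : Set Y) ∈ irreducibleComponents (Y : Type u) :=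
    closure_mem_irreducibleComponents_of_maximal (f.base ξ)
      (fun v hv => map_maximal_of_isEquidimAt f x h1 ξ hξU hξmax v hv)
  -- the reduced closed subscheme on the closure of `ξ`
  obtain ⟨Zc, hZc⟩ : ∃ Zc : TopologicalSpace.Closeds X, (Zc : Set X) = closure {ξ} :=
    ⟨⟨closure {ξ}, isClosed_closure⟩, rfl⟩
  have hrange : Set.range (Scheme.IdealSheafData.vanishingIdeal Zc).subschemeι.base =
      closure {ξ} := by
    rw [Scheme.IdealSheafData.range_subschemeι, Scheme.IdealSheafData.coe_support_vanishingIdeal,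
      hZc]
  have hirrZ : IsIrreducible
      (Set.range (Scheme.IdealSheafData.vanishingIdeal Zc).subschemeι.base) := by
    rw [hrange]; exact isIrreducible_singleton.closure
  haveI : IrreducibleSpace ↥(Scheme.IdealSheafData.vanishingIdeal Zc).subscheme :=
    irreducibleSpace_of_isEmbedding _
      (Scheme.IdealSheafData.vanishingIdeal Zc).subschemeι.isEmbedding hirrZ
  obtain ⟨x₁, hx₁⟩ : x ∈ Set.range (Scheme.IdealSheafData.vanishingIdeal Zc).subschemeι.base := by
    rw [hrange]; exact specializes_iff_mem_closure.mp hξx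
  have hgp : (Scheme.IdealSheafData.vanishingIdeal Zc).subschemeι.base
      (genericPoint ↥(Scheme.IdealSheafData.vanishingIdeal Zc).subscheme) = ξ := by
    have h1 : IsGenericPoint ((Scheme.IdealSheafData.vanishingIdeal Zc).subschemeι.base
        (genericPoint ↥(Scheme.IdealSheafData.vanishingIdeal Zc).subscheme))
        (closure ((Scheme.IdealSheafData.vanishingIdeal Zc).subschemeι.base '' Set.univ)) :=
      (genericPoint_spec _).image (Scheme.IdealSheafData.vanishingIdeal Zc).subschemeι.continuous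
    rw [Set.image_univ, hrange, closure_closure] at h1
    exact h1.eq (show IsGenericPoint ξ (closure {ξ}) from rfl)
  have hX₁ : IsLocallyNoetherian (Scheme.IdealSheafData.vanishingIdeal Zc).subscheme :=
    LocallyOfFiniteType.isLocallyNoetherian (Scheme.IdealSheafData.vanishingIdeal Zc).subschemeι
  -- the dimension of the quotient is the dimension of the local ring of the subscheme
  have hdim : ringKrullDim (X.presheaf.stalk x ⧸ P.asIdeal) =
      ringKrullDim ((Scheme.IdealSheafData.vanishingIdeal Zc).subscheme.presheaf.stalk x₁) := by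
    rw [ringKrullDim_stalk_quotient_eq x P, hξ, ringKrullDim_stalk_eq_dim_between x₁,
      topologicalKrullDim_between_eq_of_isClosedEmbedding
        (Scheme.IdealSheafData.vanishingIdeal Zc).subschemeι.base
        (Scheme.IdealSheafData.vanishingIdeal Zc).subschemeι.isClosedEmbedding, hgp, hx₁]
  -- the lower bound
  have hlower := stalk_add_le_of_irreducible
    ((Scheme.IdealSheafData.vanishingIdeal Zc).subschemeι ≫ f) x₁ e t
    (by rw [Scheme.Hom.comp_apply, hx₁]; exact hY)
    (by rw [Scheme.Hom.comp_apply, hgp]; exact hcompY)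
    (by rw [trdeg_residueField_preimmersion_comp]; rw [hgp]; exact htrξ)
    (by
      refine (fibreDimAt_preimmersion_comp_le f _ x₁).trans ?_
      rw [hx₁, hfd])
    (by rw [trdeg_residueField_preimmersion_comp]; rw [hx₁]; exact ht)
  rw [Scheme.Hom.comp_apply, hx₁, ← hdim] at hlower
  apply le_antisymm (ringKrullDim_quotient_le _)
  have h3 := hupper.trans hlower
  rw [add_comm _ (t : WithBot ℕ∞), add_comm _ (t : WithBot ℕ∞)] at h3
  exact withBot_enat_le_of_add_le_add_left t h3

end Groth.Agent.H72.EquidimStalk
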