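import Groth.Agent.H72.RatDVR
import Groth.Agent.Lib.Helper85.RegularLocal
import Mathlib.AlgebraicGeometry.ValuativeCriterion

/-!
# Extending rational maps over points of codimension one (helper72)
-/

set_option autoImplicit false
set_option linter.style.haveILetI false
universe u
open AlgebraicGeometry CategoryTheory CategoryTheory.Limits

namespace Groth.Agent.H72.ExtCodim1

open Groth.Agent.H72.GlueOpens Groth.Agent.H72.RatDVR

/-- the generic point of `Spec 𝒪_{X,x}` specializes to every point of an integral open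
neighbourhood of `x` -/
theorem fromSpecStalk_bot_specializes {X : Scheme.{u}} (x : X) [IsDomain (X.presheaf.stalk x)]
    (W : X.Opens) (hxW : x ∈ W) [IsIntegral (W : Scheme.{u})] (w : X) (hw : w ∈ W) :
    X.fromSpecStalk x ⟨⊥, Ideal.isPrime_bot⟩ ⤳ w := by
  set η : X := W.ι (genericPoint (W : Scheme.{u})) with hη
  have hηx : η ⤳ x := by
    have h1 : genericPoint (W : Scheme.{u}) ⤳ (⟨x, hxW⟩ : (W : Scheme.{u})) :=
      genericPoint_specializes _
    exact h1.map W.ι.continuous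
  have hηw : η ⤳ w := by
    have h1 : genericPoint (W : Scheme.{u}) ⤳ (⟨w, hw⟩ : (W : Scheme.{u})) :=
      genericPoint_specializes _
    exact h1.map W.ι.continuous
  obtain ⟨ξ, hξ⟩ : η ∈ Set.range (X.fromSpecStalk x) := by
    rw [Scheme.range_fromSpecStalk]; exact hηx
  have hsp : (⟨⊥, Ideal.isPrime_bot⟩ : PrimeSpectrum (X.presheaf.stalk x)) ⤳ ξ :=
    (PrimeSpectrum.le_iff_specializes _ _).mp bot_le
  have hsp' : X.fromSpecStalk x ⟨⊥, Ideal.isPrime_bot⟩ ⤳ η := by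
    rw [← hξ]; exact hsp.map (X.fromSpecStalk x).continuous
  exact hsp'.trans hηw

/-- a regular local ring of dimension at most one is a valuation ring -/
theorem valuationRing_of_regular (R : Type u) [CommRing R] [IsRegularLocalRing R] [IsDomain R]
    (hdim : ringKrullDim R ≤ 1) : ValuationRing R := by
  by_cases hf : IsField R
  · letI := hf.toField
    infer_instance
  · have hspan : (IsLocalRing.maximalIdeal R).spanFinrank ≤ 1 := by
      have h1 : ((IsLocalRing.maximalIdeal R).spanFinrank : WithBot ℕ∞) ≤ 1 :=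
        IsRegularLocalRing.spanFinrank_maximalIdeal (R := R) ▸ hdim
      exact_mod_cast h1
    have hfg : (IsLocalRing.maximalIdeal R).FG := IsNoetherian.noetherian _
    have hprin : (IsLocalRing.maximalIdeal R).IsPrincipal := by
      rcases Nat.le_one_iff_eq_zero_or_eq_one.mp hspan with h0 | h1
      · have : IsLocalRing.maximalIdeal R = ⊥ :=
          (Submodule.spanFinrank_eq_zero_iff_eq_bot hfg).mp h0
        exact absurd (IsLocalRing.isField_iff_maximalIdeal_eq.mpr this) hf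
      · exact ((Submodule.spanFinrank_eq_one_iff _).mp h1).1
    exact ((IsDiscreteValuationRing.TFAE R hf).out 4 1).mp hprin


/-- the generic point of `Spec 𝒪_{Y,y}` factors through a dense open -/
theorem exists_ub {Y : Scheme.{u}} [IsLocallyNoetherian Y] (V : Y.Opens) (hV : Dense (V : Set Y))
    (y : Y) [IsDomain (Y.presheaf.stalk y)] :
    ∃ ub : Spec (CommRingCat.of (FractionRing (Y.presheaf.stalk y))) ⟶ (V : Scheme.{u}),
      ub ≫ V.ι = Spec.map (CommRingCat.ofHom (algebraMap (Y.presheaf.stalk y)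
        (FractionRing (Y.presheaf.stalk y)))) ≫ Y.fromSpecStalk y := by
  obtain ⟨W, hyW, -, hWint⟩ := exists_isIntegral_nhd y
  haveI := hWint
  have hbot := fromSpecStalk_bot_mem y W hyW V hV
  have hr : Set.range (Spec.map (CommRingCat.ofHom (algebraMap (Y.presheaf.stalk y)
      (FractionRing (Y.presheaf.stalk y)))) ≫ Y.fromSpecStalk y) ⊆ Set.range V.ι := by
    rintro _ ⟨pt, rfl⟩
    rw [Scheme.Opens.range_ι]
    have h1 : (Spec.map (CommRingCat.ofHom (algebraMap (Y.presheaf.stalk y)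
        (FractionRing (Y.presheaf.stalk y)))) ≫ Y.fromSpecStalk y) pt =
        Y.fromSpecStalk y ⟨⊥, Ideal.isPrime_bot⟩ := by
      show Y.fromSpecStalk y (Spec.map (CommRingCat.ofHom (algebraMap (Y.presheaf.stalk y)
        (FractionRing (Y.presheaf.stalk y)))) pt) = _
      congr 1
      apply PrimeSpectrum.ext
      show Ideal.comap (algebraMap (Y.presheaf.stalk y) (FractionRing (Y.presheaf.stalk y)))
        pt.asIdeal = ⊥
      have hp : pt.asIdeal = ⊥ :=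
        ((Ideal.eq_bot_or_top pt.asIdeal).resolve_right pt.2.ne_top)
      rw [hp, ← RingHom.ker_eq_comap_bot]
      exact (RingHom.injective_iff_ker_eq_bot _).mp (IsFractionRing.injective _ _)
    rw [h1]; exact hbot
  exact ⟨IsOpenImmersion.lift V.ι _ hr, IsOpenImmersion.lift_fac _ _ _⟩


set_option backward.isDefEq.respectTransparency.types false in
theorem exists_local_extension {S X Y : Scheme.{u}} (p : X ⟶ S) [LocallyOfFiniteType p]
    [IsSeparated p] (q : Y ⟶ S) [IsLocallyNoetherian Y] [IsReduced Y] (V : Y.Opens)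
    (g : (V : Scheme.{u}) ⟶ X) (hg : g ≫ p = V.ι ≫ q)
    (y : Y) [IsDomain (Y.presheaf.stalk y)]
    (ub : Spec (CommRingCat.of (FractionRing (Y.presheaf.stalk y))) ⟶ (V : Scheme.{u}))
    (hub : ub ≫ V.ι = Spec.map (CommRingCat.ofHom (algebraMap (Y.presheaf.stalk y)
        (FractionRing (Y.presheaf.stalk y)))) ≫ Y.fromSpecStalk y)
    (φ : Spec (Y.presheaf.stalk y) ⟶ X) (hφ : φ ≫ p = Y.fromSpecStalk y ≫ q)
    (hgen : Spec.map (CommRingCat.ofHom (algebraMap (Y.presheaf.stalk y)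
        (FractionRing (Y.presheaf.stalk y)))) ≫ φ = ub ≫ g) :
    ∃ (Uy : Y.Opens) (gy : (Uy : Scheme.{u}) ⟶ X), y ∈ Uy ∧ gy ≫ p = Uy.ι ≫ q ∧
      Y.homOfLE (inf_le_left : V ⊓ Uy ≤ V) ≫ g = Y.homOfLE (inf_le_right : V ⊓ Uy ≤ Uy) ≫ gy := by
  obtain ⟨W, hyW, -, hWint⟩ := exists_isIntegral_nhd y
  haveI := hWint
  obtain ⟨U₁, hyU₁, g₁, hφg, hg₁⟩ := spread_out_of_isGermInjective' q p φ hφ
  set alg := Spec.map (CommRingCat.ofHom (algebraMap (Y.presheaf.stalk y)
        (FractionRing (Y.presheaf.stalk y)))) with halg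
  set Uy : Y.Opens := U₁ ⊓ W with hUy
  have hUyU₁ : Uy ≤ U₁ := inf_le_left
  have hUyW : Uy ≤ W := inf_le_right
  set gy : (Uy : Scheme.{u}) ⟶ X := Y.homOfLE hUyU₁ ≫ g₁ with hgy
  have hgyp : gy ≫ p = Uy.ι ≫ q := by
    rw [hgy, Category.assoc, hg₁, ← Category.assoc, Y.homOfLE_ι]
  refine ⟨Uy, gy, ⟨hyU₁, hyW⟩, hgyp, ?_⟩
  -- the dominant morphism from the generic point
  have hpt : ∀ pt, (alg ≫ Y.fromSpecStalk y) pt = Y.fromSpecStalk y ⟨⊥, Ideal.isPrime_bot⟩ := by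
    intro pt
    show Y.fromSpecStalk y (alg pt) = _
    congr 1
    apply PrimeSpectrum.ext
    show Ideal.comap (algebraMap (Y.presheaf.stalk y) (FractionRing (Y.presheaf.stalk y)))
      pt.asIdeal = ⊥
    have hp : pt.asIdeal = ⊥ :=
      ((Ideal.eq_bot_or_top pt.asIdeal).resolve_right pt.2.ne_top)
    rw [hp, ← RingHom.ker_eq_comap_bot]
    exact (RingHom.injective_iff_ker_eq_bot _).mp (IsFractionRing.injective _ _)
  have hbotsp : ∀ w ∈ W, Y.fromSpecStalk y ⟨⊥, Ideal.isPrime_bot⟩ ⤳ w :=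
    fun w hw => fromSpecStalk_bot_specializes y W hyW w hw
  have hr : Set.range (alg ≫ Y.fromSpecStalk y) ⊆ Set.range (V ⊓ Uy).ι := by
    rintro _ ⟨pt, rfl⟩
    rw [Scheme.Opens.range_ι]
    refine ⟨?_, ?_⟩
    · have h1 : (alg ≫ Y.fromSpecStalk y) pt = (ub ≫ V.ι) pt := by rw [hub]
      rw [h1]
      exact (ub pt).2
    · rw [hpt]
      exact (hbotsp y hyW).mem_open Uy.isOpen ⟨hyU₁, hyW⟩
  set ι : Spec (CommRingCat.of (FractionRing (Y.presheaf.stalk y))) ⟶ ((V ⊓ Uy : Y.Opens) : Scheme.{u}) :=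
    IsOpenImmersion.lift (V ⊓ Uy).ι (alg ≫ Y.fromSpecStalk y) hr with hι
  have hιfac : ι ≫ (V ⊓ Uy).ι = alg ≫ Y.fromSpecStalk y := IsOpenImmersion.lift_fac _ _ _
  haveI : IsDominant ι := by
    refine ⟨?_⟩
    intro t
    rw [(V ⊓ Uy).ι.isOpenEmbedding.isInducing.closure_eq_preimage_closure_image, Set.mem_preimage]
    obtain ⟨pt⟩ : Nonempty (Spec (CommRingCat.of (FractionRing (Y.presheaf.stalk y)))) :=
      inferInstance
    have h1 : (V ⊓ Uy).ι (ι pt) ⤳ (V ⊓ Uy).ι t := by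
      have h2 : (V ⊓ Uy).ι (ι pt) = (alg ≫ Y.fromSpecStalk y) pt := by
        rw [← hιfac]; rfl
      rw [h2, hpt]
      exact hbotsp _ (hUyW t.2.2)
    refine closure_mono ?_ (specializes_iff_mem_closure.mp h1)
    rintro _ rfl
    exact ⟨ι pt, ⟨pt, rfl⟩, rfl⟩
  refine ext_of_isDominant_of_isSeparated p ?_ ι ?_
  · rw [Category.assoc, Category.assoc, hg, hgyp, ← Category.assoc, ← Category.assoc,
      Y.homOfLE_ι, Y.homOfLE_ι]
  · have e1 : ι ≫ Y.homOfLE (inf_le_left : V ⊓ Uy ≤ V) = ub := by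
      rw [← cancel_mono V.ι, Category.assoc, Y.homOfLE_ι, hιfac, hub]
    have e2 : ι ≫ Y.homOfLE (inf_le_right : V ⊓ Uy ≤ Uy) ≫ Y.homOfLE hUyU₁ =
        alg ≫ U₁.fromSpecStalkOfMem y hyU₁ := by
      rw [← cancel_mono U₁.ι]
      simp only [Category.assoc]
      rw [Y.homOfLE_ι, Y.homOfLE_ι, hιfac, Scheme.Opens.fromSpecStalkOfMem_ι]
    calc ι ≫ Y.homOfLE (inf_le_left : V ⊓ Uy ≤ V) ≫ g = ub ≫ g := by
          rw [← Category.assoc, e1]
      _ = alg ≫ φ := hgen.symm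
      _ = (alg ≫ U₁.fromSpecStalkOfMem y hyU₁) ≫ g₁ := by rw [hφg, Category.assoc]
      _ = ι ≫ Y.homOfLE (inf_le_right : V ⊓ Uy ≤ Uy) ≫ gy := by
          rw [← e2, hgy]; simp only [Category.assoc]


theorem agree_of_agree_dense {S X Y : Scheme.{u}} (p : X ⟶ S) [IsSeparated p] (q : Y ⟶ S)
    [IsReduced Y] (V : Y.Opens) (hV : Dense (V : Set Y)) (g : (V : Scheme.{u}) ⟶ X)
    (A B : Y.Opens) (a : (A : Scheme.{u}) ⟶ X) (b : (B : Scheme.{u}) ⟶ X)
    (ha : a ≫ p = A.ι ≫ q) (hb : b ≫ p = B.ι ≫ q)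
    (hga : Y.homOfLE (inf_le_left : V ⊓ A ≤ V) ≫ g = Y.homOfLE (inf_le_right : V ⊓ A ≤ A) ≫ a)
    (hgb : Y.homOfLE (inf_le_left : V ⊓ B ≤ V) ≫ g = Y.homOfLE (inf_le_right : V ⊓ B ≤ B) ≫ b) :
    Y.homOfLE (inf_le_left : A ⊓ B ≤ A) ≫ a = Y.homOfLE (inf_le_right : A ⊓ B ≤ B) ≫ b := by
  haveI : IsReduced ((A ⊓ B : Y.Opens) : Scheme.{u}) := isReduced_of_isOpenImmersion (A ⊓ B).ι
  set ι := Y.homOfLE (inf_le_right : V ⊓ (A ⊓ B) ≤ A ⊓ B) with hι
  haveI : IsDominant ι := by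
    refine ⟨?_⟩
    intro t
    rw [(A ⊓ B).ι.isOpenEmbedding.isInducing.closure_eq_preimage_closure_image, Set.mem_preimage]
    have h1 : (A ⊓ B).ι t ∈ closure (((A ⊓ B : Y.Opens) : Set Y) ∩ (V : Set Y)) :=
      hV.open_subset_closure_inter (A ⊓ B).isOpen t.2
    refine closure_mono ?_ h1
    rintro w ⟨hwAB, hwV⟩
    refine ⟨ι ⟨w, hwV, hwAB⟩, ⟨⟨w, hwV, hwAB⟩, rfl⟩, ?_⟩
    have h2 : (ι ≫ (A ⊓ B).ι) ⟨w, hwV, hwAB⟩ = (V ⊓ (A ⊓ B)).ι ⟨w, hwV, hwAB⟩ := by
      rw [hι, Y.homOfLE_ι]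
    exact h2
  refine ext_of_isDominant_of_isSeparated p ?_ ι ?_
  · rw [Category.assoc, Category.assoc, ha, hb, ← Category.assoc, ← Category.assoc,
      Y.homOfLE_ι, Y.homOfLE_ι]
  · have hTA : V ⊓ (A ⊓ B) ≤ V ⊓ A := inf_le_inf_left V inf_le_left
    have hTB : V ⊓ (A ⊓ B) ≤ V ⊓ B := inf_le_inf_left V inf_le_right
    have e1 : ι ≫ Y.homOfLE (inf_le_left : A ⊓ B ≤ A) ≫ a =
        Y.homOfLE (inf_le_left : V ⊓ (A ⊓ B) ≤ V) ≫ g := by
      rw [← Category.assoc, hι, Y.homOfLE_homOfLE,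
        ← Y.homOfLE_homOfLE hTA (inf_le_right : V ⊓ A ≤ A), Category.assoc, ← hga,
        ← Category.assoc, Y.homOfLE_homOfLE]
    have e2 : ι ≫ Y.homOfLE (inf_le_right : A ⊓ B ≤ B) ≫ b =
        Y.homOfLE (inf_le_left : V ⊓ (A ⊓ B) ≤ V) ≫ g := by
      rw [← Category.assoc, hι, Y.homOfLE_homOfLE,
        ← Y.homOfLE_homOfLE hTB (inf_le_right : V ⊓ B ≤ B), Category.assoc, ← hgb,
        ← Category.assoc, Y.homOfLE_homOfLE]
    rw [e1, e2]

theorem exists_extension_of_local {S X Y : Scheme.{u}} (p : X ⟶ S) [IsSeparated p] (q : Y ⟶ S)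
    [IsReduced Y] (V : Y.Opens) (hV : Dense (V : Set Y)) (g : (V : Scheme.{u}) ⟶ X)
    (hg : g ≫ p = V.ι ≫ q) (P : Y → Prop)
    (hP : ∀ y, P y → ∃ (Uy : Y.Opens) (gy : (Uy : Scheme.{u}) ⟶ X), y ∈ Uy ∧
      gy ≫ p = Uy.ι ≫ q ∧
      Y.homOfLE (inf_le_left : V ⊓ Uy ≤ V) ≫ g = Y.homOfLE (inf_le_right : V ⊓ Uy ≤ Uy) ≫ gy) :
    ∃ (U : Y.Opens) (hVU : V ≤ U) (g' : (U : Scheme.{u}) ⟶ X), g' ≫ p = U.ι ≫ q ∧
      Y.homOfLE hVU ≫ g' = g ∧ ∀ y, P y → y ∈ U := by
  classical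
  choose Uy gy h1 h2 h3 using hP
  let F : Option {y // P y} → Y.Opens := fun j =>
    match j with
    | none => V
    | some y => Uy y.1 y.2
  let f : ∀ j : Option {y // P y}, ((F j : Y.Opens) : Scheme.{u}) ⟶ X := fun j =>
    match j with
    | none => g
    | some y => gy y.1 y.2
  have hfp : ∀ j, f j ≫ p = (F j).ι ≫ q := by
    intro j
    cases j with
    | none => exact hg
    | some y => exact h2 y.1 y.2
  have hfg : ∀ j, Y.homOfLE (inf_le_left : V ⊓ F j ≤ V) ≫ g =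
      Y.homOfLE (inf_le_right : V ⊓ F j ≤ F j) ≫ f j := by
    intro j
    cases j with
    | none => rfl
    | some y => exact h3 y.1 y.2
  have hf : ∀ i j, Y.homOfLE (inf_le_left : F i ⊓ F j ≤ F i) ≫ f i =
      Y.homOfLE (inf_le_right : F i ⊓ F j ≤ F j) ≫ f j := fun i j =>
    agree_of_agree_dense p q V hV g (F i) (F j) (f i) (f j) (hfp i) (hfp j) (hfg i) (hfg j)
  obtain ⟨k, hk⟩ := exists_glue F f hf
  refine ⟨⨆ j, F j, le_iSup F none, k, ?_, hk none, ?_⟩
  · apply hom_ext_iSup F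
    intro j
    rw [← Category.assoc, hk j, hfp j, ← Category.assoc, Y.homOfLE_ι]
  · intro y hy
    exact le_iSup F (some ⟨y, hy⟩) (h1 y hy)


/-- EGA II 7.3.7 / S4440: extension of a rational map to a proper scheme over codimension one
points. -/
theorem exists_extension_proper {S X Y : Scheme.{u}}
    (p : X ⟶ S) [IsProper p] (q : Y ⟶ S) [IsLocallyNoetherian Y] [IsReduced Y]
    (hreg : ∀ y : Y, ringKrullDim (Y.presheaf.stalk y) ≤ 1 →
      IsRegularLocalRing (Y.presheaf.stalk y))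
    (V : Y.Opens) (hV : Dense (V : Set Y)) (g : (V : Scheme.{u}) ⟶ X) (hg : g ≫ p = V.ι ≫ q) :
    ∃ (U : Y.Opens) (hVU : V ≤ U) (g' : (U : Scheme.{u}) ⟶ X), g' ≫ p = U.ι ≫ q ∧
      Y.homOfLE hVU ≫ g' = g ∧
      ∀ y : Y, ringKrullDim (Y.presheaf.stalk y) ≤ 1 → y ∈ U := by
  refine exists_extension_of_local p q V hV g hg
    (fun y => ringKrullDim (Y.presheaf.stalk y) ≤ 1) ?_
  intro y hdim
  haveI := hreg y hdim
  haveI : IsDomain (Y.presheaf.stalk y) :=
    Groth.Agent.Lib.Helper85.isDomain_of_isRegularLocalRing _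
  haveI : ValuationRing (Y.presheaf.stalk y) := valuationRing_of_regular _ hdim
  obtain ⟨ub, hub⟩ := exists_ub V hV y
  have hE : ValuativeCriterion.Existence p := by
    have h1 : UniversallyClosed p := inferInstance
    rw [UniversallyClosed.eq_valuativeCriterion] at h1
    exact h1.1
  have hw : (ub ≫ g) ≫ p = Spec.map (CommRingCat.ofHom (algebraMap (Y.presheaf.stalk y)
      (FractionRing (Y.presheaf.stalk y)))) ≫ (Y.fromSpecStalk y ≫ q) := by
    rw [Category.assoc, hg, ← Category.assoc, hub, Category.assoc]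
  let sq : ValuativeCommSq p :=
    { R := Y.presheaf.stalk y
      commRing := inferInstance
      domain := ‹IsDomain (Y.presheaf.stalk y)›
      valuationRing := ‹ValuationRing (Y.presheaf.stalk y)›
      K := FractionRing (Y.presheaf.stalk y)
      field := inferInstance
      algebra := inferInstance
      isFractionRing := inferInstance
      i₁ := ub ≫ g
      i₂ := Y.fromSpecStalk y ≫ q
      commSq := ⟨hw⟩ }
  obtain ⟨⟨l, hl1, hl2⟩⟩ := (hE sq).exists_lift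
  have hl1' : Spec.map (CommRingCat.ofHom (algebraMap (Y.presheaf.stalk y)
      (FractionRing (Y.presheaf.stalk y)))) ≫ (l : Spec (Y.presheaf.stalk y) ⟶ X) = ub ≫ g := hl1
  have hl2' : (l : Spec (Y.presheaf.stalk y) ⟶ X) ≫ p = Y.fromSpecStalk y ≫ q := hl2
  exact exists_local_extension p q V g hg y ub hub l hl2' hl1'

end Groth.Agent.H72.ExtCodim1
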