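import Mathlib.RingTheory.Valuation.ValuationRing
import Mathlib.RingTheory.LocalRing.RingHom.Basic

/-!
# Retractions onto a valuation ring (helper72)

If `R` is a valuation ring with fraction field `K`, `φ : R → B` a local homomorphism to a local
ring and `ψ₀ : B → K` a ring homomorphism with `ψ₀ ∘ φ = algebraMap R K`, then `ψ₀` takes values
in `R` (valuation rings are maximal for domination), giving a retraction `ρ : B → R` of `φ`.
-/

set_option autoImplicit false

namespace Groth.Agent.H72.ValRetract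

theorem mem_range_of_valuationRing {R B K : Type*} [CommRing R] [IsDomain R] [ValuationRing R]
    [CommRing B] [IsLocalRing B] [Field K] [Algebra R K] [IsFractionRing R K]
    (φ : R →+* B) [IsLocalHom φ] (ψ₀ : B →+* K)
    (hcomm : ∀ r, ψ₀ (φ r) = algebraMap R K r) (b : B) :
    ψ₀ b ∈ (algebraMap R K).range := by
  rcases ValuationRing.isInteger_or_isInteger R (ψ₀ b) with ⟨r, hr⟩ | ⟨r, hr⟩
  · exact ⟨r, hr⟩
  · by_cases hk : ψ₀ b = 0
    · exact ⟨0, by rw [map_zero, hk]⟩
    by_cases hu : IsUnit r
    · obtain ⟨u, rfl⟩ := hu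
      refine ⟨(↑u⁻¹ : R), ?_⟩
      have h1 : algebraMap R K (↑u⁻¹ : R) * algebraMap R K (u : R) = 1 := by
        rw [← map_mul, Units.inv_mul, map_one]
      rw [hr] at h1
      have h2 : ψ₀ b * (ψ₀ b)⁻¹ = 1 := mul_inv_cancel₀ hk
      have h3 : (ψ₀ b)⁻¹ ≠ 0 := inv_ne_zero hk
      exact mul_right_cancel₀ h3 (h1.trans h2.symm)
    · exfalso
      have hφr : ¬ IsUnit (φ r) := fun h => hu ((isUnit_map_iff φ r).mp h)
      have hmem : φ r * b ∈ IsLocalRing.maximalIdeal B :=
        Ideal.mul_mem_right _ _ ((IsLocalRing.mem_maximalIdeal _).mpr hφr)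
      have hunit : IsUnit (1 - φ r * b) := by
        by_contra hnu
        have h1 : 1 - φ r * b ∈ IsLocalRing.maximalIdeal B := (IsLocalRing.mem_maximalIdeal _).mpr hnu
        have h2 : (1 : B) ∈ IsLocalRing.maximalIdeal B := by
          have := Ideal.add_mem _ h1 hmem
          rwa [sub_add_cancel] at this
        exact (IsLocalRing.maximalIdeal.isMaximal B).ne_top ((Ideal.eq_top_iff_one _).mpr h2)
      have h0 : ψ₀ (1 - φ r * b) = 0 := by
        rw [map_sub, map_one, map_mul, hcomm, hr, inv_mul_cancel₀ hk, sub_self]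
      have := hunit.map ψ₀
      rw [h0] at this
      exact not_isUnit_zero this

theorem exists_retraction {R B K : Type*} [CommRing R] [IsDomain R] [ValuationRing R]
    [CommRing B] [IsLocalRing B] [Field K] [Algebra R K] [IsFractionRing R K]
    (φ : R →+* B) [IsLocalHom φ] (ψ₀ : B →+* K)
    (hcomm : ∀ r, ψ₀ (φ r) = algebraMap R K r) :
    ∃ ρ : B →+* R, (∀ b, algebraMap R K (ρ b) = ψ₀ b) ∧ ∀ r, ρ (φ r) = r := by
  have hinj : Function.Injective (algebraMap R K) := IsFractionRing.injective R K
  let e : R ≃+* (algebraMap R K).range := RingEquiv.ofBijective (algebraMap R K).rangeRestrict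
    ⟨fun a b hab => hinj (congrArg Subtype.val hab), (algebraMap R K).rangeRestrict_surjective⟩
  let ψ' : B →+* (algebraMap R K).range :=
    ψ₀.codRestrict (algebraMap R K).range (mem_range_of_valuationRing φ ψ₀ hcomm)
  refine ⟨(e.symm : (algebraMap R K).range →+* R).comp ψ', ?_, ?_⟩
  · intro b
    have h1 : e (e.symm (ψ' b)) = ψ' b := e.apply_symm_apply _
    have h2 : ((e (e.symm (ψ' b)) : (algebraMap R K).range) : K) =
        algebraMap R K (e.symm (ψ' b)) := rfl
    show algebraMap R K (e.symm (ψ' b)) = ψ₀ b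
    rw [← h2, h1]; rfl
  · intro r
    apply hinj
    have h1 : e (e.symm (ψ' (φ r))) = ψ' (φ r) := e.apply_symm_apply _
    have h2 : ((e (e.symm (ψ' (φ r))) : (algebraMap R K).range) : K) =
        algebraMap R K (e.symm (ψ' (φ r))) := rfl
    show algebraMap R K (e.symm (ψ' (φ r))) = algebraMap R K r
    rw [← h2, h1]
    exact hcomm r

end Groth.Agent.H72.ValRetract
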