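import Groth.Agent.H72.ExtCodim1
import Groth.Agent.H72.ValRetract

/-!
# Extending a rational section of a closed separated map over codimension one points (helper72)
-/

set_option autoImplicit false
set_option linter.style.haveILetI false
universe u
open AlgebraicGeometry CategoryTheory CategoryTheory.Limits

namespace Groth.Agent.H72.ExtCodim1

open Groth.Agent.H72.ValRetract

set_option backward.isDefEq.respectTransparency.types false in
theorem exists_lift_of_closedMap {X Y : Scheme.{u}} (f : X ⟶ Y) (hcl : IsClosedMap f.base)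
    (V : Y.Opens) (s : (V : Scheme.{u}) ⟶ X) (hs : s ≫ f = V.ι)
    (y : Y) [IsDomain (Y.presheaf.stalk y)] [ValuationRing (Y.presheaf.stalk y)]
    (ub : Spec (CommRingCat.of (FractionRing (Y.presheaf.stalk y))) ⟶ (V : Scheme.{u}))
    (hub : ub ≫ V.ι = Spec.map (CommRingCat.ofHom (algebraMap (Y.presheaf.stalk y)
        (FractionRing (Y.presheaf.stalk y)))) ≫ Y.fromSpecStalk y) :
    ∃ φ : Spec (Y.presheaf.stalk y) ⟶ X, φ ≫ f = Y.fromSpecStalk y ∧
      Spec.map (CommRingCat.ofHom (algebraMap (Y.presheaf.stalk y)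
        (FractionRing (Y.presheaf.stalk y)))) ≫ φ = ub ≫ s := by
  -- the point z over y in the closure of the image of the generic point
  obtain ⟨z, hsp, hzy⟩ : ∃ z : X, (ub ≫ s) (IsLocalRing.closedPoint
      (FractionRing (Y.presheaf.stalk y))) ⤳ z ∧ f z = y := by
    set xη := (ub ≫ s) (IsLocalRing.closedPoint (FractionRing (Y.presheaf.stalk y))) with hxη
    have h1 : f xη ⤳ y := by
      have h2 : f xη = (Spec.map (CommRingCat.ofHom (algebraMap (Y.presheaf.stalk y)
          (FractionRing (Y.presheaf.stalk y)))) ≫ Y.fromSpecStalk y)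
          (IsLocalRing.closedPoint (FractionRing (Y.presheaf.stalk y))) := by
        have h3 : ((ub ≫ s) ≫ f) (IsLocalRing.closedPoint (FractionRing (Y.presheaf.stalk y))) =
            (ub ≫ V.ι) (IsLocalRing.closedPoint (FractionRing (Y.presheaf.stalk y))) := by
          rw [Category.assoc, hs]
        rw [hub] at h3
        exact h3
      have h4 : f xη ∈ Set.range (Y.fromSpecStalk y) := by
        rw [h2]; exact ⟨_, rfl⟩
      rw [Scheme.range_fromSpecStalk] at h4
      exact h4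
    have hclosed : IsClosed (f '' closure {xη}) := hcl _ isClosed_closure
    have h5 : y ∈ f '' closure {xη} := by
      have h6 : closure {f xη} ⊆ f '' closure {xη} :=
        hclosed.closure_subset_iff.mpr
          (Set.singleton_subset_iff.mpr ⟨xη, subset_closure rfl, rfl⟩)
      exact h6 (specializes_iff_mem_closure.mp h1)
    obtain ⟨z, hz, hzy⟩ := h5
    exact ⟨z, specializes_iff_mem_closure.mpr hz, hzy⟩
  subst hzy
  set K := FractionRing (Y.presheaf.stalk (f z)) with hK
  set alg := Spec.map (CommRingCat.ofHom (algebraMap (Y.presheaf.stalk (f z)) K)) with halg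
  set β : Spec (CommRingCat.of K) ⟶ X := ub ≫ s with hβ
  set ψ₁ := Scheme.stalkClosedPointTo β with hψ₁
  have hψ₁β : Spec.map ψ₁ ≫ X.fromSpecStalk _ = β := Scheme.Spec_stalkClosedPointTo_fromSpecStalk β
  set ψ₀ : X.presheaf.stalk z ⟶ CommRingCat.of K := X.presheaf.stalkSpecializes hsp ≫ ψ₁ with hψ₀
  have hψ₀z : Spec.map ψ₀ ≫ X.fromSpecStalk z = β := by
    rw [hψ₀, Spec.map_comp, Category.assoc, Scheme.SpecMap_stalkSpecializes_fromSpecStalk, hψ₁β]
  have hcommCat : f.stalkMap z ≫ ψ₀ =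
      CommRingCat.ofHom (algebraMap (Y.presheaf.stalk (f z)) K) := by
    apply Spec.map_injective
    rw [← cancel_mono (Y.fromSpecStalk (f z)), Spec.map_comp, Category.assoc,
      Scheme.SpecMap_stalkMap_fromSpecStalk, ← Category.assoc, hψ₀z, hβ, Category.assoc, hs, hub]
  have hcomm : ∀ r, ψ₀.hom ((f.stalkMap z).hom r) = algebraMap (Y.presheaf.stalk (f z)) K r := by
    intro r
    have := congrArg (fun m => m.hom r) hcommCat
    exact this
  obtain ⟨ρ, hρ1, hρ2⟩ := exists_retraction (f.stalkMap z).hom ψ₀.hom hcomm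
  let ρc : X.presheaf.stalk z ⟶ Y.presheaf.stalk (f z) := CommRingCat.ofHom ρ
  let algc : Y.presheaf.stalk (f z) ⟶ CommRingCat.of K :=
    CommRingCat.ofHom (algebraMap (Y.presheaf.stalk (f z)) K)
  have hρcat1 : ρc ≫ algc = ψ₀ := by
    ext b; exact hρ1 b
  have hρcat2 : f.stalkMap z ≫ ρc = 𝟙 _ := by
    ext r; exact hρ2 r
  refine ⟨Spec.map ρc ≫ X.fromSpecStalk z, ?_, ?_⟩
  · have e1 : X.fromSpecStalk z ≫ f = Spec.map (f.stalkMap z) ≫ Y.fromSpecStalk (f z) :=
      (Scheme.SpecMap_stalkMap_fromSpecStalk f).symm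
    have e2 : Spec.map ρc ≫ Spec.map (f.stalkMap z) = 𝟙 _ :=
      (Spec.map_comp _ _).symm.trans ((congrArg Spec.map hρcat2).trans (Spec.map_id _))
    calc (Spec.map ρc ≫ X.fromSpecStalk z) ≫ f
        = Spec.map ρc ≫ (X.fromSpecStalk z ≫ f) := Category.assoc _ _ _
      _ = Spec.map ρc ≫ (Spec.map (f.stalkMap z) ≫ Y.fromSpecStalk (f z)) := by rw [e1]
      _ = (Spec.map ρc ≫ Spec.map (f.stalkMap z)) ≫ Y.fromSpecStalk (f z) :=
          (Category.assoc _ _ _).symm
      _ = Y.fromSpecStalk (f z) := by rw [e2, Category.id_comp]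
  · have e3 : Spec.map algc ≫ Spec.map ρc = Spec.map ψ₀ :=
      (Spec.map_comp _ _).symm.trans (congrArg Spec.map hρcat1)
    calc alg ≫ Spec.map ρc ≫ X.fromSpecStalk z
        = (Spec.map algc ≫ Spec.map ρc) ≫ X.fromSpecStalk z := (Category.assoc _ _ _).symm
      _ = Spec.map ψ₀ ≫ X.fromSpecStalk z := by rw [e3]
      _ = ub ≫ s := hψ₀z


/-- EGA II 7.3.5 / S2354 -/
theorem exists_extension_section {X Y : Scheme.{u}} [IsLocallyNoetherian Y] [IsReduced Y]
    (hreg : ∀ y : Y, ringKrullDim (Y.presheaf.stalk y) ≤ 1 →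
      IsRegularLocalRing (Y.presheaf.stalk y))
    (f : X ⟶ Y) [IsSeparated f] [LocallyOfFiniteType f] (hcl : IsClosedMap f.base)
    (V : Y.Opens) (hV : Dense (V : Set Y)) (s : (V : Scheme.{u}) ⟶ X) (hs : s ≫ f = V.ι) :
    ∃ (U : Y.Opens) (hVU : V ≤ U) (s' : (U : Scheme.{u}) ⟶ X), s' ≫ f = U.ι ∧
      Y.homOfLE hVU ≫ s' = s ∧
      ∀ y : Y, ringKrullDim (Y.presheaf.stalk y) ≤ 1 → y ∈ U := by
  have hs' : s ≫ f = V.ι ≫ 𝟙 Y := by rw [Category.comp_id, hs]
  obtain ⟨U, hVU, g', h1, h2, h3⟩ := exists_extension_of_local f (𝟙 Y) V hV s hs'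
    (fun y => ringKrullDim (Y.presheaf.stalk y) ≤ 1) (by
      intro y hdim
      haveI := hreg y hdim
      haveI : IsDomain (Y.presheaf.stalk y) :=
        Groth.Agent.Lib.Helper85.isDomain_of_isRegularLocalRing _
      haveI : ValuationRing (Y.presheaf.stalk y) := valuationRing_of_regular _ hdim
      obtain ⟨ub, hub⟩ := exists_ub V hV y
      obtain ⟨φ, hφ1, hφ2⟩ := exists_lift_of_closedMap f hcl V s hs y ub hub
      exact exists_local_extension f (𝟙 Y) V s hs' y ub hub φ
        (by rw [hφ1, Category.comp_id]) hφ2)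
  rw [Category.comp_id] at h1
  exact ⟨U, hVU, g', h1, h2, h3⟩

end Groth.Agent.H72.ExtCodim1
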