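import Mathlib

/-!
# Gluing finite morphisms along open subschemes

* `isPullback_of_isOpenImmersion_of_range_eq`: recognise a pullback square along an open immersion.
* `exists_glue_finite`: two finite morphisms over two opens covering `Ω`, agreeing over the
  intersection, glue to a finite morphism over `Ω`.
-/

set_option autoImplicit false

universe u

open CategoryTheory CategoryTheory.Limits AlgebraicGeometry

namespace Groth.Agent.H72.FinExt

/-- Recognising a pullback square along an open immersion `ι`. -/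
theorem isPullback_of_isOpenImmersion_of_range_eq {T T₁ Ω Ω₁ : Scheme.{u}} (π : T ⟶ Ω) (ι : Ω₁ ⟶ Ω)
    [IsOpenImmersion ι] (i : T₁ ⟶ T) [IsOpenImmersion i] (π₁ : T₁ ⟶ Ω₁) (hcomm : i ≫ π = π₁ ≫ ι)
    (hrange : Set.range i = π ⁻¹' (Set.range ι)) : IsPullback i π₁ π ι := by
  have h1 : Set.range i = Set.range (pullback.fst π ι) := by
    rw [hrange, IsOpenImmersion.range_pullbackFst]
    rfl
  let e : T₁ ≅ pullback π ι := IsOpenImmersion.isoOfRangeEq i (pullback.fst π ι) h1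
  have he1 : e.hom ≫ pullback.fst π ι = i := IsOpenImmersion.isoOfRangeEq_hom_fac _ _ _
  have he2 : e.hom ≫ pullback.snd π ι = π₁ := by
    rw [← cancel_mono ι, Category.assoc, ← pullback.condition, ← Category.assoc, he1, hcomm]
  exact IsPullback.of_iso_pullback ⟨hcomm⟩ e he1 he2

/-- Points of a pullback square of schemes. -/
theorem exists_preimage_of_isPullback {P X Y Z : Scheme.{u}} {fst : P ⟶ X} {snd : P ⟶ Y}
    {f : X ⟶ Z} {g : Y ⟶ Z} (h : IsPullback fst snd f g) (x : X) (y : Y) (hxy : f x = g y) :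
    ∃ z : P, fst z = x ∧ snd z = y := by
  obtain ⟨w, hw1, hw2⟩ := Scheme.Pullback.exists_preimage_pullback x y hxy
  refine ⟨h.isoPullback.inv w, ?_, ?_⟩
  · rw [← Scheme.Hom.comp_apply, h.isoPullback_inv_fst, hw1]
  · rw [← Scheme.Hom.comp_apply, h.isoPullback_inv_snd, hw2]

section Glue

variable {T₁ T₂ T₁₂ : Scheme.{u}} (a : T₁₂ ⟶ T₁) (b : T₁₂ ⟶ T₂) [IsOpenImmersion a]
  [IsOpenImmersion b]

instance spanOI : ∀ {i j : WalkingSpan} (f : i ⟶ j), IsOpenImmersion ((span a b).map f) := by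
  intro i j f
  rcases f with _ | _ | _
  · simp only [WidePushoutShape.hom_id, CategoryTheory.Functor.map_id]; infer_instance
  · change IsOpenImmersion a; infer_instance
  · change IsOpenImmersion b; infer_instance

instance : IsOpenImmersion (pushout.inl a b) := by
  change IsOpenImmersion (colimit.ι (span a b) WalkingSpan.left)
  infer_instance

instance : IsOpenImmersion (pushout.inr a b) := by
  change IsOpenImmersion (colimit.ι (span a b) WalkingSpan.right)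
  infer_instance

/-- Every point of the pushout of two open immersions comes from one of the two pieces. -/
theorem pushout_cases (t : ↥(pushout a b)) :
    (∃ t₁ : T₁, pushout.inl a b t₁ = t) ∨ (∃ t₂ : T₂, pushout.inr a b t₂ = t) := by
  obtain ⟨i, x, hx⟩ := Scheme.IsLocallyDirected.ι_jointly_surjective (span a b) t
  rcases i with _ | _ | _
  · left
    have hw : colimit.ι (span a b) none = a ≫ pushout.inl a b :=
      (colimit.w (span a b) WalkingSpan.Hom.fst).symm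
    rw [hw] at hx
    exact ⟨a x, hx⟩
  · left; exact ⟨x, hx⟩
  · right; exact ⟨x, hx⟩

end Glue

set_option backward.isDefEq.respectTransparency.types false in
theorem isFinite_of_isPullback_of_cover {T Ω Ω₁ Ω₂ T₁ T₂ : Scheme.{u}} (π : T ⟶ Ω)
    (ι₁ : Ω₁ ⟶ Ω) (ι₂ : Ω₂ ⟶ Ω) [IsOpenImmersion ι₁] [IsOpenImmersion ι₂]
    (hcov : Set.range ι₁ ∪ Set.range ι₂ = Set.univ)
    (π₁ : T₁ ⟶ Ω₁) (π₂ : T₂ ⟶ Ω₂) [IsFinite π₁] [IsFinite π₂] (i₁ : T₁ ⟶ T) (i₂ : T₂ ⟶ T)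
    (h₁ : IsPullback i₁ π₁ π ι₁) (h₂ : IsPullback i₂ π₂ π ι₂) : IsFinite π := by
  let U : Bool → Ω.Opens := fun c => if c then ι₁.opensRange else ι₂.opensRange
  have hU : iSup U = ⊤ := by
    apply TopologicalSpace.Opens.ext
    rw [TopologicalSpace.Opens.coe_iSup, TopologicalSpace.Opens.coe_top, ← hcov]
    ext x
    simp only [Set.mem_iUnion, Bool.exists_bool, Set.mem_union]
    rw [or_comm]
    rfl
  rw [IsZariskiLocalAtTarget.iff_of_iSup_eq_top (P := @IsFinite) U hU]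
  have key : ∀ {Ω' T' : Scheme.{u}} (ι : Ω' ⟶ Ω) [IsOpenImmersion ι] (π' : T' ⟶ Ω') [IsFinite π']
      (i : T' ⟶ T) (_ : IsPullback i π' π ι), IsFinite (π ∣_ ι.opensRange) := by
    intro Ω' T' ι _ π' _ i h
    rw [MorphismProperty.arrow_mk_iso_iff @IsFinite (morphismRestrictOpensRange π ι)]
    have : pullback.snd π ι = h.isoPullback.inv ≫ π' := by rw [h.isoPullback_inv_snd]
    rw [this]
    infer_instance
  intro c
  cases c
  · exact key ι₂ π₂ i₂ h₂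
  · exact key ι₁ π₁ i₁ h₁

theorem exists_glue_finite {Ω Ω₁ Ω₂ Ω₁₂ T₁ T₂ T₁₂ : Scheme.{u}} (ι₁ : Ω₁ ⟶ Ω) (ι₂ : Ω₂ ⟶ Ω)
    [IsOpenImmersion ι₁] [IsOpenImmersion ι₂]
    (hcov : Set.range ι₁ ∪ Set.range ι₂ = Set.univ)
    (κ₁ : Ω₁₂ ⟶ Ω₁) (κ₂ : Ω₁₂ ⟶ Ω₂) (hΩ : IsPullback κ₁ κ₂ ι₁ ι₂)
    (π₁ : T₁ ⟶ Ω₁) (π₂ : T₂ ⟶ Ω₂) [IsFinite π₁] [IsFinite π₂] (π₁₂ : T₁₂ ⟶ Ω₁₂)
    (a : T₁₂ ⟶ T₁) (b : T₁₂ ⟶ T₂)
    (h₁ : IsPullback a π₁₂ π₁ κ₁) (h₂ : IsPullback b π₁₂ π₂ κ₂) :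
    ∃ (T : Scheme.{u}) (π : T ⟶ Ω) (i₁ : T₁ ⟶ T) (i₂ : T₂ ⟶ T), IsFinite π ∧
      IsPullback i₁ π₁ π ι₁ ∧ IsPullback i₂ π₂ π ι₂ := by
  have : IsOpenImmersion κ₁ := MorphismProperty.of_isPullback (P := @IsOpenImmersion) hΩ.flip
    inferInstance
  have : IsOpenImmersion κ₂ := MorphismProperty.of_isPullback (P := @IsOpenImmersion) hΩ
    inferInstance
  have : IsOpenImmersion a := MorphismProperty.of_isPullback (P := @IsOpenImmersion) h₁.flip
    inferInstance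
  have : IsOpenImmersion b := MorphismProperty.of_isPullback (P := @IsOpenImmersion) h₂.flip
    inferInstance
  have hcomm : a ≫ π₁ ≫ ι₁ = b ≫ π₂ ≫ ι₂ := by
    rw [← Category.assoc, h₁.w, ← Category.assoc, h₂.w, Category.assoc, Category.assoc, hΩ.w]
  let π : pushout a b ⟶ Ω := pushout.desc (π₁ ≫ ι₁) (π₂ ≫ ι₂) hcomm
  have hπ1 : pushout.inl a b ≫ π = π₁ ≫ ι₁ := pushout.inl_desc _ _ _
  have hπ2 : pushout.inr a b ≫ π = π₂ ≫ ι₂ := pushout.inr_desc _ _ _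
  have hP1 : IsPullback (pushout.inl a b) π₁ π ι₁ := by
    apply isPullback_of_isOpenImmersion_of_range_eq _ _ _ _ hπ1
    apply Set.Subset.antisymm
    · rintro _ ⟨t₁, rfl⟩
      change π (pushout.inl a b t₁) ∈ Set.range ι₁
      rw [← Scheme.Hom.comp_apply, hπ1]
      exact ⟨π₁ t₁, rfl⟩
    · intro t ht
      rcases pushout_cases a b t with ⟨t₁, rfl⟩ | ⟨t₂, rfl⟩
      · exact ⟨t₁, rfl⟩
      · obtain ⟨ω₁, hω₁⟩ := ht
        have h3 : ι₁ ω₁ = ι₂ (π₂ t₂) := by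
          rw [hω₁, ← Scheme.Hom.comp_apply (pushout.inr a b) π, hπ2]
          rfl
        obtain ⟨ω₁₂, -, hω₁₂⟩ := exists_preimage_of_isPullback hΩ ω₁ (π₂ t₂) h3
        obtain ⟨t₁₂, ht₁₂, -⟩ := exists_preimage_of_isPullback h₂ t₂ ω₁₂ hω₁₂.symm
        refine ⟨a t₁₂, ?_⟩
        rw [← ht₁₂, ← Scheme.Hom.comp_apply, ← Scheme.Hom.comp_apply, pushout.condition]
  have hP2 : IsPullback (pushout.inr a b) π₂ π ι₂ := by
    apply isPullback_of_isOpenImmersion_of_range_eq _ _ _ _ hπ2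
    apply Set.Subset.antisymm
    · rintro _ ⟨t₂, rfl⟩
      change π (pushout.inr a b t₂) ∈ Set.range ι₂
      rw [← Scheme.Hom.comp_apply, hπ2]
      exact ⟨π₂ t₂, rfl⟩
    · intro t ht
      rcases pushout_cases a b t with ⟨t₁, rfl⟩ | ⟨t₂, rfl⟩
      · obtain ⟨ω₂, hω₂⟩ := ht
        have h3 : ι₁ (π₁ t₁) = ι₂ ω₂ := by
          rw [hω₂, ← Scheme.Hom.comp_apply (pushout.inl a b) π, hπ1]
          rfl
        obtain ⟨ω₁₂, hω₁₂, -⟩ := exists_preimage_of_isPullback hΩ (π₁ t₁) ω₂ h3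
        obtain ⟨t₁₂, ht₁₂, -⟩ := exists_preimage_of_isPullback h₁ t₁ ω₁₂ hω₁₂.symm
        refine ⟨b t₁₂, ?_⟩
        rw [← ht₁₂, ← Scheme.Hom.comp_apply, ← Scheme.Hom.comp_apply, pushout.condition]
      · exact ⟨t₂, rfl⟩
  exact ⟨pushout a b, π, pushout.inl a b, pushout.inr a b,
    isFinite_of_isPullback_of_cover π ι₁ ι₂ hcov π₁ π₂ _ _ hP1 hP2, hP1, hP2⟩

end Groth.Agent.H72.FinExt
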