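import Mathlib
import Groth.Agent.H72.FinExtGlue

/-!
# Extending a finite morphism from a quasi-compact open of an affine scheme
-/

set_option autoImplicit false

universe u

open CategoryTheory CategoryTheory.Limits AlgebraicGeometry

namespace Groth.Agent.H72.FinExt

section Normalization

variable {W D T' : Scheme.{u}} (ι : D ⟶ W) [IsOpenImmersion ι] [QuasiCompact ι]
    (τ : T' ⟶ D) [IsFinite τ]

/-- The normalization of `W` in `T'` restricts to `T'` over `D`. -/
theorem range_toNormalization :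
    Set.range (τ ≫ ι).toNormalization = (τ ≫ ι).fromNormalization ⁻¹' (Set.range ι) := by
  set h := τ ≫ ι with hh
  set N := h.normalization
  set tn := h.toNormalization
  set fn := h.fromNormalization
  have htf : tn ≫ fn = h := h.toNormalization_fromNormalization
  have hsub : Set.range tn ⊆ fn ⁻¹' (Set.range ι) := by
    rintro _ ⟨t, rfl⟩
    change fn (tn t) ∈ Set.range ι
    rw [← Scheme.Hom.comp_apply, htf, hh, Scheme.Hom.comp_apply]
    exact ⟨_, rfl⟩
  apply Set.Subset.antisymm hsub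
  let U : W.Opens := ι.opensRange
  let ND : N.Opens := fn ⁻¹ᵁ U
  have hsub' : Set.range tn ⊆ Set.range ND.ι := by
    rw [Scheme.Opens.range_ι]
    exact hsub
  let l : T' ⟶ ND := IsOpenImmersion.lift ND.ι tn hsub'
  have hl : l ≫ ND.ι = tn := IsOpenImmersion.lift_fac _ _ _
  have hcomp : l ≫ (fn ∣_ U) = τ ≫ ι.isoOpensRange.hom := by
    rw [← cancel_mono U.ι, Category.assoc, morphismRestrict_ι, ← Category.assoc, hl, htf,
      Category.assoc, Scheme.Hom.isoOpensRange_hom_ι]
  haveI : UniversallyClosed (l ≫ (fn ∣_ U)) := by rw [hcomp]; infer_instance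
  haveI : UniversallyClosed l := UniversallyClosed.of_comp_of_isSeparated l (fn ∣_ U)
  have hclosed : IsClosed (Set.range l) := l.isClosedMap.isClosed_range
  have hdense : Dense (Set.range l) := by
    have h1 : Set.range l = ND.ι ⁻¹' (Set.range tn) := by
      ext x
      constructor
      · rintro ⟨t, rfl⟩
        exact ⟨t, by rw [← hl, Scheme.Hom.comp_apply]⟩
      · rintro ⟨t, ht⟩
        refine ⟨t, ?_⟩
        apply ND.ι.isOpenEmbedding.injective
        rw [← ht, ← hl, Scheme.Hom.comp_apply]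
    rw [h1]
    exact (h.toNormalization.denseRange).preimage ND.ι.isOpenEmbedding.isOpenMap
  have huniv : Set.range l = Set.univ := by
    rw [← hclosed.closure_eq]
    exact hdense.closure_eq
  intro x hx
  have hxN : x ∈ ND := hx
  obtain ⟨t, ht⟩ : (⟨x, hxN⟩ : ND) ∈ Set.range l := by rw [huniv]; trivial
  refine ⟨t, ?_⟩
  change tn t = x
  rw [← hl, Scheme.Hom.comp_apply, ht]
  rfl

end Normalization



section Ring

variable {A B : Type*} [CommRing A] [CommRing B] [Algebra A B]

/-- (R1) If `A_r → B_r` is finite, then a finite subset of `B` spans `B` up to powers of `r`. -/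
theorem exists_finset_span_of_finite_awayMap (r : A)
    (Ar Br : Type*) [CommRing Ar] [CommRing Br] [Algebra A Ar] [Algebra B Br]
    [IsLocalization.Away r Ar] [IsLocalization.Away (algebraMap A B r) Br]
    (hfin : (IsLocalization.Away.map Ar Br (algebraMap A B) r).Finite) :
    ∃ G : Finset B, ∀ x : B, ∃ m : ℕ, algebraMap A B r ^ m * x ∈ Submodule.span A (G : Set B) := by
  classical
  set ψ := IsLocalization.Away.map Ar Br (algebraMap A B) r with hψ
  letI : Algebra Ar Br := ψ.toAlgebra
  letI : Algebra A Br := ((algebraMap B Br).comp (algebraMap A B)).toAlgebra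
  haveI : IsScalarTower A B Br := IsScalarTower.of_algebraMap_eq fun _ => rfl
  haveI : IsScalarTower A Ar Br := IsScalarTower.of_algebraMap_eq fun x => by
    change (algebraMap B Br) (algebraMap A B x) = ψ (algebraMap A Ar x)
    rw [hψ, IsLocalization.Away.map, IsLocalization.map_eq]
  haveI : Module.Finite Ar Br := hfin
  obtain ⟨G', hG'⟩ := (Module.Finite.fg_top : (⊤ : Submodule Ar Br).FG)
  have hloc : IsLocalization ((Submonoid.powers r).map (algebraMap A B)) Br := by
    rw [Submonoid.map_powers]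
    infer_instance
  refine ⟨IsLocalization.finsetIntegerMultiple ((Submonoid.powers r).map (algebraMap A B)) G', ?_⟩
  intro x
  have hx : algebraMap B Br x ∈ Submodule.span Ar (G' : Set Br) := by rw [hG']; trivial
  obtain ⟨⟨t, n, rfl⟩, ht⟩ :=
    multiple_mem_span_of_mem_localization_span (Submonoid.powers r) Ar (G' : Set Br) _ hx
  have ht' : algebraMap B Br ((r ^ n) • x) ∈ Submodule.span A (G' : Set Br) := by
    rw [Algebra.smul_def, map_mul, ← IsScalarTower.algebraMap_apply, ← Algebra.smul_def]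
    exact ht
  obtain ⟨⟨t', m, rfl⟩, hm⟩ := IsLocalization.smul_mem_finsetIntegerMultiple_span
    (Submonoid.powers r) Br ((r ^ n) • x) G' ht'
  refine ⟨m + n, ?_⟩
  have : algebraMap A B r ^ (m + n) * x = (r ^ m) • ((r ^ n) • x) := by
    rw [Algebra.smul_def, Algebra.smul_def, map_pow, map_pow, pow_add, mul_assoc]
  rw [this]
  exact hm

/-- (R2) -/
theorem exists_subalgebra_of_forall_exists_finset [Algebra.IsIntegral A B] (rs : Finset A)
    (h : ∀ r ∈ rs, ∃ G : Finset B, ∀ x : B, ∃ m : ℕ,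
      algebraMap A B r ^ m * x ∈ Submodule.span A (G : Set B)) :
    ∃ S : Subalgebra A B, Module.Finite A S ∧
      ∀ r ∈ rs, ∀ x : B, ∃ m : ℕ, algebraMap A B r ^ m * x ∈ S := by
  classical
  choose! G hG using h
  let GG : Finset B := rs.biUnion G
  refine ⟨Algebra.adjoin A (GG : Set B), ?_, ?_⟩
  · exact Algebra.finite_adjoin_of_finite_of_isIntegral GG.finite_toSet
      fun x _ => Algebra.IsIntegral.isIntegral x
  · intro r hr x
    obtain ⟨m, hm⟩ := hG r hr x
    refine ⟨m, ?_⟩
    have h1 : Submodule.span A (G r : Set B) ≤ (Algebra.adjoin A (GG : Set B)).toSubmodule := by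
      rw [Submodule.span_le]
      intro g hg
      apply Algebra.subset_adjoin
      simp only [GG, Finset.coe_biUnion, Set.mem_iUnion]
      exact ⟨r, hr, hg⟩
    exact h1 hm

/-- (R3') -/
theorem awayMap_bijective_of_saturated {S' B' : Type*} [CommRing S'] [CommRing B'] (θ : S' →+* B')
    (hθ : Function.Injective θ) (s : S') (hsat : ∀ x : B', ∃ m : ℕ, ∃ y : S', θ y = θ s ^ m * x)
    (Ss Bs : Type*) [CommRing Ss] [CommRing Bs] [Algebra S' Ss] [Algebra B' Bs]
    [IsLocalization.Away s Ss] [IsLocalization.Away (θ s) Bs] :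
    Function.Bijective (IsLocalization.Away.map Ss Bs θ s) := by
  constructor
  · rw [IsLocalization.Away.map]
    haveI : IsLocalization ((Submonoid.powers s).map θ) Bs := by
      rw [Submonoid.map_powers]; infer_instance
    exact IsLocalization.map_injective_of_injective (Submonoid.powers s) Ss Bs hθ
  · intro z
    obtain ⟨n, b, hb⟩ := IsLocalization.Away.surj (θ s) z
    obtain ⟨m, y, hy⟩ := hsat b
    have hu : IsUnit (algebraMap S' Ss s) := IsLocalization.Away.algebraMap_isUnit s
    have hu' : IsUnit (algebraMap B' Bs (θ s)) := IsLocalization.Away.algebraMap_isUnit (θ s)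
    obtain ⟨u, hu1⟩ := hu.pow (m + n)
    refine ⟨algebraMap S' Ss y * ↑u⁻¹, ?_⟩
    have h1 : IsLocalization.Away.map Ss Bs θ s (algebraMap S' Ss y) = algebraMap B' Bs (θ y) := by
      rw [IsLocalization.Away.map, IsLocalization.map_eq]
    have h2 : IsLocalization.Away.map Ss Bs θ s (algebraMap S' Ss s) = algebraMap B' Bs (θ s) := by
      rw [IsLocalization.Away.map, IsLocalization.map_eq]
    have h3 : IsLocalization.Away.map Ss Bs θ s (↑u⁻¹) * (algebraMap B' Bs (θ s)) ^ (m + n) = 1 := by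
      rw [← h2, ← map_pow, ← map_mul, ← hu1, Units.inv_mul, map_one]
    have h4 : IsUnit ((algebraMap B' Bs (θ s)) ^ (m + n)) := hu'.pow _
    apply h4.mul_left_injective
    simp only
    rw [map_mul, mul_assoc, h3, mul_one, h1, hy, map_mul, map_pow, pow_add, ← hb]
    ring

end Ring



/-- iso over each open of a family ⟹ iso over the union -/
theorem isIso_morphismRestrict_iSup {X Y : Scheme.{u}} (f : X ⟶ Y) {J : Type u} (V : J → Y.Opens)
    (hV : ∀ i, IsIso (f ∣_ V i)) : IsIso (f ∣_ ⨆ i, V i) := by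
  let 𝒰 := Scheme.Opens.iSupOpenCover V
  refine (IsZariskiLocalAtTarget.iff_of_openCover (P := .isomorphisms _) 𝒰).mpr fun x ↦ ?_
  refine (MorphismProperty.arrow_mk_iso_iff (.isomorphisms _)
    ((morphismRestrictRestrict ..).symm ≪≫ morphismRestrictOpensRange ..)).mp ?_
  have : Scheme.Opens.ι _ ''ᵁ (𝒰.f x).opensRange = V x := by
    simp only [Scheme.Opens.iSupOpenCover, 𝒰, ← Scheme.Hom.opensRange_comp, Scheme.homOfLE_ι,
      Scheme.Opens.opensRange_ι]
  convert! hV x



set_option backward.isDefEq.respectTransparency.types false in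
theorem isFinite_morphismRestrict_of_isPullback {T Ω Ω' T' : Scheme.{u}} (π : T ⟶ Ω)
    (ι : Ω' ⟶ Ω) [IsOpenImmersion ι] (π' : T' ⟶ Ω') [IsFinite π']
    (i : T' ⟶ T) (h : IsPullback i π' π ι) : IsFinite (π ∣_ ι.opensRange) := by
  rw [MorphismProperty.arrow_mk_iso_iff @IsFinite (morphismRestrictOpensRange π ι)]
  have : pullback.snd π ι = h.isoPullback.inv ≫ π' := by rw [h.isoPullback_inv_snd]
  rw [this]
  infer_instance

set_option backward.isDefEq.respectTransparency.types false in
theorem isFinite_morphismRestrict_of_le {X Y : Scheme.{u}} (f : X ⟶ Y) {U V : Y.Opens}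
    (hVU : V ≤ U) (h : IsFinite (f ∣_ U)) : IsFinite (f ∣_ V) := by
  have h1 : IsFinite (f ∣_ U ∣_ (U.ι ⁻¹ᵁ V)) := IsZariskiLocalAtTarget.restrict h _
  have e : U.ι ''ᵁ (U.ι ⁻¹ᵁ V) = V := by
    rw [Scheme.Hom.image_preimage_eq_opensRange_inf, Scheme.Opens.opensRange_ι]
    exact inf_eq_right.mpr hVU
  exact (MorphismProperty.arrow_mk_iso_iff @IsFinite
    (morphismRestrictRestrict f U _ ≪≫ morphismRestrictEq f e)).mp h1

set_option backward.isDefEq.respectTransparency false in
theorem finite_awayMap_of_isFinite_morphismRestrict {X Y : Scheme.{u}} [IsAffine X] [IsAffine Y]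
    (f : X ⟶ Y) (r : Γ(Y, ⊤)) (h : IsFinite (f ∣_ Y.basicOpen r)) :
    (IsLocalization.Away.map Γ(Y, Y.basicOpen r) Γ(X, X.basicOpen (f.appTop r))
      f.appTop.hom r).Finite := by
  haveI : IsAffine (Y.basicOpen r) := (isAffineOpen_top Y).basicOpen r
  have hf := ((HasAffineProperty.iff_of_isAffine (P := @IsFinite)).mp h).2
  rw [morphismRestrict_appTop, CommRingCat.hom_comp,
    RingHom.finite_respectsIso.cancel_right_isIso] at hf
  have hf : RingHom.Finite (Scheme.Hom.app f ((Y.basicOpen r).ι ''ᵁ ⊤)).hom := hf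
  rw [Scheme.Opens.ι_image_top] at hf
  rw [(isAffineOpen_top Y).app_basicOpen_eq_away_map _ (isAffineOpen_top X)] at hf
  rwa [CommRingCat.hom_comp, RingHom.finite_respectsIso.cancel_right_isIso] at hf



set_option backward.isDefEq.respectTransparency false in
theorem isIso_morphismRestrict_basicOpen_of_bijective {X Y : Scheme.{u}} [IsAffine X] [IsAffine Y]
    (f : X ⟶ Y) (s : Γ(Y, ⊤))
    (h : Function.Bijective (IsLocalization.Away.map Γ(Y, Y.basicOpen s)
      Γ(X, X.basicOpen (f.appTop s)) f.appTop.hom s)) :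
    IsIso (f ∣_ Y.basicOpen s) := by
  rw [isIso_morphismRestrict_iff_isIso_app (f := f) ((isAffineOpen_top Y).basicOpen s)]
  rw [(isAffineOpen_top Y).app_basicOpen_eq_away_map f (isAffineOpen_top X)]
  have : IsIso (CommRingCat.ofHom (IsLocalization.Away.map Γ(Y, Y.basicOpen s)
      Γ(X, X.basicOpen (f.appTop s)) f.appTop.hom s)) := by
    rw [ConcreteCategory.isIso_iff_bijective]
    exact h
  infer_instance

set_option backward.isDefEq.respectTransparency.types false in
theorem exists_finite_extension_affine {W D T' : Scheme.{u}} [IsAffine W] (ι : D ⟶ W)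
    [IsOpenImmersion ι] [CompactSpace D] (τ : T' ⟶ D) [IsFinite τ] :
    ∃ (T : Scheme.{u}) (π : T ⟶ W) (j : T' ⟶ T), IsFinite π ∧ IsPullback j τ π ι := by
  classical
  haveI : QuasiCompact ι := inferInstance
  let h := τ ≫ ι
  let N := h.normalization
  let tn : T' ⟶ N := h.toNormalization
  let fn : N ⟶ W := h.fromNormalization
  haveI : IsAffine N := isAffine_of_isAffineHom fn
  haveI : IsOpenImmersion tn := inferInstanceAs (IsOpenImmersion h.toNormalization)
  have htf : tn ≫ fn = τ ≫ ι := h.toNormalization_fromNormalization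
  have hrange : Set.range tn = fn ⁻¹' Set.range ι := range_toNormalization ι τ
  have hsq1 : IsPullback tn τ fn ι :=
    isPullback_of_isOpenImmersion_of_range_eq fn ι tn τ htf hrange
  have hfinU : IsFinite (fn ∣_ ι.opensRange) :=
    isFinite_morphismRestrict_of_isPullback fn ι τ tn hsq1
  obtain ⟨rs, hrsfin, hrs⟩ := (isCompact_and_isOpen_iff_finite_and_eq_biUnion_basicOpen (X := W)
    (U := Set.range ι)).mp ⟨isCompact_range ι.continuous, ι.isOpenEmbedding.isOpen_range⟩
  let A := Γ(W, ⊤)
  let B := Γ(N, ⊤)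
  let φ : A →+* B := fn.appTop.hom
  letI : Algebra A B := φ.toAlgebra
  haveI : Algebra.IsIntegral A B := by
    have := IsIntegralHom.isIntegral_app fn ⊤ (isAffineOpen_top W)
    exact ⟨this⟩
  have hG : ∀ r ∈ hrsfin.toFinset, ∃ G : Finset B, ∀ x : B, ∃ m : ℕ,
      algebraMap A B r ^ m * x ∈ Submodule.span A (G : Set B) := by
    intro r hr
    rw [Set.Finite.mem_toFinset] at hr
    have hle : W.basicOpen r ≤ ι.opensRange := by
      intro x hx
      change x ∈ Set.range ι
      rw [hrs]
      exact Set.mem_biUnion hr hx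
    have h1 : IsFinite (fn ∣_ W.basicOpen r) := isFinite_morphismRestrict_of_le fn hle hfinU
    exact exists_finset_span_of_finite_awayMap r Γ(W, W.basicOpen r)
      Γ(N, N.basicOpen (fn.appTop r)) (finite_awayMap_of_isFinite_morphismRestrict fn r h1)
  obtain ⟨S, hSfin, hSsat⟩ := exists_subalgebra_of_forall_exists_finset hrsfin.toFinset hG
  -- the schemes
  let SS : CommRingCat.{u} := CommRingCat.of S
  let M : Scheme.{u} := Spec SS
  let σ : SS ⟶ Γ(N, ⊤) := CommRingCat.ofHom S.val.toRingHom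
  let α : Γ(W, ⊤) ⟶ SS := CommRingCat.ofHom (algebraMap A S)
  have hασ : α ≫ σ = fn.appTop := by ext x; rfl
  let ρ : N ⟶ M := N.toSpecΓ ≫ Spec.map σ
  let π : M ⟶ W := Spec.map α ≫ W.isoSpec.inv
  have hρπ : ρ ≫ π = fn := by
    simp only [ρ, π, Category.assoc]
    rw [← Spec.map_comp_assoc, hασ, ← Scheme.toSpecΓ_naturality_assoc]
    simp
  haveI : IsFinite π := by
    have : IsFinite (Spec.map α) := by
      rw [IsFinite.SpecMap_iff]
      exact hSfin
    infer_instance
  have hρtop : ρ.appTop = (Scheme.ΓSpecIso SS).hom ≫ σ := by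
    simp only [ρ, Scheme.Hom.comp_appTop, Scheme.toSpecΓ_appTop]
    exact Scheme.ΓSpecIso_naturality σ
  have hinj : Function.Injective ρ.appTop.hom := by
    rw [hρtop]
    intro x y hxy
    simp only [CommRingCat.hom_comp, RingHom.coe_comp, Function.comp_apply] at hxy
    have h1 : (Scheme.ΓSpecIso SS).hom x = (Scheme.ΓSpecIso SS).hom y := Subtype.val_injective hxy
    exact (ConcreteCategory.bijective_of_isIso (Scheme.ΓSpecIso SS).hom).1 h1
  have hπρ : ∀ r : Γ(W, ⊤), ρ.appTop (π.appTop r) = fn.appTop r := by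
    intro r
    rw [← hρπ, Scheme.Hom.comp_appTop]
    rfl
  have hiso : ∀ r ∈ rs, IsIso (ρ ∣_ M.basicOpen (π.appTop r)) := by
    intro r hr
    apply isIso_morphismRestrict_basicOpen_of_bijective
    apply awayMap_bijective_of_saturated ρ.appTop.hom hinj
    intro x
    obtain ⟨m, hm⟩ := hSsat r ((Set.Finite.mem_toFinset hrsfin).mpr hr) x
    refine ⟨m, (Scheme.ΓSpecIso SS).inv ⟨_, hm⟩, ?_⟩
    change ρ.appTop _ = (ρ.appTop (π.appTop r)) ^ m * x
    rw [hπρ, hρtop]
    simp only [CommRingCat.comp_apply]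
    erw [Iso.inv_hom_id_apply]
    rfl
  -- the open `V = π⁻¹(range ι)`
  let V : M.Opens := ⨆ r : rs, M.basicOpen (π.appTop r.1)
  have hVmem : ∀ x : M, x ∈ V ↔ π x ∈ Set.range ι := by
    intro x
    rw [hrs]
    simp only [V, TopologicalSpace.Opens.mem_iSup, Set.mem_iUnion, Subtype.exists, exists_prop,
      SetLike.mem_coe]
    refine exists_congr fun r => and_congr_right fun _ => ?_
    rw [← Scheme.preimage_basicOpen_top]
    rfl
  haveI hisoV : IsIso (ρ ∣_ V) := isIso_morphismRestrict_iSup ρ _ fun r => hiso r.1 r.2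
  -- lift `tn` to `ρ⁻¹ V`
  have hsub : Set.range tn ⊆ Set.range (ρ ⁻¹ᵁ V).ι := by
    rw [Scheme.Opens.range_ι]
    rintro _ ⟨t, rfl⟩
    change ρ (tn t) ∈ V
    rw [hVmem, ← Scheme.Hom.comp_apply, hρπ, ← Scheme.Hom.comp_apply, htf, Scheme.Hom.comp_apply]
    exact ⟨_, rfl⟩
  let l : T' ⟶ (ρ ⁻¹ᵁ V) := IsOpenImmersion.lift (ρ ⁻¹ᵁ V).ι tn hsub
  have hl : l ≫ (ρ ⁻¹ᵁ V).ι = tn := IsOpenImmersion.lift_fac _ _ _
  haveI : IsOpenImmersion l := by
    haveI : IsOpenImmersion (l ≫ (ρ ⁻¹ᵁ V).ι) := by rw [hl]; infer_instance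
    exact IsOpenImmersion.of_comp l (ρ ⁻¹ᵁ V).ι
  have hlsurj : Function.Surjective l := by
    intro y
    have hy : ρ y.1 ∈ V := y.2
    have hy' : y.1 ∈ Set.range tn := by
      rw [hrange]
      change fn y.1 ∈ Set.range ι
      rw [← hρπ, Scheme.Hom.comp_apply, ← hVmem]
      exact hy
    obtain ⟨t, ht⟩ := hy'
    refine ⟨t, ?_⟩
    apply (ρ ⁻¹ᵁ V).ι.isOpenEmbedding.injective
    rw [← Scheme.Hom.comp_apply, hl, ht]
    rfl
  let j : T' ⟶ M := l ≫ (ρ ∣_ V) ≫ V.ι
  have hj : j = tn ≫ ρ := by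
    simp only [j]
    rw [morphismRestrict_ι, ← Category.assoc, hl]
  have hcomm : j ≫ π = τ ≫ ι := by
    rw [hj, Category.assoc, hρπ, htf]
  have hjrange : Set.range j = π ⁻¹' Set.range ι := by
    ext x
    rw [Set.mem_preimage, ← hVmem]
    constructor
    · rintro ⟨t, rfl⟩
      simp only [j, Scheme.Hom.comp_apply]
      exact ((ρ ∣_ V) (l t)).2
    · intro hx
      obtain ⟨y, hy⟩ := (ConcreteCategory.bijective_of_isIso (ρ ∣_ V).base).2 ⟨x, hx⟩
      obtain ⟨t, rfl⟩ := hlsurj y
      refine ⟨t, ?_⟩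
      simp only [j, Scheme.Hom.comp_apply]
      change V.ι ((ρ ∣_ V) (l t)) = x
      erw [hy]
      rfl
  exact ⟨M, π, j, inferInstance,
    isPullback_of_isOpenImmersion_of_range_eq π ι j τ hcomm hjrange⟩


end Groth.Agent.H72.FinExt
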