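import Mathlib
import Groth.Agent.H72.FinExtAff

/-!
# Extending finite morphisms from quasi-compact opens of quasi-compact quasi-separated schemes

* `exists_finite_extension`: `S` qcqs, `U` a quasi-compact open, `v : V ⟶ U` finite; then there is a
  finite `π : V' ⟶ S` whose base change to `U` is `v`.
* `exists_finite_surjective_extension`: same with surjectivity.
-/

set_option autoImplicit false

universe u

open CategoryTheory CategoryTheory.Limits AlgebraicGeometry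

namespace Groth.Agent.H72.FinExt

section Step

variable {S V : Scheme.{u}} [QuasiSeparatedSpace S] (U : S.Opens) (v : V ⟶ (U : Scheme.{u}))
  [IsFinite v]

/-- The inductive step: extend over one more affine open. -/
theorem exists_extension_step (Ω₁ : S.Opens) (hΩ₁ : IsCompact (Ω₁ : Set S)) (hle : U ≤ Ω₁)
    (W : S.affineOpens) {T₁ : Scheme.{u}} (π₁ : T₁ ⟶ (Ω₁ : Scheme.{u})) [IsFinite π₁]
    (i₁ : V ⟶ T₁) (h₁ : IsPullback i₁ v π₁ (S.homOfLE hle)) :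
    ∃ (T : Scheme.{u}) (π : T ⟶ ((Ω₁ ⊔ W.1 : S.Opens) : Scheme.{u})) (i : V ⟶ T), IsFinite π ∧
      IsPullback i v π (S.homOfLE (hle.trans le_sup_left)) := by
  let ι₁ : (Ω₁ : Scheme.{u}) ⟶ ((Ω₁ ⊔ W.1 : S.Opens) : Scheme.{u}) := S.homOfLE le_sup_left
  let ι₂ : (W.1 : Scheme.{u}) ⟶ ((Ω₁ ⊔ W.1 : S.Opens) : Scheme.{u}) := S.homOfLE le_sup_right
  let κ₁ : ((Ω₁ ⊓ W.1 : S.Opens) : Scheme.{u}) ⟶ (Ω₁ : Scheme.{u}) := S.homOfLE inf_le_left
  let κ₂ : ((Ω₁ ⊓ W.1 : S.Opens) : Scheme.{u}) ⟶ (W.1 : Scheme.{u}) := S.homOfLE inf_le_right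
  have hΩ : IsPullback κ₁ κ₂ ι₁ ι₂ := isPullback_opens_inf_le le_sup_left le_sup_right
  haveI : IsAffine (W.1 : Scheme.{u}) := W.2
  haveI : CompactSpace ((Ω₁ ⊓ W.1 : S.Opens) : Scheme.{u}) :=
    isCompact_iff_compactSpace.mp
      (QuasiSeparatedSpace.inter_isCompact _ _ Ω₁.2 hΩ₁ W.1.2 W.2.isCompact)
  let a : pullback π₁ κ₁ ⟶ T₁ := pullback.fst π₁ κ₁
  let π₁₂ : pullback π₁ κ₁ ⟶ ((Ω₁ ⊓ W.1 : S.Opens) : Scheme.{u}) := pullback.snd π₁ κ₁
  have hsq₁ : IsPullback a π₁₂ π₁ κ₁ := IsPullback.of_hasPullback π₁ κ₁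
  obtain ⟨T₂, π₂, b, hπ₂, hsq₂⟩ := exists_finite_extension_affine κ₂ π₁₂
  have hcov : Set.range ι₁ ∪ Set.range ι₂ = Set.univ := by
    rw [Set.eq_univ_iff_forall]
    rintro ⟨x, hx⟩
    rcases hx with hx | hx
    · left
      exact ⟨⟨x, hx⟩, Scheme.homOfLE_apply' _ _ _⟩
    · right
      exact ⟨⟨x, hx⟩, Scheme.homOfLE_apply' _ _ _⟩
  obtain ⟨T, π, j₁, j₂, hπ, hP₁, -⟩ :=
    exists_glue_finite ι₁ ι₂ hcov κ₁ κ₂ hΩ π₁ π₂ π₁₂ a b hsq₁ hsq₂
  refine ⟨T, π, i₁ ≫ j₁, hπ, ?_⟩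
  have := h₁.paste_horiz hP₁
  rwa [Scheme.homOfLE_homOfLE] at this

end Step

section Main

variable {S V : Scheme.{u}} [CompactSpace S] [QuasiSeparatedSpace S] (U : S.Opens)
  (hU : IsCompact (U : Set S)) (v : V ⟶ (U : Scheme.{u})) [IsFinite v]

include hU in
theorem exists_finite_extension :
    ∃ (V' : Scheme.{u}) (π : V' ⟶ S) (i : V ⟶ V'), IsFinite π ∧ IsPullback i v π U.ι := by
  have key : ∀ Ω : S.Opens, IsCompact (Ω : Set S) → ∀ Ω' : S.Opens, Ω' = Ω ⊔ U → ∀ hle : U ≤ Ω',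
      ∃ (T : Scheme.{u}) (π : T ⟶ (Ω' : Scheme.{u})) (i : V ⟶ T), IsFinite π ∧
        IsPullback i v π (S.homOfLE hle) := by
    intro Ω hΩ
    refine compact_open_induction_on (P := fun Ω => ∀ Ω' : S.Opens, Ω' = Ω ⊔ U → ∀ hle : U ≤ Ω',
      ∃ (T : Scheme.{u}) (π : T ⟶ (Ω' : Scheme.{u})) (i : V ⟶ T), IsFinite π ∧
        IsPullback i v π (S.homOfLE hle)) Ω hΩ ?_ ?_
    · intro Ω' hΩ' hle
      rw [bot_sup_eq] at hΩ'
      subst hΩ'
      refine ⟨V, v, 𝟙 V, inferInstance, ?_⟩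
      rw [Scheme.homOfLE_rfl]
      exact IsPullback.of_horiz_isIso ⟨by simp⟩
    · intro Ω₀ hΩ₀ W ih Ω' hΩ' hle
      obtain ⟨T₁, π₁, i₁, hπ₁, hsq₁⟩ := ih (Ω₀ ⊔ U) rfl le_sup_right
      have hΩ'' : Ω' = (Ω₀ ⊔ U) ⊔ W.1 := by rw [hΩ', sup_right_comm]
      subst hΩ''
      exact exists_extension_step U v (Ω₀ ⊔ U) (hΩ₀.union hU) le_sup_right W π₁ i₁ hsq₁
  obtain ⟨T, π, i, hπ, hsq⟩ := key ⊤ isCompact_univ ⊤ (by rw [top_sup_eq]) le_top
  haveI : IsIso (⊤ : S.Opens).ι := by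
    rw [← Scheme.topIso_hom]
    infer_instance
  refine ⟨T, π ≫ (⊤ : S.Opens).ι, i, inferInstance, ?_⟩
  have hbot : IsPullback (S.homOfLE (le_top : U ≤ ⊤)) (𝟙 _) (⊤ : S.Opens).ι U.ι :=
    IsPullback.of_vert_isIso ⟨by simp⟩
  have := hsq.paste_vert hbot
  rwa [Category.comp_id] at this

end Main


section Surj


variable {S V : Scheme.{u}} [CompactSpace S] [QuasiSeparatedSpace S] (U : S.Opens)
  (hU : IsCompact (U : Set S)) (v : V ⟶ (U : Scheme.{u})) [IsFinite v] [Surjective v]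

include hU in
theorem exists_finite_surjective_extension :
    ∃ (V' : Scheme.{u}) (π : V' ⟶ S) (i : V ⟶ V'), Surjective π ∧ IsFinite π ∧
      IsPullback i v π U.ι := by
  obtain ⟨V₁, π₁, i₁, hπ₁, hsq₁⟩ := exists_finite_extension U hU v
  let Zc : TopologicalSpace.Closeds S := ⟨(U : Set S)ᶜ, U.isOpen.isClosed_compl⟩
  let I := Scheme.IdealSheafData.vanishingIdeal Zc
  let z : I.subscheme ⟶ S := I.subschemeι
  have hz : Set.range z = (U : Set S)ᶜ := by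
    rw [Scheme.IdealSheafData.range_subschemeι, Scheme.IdealSheafData.coe_support_vanishingIdeal]
    rfl
  haveI : IsOpenImmersion i₁ := MorphismProperty.of_isPullback (P := @IsOpenImmersion) hsq₁.flip
    inferInstance
  let π : V₁ ⨿ I.subscheme ⟶ S := coprod.desc π₁ z
  let i : V ⟶ V₁ ⨿ I.subscheme := i₁ ≫ coprod.inl
  have hπl : (coprod.inl : V₁ ⟶ V₁ ⨿ I.subscheme) ≫ π = π₁ := coprod.inl_desc _ _
  have hπr : (coprod.inr : I.subscheme ⟶ V₁ ⨿ I.subscheme) ≫ π = z := coprod.inr_desc _ _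
  have hcases : ∀ x : ↥(V₁ ⨿ I.subscheme), (∃ a : V₁, (coprod.inl : V₁ ⟶ V₁ ⨿ I.subscheme) a = x) ∨
      (∃ b : I.subscheme, (coprod.inr : I.subscheme ⟶ V₁ ⨿ I.subscheme) b = x) := by
    intro x
    obtain ⟨(a | b), rfl⟩ := (coprodMk V₁ I.subscheme).surjective x
    · left; exact ⟨a, by simp⟩
    · right; exact ⟨b, by simp⟩
  have hcomm : i ≫ π = v ≫ U.ι := by
    simp only [i, Category.assoc, hπl, hsq₁.w]
  refine ⟨V₁ ⨿ I.subscheme, π, i, ⟨?_⟩, inferInstance, ?_⟩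
  · intro s
    by_cases hs : s ∈ U
    · obtain ⟨t, ht⟩ := v.surjective ⟨s, hs⟩
      refine ⟨i t, ?_⟩
      rw [← Scheme.Hom.comp_apply, hcomm, Scheme.Hom.comp_apply, ht]
      rfl
    · have : s ∈ Set.range z := by rw [hz]; exact hs
      obtain ⟨b, hb⟩ := this
      refine ⟨(coprod.inr : I.subscheme ⟶ V₁ ⨿ I.subscheme) b, ?_⟩
      rw [← Scheme.Hom.comp_apply, hπr, hb]
  · apply isPullback_of_isOpenImmersion_of_range_eq π U.ι i v hcomm
    apply Set.Subset.antisymm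
    · rintro _ ⟨t, rfl⟩
      change π (i t) ∈ Set.range U.ι
      rw [← Scheme.Hom.comp_apply, hcomm, Scheme.Hom.comp_apply]
      exact ⟨_, rfl⟩
    · intro x hx
      change π x ∈ Set.range U.ι at hx
      rcases hcases x with ⟨a, rfl⟩ | ⟨b, rfl⟩
      · rw [← Scheme.Hom.comp_apply, hπl] at hx
        obtain ⟨u, hu⟩ := hx
        obtain ⟨t, ht, -⟩ := exists_preimage_of_isPullback hsq₁ a u hu.symm
        exact ⟨t, by simp only [i, Scheme.Hom.comp_apply, ht]⟩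
      · exfalso
        rw [← Scheme.Hom.comp_apply, hπr] at hx
        have h1 : z b ∈ Set.range z := ⟨b, rfl⟩
        rw [hz] at h1
        rw [Scheme.Opens.range_ι] at hx
        exact h1 hx


end Surj

end Groth.Agent.H72.FinExt
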