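import Mathlib
import Groth.Agent.H72.FinExtAff

/-!
# Finite factorization, affine base case

Library of helper72.  `exists_finite_factorization_affine`: if `Z → W` is integral with `W` affine
and `X ⊆ Z` is a quasi-compact open subscheme, locally of finite type over `W`, then `X` embeds as
an open subscheme of a scheme finite over `W`.
-/
set_option autoImplicit false

universe u

open CategoryTheory CategoryTheory.Limits AlgebraicGeometry

namespace Groth.Agent.H72.FinFact

section Ring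

variable {A B : Type*} [CommRing A] [CommRing B] [Algebra A B]

/-- If `B_g` is of finite type over `A`, finitely many elements of `B` together with `g` generate
a subalgebra which becomes everything after inverting `g`. -/
theorem exists_finset_adjoin_of_finiteType_away (g : B)
    (Bg : Type*) [CommRing Bg] [Algebra B Bg] [IsLocalization.Away g Bg]
    (hft : ((algebraMap B Bg).comp (algebraMap A B)).FiniteType) :
    ∃ G : Finset B, ∀ x : B, ∃ m : ℕ, g ^ m * x ∈ Algebra.adjoin A (insert g (G : Set B)) := by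
  classical
  letI : Algebra A Bg := ((algebraMap B Bg).comp (algebraMap A B)).toAlgebra
  haveI : IsScalarTower A B Bg := IsScalarTower.of_algebraMap_eq fun _ => rfl
  have hft' : Algebra.FiniteType A Bg := hft
  obtain ⟨Y, hY⟩ := hft'.out
  have hsurj : ∀ y : Bg, ∃ (n : ℕ) (b : B), y * algebraMap B Bg g ^ n = algebraMap B Bg b :=
    fun y => IsLocalization.Away.surj g y
  choose n b hnb using hsurj
  refine ⟨Y.image b, ?_⟩
  set S := Algebra.adjoin A (insert g ((Y.image b : Finset B) : Set B)) with hS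
  have hgS : g ∈ S := Algebra.subset_adjoin (Set.mem_insert _ _)
  have claim : ∀ z : Bg, ∃ m : ℕ, ∃ s ∈ S, z * algebraMap B Bg g ^ m = algebraMap B Bg s := by
    intro z
    have hz : z ∈ Algebra.adjoin A (Y : Set Bg) := by rw [hY]; trivial
    induction hz using Algebra.adjoin_induction with
    | mem y hy =>
      refine ⟨n y, b y, Algebra.subset_adjoin (Set.mem_insert_of_mem _ ?_), hnb y⟩
      exact Finset.mem_coe.mpr (Finset.mem_image_of_mem b hy)
    | algebraMap a =>
      refine ⟨0, algebraMap A B a, Subalgebra.algebraMap_mem _ _, ?_⟩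
      rw [pow_zero, mul_one, IsScalarTower.algebraMap_apply A B Bg]
    | add z₁ z₂ _ _ h₁ h₂ =>
      obtain ⟨m₁, s₁, hs₁, e₁⟩ := h₁
      obtain ⟨m₂, s₂, hs₂, e₂⟩ := h₂
      refine ⟨m₁ + m₂, s₁ * g ^ m₂ + s₂ * g ^ m₁,
        Subalgebra.add_mem _ (Subalgebra.mul_mem _ hs₁ (Subalgebra.pow_mem _ hgS _))
          (Subalgebra.mul_mem _ hs₂ (Subalgebra.pow_mem _ hgS _)), ?_⟩
      rw [map_add, map_mul, map_mul, map_pow, map_pow, ← e₁, ← e₂, pow_add]
      ring
    | mul z₁ z₂ _ _ h₁ h₂ =>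
      obtain ⟨m₁, s₁, hs₁, e₁⟩ := h₁
      obtain ⟨m₂, s₂, hs₂, e₂⟩ := h₂
      refine ⟨m₁ + m₂, s₁ * s₂, Subalgebra.mul_mem _ hs₁ hs₂, ?_⟩
      rw [map_mul, ← e₁, ← e₂, pow_add]
      ring
  intro x
  obtain ⟨m, s, hs, e⟩ := claim (algebraMap B Bg x)
  rw [← map_pow, ← map_mul] at e
  obtain ⟨⟨_, k, rfl⟩, hk⟩ := (IsLocalization.eq_iff_exists (Submonoid.powers g) Bg).mp e
  refine ⟨k + m, ?_⟩
  have : g ^ (k + m) * x = g ^ k * s := by
    rw [pow_add, mul_assoc, mul_comm (g ^ m) x]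
    exact hk
  rw [this]
  exact Subalgebra.mul_mem _ (Subalgebra.pow_mem _ hgS _) hs

/-- Combining finitely many `g`. -/
theorem exists_subalgebra_of_forall_exists_adjoin [Algebra.IsIntegral A B] (gs : Finset B)
    (h : ∀ g ∈ gs, ∃ G : Finset B, ∀ x : B, ∃ m : ℕ,
      g ^ m * x ∈ Algebra.adjoin A (insert g (G : Set B))) :
    ∃ S : Subalgebra A B, Module.Finite A S ∧ (∀ g ∈ gs, g ∈ S) ∧
      ∀ g ∈ gs, ∀ x : B, ∃ m : ℕ, g ^ m * x ∈ S := by
  classical
  choose! G hG using h
  let GG : Finset B := gs ∪ gs.biUnion G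
  refine ⟨Algebra.adjoin A (GG : Set B), ?_, ?_, ?_⟩
  · exact Algebra.finite_adjoin_of_finite_of_isIntegral GG.finite_toSet
      fun x _ => Algebra.IsIntegral.isIntegral x
  · intro g hg
    exact Algebra.subset_adjoin (Finset.mem_coe.mpr (Finset.mem_union_left _ hg))
  · intro g hg x
    obtain ⟨m, hm⟩ := hG g hg x
    refine ⟨m, Algebra.adjoin_mono ?_ hm⟩
    intro y hy
    rcases hy with rfl | hy
    · exact Finset.mem_coe.mpr (Finset.mem_union_left _ hg)
    · exact Finset.mem_coe.mpr (Finset.mem_union_right _ (Finset.mem_biUnion.mpr ⟨_, hg, hy⟩))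

end Ring

open Groth.Agent.H72.FinExt

section Affine

set_option backward.isDefEq.respectTransparency.types false in
/-- finite type of the coordinate ring of a basic open contained in the range of `j`. -/
theorem finiteType_basicOpen_of_le {W Z X : Scheme.{u}} [IsAffine W] [IsAffine Z] (ν : Z ⟶ W)
    (j : X ⟶ Z) [IsOpenImmersion j] [LocallyOfFiniteType (j ≫ ν)] (g : Γ(Z, ⊤))
    (hle : Z.basicOpen g ≤ j.opensRange) :
    ((algebraMap Γ(Z, ⊤) Γ(Z, Z.basicOpen g)).comp ν.appTop.hom).FiniteType := by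
  have hV : IsAffineOpen (j ⁻¹ᵁ Z.basicOpen g) := by
    rw [← Scheme.Hom.isAffineOpen_iff_of_isOpenImmersion j]
    have : j ''ᵁ (j ⁻¹ᵁ Z.basicOpen g) = Z.basicOpen g := by
      rw [Scheme.Hom.image_preimage_eq_opensRange_inf]
      exact inf_eq_right.mpr hle
    rw [this]
    exact (isAffineOpen_top Z).basicOpen g
  have h1 := HasRingHomProperty.appLE (P := @LocallyOfFiniteType) (f := j ≫ ν) inferInstance
    ⟨⊤, isAffineOpen_top W⟩ ⟨j ⁻¹ᵁ Z.basicOpen g, hV⟩ le_top
  have h2 : (j ≫ ν).appLE ⊤ (j ⁻¹ᵁ Z.basicOpen g) le_top =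
      (ν.appTop ≫ Z.presheaf.map (homOfLE (le_top : Z.basicOpen g ≤ ⊤)).op) ≫
        j.app (Z.basicOpen g) := by
    rw [Scheme.Hom.comp_appLE, Category.assoc]
    congr 1
    rw [Scheme.Hom.app_eq_appLE, Scheme.Hom.map_appLE]
    rfl
  haveI : IsIso (j.app (Z.basicOpen g)) := Scheme.Hom.isIso_app j _ hle
  rw [h2, CommRingCat.hom_comp, RingHom.finiteType_respectsIso.cancel_right_isIso] at h1
  exact h1

set_option backward.isDefEq.respectTransparency.types false in
/-- Affine base case: an open subscheme of finite type of a scheme integral over an affine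
scheme is an open subscheme of a finite scheme. -/
theorem exists_finite_factorization_affine {W Z X : Scheme.{u}} [IsAffine W] (ν : Z ⟶ W)
    [IsIntegralHom ν] (j : X ⟶ Z) [IsOpenImmersion j] [CompactSpace X]
    [LocallyOfFiniteType (j ≫ ν)] :
    ∃ (T : Scheme.{u}) (π : T ⟶ W) (jT : X ⟶ T), IsFinite π ∧ IsOpenImmersion jT ∧
      jT ≫ π = j ≫ ν := by
  classical
  haveI : IsAffine Z := isAffine_of_isAffineHom ν
  obtain ⟨gs, hgsfin, hgs⟩ := (isCompact_and_isOpen_iff_finite_and_eq_biUnion_basicOpen (X := Z)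
    (U := Set.range j)).mp ⟨isCompact_range j.continuous, j.isOpenEmbedding.isOpen_range⟩
  let A := Γ(W, ⊤)
  let B := Γ(Z, ⊤)
  let φ : A →+* B := ν.appTop.hom
  letI : Algebra A B := φ.toAlgebra
  haveI : Algebra.IsIntegral A B := by
    have := IsIntegralHom.isIntegral_app ν ⊤ (isAffineOpen_top W)
    exact ⟨this⟩
  have hG : ∀ g ∈ hgsfin.toFinset, ∃ G : Finset B, ∀ x : B, ∃ m : ℕ,
      g ^ m * x ∈ Algebra.adjoin A (insert g (G : Set B)) := by
    intro g hg
    rw [Set.Finite.mem_toFinset] at hg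
    have hle : Z.basicOpen g ≤ j.opensRange := by
      intro x hx
      change x ∈ Set.range j
      rw [hgs]
      exact Set.mem_biUnion hg hx
    exact exists_finset_adjoin_of_finiteType_away g Γ(Z, Z.basicOpen g)
      (finiteType_basicOpen_of_le ν j g hle)
  obtain ⟨S, hSfin, hSmem, hSsat⟩ := exists_subalgebra_of_forall_exists_adjoin hgsfin.toFinset hG
  -- the schemes
  let SS : CommRingCat.{u} := CommRingCat.of S
  let M : Scheme.{u} := Spec SS
  let σ : SS ⟶ Γ(Z, ⊤) := CommRingCat.ofHom S.val.toRingHom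
  let α : Γ(W, ⊤) ⟶ SS := CommRingCat.ofHom (algebraMap A S)
  have hασ : α ≫ σ = ν.appTop := by ext x; rfl
  let ρ : Z ⟶ M := Z.toSpecΓ ≫ Spec.map σ
  let π : M ⟶ W := Spec.map α ≫ W.isoSpec.inv
  have hρπ : ρ ≫ π = ν := by
    simp only [ρ, π, Category.assoc]
    rw [← Spec.map_comp_assoc, hασ, ← Scheme.toSpecΓ_naturality_assoc]
    simp
  haveI : IsFinite π := by
    have : IsFinite (Spec.map α) := by
      rw [IsFinite.SpecMap_iff]
      exact hSfin
    infer_instance
  have hρtop : ρ.appTop = (Scheme.ΓSpecIso SS).hom ≫ σ := by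
    simp only [ρ, Scheme.Hom.comp_appTop, Scheme.toSpecΓ_appTop]
    exact Scheme.ΓSpecIso_naturality σ
  have hinj : Function.Injective ρ.appTop.hom := by
    rw [hρtop]
    intro x y hxy
    simp only [CommRingCat.hom_comp, RingHom.coe_comp, Function.comp_apply] at hxy
    have h1 : (Scheme.ΓSpecIso SS).hom x = (Scheme.ΓSpecIso SS).hom y := Subtype.val_injective hxy
    exact (ConcreteCategory.bijective_of_isIso (Scheme.ΓSpecIso SS).hom).1 h1
  -- the element of `Γ(M, ⊤)` corresponding to `g ∈ gs`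
  have hex : ∀ g ∈ gs, ∃ s : Γ(M, ⊤), ρ.appTop s = g := by
    intro g hg
    refine ⟨(Scheme.ΓSpecIso SS).inv ⟨g, hSmem g ((Set.Finite.mem_toFinset hgsfin).mpr hg)⟩, ?_⟩
    rw [hρtop]
    simp only [CommRingCat.comp_apply]
    erw [Iso.inv_hom_id_apply]
    rfl
  choose! sg hsg using hex
  have hiso : ∀ g ∈ gs, IsIso (ρ ∣_ M.basicOpen (sg g)) := by
    intro g hg
    apply isIso_morphismRestrict_basicOpen_of_bijective
    apply awayMap_bijective_of_saturated ρ.appTop.hom hinj
    intro x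
    obtain ⟨m, hm⟩ := hSsat g ((Set.Finite.mem_toFinset hgsfin).mpr hg) x
    refine ⟨m, (Scheme.ΓSpecIso SS).inv ⟨_, hm⟩, ?_⟩
    change ρ.appTop _ = (ρ.appTop (sg g)) ^ m * x
    rw [hsg g hg, hρtop]
    simp only [CommRingCat.comp_apply]
    erw [Iso.inv_hom_id_apply]
    rfl
  let V : M.Opens := ⨆ g : gs, M.basicOpen (sg g.1)
  have hVmem : ∀ z : Z, ρ z ∈ V ↔ z ∈ Set.range j := by
    intro z
    rw [hgs]
    simp only [V, TopologicalSpace.Opens.mem_iSup, Set.mem_iUnion, Subtype.exists, exists_prop,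
      SetLike.mem_coe]
    refine exists_congr fun g => and_congr_right fun hg => ?_
    change z ∈ ρ ⁻¹ᵁ M.basicOpen (sg g) ↔ _
    rw [Scheme.preimage_basicOpen_top, hsg g hg]
  haveI hisoV : IsIso (ρ ∣_ V) := isIso_morphismRestrict_iSup ρ _ fun g => hiso g.1 g.2
  -- lift `j` to `ρ⁻¹ V`
  have hsub : Set.range j ⊆ Set.range (ρ ⁻¹ᵁ V).ι := by
    rw [Scheme.Opens.range_ι]
    rintro _ ⟨t, rfl⟩
    change ρ (j t) ∈ V
    rw [hVmem]
    exact ⟨t, rfl⟩
  let l : X ⟶ (ρ ⁻¹ᵁ V) := IsOpenImmersion.lift (ρ ⁻¹ᵁ V).ι j hsub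
  have hl : l ≫ (ρ ⁻¹ᵁ V).ι = j := IsOpenImmersion.lift_fac _ _ _
  haveI : IsOpenImmersion l := by
    haveI : IsOpenImmersion (l ≫ (ρ ⁻¹ᵁ V).ι) := by rw [hl]; infer_instance
    exact IsOpenImmersion.of_comp l (ρ ⁻¹ᵁ V).ι
  let jT : X ⟶ M := l ≫ (ρ ∣_ V) ≫ V.ι
  have hjT : jT = j ≫ ρ := by
    simp only [jT]
    rw [morphismRestrict_ι, ← Category.assoc, hl]
  refine ⟨M, π, jT, inferInstance, inferInstance, ?_⟩
  rw [hjT, Category.assoc, hρπ]

end Affine

end Groth.Agent.H72.FinFact
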