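import Mathlib
import Groth.Agent.H72.FinExt

/-!
# Finite factorization: the gluing step

Library of helper72.  `exists_finite_factorization_glue`: if `X → Ω` is quasi-compact and `Ω` is
covered by two quasi-compact quasi-separated opens over which `X` embeds as an open subscheme of a
finite scheme, then (after modifying the two finite schemes) the same holds over `Ω`.

Ingredients: `exists_join` (join of two finite schemes containing `X'` as an open),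
`exists_modification` (extend a finite modification, using `exists_finite_extension`),
`exists_glue_morphism` (glue morphisms on a two-piece open cover).
-/
set_option autoImplicit false

universe u

open CategoryTheory CategoryTheory.Limits AlgebraicGeometry

namespace Groth.Agent.H72.FinFact

open Groth.Agent.H72.FinExt

section Join

/-- The schematic image of a quasi-compact immersion `g : X' ⟶ P` is isomorphic to `X'` over an
open `X' ⊆ A`, if `P → A` is separated. -/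
theorem isPullback_toImage_of_isSeparated {X' P A : Scheme.{u}} (g : X' ⟶ P) [IsImmersion g]
    [QuasiCompact g] (p : P ⟶ A) [IsSeparated p] (jA : X' ⟶ A) [IsOpenImmersion jA]
    (hg : g ≫ p = jA) : IsPullback g.toImage (𝟙 X') (g.imageι ≫ p) jA := by
  have hcomm : g.toImage ≫ g.imageι ≫ p = 𝟙 X' ≫ jA := by
    rw [Scheme.Hom.toImage_imageι_assoc, hg, Category.id_comp]
  apply isPullback_of_isOpenImmersion_of_range_eq _ _ _ _ hcomm
  apply Set.Subset.antisymm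
  · rintro _ ⟨x, rfl⟩
    change (g.imageι ≫ p) (g.toImage x) ∈ Set.range jA
    rw [← Scheme.Hom.comp_apply, hcomm, Category.id_comp]
    exact ⟨x, rfl⟩
  · intro y hy
    change (g.imageι ≫ p) y ∈ Set.range jA at hy
    -- the open `P_W`
    let W : A.Opens := jA.opensRange
    let PW : P.Opens := p ⁻¹ᵁ W
    have hsub : Set.range g ⊆ Set.range PW.ι := by
      rw [Scheme.Opens.range_ι]
      rintro _ ⟨x, rfl⟩
      change p (g x) ∈ Set.range jA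
      rw [← Scheme.Hom.comp_apply, hg]
      exact ⟨x, rfl⟩
    let gW : X' ⟶ (PW : Scheme.{u}) := IsOpenImmersion.lift PW.ι g hsub
    have hgW : gW ≫ PW.ι = g := IsOpenImmersion.lift_fac _ _ _
    have h1 : gW ≫ (p ∣_ W) = jA.isoOpensRange.hom := by
      rw [← cancel_mono W.ι, Category.assoc, morphismRestrict_ι, ← Category.assoc, hgW, hg,
        Scheme.Hom.isoOpensRange_hom_ι]
    haveI : IsClosedImmersion (gW ≫ (p ∣_ W)) := by rw [h1]; infer_instance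
    haveI : IsClosedImmersion gW := IsClosedImmersion.of_comp gW (p ∣_ W)
    have hclosed : IsClosed (Set.range gW) := gW.isClosedEmbedding.isClosed_range
    -- `y' = imageι y` lies in the closure of the range of `g`
    have hy' : g.imageι y ∈ closure (Set.range g) := by
      have hdense : DenseRange g.toImage := g.toImage.denseRange
      have h2 : y ∈ closure (Set.range g.toImage) := hdense y
      have h3 := image_closure_subset_closure_image g.imageι.continuous ⟨y, h2, rfl⟩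
      rw [← Set.range_comp] at h3
      have h4 : (g.imageι : g.image → P) ∘ (g.toImage : X' → g.image) = (g : X' → P) := by
        funext x
        change g.imageι (g.toImage x) = g x
        rw [← Scheme.Hom.comp_apply, Scheme.Hom.toImage_imageι]
      rwa [h4] at h3
    have hyPW : g.imageι y ∈ Set.range PW.ι := by
      rw [Scheme.Opens.range_ι]
      exact hy
    obtain ⟨y'', hy''⟩ := hyPW
    have h5 : y'' ∈ closure (Set.range gW) := by
      rw [PW.ι.isOpenEmbedding.isInducing.closure_eq_preimage_closure_image, Set.mem_preimage,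
        hy'', ← Set.range_comp]
      have h6 : (PW.ι : PW → P) ∘ (gW : X' → PW) = (g : X' → P) := by
        funext x
        change PW.ι (gW x) = g x
        rw [← Scheme.Hom.comp_apply, hgW]
      rw [h6]
      exact hy'
    rw [hclosed.closure_eq] at h5
    obtain ⟨x', hx'⟩ := h5
    refine ⟨x', ?_⟩
    apply g.imageι.isClosedEmbedding.injective
    rw [← Scheme.Hom.comp_apply, Scheme.Hom.toImage_imageι, ← hy'', ← hx', ← Scheme.Hom.comp_apply,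
      hgW]

/-- The join of two finite schemes containing `X'` as an open subscheme. -/
theorem exists_join {Ω' A B X' : Scheme.{u}} (πA : A ⟶ Ω') (πB : B ⟶ Ω') [IsFinite πA]
    [IsFinite πB] (jA : X' ⟶ A) (jB : X' ⟶ B) [IsOpenImmersion jA] [IsOpenImmersion jB]
    (hj : jA ≫ πA = jB ≫ πB) [QuasiCompact (jA ≫ πA)] :
    ∃ (T' : Scheme.{u}) (qA : T' ⟶ A) (qB : T' ⟶ B) (t : X' ⟶ T'), IsFinite qA ∧ IsFinite qB ∧
      qA ≫ πA = qB ≫ πB ∧ IsPullback t (𝟙 X') qA jA ∧ IsPullback t (𝟙 X') qB jB := by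
  let g : X' ⟶ pullback πA πB := pullback.lift jA jB hj
  have hg1 : g ≫ pullback.fst πA πB = jA := pullback.lift_fst _ _ _
  have hg2 : g ≫ pullback.snd πA πB = jB := pullback.lift_snd _ _ _
  haveI : IsImmersion g := by
    haveI : IsImmersion (g ≫ pullback.fst πA πB) := by rw [hg1]; infer_instance
    exact IsImmersion.of_comp g (pullback.fst πA πB)
  haveI : QuasiCompact g := by
    haveI : QuasiCompact (g ≫ (pullback.fst πA πB ≫ πA)) := by
      rw [← Category.assoc, hg1]; infer_instance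
    exact QuasiCompact.of_comp g (pullback.fst πA πB ≫ πA)
  refine ⟨g.image, g.imageι ≫ pullback.fst πA πB, g.imageι ≫ pullback.snd πA πB, g.toImage,
    inferInstance, inferInstance, ?_, ?_, ?_⟩
  · rw [Category.assoc, Category.assoc, pullback.condition]
  · exact isPullback_toImage_of_isSeparated g _ jA hg1
  · exact isPullback_toImage_of_isSeparated g _ jB hg2

end Join

section Glue

/-- `exists_glue_finite` with the compatibility of the two inclusions. -/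
theorem exists_glue_finite' {Ω Ω₁ Ω₂ Ω₁₂ T₁ T₂ T₁₂ : Scheme.{u}} (ι₁ : Ω₁ ⟶ Ω) (ι₂ : Ω₂ ⟶ Ω)
    [IsOpenImmersion ι₁] [IsOpenImmersion ι₂]
    (hcov : Set.range ι₁ ∪ Set.range ι₂ = Set.univ)
    (κ₁ : Ω₁₂ ⟶ Ω₁) (κ₂ : Ω₁₂ ⟶ Ω₂) (hΩ : IsPullback κ₁ κ₂ ι₁ ι₂)
    (π₁ : T₁ ⟶ Ω₁) (π₂ : T₂ ⟶ Ω₂) [IsFinite π₁] [IsFinite π₂] (π₁₂ : T₁₂ ⟶ Ω₁₂)
    (a : T₁₂ ⟶ T₁) (b : T₁₂ ⟶ T₂)
    (h₁ : IsPullback a π₁₂ π₁ κ₁) (h₂ : IsPullback b π₁₂ π₂ κ₂) :
    ∃ (T : Scheme.{u}) (π : T ⟶ Ω) (i₁ : T₁ ⟶ T) (i₂ : T₂ ⟶ T), IsFinite π ∧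
      IsPullback i₁ π₁ π ι₁ ∧ IsPullback i₂ π₂ π ι₂ ∧ a ≫ i₁ = b ≫ i₂ := by
  have : IsOpenImmersion κ₁ := MorphismProperty.of_isPullback (P := @IsOpenImmersion) hΩ.flip
    inferInstance
  have : IsOpenImmersion κ₂ := MorphismProperty.of_isPullback (P := @IsOpenImmersion) hΩ
    inferInstance
  have : IsOpenImmersion a := MorphismProperty.of_isPullback (P := @IsOpenImmersion) h₁.flip
    inferInstance
  have : IsOpenImmersion b := MorphismProperty.of_isPullback (P := @IsOpenImmersion) h₂.flip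
    inferInstance
  have hcomm : a ≫ π₁ ≫ ι₁ = b ≫ π₂ ≫ ι₂ := by
    rw [← Category.assoc, h₁.w, ← Category.assoc, h₂.w, Category.assoc, Category.assoc, hΩ.w]
  let π : pushout a b ⟶ Ω := pushout.desc (π₁ ≫ ι₁) (π₂ ≫ ι₂) hcomm
  have hπ1 : pushout.inl a b ≫ π = π₁ ≫ ι₁ := pushout.inl_desc _ _ _
  have hπ2 : pushout.inr a b ≫ π = π₂ ≫ ι₂ := pushout.inr_desc _ _ _
  have hP1 : IsPullback (pushout.inl a b) π₁ π ι₁ := by
    apply isPullback_of_isOpenImmersion_of_range_eq _ _ _ _ hπ1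
    apply Set.Subset.antisymm
    · rintro _ ⟨t₁, rfl⟩
      change π (pushout.inl a b t₁) ∈ Set.range ι₁
      rw [← Scheme.Hom.comp_apply, hπ1]
      exact ⟨π₁ t₁, rfl⟩
    · intro t ht
      rcases pushout_cases a b t with ⟨t₁, rfl⟩ | ⟨t₂, rfl⟩
      · exact ⟨t₁, rfl⟩
      · obtain ⟨ω₁, hω₁⟩ := ht
        have h3 : ι₁ ω₁ = ι₂ (π₂ t₂) := by
          rw [hω₁, ← Scheme.Hom.comp_apply (pushout.inr a b) π, hπ2]
          rfl
        obtain ⟨ω₁₂, -, hω₁₂⟩ := exists_preimage_of_isPullback hΩ ω₁ (π₂ t₂) h3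
        obtain ⟨t₁₂, ht₁₂, -⟩ := exists_preimage_of_isPullback h₂ t₂ ω₁₂ hω₁₂.symm
        refine ⟨a t₁₂, ?_⟩
        rw [← ht₁₂, ← Scheme.Hom.comp_apply, ← Scheme.Hom.comp_apply, pushout.condition]
  have hP2 : IsPullback (pushout.inr a b) π₂ π ι₂ := by
    apply isPullback_of_isOpenImmersion_of_range_eq _ _ _ _ hπ2
    apply Set.Subset.antisymm
    · rintro _ ⟨t₂, rfl⟩
      change π (pushout.inr a b t₂) ∈ Set.range ι₂
      rw [← Scheme.Hom.comp_apply, hπ2]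
      exact ⟨π₂ t₂, rfl⟩
    · intro t ht
      rcases pushout_cases a b t with ⟨t₁, rfl⟩ | ⟨t₂, rfl⟩
      · obtain ⟨ω₂, hω₂⟩ := ht
        have h3 : ι₁ (π₁ t₁) = ι₂ ω₂ := by
          rw [hω₂, ← Scheme.Hom.comp_apply (pushout.inl a b) π, hπ1]
          rfl
        obtain ⟨ω₁₂, hω₁₂, -⟩ := exists_preimage_of_isPullback hΩ (π₁ t₁) ω₂ h3
        obtain ⟨t₁₂, ht₁₂, -⟩ := exists_preimage_of_isPullback h₁ t₁ ω₁₂ hω₁₂.symm
        refine ⟨b t₁₂, ?_⟩
        rw [← ht₁₂, ← Scheme.Hom.comp_apply, ← Scheme.Hom.comp_apply, pushout.condition]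
      · exact ⟨t₂, rfl⟩
  exact ⟨pushout a b, π, pushout.inl a b, pushout.inr a b,
    isFinite_of_isPullback_of_cover π ι₁ ι₂ hcov π₁ π₂ _ _ hP1 hP2, hP1, hP2, pushout.condition⟩


end Glue

section Modification

theorem isPullback_of_comp_mono {C : Type*} [Category C] {P X Y Z Z' : C} {fst : P ⟶ X}
    {snd : P ⟶ Y} {f : X ⟶ Z} {g : Y ⟶ Z} (m : Z ⟶ Z') [Mono m]
    (h : IsPullback fst snd (f ≫ m) (g ≫ m)) : IsPullback fst snd f g := by
  have w : fst ≫ f = snd ≫ g := by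
    rw [← cancel_mono m, Category.assoc, Category.assoc, h.w]
  refine ⟨⟨w⟩, ⟨PullbackCone.IsLimit.mk _
    (fun s => h.lift s.fst s.snd (by rw [← Category.assoc, s.condition, Category.assoc]))
    (fun s => h.lift_fst _ _ _) (fun s => h.lift_snd _ _ _)
    (fun s l h1 h2 => h.hom_ext (by rw [h1, h.lift_fst]) (by rw [h2, h.lift_snd]))⟩⟩

/-- A finite modification over an open `R` of `T₁`, which is an isomorphism over `X₁ ∩ R`,
extends to a finite modification of `T₁` which is an isomorphism over `X₁`. -/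
theorem exists_modification {T₁ X₁ R X₁₂ T₁₂ : Scheme.{u}} [CompactSpace T₁]
    [QuasiSeparatedSpace T₁] (j₁ : X₁ ⟶ T₁) [IsOpenImmersion j₁] [CompactSpace X₁]
    (u : R ⟶ T₁) [IsOpenImmersion u] [CompactSpace R]
    (b : X₁₂ ⟶ X₁) (j₁₂ : X₁₂ ⟶ R) (hsq : IsPullback b j₁₂ j₁ u)
    (q : T₁₂ ⟶ R) [IsFinite q] (t : X₁₂ ⟶ T₁₂) (ht : IsPullback t (𝟙 X₁₂) q j₁₂) :
    ∃ (T₁' : Scheme.{u}) (ρ : T₁' ⟶ T₁) (j₁' : X₁ ⟶ T₁') (e : T₁₂ ⟶ T₁'), IsFinite ρ ∧
      IsOpenImmersion j₁' ∧ j₁' ≫ ρ = j₁ ∧ IsPullback e q ρ u ∧ t ≫ e = b ≫ j₁' := by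
  let W : T₁.Opens := u.opensRange ⊔ j₁.opensRange
  have hW : IsCompact (W : Set T₁) :=
    (isCompact_range u.continuous).union (isCompact_range j₁.continuous)
  have hRsub : Set.range u ⊆ Set.range W.ι := by
    rw [Scheme.Opens.range_ι]
    exact fun x hx => Or.inl hx
  have hXsub : Set.range j₁ ⊆ Set.range W.ι := by
    rw [Scheme.Opens.range_ι]
    exact fun x hx => Or.inr hx
  let ιR : R ⟶ (W : Scheme.{u}) := IsOpenImmersion.lift W.ι u hRsub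
  let ιX : X₁ ⟶ (W : Scheme.{u}) := IsOpenImmersion.lift W.ι j₁ hXsub
  have hιR : ιR ≫ W.ι = u := IsOpenImmersion.lift_fac _ _ _
  have hιX : ιX ≫ W.ι = j₁ := IsOpenImmersion.lift_fac _ _ _
  haveI : IsOpenImmersion ιR := by
    haveI : IsOpenImmersion (ιR ≫ W.ι) := by rw [hιR]; infer_instance
    exact IsOpenImmersion.of_comp ιR W.ι
  haveI : IsOpenImmersion ιX := by
    haveI : IsOpenImmersion (ιX ≫ W.ι) := by rw [hιX]; infer_instance
    exact IsOpenImmersion.of_comp ιX W.ι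
  have hcov : Set.range ιR ∪ Set.range ιX = Set.univ := by
    rw [Set.eq_univ_iff_forall]
    intro w
    rcases w.2 with ⟨r, hr⟩ | ⟨x, hx⟩
    · left
      refine ⟨r, W.ι.isOpenEmbedding.injective ?_⟩
      rw [← Scheme.Hom.comp_apply, hιR, hr]
      rfl
    · right
      refine ⟨x, W.ι.isOpenEmbedding.injective ?_⟩
      rw [← Scheme.Hom.comp_apply, hιX, hx]
      rfl
  have hΩ : IsPullback j₁₂ b ιR ιX := by
    apply isPullback_of_comp_mono W.ι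
    rw [hιR, hιX]
    exact hsq.flip
  have h₂ : IsPullback b (𝟙 X₁₂) (𝟙 X₁) b := IsPullback.of_vert_isIso ⟨by simp⟩
  obtain ⟨TW, πW, i₁, i₂, hπW, hP₁, hP₂, hc⟩ :=
    exists_glue_finite' ιR ιX hcov j₁₂ b hΩ q (𝟙 X₁) (𝟙 X₁₂) t b ht h₂
  obtain ⟨T₁', ρ, i, hρ, hsq'⟩ := exists_finite_extension W hW πW
  haveI : IsOpenImmersion i₂ := MorphismProperty.of_isPullback (P := @IsOpenImmersion) hP₂.flip
    inferInstance
  haveI : IsOpenImmersion i := MorphismProperty.of_isPullback (P := @IsOpenImmersion) hsq'.flip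
    inferInstance
  refine ⟨T₁', ρ, i₂ ≫ i, i₁ ≫ i, hρ, inferInstance, ?_, ?_, ?_⟩
  · rw [Category.assoc, hsq'.w, ← Category.assoc, hP₂.w, Category.id_comp, hιX]
  · have := hP₁.paste_horiz hsq'
    rwa [hιR] at this
  · rw [← Category.assoc, hc, Category.assoc]

end Modification

section GlueMorphism

variable {X X₁ X₂ X₁₂ T : Scheme.{u}} (a₁ : X₁ ⟶ X) (a₂ : X₂ ⟶ X) [IsOpenImmersion a₁]
  [IsOpenImmersion a₂] (hcov : Set.range a₁ ∪ Set.range a₂ = Set.univ)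

/-- The two-piece open cover. -/
noncomputable def coverOfTwo : X.OpenCover :=
  Scheme.Cover.mkOfCovers Bool (fun c => cond c X₁ X₂)
    (fun c => match c with
      | true => a₁
      | false => a₂)
    (fun x => by
      have hx : x ∈ Set.range a₁ ∪ Set.range a₂ := by rw [hcov]; trivial
      rcases hx with ⟨y, hy⟩ | ⟨y, hy⟩
      · exact ⟨true, y, hy⟩
      · exact ⟨false, y, hy⟩)
    (fun c => match c with
      | true => inferInstanceAs (IsOpenImmersion a₁)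
      | false => inferInstanceAs (IsOpenImmersion a₂))

include hcov in
theorem hom_ext_of_two {g g' : X ⟶ T} (h₁ : a₁ ≫ g = a₁ ≫ g') (h₂ : a₂ ≫ g = a₂ ≫ g') :
    g = g' := by
  apply (coverOfTwo a₁ a₂ hcov).hom_ext
  intro c
  match c with
  | true => exact h₁
  | false => exact h₂

include hcov in
theorem exists_glue_morphism (b₁ : X₁₂ ⟶ X₁) (b₂ : X₁₂ ⟶ X₂) (hX : IsPullback b₁ b₂ a₁ a₂)
    (g₁ : X₁ ⟶ T) (g₂ : X₂ ⟶ T) (hg : b₁ ≫ g₁ = b₂ ≫ g₂) :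
    ∃ g : X ⟶ T, a₁ ≫ g = g₁ ∧ a₂ ≫ g = g₂ := by
  let 𝒰 := coverOfTwo a₁ a₂ hcov
  let F : ∀ c : Bool, 𝒰.X c ⟶ T := fun c => match c with
    | true => g₁
    | false => g₂
  have hF : ∀ c c' : Bool, pullback.fst (𝒰.f c) (𝒰.f c') ≫ F c =
      pullback.snd (𝒰.f c) (𝒰.f c') ≫ F c' := by
    intro c c'
    match c, c' with
    | true, true =>
      change pullback.fst a₁ a₁ ≫ g₁ = pullback.snd a₁ a₁ ≫ g₁
      have : pullback.fst a₁ a₁ = pullback.snd a₁ a₁ := by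
        rw [← cancel_mono a₁, pullback.condition]
      rw [this]
    | true, false =>
      change pullback.fst a₁ a₂ ≫ g₁ = pullback.snd a₁ a₂ ≫ g₂
      let l := hX.lift (pullback.fst a₁ a₂) (pullback.snd a₁ a₂) pullback.condition
      have h1 : l ≫ b₁ = pullback.fst a₁ a₂ := hX.lift_fst _ _ _
      have h2 : l ≫ b₂ = pullback.snd a₁ a₂ := hX.lift_snd _ _ _
      rw [← h1, ← h2, Category.assoc, Category.assoc, hg]
    | false, true =>
      change pullback.fst a₂ a₁ ≫ g₂ = pullback.snd a₂ a₁ ≫ g₁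
      let l := hX.lift (pullback.snd a₂ a₁) (pullback.fst a₂ a₁) pullback.condition.symm
      have h1 : l ≫ b₁ = pullback.snd a₂ a₁ := hX.lift_fst _ _ _
      have h2 : l ≫ b₂ = pullback.fst a₂ a₁ := hX.lift_snd _ _ _
      rw [← h1, ← h2, Category.assoc, Category.assoc, hg]
    | false, false =>
      change pullback.fst a₂ a₂ ≫ g₂ = pullback.snd a₂ a₂ ≫ g₂
      have : pullback.fst a₂ a₂ = pullback.snd a₂ a₂ := by
        rw [← cancel_mono a₂, pullback.condition]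
      rw [this]
  refine ⟨𝒰.glueMorphisms F hF, ?_, ?_⟩
  · exact 𝒰.ι_glueMorphisms F hF true
  · exact 𝒰.ι_glueMorphisms F hF false

end GlueMorphism

section OpenImm

set_option backward.isDefEq.respectTransparency.types false in
theorem isOpenImmersion_of_isPullback_of_cover {X T T₁ T₂ X₁ X₂ : Scheme.{u}} (j : X ⟶ T)
    (i₁ : T₁ ⟶ T) (i₂ : T₂ ⟶ T) [IsOpenImmersion i₁] [IsOpenImmersion i₂]
    (hcov : Set.range i₁ ∪ Set.range i₂ = Set.univ)
    (a₁ : X₁ ⟶ X) (a₂ : X₂ ⟶ X) (j₁ : X₁ ⟶ T₁) (j₂ : X₂ ⟶ T₂) [IsOpenImmersion j₁]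
    [IsOpenImmersion j₂] (h₁ : IsPullback a₁ j₁ j i₁) (h₂ : IsPullback a₂ j₂ j i₂) :
    IsOpenImmersion j := by
  let U : Bool → T.Opens := fun c => if c then i₁.opensRange else i₂.opensRange
  have hU : iSup U = ⊤ := by
    apply TopologicalSpace.Opens.ext
    rw [TopologicalSpace.Opens.coe_iSup, TopologicalSpace.Opens.coe_top, ← hcov]
    ext x
    simp only [Set.mem_iUnion, Bool.exists_bool, Set.mem_union]
    rw [or_comm]
    rfl
  rw [IsZariskiLocalAtTarget.iff_of_iSup_eq_top (P := @IsOpenImmersion) U hU]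
  have key : ∀ {T' X' : Scheme.{u}} (i : T' ⟶ T) [IsOpenImmersion i] (j' : X' ⟶ T')
      [IsOpenImmersion j'] (a : X' ⟶ X) (_ : IsPullback a j' j i),
      IsOpenImmersion (j ∣_ i.opensRange) := by
    intro T' X' i _ j' _ a h
    rw [MorphismProperty.arrow_mk_iso_iff @IsOpenImmersion (morphismRestrictOpensRange j i)]
    have : pullback.snd j i = h.isoPullback.inv ≫ j' := by rw [h.isoPullback_inv_snd]
    rw [this]
    infer_instance
  intro c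
  cases c
  · exact key i₂ j₂ a₂ h₂
  · exact key i₁ j₁ a₁ h₁

end OpenImm

section Main

/-- The gluing step: finite factorizations over two quasi-compact quasi-separated opens covering
the base glue (after modification) to a finite factorization over the base. -/
theorem exists_finite_factorization_glue {Ω X Ω₁ Ω₂ Ω₁₂ X₁ X₂ T₁ T₂ : Scheme.{u}} (f : X ⟶ Ω)
    [QuasiCompact f]
    (ι₁ : Ω₁ ⟶ Ω) (ι₂ : Ω₂ ⟶ Ω) [IsOpenImmersion ι₁] [IsOpenImmersion ι₂]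
    (hcov : Set.range ι₁ ∪ Set.range ι₂ = Set.univ)
    (κ₁ : Ω₁₂ ⟶ Ω₁) (κ₂ : Ω₁₂ ⟶ Ω₂) (hΩ : IsPullback κ₁ κ₂ ι₁ ι₂)
    [CompactSpace Ω₁] [QuasiSeparatedSpace Ω₁] [CompactSpace Ω₂] [QuasiSeparatedSpace Ω₂]
    [CompactSpace Ω₁₂]
    (a₁ : X₁ ⟶ X) (f₁ : X₁ ⟶ Ω₁) (hX₁ : IsPullback a₁ f₁ f ι₁)
    (a₂ : X₂ ⟶ X) (f₂ : X₂ ⟶ Ω₂) (hX₂ : IsPullback a₂ f₂ f ι₂)
    (π₁ : T₁ ⟶ Ω₁) [IsFinite π₁] (j₁ : X₁ ⟶ T₁) [IsOpenImmersion j₁] (hj₁ : j₁ ≫ π₁ = f₁)
    (π₂ : T₂ ⟶ Ω₂) [IsFinite π₂] (j₂ : X₂ ⟶ T₂) [IsOpenImmersion j₂] (hj₂ : j₂ ≫ π₂ = f₂) :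
    ∃ (T : Scheme.{u}) (π : T ⟶ Ω) (j : X ⟶ T), IsFinite π ∧ IsOpenImmersion j ∧ j ≫ π = f := by
  haveI : IsOpenImmersion κ₁ := MorphismProperty.of_isPullback (P := @IsOpenImmersion) hΩ.flip
    inferInstance
  haveI : IsOpenImmersion κ₂ := MorphismProperty.of_isPullback (P := @IsOpenImmersion) hΩ
    inferInstance
  haveI : IsOpenImmersion a₁ := MorphismProperty.of_isPullback (P := @IsOpenImmersion) hX₁.flip
    inferInstance
  haveI : IsOpenImmersion a₂ := MorphismProperty.of_isPullback (P := @IsOpenImmersion) hX₂.flip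
    inferInstance
  haveI : QuasiCompact f₁ := MorphismProperty.of_isPullback (P := @QuasiCompact) hX₁ inferInstance
  haveI : QuasiCompact f₂ := MorphismProperty.of_isPullback (P := @QuasiCompact) hX₂ inferInstance
  -- restrictions of the `Tᵢ`
  let u₁ : pullback π₁ κ₁ ⟶ T₁ := pullback.fst π₁ κ₁
  let p₁ : pullback π₁ κ₁ ⟶ Ω₁₂ := pullback.snd π₁ κ₁
  have hR₁ : IsPullback u₁ p₁ π₁ κ₁ := IsPullback.of_hasPullback π₁ κ₁
  let u₂ : pullback π₂ κ₂ ⟶ T₂ := pullback.fst π₂ κ₂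
  let p₂ : pullback π₂ κ₂ ⟶ Ω₁₂ := pullback.snd π₂ κ₂
  have hR₂ : IsPullback u₂ p₂ π₂ κ₂ := IsPullback.of_hasPullback π₂ κ₂
  -- the intersection `X₁₂`
  let b₁ : pullback f₁ κ₁ ⟶ X₁ := pullback.fst f₁ κ₁
  let f₁₂ : pullback f₁ κ₁ ⟶ Ω₁₂ := pullback.snd f₁ κ₁
  have hX₁₂ : IsPullback b₁ f₁₂ f₁ κ₁ := IsPullback.of_hasPullback f₁ κ₁
  have big₁ : IsPullback (b₁ ≫ a₁) f₁₂ f (κ₁ ≫ ι₁) := hX₁₂.paste_horiz hX₁
  have w₂ : (b₁ ≫ a₁) ≫ f = (f₁₂ ≫ κ₂) ≫ ι₂ := by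
    rw [big₁.w, Category.assoc, hΩ.w]
  let b₂ : pullback f₁ κ₁ ⟶ X₂ := hX₂.lift (b₁ ≫ a₁) (f₁₂ ≫ κ₂) w₂
  have hb₂a : b₂ ≫ a₂ = b₁ ≫ a₁ := hX₂.lift_fst _ _ _
  have hb₂f : b₂ ≫ f₂ = f₁₂ ≫ κ₂ := hX₂.lift_snd _ _ _
  have hX₁₂' : IsPullback b₂ f₁₂ f₂ κ₂ := by
    refine IsPullback.of_right ?_ hb₂f hX₂
    rw [hb₂a, ← hΩ.w]
    exact big₁
  have hXX : IsPullback b₁ b₂ a₁ a₂ := by
    have h1 : IsPullback (f₁₂ ≫ κ₂) b₁ ι₂ (f₁ ≫ ι₁) := hX₁₂.flip.paste_horiz hΩ.flip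
    rw [← hb₂f, ← hX₁.w] at h1
    exact (IsPullback.of_right h1 hb₂a hX₂.flip).flip
  -- the maps `X₁₂ → Rᵢ`
  have wj₁ : (b₁ ≫ j₁) ≫ π₁ = f₁₂ ≫ κ₁ := by rw [Category.assoc, hj₁, hX₁₂.w]
  let j₁₂ : pullback f₁ κ₁ ⟶ pullback π₁ κ₁ := pullback.lift (b₁ ≫ j₁) f₁₂ wj₁
  have hj₁₂u : j₁₂ ≫ u₁ = b₁ ≫ j₁ := pullback.lift_fst _ _ _
  have hj₁₂p : j₁₂ ≫ p₁ = f₁₂ := pullback.lift_snd _ _ _
  have hsq₁ : IsPullback b₁ j₁₂ j₁ u₁ := by
    have h1 : IsPullback (j₁₂ ≫ p₁) b₁ κ₁ (j₁ ≫ π₁) := by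
      rw [hj₁₂p, hj₁]; exact hX₁₂.flip
    exact (IsPullback.of_right h1 hj₁₂u hR₁.flip).flip
  have wj₂ : (b₂ ≫ j₂) ≫ π₂ = f₁₂ ≫ κ₂ := by rw [Category.assoc, hj₂, hb₂f]
  let j₁₂' : pullback f₁ κ₁ ⟶ pullback π₂ κ₂ := pullback.lift (b₂ ≫ j₂) f₁₂ wj₂
  have hj₁₂'u : j₁₂' ≫ u₂ = b₂ ≫ j₂ := pullback.lift_fst _ _ _
  have hj₁₂'p : j₁₂' ≫ p₂ = f₁₂ := pullback.lift_snd _ _ _
  have hsq₂ : IsPullback b₂ j₁₂' j₂ u₂ := by
    have h1 : IsPullback (j₁₂' ≫ p₂) b₂ κ₂ (j₂ ≫ π₂) := by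
      rw [hj₁₂'p, hj₂]; exact hX₁₂'.flip
    exact (IsPullback.of_right h1 hj₁₂'u hR₂.flip).flip
  haveI : IsOpenImmersion j₁₂ := MorphismProperty.of_isPullback (P := @IsOpenImmersion) hsq₁
    inferInstance
  haveI : IsOpenImmersion j₁₂' := MorphismProperty.of_isPullback (P := @IsOpenImmersion) hsq₂
    inferInstance
  have hjj : j₁₂ ≫ p₁ = j₁₂' ≫ p₂ := by rw [hj₁₂p, hj₁₂'p]
  haveI : QuasiCompact (j₁₂ ≫ p₁) := by
    rw [hj₁₂p]
    exact MorphismProperty.of_isPullback (P := @QuasiCompact) big₁ inferInstance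
  obtain ⟨T₁₂, q₁, q₂, t, hq₁, hq₂, hqq, ht₁, ht₂⟩ := exists_join p₁ p₂ j₁₂ j₁₂' hjj
  -- compactness
  haveI : CompactSpace T₁ := QuasiCompact.compactSpace_of_compactSpace π₁
  haveI : CompactSpace T₂ := QuasiCompact.compactSpace_of_compactSpace π₂
  haveI : QuasiSeparatedSpace T₁ := quasiSeparatedSpace_of_quasiSeparated π₁
  haveI : QuasiSeparatedSpace T₂ := quasiSeparatedSpace_of_quasiSeparated π₂
  haveI : CompactSpace X₁ := QuasiCompact.compactSpace_of_compactSpace f₁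
  haveI : CompactSpace X₂ := QuasiCompact.compactSpace_of_compactSpace f₂
  haveI : CompactSpace ↥(pullback π₁ κ₁) := QuasiCompact.compactSpace_of_compactSpace p₁
  haveI : CompactSpace ↥(pullback π₂ κ₂) := QuasiCompact.compactSpace_of_compactSpace p₂
  -- modifications
  obtain ⟨T₁', ρ₁, j₁', e₁, hρ₁, hj₁'oi, hj₁'ρ, he₁, hte₁⟩ :=
    exists_modification j₁ u₁ b₁ j₁₂ hsq₁ q₁ t ht₁
  obtain ⟨T₂', ρ₂, j₂', e₂, hρ₂, hj₂'oi, hj₂'ρ, he₂, hte₂⟩ :=
    exists_modification j₂ u₂ b₂ j₁₂' hsq₂ q₂ t ht₂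
  -- glue
  have h₁ : IsPullback e₁ (q₁ ≫ p₁) (ρ₁ ≫ π₁) κ₁ := he₁.paste_vert hR₁
  have h₂ : IsPullback e₂ (q₁ ≫ p₁) (ρ₂ ≫ π₂) κ₂ := by
    rw [hqq]; exact he₂.paste_vert hR₂
  obtain ⟨T, π, i₁, i₂, hπ, hP₁, hP₂, hc⟩ :=
    exists_glue_finite' ι₁ ι₂ hcov κ₁ κ₂ hΩ (ρ₁ ≫ π₁) (ρ₂ ≫ π₂) (q₁ ≫ p₁) e₁ e₂ h₁ h₂
  haveI : IsOpenImmersion i₁ := MorphismProperty.of_isPullback (P := @IsOpenImmersion) hP₁.flip
    inferInstance
  haveI : IsOpenImmersion i₂ := MorphismProperty.of_isPullback (P := @IsOpenImmersion) hP₂.flip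
    inferInstance
  have hcovX : Set.range a₁ ∪ Set.range a₂ = Set.univ := by
    rw [Set.eq_univ_iff_forall]
    intro x
    have hx : f x ∈ Set.range ι₁ ∪ Set.range ι₂ := by rw [hcov]; trivial
    rcases hx with ⟨ω, hω⟩ | ⟨ω, hω⟩
    · obtain ⟨x₁, hx₁, -⟩ := exists_preimage_of_isPullback hX₁ x ω hω.symm
      exact Or.inl ⟨x₁, hx₁⟩
    · obtain ⟨x₂, hx₂, -⟩ := exists_preimage_of_isPullback hX₂ x ω hω.symm
      exact Or.inr ⟨x₂, hx₂⟩
  have hcovT : Set.range i₁ ∪ Set.range i₂ = Set.univ := by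
    rw [Set.eq_univ_iff_forall]
    intro x
    have hx : π x ∈ Set.range ι₁ ∪ Set.range ι₂ := by rw [hcov]; trivial
    rcases hx with ⟨ω, hω⟩ | ⟨ω, hω⟩
    · obtain ⟨x₁, hx₁, -⟩ := exists_preimage_of_isPullback hP₁ x ω hω.symm
      exact Or.inl ⟨x₁, hx₁⟩
    · obtain ⟨x₂, hx₂, -⟩ := exists_preimage_of_isPullback hP₂ x ω hω.symm
      exact Or.inr ⟨x₂, hx₂⟩
  have hg : b₁ ≫ j₁' ≫ i₁ = b₂ ≫ j₂' ≫ i₂ := by
    rw [← Category.assoc, ← hte₁, ← Category.assoc b₂, ← hte₂, Category.assoc, Category.assoc, hc]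
  obtain ⟨j, hja₁, hja₂⟩ := exists_glue_morphism a₁ a₂ hcovX b₁ b₂ hXX (j₁' ≫ i₁) (j₂' ≫ i₂) hg
  have hjπ : j ≫ π = f := by
    apply hom_ext_of_two a₁ a₂ hcovX
    · rw [← Category.assoc, hja₁, Category.assoc, hP₁.w, ← Category.assoc, ← Category.assoc,
        hj₁'ρ, hj₁, hX₁.w]
    · rw [← Category.assoc, hja₂, Category.assoc, hP₂.w, ← Category.assoc, ← Category.assoc,
        hj₂'ρ, hj₂, hX₂.w]
  have hpb₁ : IsPullback a₁ j₁' j i₁ := by
    have h1 : IsPullback (j₁' ≫ (ρ₁ ≫ π₁)) a₁ ι₁ (j ≫ π) := by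
      rw [← Category.assoc, hj₁'ρ, hj₁, hjπ]; exact hX₁.flip
    exact (IsPullback.of_right h1 hja₁.symm hP₁.flip).flip
  have hpb₂ : IsPullback a₂ j₂' j i₂ := by
    have h1 : IsPullback (j₂' ≫ (ρ₂ ≫ π₂)) a₂ ι₂ (j ≫ π) := by
      rw [← Category.assoc, hj₂'ρ, hj₂, hjπ]; exact hX₂.flip
    exact (IsPullback.of_right h1 hja₂.symm hP₂.flip).flip
  exact ⟨T, π, j, hπ,
    isOpenImmersion_of_isPullback_of_cover j i₁ i₂ hcovT a₁ a₂ j₁' j₂' hpb₁ hpb₂, hjπ⟩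

end Main

end Groth.Agent.H72.FinFact
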