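import Mathlib
import Groth.Agent.H72.FinFactAff
import Groth.Agent.H72.FinFactGlue

/-!
# Finite factorization

Library of helper72.  `exists_finite_factorization`: let `Y` be quasi-compact and quasi-separated,
`ν : Z ⟶ Y` integral and `j : X ⟶ Z` a quasi-compact open immersion such that `j ≫ ν` is locally
of finite type.  Then `X` is an open subscheme of a scheme finite over `Y`.
(Zariski's main theorem in the finite-factorization form follows.)
-/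
set_option autoImplicit false

universe u

open CategoryTheory CategoryTheory.Limits AlgebraicGeometry

namespace Groth.Agent.H72.FinFact

open Groth.Agent.H72.FinExt

section Induction

/-- restriction squares for nested opens -/
theorem isPullback_morphismRestrict_of_le {X Y : Scheme.{u}} (f : X ⟶ Y) {U U' : Y.Opens}
    (h : U ≤ U') (hle : f ⁻¹ᵁ U ≤ f ⁻¹ᵁ U') :
    IsPullback (X.homOfLE hle) (f ∣_ U) (f ∣_ U') (Y.homOfLE h) := by
  have hp : X.homOfLE hle ≫ f ∣_ U' = f ∣_ U ≫ Y.homOfLE h := by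
    rw [← cancel_mono U'.ι, Category.assoc, Category.assoc, morphismRestrict_ι,
      Scheme.homOfLE_ι, morphismRestrict_ι, ← Category.assoc, Scheme.homOfLE_ι]
  have h1 : IsPullback (X.homOfLE hle ≫ (f ⁻¹ᵁ U').ι) (f ∣_ U) f (Y.homOfLE h ≫ U'.ι) := by
    rw [Scheme.homOfLE_ι, Scheme.homOfLE_ι]
    exact (isPullback_morphismRestrict f U).flip
  exact IsPullback.of_right h1 hp (isPullback_morphismRestrict f U').flip

/-- The property proved by induction on quasi-compact opens of the base. -/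
def HasFinFact {X Y : Scheme.{u}} (f : X ⟶ Y) (U : Y.Opens) : Prop :=
  ∃ (T : Scheme.{u}) (π : T ⟶ (U : Scheme.{u})) (jT : ((f ⁻¹ᵁ U : X.Opens) : Scheme.{u}) ⟶ T),
    IsFinite π ∧ IsOpenImmersion jT ∧ jT ≫ π = f ∣_ U

variable {Y Z X : Scheme.{u}} (ν : Z ⟶ Y) [IsIntegralHom ν] (j : X ⟶ Z)
  [IsOpenImmersion j] [QuasiCompact j] [LocallyOfFiniteType (j ≫ ν)]

theorem hasFinFact_affine (V : Y.affineOpens) : HasFinFact (j ≫ ν) V.1 := by
  haveI : IsAffine (V.1 : Scheme.{u}) := V.2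
  have hcomp : (j ≫ ν) ∣_ V.1 = j ∣_ (ν ⁻¹ᵁ V.1) ≫ ν ∣_ V.1 := morphismRestrict_comp j ν V.1
  haveI : CompactSpace ((j ⁻¹ᵁ ν ⁻¹ᵁ V.1 : X.Opens) : Scheme.{u}) :=
    isCompact_iff_compactSpace.mp
      (QuasiCompact.isCompact_preimage (f := j ≫ ν) _ V.1.2 V.2.isCompact)
  haveI h0 : LocallyOfFiniteType ((j ≫ ν) ∣_ V.1) := inferInstance
  haveI : LocallyOfFiniteType (j ∣_ (ν ⁻¹ᵁ V.1) ≫ ν ∣_ V.1) := by rw [← hcomp]; exact h0
  obtain ⟨T, π, jT, h1, h2, h3⟩ :=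
    exists_finite_factorization_affine (ν ∣_ V.1) (j ∣_ (ν ⁻¹ᵁ V.1))
  exact ⟨T, π, jT, h1, h2, h3.trans hcomp.symm⟩

variable [QuasiSeparatedSpace Y]

theorem hasFinFact_of_isCompact (U : Y.Opens) (hU : IsCompact (U : Set Y)) :
    HasFinFact (j ≫ ν) U := by
  refine compact_open_induction_on (P := fun U => HasFinFact (j ≫ ν) U) U hU ?_ ?_
  · haveI : IsEmpty ↥((⊥ : Y.Opens) : Scheme.{u}) := by
      constructor
      rintro ⟨x, hx⟩
      exact hx
    haveI : IsIso ((j ≫ ν) ∣_ ⊥) := isIso_of_isEmpty _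
    exact ⟨_, (j ≫ ν) ∣_ ⊥, 𝟙 _, inferInstance, inferInstance, Category.id_comp _⟩
  · intro U₀ hU₀ V ih
    obtain ⟨T₁, π₁, j₁, hπ₁, hj₁, e₁⟩ := ih
    obtain ⟨T₂, π₂, j₂, hπ₂, hj₂, e₂⟩ := hasFinFact_affine ν j V
    let ι₁ : (U₀ : Scheme.{u}) ⟶ ((U₀ ⊔ V.1 : Y.Opens) : Scheme.{u}) := Y.homOfLE le_sup_left
    let ι₂ : (V.1 : Scheme.{u}) ⟶ ((U₀ ⊔ V.1 : Y.Opens) : Scheme.{u}) := Y.homOfLE le_sup_right
    let κ₁ : ((U₀ ⊓ V.1 : Y.Opens) : Scheme.{u}) ⟶ (U₀ : Scheme.{u}) := Y.homOfLE inf_le_left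
    let κ₂ : ((U₀ ⊓ V.1 : Y.Opens) : Scheme.{u}) ⟶ (V.1 : Scheme.{u}) := Y.homOfLE inf_le_right
    have hΩ : IsPullback κ₁ κ₂ ι₁ ι₂ := isPullback_opens_inf_le le_sup_left le_sup_right
    haveI : IsAffine (V.1 : Scheme.{u}) := V.2
    haveI : CompactSpace (U₀ : Scheme.{u}) := isCompact_iff_compactSpace.mp hU₀
    haveI : CompactSpace ((U₀ ⊓ V.1 : Y.Opens) : Scheme.{u}) :=
      isCompact_iff_compactSpace.mp
        (QuasiSeparatedSpace.inter_isCompact _ _ U₀.2 hU₀ V.1.2 V.2.isCompact)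
    haveI : QuasiSeparatedSpace (U₀ : Scheme.{u}) :=
      QuasiSeparatedSpace.of_isOpenEmbedding U₀.ι.isOpenEmbedding
    have hcov : Set.range ι₁ ∪ Set.range ι₂ = Set.univ := by
      rw [Set.eq_univ_iff_forall]
      rintro ⟨x, hx⟩
      rcases hx with hx | hx
      · left
        exact ⟨⟨x, hx⟩, Scheme.homOfLE_apply' _ _ _⟩
      · right
        exact ⟨⟨x, hx⟩, Scheme.homOfLE_apply' _ _ _⟩
    have hX₁ := isPullback_morphismRestrict_of_le (j ≫ ν) (le_sup_left : U₀ ≤ U₀ ⊔ V.1)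
      (fun _ hx => Or.inl hx)
    have hX₂ := isPullback_morphismRestrict_of_le (j ≫ ν) (le_sup_right : V.1 ≤ U₀ ⊔ V.1)
      (fun _ hx => Or.inr hx)
    exact exists_finite_factorization_glue ((j ≫ ν) ∣_ (U₀ ⊔ V.1)) ι₁ ι₂ hcov κ₁ κ₂ hΩ _ _ hX₁ _ _ hX₂
      π₁ j₁ e₁ π₂ j₂ e₂

variable [CompactSpace Y]

/-- **Finite factorization.**  Let `Y` be quasi-compact and quasi-separated, `Z → Y` integral and
`X ⊆ Z` a quasi-compact open subscheme which is locally of finite type over `Y`.  Then `X` is an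
open subscheme of a scheme finite over `Y`. -/
theorem exists_finite_factorization :
    ∃ (T : Scheme.{u}) (π : T ⟶ Y) (jT : X ⟶ T), IsFinite π ∧ IsOpenImmersion jT ∧
      jT ≫ π = j ≫ ν := by
  obtain ⟨T, π, jT, h1, h2, h3⟩ := hasFinFact_of_isCompact ν j ⊤ isCompact_univ
  haveI : IsIso (⊤ : Y.Opens).ι := by
    rw [← Scheme.topIso_hom]
    infer_instance
  have hiso : ∀ W : X.Opens, W = ⊤ → IsIso W.ι := by
    rintro W rfl
    rw [← Scheme.topIso_hom]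
    infer_instance
  haveI : IsIso ((j ≫ ν) ⁻¹ᵁ ⊤ : X.Opens).ι := hiso _ rfl
  refine ⟨T, π ≫ (⊤ : Y.Opens).ι, inv ((j ≫ ν) ⁻¹ᵁ ⊤ : X.Opens).ι ≫ jT, inferInstance,
    inferInstance, ?_⟩
  rw [Category.assoc, ← Category.assoc jT, h3, morphismRestrict_ι]
  exact IsIso.inv_hom_id_assoc _ (j ≫ ν)

end Induction

end Groth.Agent.H72.FinFact
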