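import Mathlib
import Groth.Agent.Lib.Helper7.EtaleNbhd
import Groth.Agent.Lib.Helper22.BirationalBC
import Groth.Agent.S2759

/-!
# Flat, separated, quasi-finite morphisms of rank `≤ 1` at the maximal points are open immersions
-/

open CategoryTheory CategoryTheory.Limits AlgebraicGeometry Opposite Topology
universe u

namespace Groth.Agent.H72.FlatRank1
open Groth.Agent.Lib.Helper7.EtaleNbhd Groth.Agent.Lib.Helper22.Birational

/-- Over a one-point base, a finite open immersion has rank at most one. -/
theorem finrank_le_one_of_isOpenImmersion_of_subsingleton {X Y : Scheme.{u}} (f : X ⟶ Y)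
    [IsOpenImmersion f] [IsFinite f] [Subsingleton Y] (y : Y) : f.finrank y ≤ 1 := by
  by_cases hX : Nonempty X
  · obtain ⟨x⟩ := hX
    have hs : Surjective f := ⟨fun y' ↦ ⟨x, Subsingleton.elim _ _⟩⟩
    have : IsIso f := (isIso_iff_isOpenImmersion_and_surjective f).mpr ⟨inferInstance, hs⟩
    rw [Scheme.Hom.finrank_eq_one_of_isIso f]
    rfl
  · by_contra hlt
    rw [not_le] at hlt
    have h1 : (1 : Y → ℕ) ≤ f.finrank := by
      intro y'
      rw [Subsingleton.elim y' y]
      exact hlt.le
    have hs : Surjective f := (Scheme.Hom.one_le_finrank_iff_surjective f).mp h1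
    obtain ⟨x, -⟩ := hs.surj y
    exact hX ⟨x⟩

/-- Over a one-point base, a finite locally free morphism of rank at most one is an open
immersion. -/
theorem isOpenImmersion_of_finrank_le_one_of_subsingleton {X Y : Scheme.{u}} (f : X ⟶ Y)
    [Flat f] [IsFinite f] [LocallyOfFinitePresentation f] [Subsingleton Y] (y : Y)
    (h : f.finrank y ≤ 1) : IsOpenImmersion f := by
  by_cases h1 : f.finrank y = 1
  · have : f.finrank = 1 := by
      funext y'
      rw [Subsingleton.elim y' y, h1]
      rfl
    have : IsIso f := (Scheme.Hom.isIso_iff_finrank_eq f).mpr this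
    infer_instance
  · have h0 : f.finrank y = 0 := by omega
    have : IsEmpty X := by
      refine ⟨fun x ↦ ?_⟩
      have := Scheme.Hom.one_le_finrank_map f x
      rw [Subsingleton.elim (f x) y, h0] at this
      omega
    infer_instance


theorem exists_maximal_generization {X : Type*} [TopologicalSpace X] [QuasiSober X] [T0Space X]
    (x : X) : ∃ η : X, η ⤳ x ∧ ∀ z, z ⤳ η → z = η := by
  obtain ⟨η, hη⟩ := QuasiSober.sober (isIrreducible_irreducibleComponent (x := x))
    isClosed_irreducibleComponent
  refine ⟨η, ?_, ?_⟩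
  · rw [specializes_iff_mem_closure, hη.def]; exact mem_irreducibleComponent
  · rw [← mem_genericPoints_iff]
    show closure {η} ∈ irreducibleComponents X
    rw [hη.def]
    exact irreducibleComponent_mem_irreducibleComponents x

theorem eq_of_specializes_of_isLocallyConstant {X : Type*} [TopologicalSpace X] {f : X → ℕ}
    (hf : IsLocallyConstant f) {x y : X} (h : x ⤳ y) : f x = f y :=
  (h.map hf.continuous).eq

/-- Pasting: base change of `pullback.snd g b` along `a`. -/
theorem isOpenImmersion_snd_comp {X S A B : Scheme.{u}} (g : X ⟶ S) (b : B ⟶ S) (a : A ⟶ B)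
    (h : IsOpenImmersion (pullback.snd g b)) : IsOpenImmersion (pullback.snd g (a ≫ b)) :=
  MorphismProperty.of_isPullback (P := @IsOpenImmersion) (isPullback_q g b a) h

/-- The fibre of `j ≫ g'` over `ι` in terms of the fibre of `g'`. -/
theorem snd_comp_eq {V X' S' K : Scheme.{u}} (j : V ⟶ X') (g' : X' ⟶ S') (ι : K ⟶ S') :
    pullback.snd (j ≫ g') ι = (pullbackRightPullbackFstIso g' ι j).inv ≫
      pullback.snd j (pullback.fst g' ι) ≫ pullback.snd g' ι := by
  rw [Iso.eq_inv_comp, pullbackRightPullbackFstIso_hom_snd]

/-- Key step: the rank of the finite part is at most one at the maximal points. -/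
theorem finrank_le_one_of_maximal {T S S' : Scheme.{u}} (g : T ⟶ S) [Flat g] (γ : S' ⟶ S) [Flat γ]
    (V : (pullback g γ).Opens) [IsFinite (V.ι ≫ pullback.snd g γ)]
    (h : ∀ s : S, (∀ t : S, t ⤳ s → t = s) →
      IsOpenImmersion (pullback.snd g (S.fromSpecResidueField s)))
    (η' : S') (hη' : ∀ z : S', z ⤳ η' → z = η') :
    (V.ι ≫ pullback.snd g γ).finrank η' ≤ 1 := by
  have hmax : ∀ t : S, t ⤳ γ η' → t = γ η' := by
    rw [← mem_genericPoints_iff] at hη' ⊢
    exact mem_genericPoints_of_generalizingMap (Flat.generalizingMap γ) hη'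
  have H0 := h (γ η') hmax
  have H1 := isOpenImmersion_snd_comp g _ (Spec.map (γ.residueFieldMap η')) H0
  rw [Scheme.Hom.SpecMap_residueFieldMap_fromSpecResidueField] at H1
  have H2 : IsOpenImmersion (pullback.snd (pullback.snd g γ) (S'.fromSpecResidueField η')) := by
    rw [← pullbackLeftPullbackSndIso_hom_snd]
    infer_instance
  have H3 : IsOpenImmersion (pullback.snd (V.ι ≫ pullback.snd g γ)
      (S'.fromSpecResidueField η')) := by
    rw [snd_comp_eq]
    infer_instance
  have H4 := finrank_le_one_of_isOpenImmersion_of_subsingleton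
    (pullback.snd (V.ι ≫ pullback.snd g γ) (S'.fromSpecResidueField η'))
    (IsLocalRing.closedPoint _)
  have H5 := Scheme.Hom.finrank_pullback_snd (V.ι ≫ pullback.snd g γ)
    (S'.fromSpecResidueField η') (IsLocalRing.closedPoint _)
  have H6 : (S'.fromSpecResidueField η') (IsLocalRing.closedPoint _) = η' :=
    Scheme.fromSpecResidueField_apply _ _
  rw [H6] at H5
  exact H5 ▸ H4


theorem isOpenImmersion_fibre_of_maximal {T S : Scheme.{u}} (g : T ⟶ S) [LocallyQuasiFinite g]
    [LocallyOfFinitePresentation g] [QuasiCompact g] [IsSeparated g] [Flat g]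
    (h : ∀ s : S, (∀ t : S, t ⤳ s → t = s) →
      IsOpenImmersion (pullback.snd g (S.fromSpecResidueField s)))
    (s : S) : IsOpenImmersion (pullback.snd g (S.fromSpecResidueField s)) := by
  obtain ⟨S', γ, s', hγ, rfl, hiso, V, W, hVW, hVfin, hV⟩ :=
    exists_etale_nbhd_isCompl g s (g.finite_preimage_singleton s)
  -- the finite part
  have hfl : Flat (V.ι ≫ pullback.snd g γ) := inferInstance
  have hfp : LocallyOfFinitePresentation (V.ι ≫ pullback.snd g γ) := inferInstance
  -- rank at s'
  obtain ⟨η', hη's', hη'⟩ := exists_maximal_generization s'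
  have hrk : (V.ι ≫ pullback.snd g γ).finrank s' ≤ 1 := by
    rw [← eq_of_specializes_of_isLocallyConstant
      (Scheme.Hom.isLocallyConstant_finrank (V.ι ≫ pullback.snd g γ)) hη's']
    exact finrank_le_one_of_maximal g γ V h η' hη'
  -- the fibre of the finite part
  have H5 := Scheme.Hom.finrank_pullback_snd (V.ι ≫ pullback.snd g γ)
    (S'.fromSpecResidueField s') (IsLocalRing.closedPoint _)
  have H6 : (S'.fromSpecResidueField s') (IsLocalRing.closedPoint _) = s' :=
    Scheme.fromSpecResidueField_apply _ _
  rw [H6] at H5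
  have HC : IsOpenImmersion (pullback.snd (V.ι ≫ pullback.snd g γ)
      (S'.fromSpecResidueField s')) :=
    isOpenImmersion_of_finrank_le_one_of_subsingleton _ (IsLocalRing.closedPoint _) (H5 ▸ hrk)
  -- the whole fibre
  have hσ : IsIso (pullback.snd V.ι (pullback.fst (pullback.snd g γ)
      (S'.fromSpecResidueField s'))) := by
    rw [isIso_iff_isOpenImmersion_and_surjective]
    refine ⟨inferInstance, ⟨fun x ↦ ?_⟩⟩
    have hx : pullback.fst (pullback.snd g γ) (S'.fromSpecResidueField s') x ∈ V := by
      apply hV
      rw [← Scheme.Hom.comp_apply, pullback.condition, Scheme.Hom.comp_apply,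
        Scheme.fromSpecResidueField_apply]
    obtain ⟨z, -, hz⟩ := Scheme.Pullback.exists_preimage_pullback (f := V.ι)
      (g := pullback.fst (pullback.snd g γ) (S'.fromSpecResidueField s')) ⟨_, hx⟩ x rfl
    exact ⟨z, hz⟩
  have HD : IsOpenImmersion (pullback.snd (pullback.snd g γ) (S'.fromSpecResidueField s')) := by
    have e := snd_comp_eq V.ι (pullback.snd g γ) (S'.fromSpecResidueField s')
    have : pullback.snd (pullback.snd g γ) (S'.fromSpecResidueField s') =
        inv (pullback.snd V.ι (pullback.fst (pullback.snd g γ) (S'.fromSpecResidueField s'))) ≫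
        (pullbackRightPullbackFstIso (pullback.snd g γ) (S'.fromSpecResidueField s') V.ι).hom ≫
        pullback.snd (V.ι ≫ pullback.snd g γ) (S'.fromSpecResidueField s') := by
      rw [e]; simp
    rw [this]
    infer_instance
  have HE : IsOpenImmersion (pullback.snd g (S'.fromSpecResidueField s' ≫ γ)) := by
    have := pullbackLeftPullbackSndIso_hom_snd g γ (S'.fromSpecResidueField s')
    rw [← Iso.eq_inv_comp] at this
    rw [this]
    infer_instance
  rw [← Scheme.Hom.SpecMap_residueFieldMap_fromSpecResidueField] at HE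
  have HF := isOpenImmersion_snd_comp g _ (inv (Spec.map (γ.residueFieldMap s'))) HE
  have e2 : inv (Spec.map (γ.residueFieldMap s')) ≫ Spec.map (γ.residueFieldMap s') ≫
      S.fromSpecResidueField (γ s') = S.fromSpecResidueField (γ s') := by simp
  rwa [e2] at HF


/-- **SGA 7 type criterion**: a flat, separated, quasi-finite morphism of finite presentation whose
fibres over the maximal points are empty or trivial is an open immersion. -/
theorem isOpenImmersion_of_fibres_maximal {T S : Scheme.{u}} (g : T ⟶ S) [LocallyQuasiFinite g]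
    [LocallyOfFinitePresentation g] [QuasiCompact g] [IsSeparated g] [Flat g]
    (h : ∀ s : S, (∀ t : S, t ⤳ s → t = s) →
      IsEmpty ↑(pullback g (S.fromSpecResidueField s)) ∨
        IsIso (pullback.snd g (S.fromSpecResidueField s))) :
    IsOpenImmersion g := by
  have h' : ∀ s : S, (∀ t : S, t ⤳ s → t = s) →
      IsOpenImmersion (pullback.snd g (S.fromSpecResidueField s)) := by
    intro s hs
    rcases h s hs with h1 | h1
    · infer_instance
    · infer_instance
  have key := isOpenImmersion_fibre_of_maximal g h'
  refine ((Groth.Agent.S2759.result (𝟙 S) g g (Category.comp_id g)).1).mpr fun s ↦ ?_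
  have e : (𝟙 S : S ⟶ S).fiberι s =
      pullback.snd (𝟙 S) (S.fromSpecResidueField s) ≫ S.fromSpecResidueField s := by
    have := pullback.condition (f := 𝟙 S) (g := S.fromSpecResidueField s)
    rw [Category.comp_id] at this
    exact this
  rw [e]
  exact isOpenImmersion_snd_comp g _ _ (key s)

end Groth.Agent.H72.FlatRank1
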