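import Mathlib

/-!
# Lifting maps from finitely presented algebras along surjections modulo finitely many relations
(helper72)
-/

set_option autoImplicit false
universe u

namespace Groth.Agent.H72.FppfFin

/-- Let `A → B` be of finite presentation, `γ : R → C` a surjection of `A`-algebras and
`β₀ : B → C` an `A`-algebra map.  Then there are finitely many elements of the kernel of `γ` such
that `B` maps, over `A`, to every quotient `γ' : R → C'` killing them. -/
theorem exists_finset_lift {A B R C : Type u} [CommRing A] [CommRing B] [CommRing R] [CommRing C]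
    (αB : A →+* B) (hfp : αB.FinitePresentation) (αR : A →+* R) (γ : R →+* C)
    (hγ : Function.Surjective γ) (β₀ : B →+* C) (hcomp : β₀.comp αB = γ.comp αR) :
    ∃ Z : Finset R, (∀ z ∈ Z, γ z = 0) ∧
      ∀ (C' : Type u) [CommRing C'] (γ' : R →+* C'), (∀ z ∈ Z, γ' z = 0) →
        ∃ β' : B →+* C', β'.comp αB = γ'.comp αR := by
  classical
  letI := αB.toAlgebra
  haveI : Algebra.FinitePresentation A B := hfp
  obtain ⟨n, f, hfsurj, hfker⟩ := Algebra.FinitePresentation.out (R := A) (A := B)
  obtain ⟨G, hG⟩ := hfker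
  have hτ : ∀ k : Fin n, ∃ t : R, γ t = β₀ (f (MvPolynomial.X k)) := fun k => hγ _
  choose τ hτ' using hτ
  let ψ : MvPolynomial (Fin n) A →+* R := MvPolynomial.eval₂Hom αR τ
  have hfC : ∀ a : A, f (MvPolynomial.C a) = αB a := fun a => by
    rw [← MvPolynomial.algebraMap_eq, AlgHom.commutes]
    rfl
  have h1 : γ.comp ψ = β₀.comp f.toRingHom := by
    apply MvPolynomial.ringHom_ext
    · intro a
      change γ (ψ (MvPolynomial.C a)) = β₀ (f (MvPolynomial.C a))
      rw [hfC]
      change γ (MvPolynomial.eval₂Hom αR τ (MvPolynomial.C a)) = _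
      rw [MvPolynomial.eval₂Hom_C]
      exact (congrArg (fun k => k a) hcomp).symm
    · intro k
      change γ (MvPolynomial.eval₂Hom αR τ (MvPolynomial.X k)) = β₀ (f (MvPolynomial.X k))
      rw [MvPolynomial.eval₂Hom_X', hτ']
  refine ⟨G.image ψ, ?_, ?_⟩
  · intro z hz
    obtain ⟨r, hr, rfl⟩ := Finset.mem_image.mp hz
    have h2 : γ (ψ r) = β₀ (f r) := congrArg (fun k => k r) h1
    have h3 : r ∈ RingHom.ker f.toRingHom := by
      rw [← hG]
      exact Ideal.subset_span hr
    rw [h2]
    have : f r = 0 := h3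
    rw [this, map_zero]
  · intro C' _ γ' hγ'
    have hker : RingHom.ker f.toRingHom ≤ RingHom.ker (γ'.comp ψ) := by
      rw [← hG, Ideal.span_le]
      intro r hr
      change γ' (ψ r) = 0
      exact hγ' _ (Finset.mem_image_of_mem ψ hr)
    let β' : B →+* C' := RingHom.liftOfSurjective f.toRingHom hfsurj
      ⟨γ'.comp ψ, hker⟩
    have hβ' : β'.comp f.toRingHom = γ'.comp ψ :=
      RingHom.liftOfRightInverse_comp _ _ _ _
    refine ⟨β', ?_⟩
    ext a
    change β' (αB a) = γ' (αR a)
    rw [← hfC]
    have := congrArg (fun k => k (MvPolynomial.C a)) hβ'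
    change β' (f (MvPolynomial.C a)) = γ' (ψ (MvPolynomial.C a)) at this
    rw [this]
    change γ' (MvPolynomial.eval₂Hom αR τ (MvPolynomial.C a)) = _
    rw [MvPolynomial.eval₂Hom_C]

end Groth.Agent.H72.FppfFin
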