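import Mathlib
import Groth.Agent.H72.FppfFinA

/-!
# Spreading a local lift from a closed subscheme to a finitely presented thickening (helper72)
-/

set_option autoImplicit false
universe u

open CategoryTheory CategoryTheory.Limits AlgebraicGeometry

namespace Groth.Agent.H72.FppfFin

theorem appLE_eq_of_eq {X Y : Scheme.{u}} {f f' : X ⟶ Y} (h : f = f') (U : Y.Opens) (V : X.Opens)
    (e : V ≤ f ⁻¹ᵁ U) (e' : V ≤ f' ⁻¹ᵁ U) : f.appLE U V e = f'.appLE U V e' := by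
  subst h
  rfl

theorem bijective_ι_appLE_top {X : Scheme.{u}} (V : X.Opens)
    (e : (⊤ : V.toScheme.Opens) ≤ V.ι ⁻¹ᵁ V) : Function.Bijective (V.ι.appLE V ⊤ e).hom := by
  rw [Scheme.Opens.ι_appLE]
  have h : V.ι ''ᵁ ⊤ = V := V.ι_image_top
  have : IsIso (X.presheaf.map (homOfLE (x := V.ι ''ᵁ ⊤) (y := V) h.le).op) := by
    have h2 : homOfLE (x := V.ι ''ᵁ ⊤) (y := V) h.le = eqToHom h := Subsingleton.elim _ _
    rw [h2]
    infer_instance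
  exact (ConcreteCategory.isIso_iff_bijective _).mp this

set_option backward.isDefEq.respectTransparency.types false in
/-- A local lift of a closed subscheme `X ⊆ W` to `U` (locally of finite presentation over `S`)
spreads out to the trace, on an affine open of `W`, of every closed subscheme `V(K)` whose ideal
contains finitely many prescribed sections of the ideal of `X`. -/
theorem exists_local_spread {X W S U : Scheme.{u}} (c : X ⟶ W) [IsClosedImmersion c] (pW : W ⟶ S)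
    (g : U ⟶ S) [LocallyOfFinitePresentation g] (y : X) (O : X.Opens) (hy : y ∈ O)
    (r : O.toScheme ⟶ U) (hr : r ≫ g = O.ι ≫ c ≫ pW) :
    ∃ (Wy : W.affineOpens) (Z : Finset Γ(W, Wy.1)), c y ∈ Wy.1 ∧
      (∀ z ∈ Z, z ∈ c.ker.ideal Wy) ∧
      ∀ K : W.IdealSheafData, (∀ z ∈ Z, z ∈ K.ideal Wy) →
        ∃ r' : (K.subschemeι ⁻¹ᵁ Wy.1).toScheme ⟶ U,
          r' ≫ g = (K.subschemeι ⁻¹ᵁ Wy.1).ι ≫ K.subschemeι ≫ pW := by
  classical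
  obtain ⟨_, ⟨S₀, hS₀, rfl⟩, hsS₀, -⟩ := S.isBasis_affineOpens.exists_subset_of_mem_open
    (Set.mem_univ ((c ≫ pW) y)) isOpen_univ
  have hgu : g (r ⟨y, hy⟩) = (c ≫ pW) y := by
    rw [← Scheme.Hom.comp_apply, hr]
    rfl
  have huS₀ : r ⟨y, hy⟩ ∈ g ⁻¹ᵁ S₀ := by
    change g (r ⟨y, hy⟩) ∈ S₀
    rw [hgu]
    exact hsS₀
  obtain ⟨_, ⟨U₀, hU₀, rfl⟩, huU₀, hU₀S₀⟩ := U.isBasis_affineOpens.exists_subset_of_mem_open
    huS₀ (g ⁻¹ᵁ S₀).2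
  let O' : X.Opens := O.ι ''ᵁ (r ⁻¹ᵁ U₀)
  have hyO' : y ∈ O' := ⟨⟨y, hy⟩, huU₀, rfl⟩
  obtain ⟨Ω₀, hΩ₀, hΩO'⟩ := c.isClosedEmbedding.isInducing.isOpen_iff.mp O'.2
  let Ω : W.Opens := ⟨Ω₀, hΩ₀⟩
  have hcyΩ : c y ∈ Ω ⊓ pW ⁻¹ᵁ S₀ := by
    refine ⟨?_, hsS₀⟩
    have : y ∈ c ⁻¹' Ω₀ := by rw [hΩO']; exact hyO'
    exact this
  obtain ⟨_, ⟨Wy, hWy, rfl⟩, hcyWy, hWyle⟩ := W.isBasis_affineOpens.exists_subset_of_mem_open
    hcyΩ (Ω ⊓ pW ⁻¹ᵁ S₀).2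
  let V : X.Opens := c ⁻¹ᵁ Wy
  have hVO' : V ≤ O' := by
    intro v hv
    have h1 : c v ∈ Ω₀ := (hWyle hv).1
    have h2 : v ∈ c ⁻¹' Ω₀ := h1
    rw [hΩO'] at h2
    exact h2
  have hVO : V ≤ O := hVO'.trans (O.ι_image_le _)
  have hV : IsAffineOpen V := hWy.preimage c
  let rV : V.toScheme ⟶ U := X.homOfLE hVO ≫ r
  have hrV : rV ≫ g = (V.ι ≫ c) ≫ pW := by
    rw [Category.assoc, hr, ← Category.assoc, X.homOfLE_ι, Category.assoc]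
  have hrVU₀ : (⊤ : V.toScheme.Opens) ≤ rV ⁻¹ᵁ U₀ := by
    rintro ⟨v, hv⟩ -
    obtain ⟨⟨v', hv'O⟩, hv'U₀, hv'eq⟩ := hVO' hv
    change r (X.homOfLE hVO ⟨v, hv⟩) ∈ U₀
    have h1 : X.homOfLE hVO ⟨v, hv⟩ = ⟨v', hv'O⟩ := by
      apply Subtype.ext
      rw [Scheme.homOfLE_apply]
      exact hv'eq.symm
    rw [h1]
    exact hv'U₀
  have hWyS₀ : Wy ≤ pW ⁻¹ᵁ S₀ := fun w hw => (hWyle hw).2
  have hVWy : (⊤ : V.toScheme.Opens) ≤ (V.ι ≫ c) ⁻¹ᵁ Wy := by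
    rintro ⟨v, hv⟩ -
    exact hv
  have hfp : (g.appLE S₀ U₀ hU₀S₀).hom.FinitePresentation :=
    HasRingHomProperty.appLE (P := @LocallyOfFinitePresentation) g inferInstance ⟨S₀, hS₀⟩
      ⟨U₀, hU₀⟩ hU₀S₀
  have hcomp : (rV.appLE U₀ ⊤ hrVU₀).hom.comp (g.appLE S₀ U₀ hU₀S₀).hom =
      ((V.ι ≫ c).appLE Wy ⊤ hVWy).hom.comp (pW.appLE S₀ Wy hWyS₀).hom := by
    rw [← CommRingCat.hom_comp, ← CommRingCat.hom_comp, Scheme.Hom.appLE_comp_appLE,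
      Scheme.Hom.appLE_comp_appLE]
    exact congrArg CommRingCat.Hom.hom (appLE_eq_of_eq hrV _ _ _ _)
  have hVV : (⊤ : V.toScheme.Opens) ≤ V.ι ⁻¹ᵁ V := by
    rintro ⟨v, hv⟩ -
    exact hv
  have hγeq : (V.ι ≫ c).appLE Wy ⊤ hVWy = c.app Wy ≫ V.ι.appLE V ⊤ hVV := by
    rw [Scheme.Hom.app_eq_appLE, Scheme.Hom.appLE_comp_appLE]
  have hbij := bijective_ι_appLE_top V hVV
  have hγsurj : Function.Surjective ((V.ι ≫ c).appLE Wy ⊤ hVWy).hom := by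
    rw [hγeq, CommRingCat.hom_comp]
    exact hbij.2.comp (c.app_surjective Wy hWy)
  obtain ⟨Z, hZ1, hZ2⟩ := exists_finset_lift (g.appLE S₀ U₀ hU₀S₀).hom hfp
    (pW.appLE S₀ Wy hWyS₀).hom ((V.ι ≫ c).appLE Wy ⊤ hVWy).hom hγsurj
    (rV.appLE U₀ ⊤ hrVU₀).hom hcomp
  refine ⟨⟨Wy, hWy⟩, Z, hcyWy, ?_, ?_⟩
  · intro z hz
    have h1 := hZ1 z hz
    rw [hγeq, CommRingCat.hom_comp] at h1
    have h2 : (c.app Wy).hom z = 0 := by
      apply hbij.1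
      rw [map_zero]
      exact h1
    rw [Scheme.Hom.ker_apply]
    exact h2
  · intro K hK
    have hD : IsAffineOpen (K.subschemeι ⁻¹ᵁ Wy) := hWy.preimage K.subschemeι
    have hγ' : ∀ z ∈ Z, (K.subschemeι.app Wy).hom z = 0 := by
      intro z hz
      have := hK z hz
      rw [← K.ker_subschemeι_app ⟨Wy, hWy⟩] at this
      exact this
    obtain ⟨β', hβ'⟩ := hZ2 _ (K.subschemeι.app Wy).hom hγ'
    have hDS₀ : K.subschemeι ⁻¹ᵁ Wy ≤ (K.subschemeι ≫ pW) ⁻¹ᵁ S₀ := fun t ht => hWyS₀ ht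
    let β'' : Γ(U, U₀) ⟶ Γ(K.subscheme, K.subschemeι ⁻¹ᵁ Wy) := CommRingCat.ofHom β'
    have e1 : g.appLE S₀ U₀ hU₀S₀ ≫ β'' =
        (K.subschemeι ≫ pW).appLE S₀ (K.subschemeι ⁻¹ᵁ Wy) hDS₀ := by
      have h3 : (K.subschemeι ≫ pW).appLE S₀ (K.subschemeι ⁻¹ᵁ Wy) hDS₀ =
          pW.appLE S₀ Wy hWyS₀ ≫ K.subschemeι.app Wy := by
        rw [Scheme.Hom.app_eq_appLE, Scheme.Hom.appLE_comp_appLE]
      rw [h3]
      ext a
      exact congrArg (fun k => k a) hβ'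
    refine ⟨hD.isoSpec.hom ≫ Spec.map β'' ≫ hU₀.fromSpec, ?_⟩
    calc (hD.isoSpec.hom ≫ Spec.map β'' ≫ hU₀.fromSpec) ≫ g
        = hD.isoSpec.hom ≫ Spec.map β'' ≫ hU₀.fromSpec ≫ g := by
          simp only [Category.assoc]
      _ = hD.isoSpec.hom ≫ Spec.map β'' ≫
            Spec.map (g.appLE S₀ U₀ hU₀S₀) ≫ hS₀.fromSpec := by
          rw [IsAffineOpen.SpecMap_appLE_fromSpec]
      _ = hD.isoSpec.hom ≫ Spec.map ((K.subschemeι ≫ pW).appLE S₀ (K.subschemeι ⁻¹ᵁ Wy) hDS₀) ≫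
            hS₀.fromSpec := by
          rw [← Spec.map_comp_assoc, e1]
      _ = hD.isoSpec.hom ≫ hD.fromSpec ≫ (K.subschemeι ≫ pW) := by
          rw [IsAffineOpen.SpecMap_appLE_fromSpec]
      _ = (K.subschemeι ⁻¹ᵁ Wy).ι ≫ K.subschemeι ≫ pW := by
          rw [← Category.assoc, hD.isoSpec_hom_fromSpec]

end Groth.Agent.H72.FppfFin
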