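import Mathlib
import Groth.Agent.H72.FppfFinB
import Groth.Agent.Lib.Helper18.FiniteFP
import Groth.Agent.Lib.Helper49.PrinPartFP

/-!
# Finitely presented approximation of a finite cover with local lifts (helper72)
-/

set_option autoImplicit false
universe u

open CategoryTheory CategoryTheory.Limits AlgebraicGeometry

namespace Groth.Agent.H72.FppfFin

open Groth.Agent.Lib.Helper18

set_option backward.isDefEq.respectTransparency.types false in
/-- local statement at a point of the ambient scheme -/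
theorem exists_local_data {X W S U : Scheme.{u}} [CompactSpace W] [QuasiSeparatedSpace W]
    (c : X ⟶ W) [IsClosedImmersion c] (pW : W ⟶ S)
    (g : U ⟶ S) [LocallyOfFinitePresentation g]
    (hlift : ∀ y : X, ∃ (O : X.Opens) (r : O.toScheme ⟶ U), y ∈ O ∧ r ≫ g = O.ι ≫ c ≫ pW)
    (w : W) :
    ∃ (Ww : W.Opens) (Kw : W.IdealSheafData), w ∈ Ww ∧ Kw ≤ c.ker ∧
      (∀ V : W.affineOpens, (Kw.ideal V).FG) ∧
      ∀ K : W.IdealSheafData, Kw ≤ K → ∀ t : K.subscheme, K.subschemeι t ∈ Ww →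
        ∃ (V : K.subscheme.Opens) (r : V.toScheme ⟶ U), t ∈ V ∧
          r ≫ g = V.ι ≫ K.subschemeι ≫ pW := by
  classical
  by_cases hw : w ∈ Set.range c
  · obtain ⟨y, rfl⟩ := hw
    obtain ⟨O, r, hyO, hr⟩ := hlift y
    obtain ⟨Wy, Z, hcy, hZ1, hZ2⟩ := exists_local_spread c pW g y O hyO r hr
    obtain ⟨K₁, hK₁, hK₁s, hK₁fg⟩ := FTApprox.exists_le_ft_mem_family c.ker
      (fun _ : ↥Z => Wy) (fun z => z.1) (fun z => hZ1 z.1 z.2)
    refine ⟨Wy.1, K₁, hcy, hK₁, hK₁fg, ?_⟩
    intro K hK t ht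
    obtain ⟨r', hr'⟩ := hZ2 K (fun z hz => hK Wy (hK₁s ⟨z, hz⟩))
    exact ⟨K.subschemeι ⁻¹ᵁ Wy.1, r', ht, hr'⟩
  · have hsupp : w ∉ c.ker.support := by
      rw [← SetLike.mem_coe, Scheme.Hom.support_ker, c.isClosedEmbedding.isClosed_range.closure_eq]
      exact hw
    rw [Scheme.IdealSheafData.mem_support_iff] at hsupp
    push Not at hsupp
    obtain ⟨Vw, hVw⟩ := hsupp
    rw [Scheme.mem_zeroLocus_iff] at hVw
    push Not at hVw
    obtain ⟨a, ha, hwa⟩ := hVw
    obtain ⟨K₁, hK₁, hK₁s, hK₁fg⟩ := FTApprox.exists_le_ft_mem c.ker Vw a ha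
    have hwK₁ : w ∉ K₁.support := by
      rw [Scheme.IdealSheafData.mem_support_iff]
      push Not
      refine ⟨Vw, ?_⟩
      rw [Scheme.mem_zeroLocus_iff]
      push Not
      exact ⟨a, hK₁s, hwa⟩
    refine ⟨⟨(K₁.support : Set W)ᶜ, K₁.support.isClosed.isOpen_compl⟩, K₁, hwK₁, hK₁, hK₁fg, ?_⟩
    intro K hK t ht
    exfalso
    apply ht
    apply Scheme.IdealSheafData.support_antitone hK
    rw [← SetLike.mem_coe, ← Scheme.IdealSheafData.range_subschemeι]
    exact ⟨t, rfl⟩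

set_option backward.isDefEq.respectTransparency.types false in
/-- **Finitely presented approximation.**  A finite morphism `X ⟶ S` to a qcqs scheme which lifts
locally on `X` to `U`, with `U` locally of finite presentation over `S`, factors through a finite
morphism of finite presentation `T ⟶ S` which lifts locally on `T` to `U`. -/
theorem exists_fp_approx {X S U : Scheme.{u}} [CompactSpace S] [QuasiSeparatedSpace S]
    (p : X ⟶ S) [IsFinite p] (g : U ⟶ S) [LocallyOfFinitePresentation g]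
    (hlift : ∀ y : X, ∃ (O : X.Opens) (r : O.toScheme ⟶ U), y ∈ O ∧ r ≫ g = O.ι ≫ p) :
    ∃ (T : Scheme.{u}) (π : T ⟶ S) (c : X ⟶ T), IsFinite π ∧ LocallyOfFinitePresentation π ∧
      c ≫ π = p ∧
      ∀ t : T, ∃ (V : T.Opens) (r : V.toScheme ⟶ U), t ∈ V ∧ r ≫ g = V.ι ≫ π := by
  classical
  obtain ⟨W, pW, c, K₀, hpaff, hlfp, hc, hcp, hWc, hWq, hK₀, hK₀fg, hfin⟩ :=
    SymQC.exists_embedding_finite p
  have hlift' : ∀ y : X, ∃ (O : X.Opens) (r : O.toScheme ⟶ U), y ∈ O ∧
      r ≫ g = O.ι ≫ c ≫ pW := by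
    intro y
    obtain ⟨O, r, hy, hr⟩ := hlift y
    exact ⟨O, r, hy, by rw [hcp]; exact hr⟩
  choose Ww Kw hwW hKle hKfg hKlift using exists_local_data c pW g hlift'
  obtain ⟨F, hF⟩ := isCompact_univ.elim_nhds_subcover (fun w => (Ww w : Set W))
    (fun w _ => (Ww w).2.mem_nhds (hwW w))
  let K : W.IdealSheafData := K₀ ⊔ F.sup Kw
  have hFle : ∀ w ∈ F, Kw w ≤ K := fun w hw => le_trans (Finset.le_sup hw) le_sup_right
  have hK : K ≤ c.ker := sup_le hK₀ (Finset.sup_le fun w _ => hKle w)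
  have hsupfg : ∀ (F' : Finset W) (V : W.affineOpens), ((F'.sup Kw).ideal V).FG := by
    intro F' V
    induction F' using Finset.induction_on with
    | empty =>
      rw [Finset.sup_empty]
      exact Submodule.fg_bot
    | insert a s _ ih =>
      rw [Finset.sup_insert]
      exact Submodule.FG.sup (hKfg a V) ih
  have hKfg' : ∀ V : W.affineOpens, (K.ideal V).FG := fun V =>
    Submodule.FG.sup (hK₀fg V) (hsupfg F V)
  have h1 : LocallyOfFinitePresentation K.subschemeι :=
    Groth.Agent.Lib.Helper49.PrinPartFP.locallyOfFinitePresentation_subschemeι K hKfg'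
  haveI : IsFinite (K.subschemeι ≫ pW) := hfin K le_sup_left
  let cK : X ⟶ K.subscheme := c.toImage ≫ Scheme.IdealSheafData.inclusion hK
  have hcK : cK ≫ K.subschemeι = c := by
    rw [Category.assoc, Scheme.IdealSheafData.inclusion_subschemeι]
    exact c.toImage_imageι
  refine ⟨K.subscheme, K.subschemeι ≫ pW, cK, inferInstance, inferInstance, ?_, ?_⟩
  · rw [← Category.assoc, hcK, hcp]
  · intro t
    have hcov : K.subschemeι t ∈ ⋃ w ∈ F, (Ww w : Set W) := hF.2 (Set.mem_univ _)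
    obtain ⟨w, hwF, htw⟩ := Set.mem_iUnion₂.mp hcov
    exact hKlift w K (hFle w hwF) t htw

end Groth.Agent.H72.FppfFin
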