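import Mathlib
import Groth.Agent.H72.FppfFinC
import Groth.Agent.H72.FinExt
import Groth.Agent.Lib.Helper22.PhFppf

/-!
# fppf covers of qcqs schemes are dominated by finite, finitely presented surjective morphisms
(helper72)
-/

set_option autoImplicit false
universe u

open CategoryTheory CategoryTheory.Limits AlgebraicGeometry

namespace Groth.Agent.H72.FppfFin

open Groth.Agent.Lib.Helper22.PhCover Groth.Agent.Lib.Helper18

variable {S : Scheme.{u}} (P : ∀ ⦃O : Scheme.{u}⦄, (O ⟶ S) → Prop)

set_option backward.isDefEq.respectTransparency.types false in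
/-- a finite surjective cover with charts of a quasi-compact open extends to a finite surjective
morphism to the whole qcqs scheme, with charts over the open -/
theorem goodOver_of_open [CompactSpace S] [QuasiSeparatedSpace S] (U : S.Opens)
    (hU : IsCompact (U : Set S)) (h : HasCover P U.ι) : GoodOver P (𝟙 S) (U : Set S) := by
  obtain ⟨Q, q, hfin, hsurj, charts⟩ := h
  obtain ⟨Q', π, i, hπs, hπf, hsq⟩ :=
    Groth.Agent.H72.FinExt.exists_finite_surjective_extension U hU q
  haveI : IsOpenImmersion i := MorphismProperty.of_isPullback (P := @IsOpenImmersion) hsq.flip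
    inferInstance
  refine ⟨Q', π, hπf, hπs, fun z hz => ?_⟩
  obtain ⟨t, ht, -⟩ := Groth.Agent.H72.FinExt.exists_preimage_of_isPullback hsq z ⟨π z, hz⟩ rfl
  obtain ⟨O, o, ho, ⟨t₀, hto⟩, hPo⟩ := charts t trivial
  refine ⟨O, o ≫ i, inferInstance, ⟨t₀, ?_⟩, ?_⟩
  · rw [Scheme.Hom.comp_apply, hto, ht]
  · have : (o ≫ i) ≫ π ≫ 𝟙 S = o ≫ q ≫ U.ι := by
      rw [Category.comp_id, Category.assoc, hsq.w]
    rw [this]
    exact hPo

variable {P}

/-- on a qcqs scheme, having a finite surjective cover with charts is local for finite covers by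
quasi-compact opens -/
theorem hasCover_of_finset_cover [CompactSpace S] [QuasiSeparatedSpace S]
    (hP : ∀ ⦃O O' : Scheme.{u}⦄ (k : O' ⟶ O) (h : O ⟶ S), P h → P (k ≫ h))
    (C : Finset S.Opens) (hCc : ∀ U ∈ C, IsCompact (U : Set S))
    (hcov : ∀ s : S, ∃ U ∈ C, s ∈ U) (h : ∀ U ∈ C, HasCover P U.ι) : HasCover P (𝟙 S) := by
  classical
  have key : ∀ C' : Finset S.Opens, C' ⊆ C → GoodOver P (𝟙 S) (⋃ U ∈ C', (U : Set S)) := by
    intro C'
    induction C' using Finset.induction_on with
    | empty =>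
      intro _
      simp only [Finset.notMem_empty, Set.iUnion_of_empty, Set.iUnion_empty]
      exact GoodOver.empty _
    | insert a s _ ih =>
      intro hsub
      have ha : a ∈ C := hsub (Finset.mem_insert_self a s)
      have hs : s ⊆ C := fun x hx => hsub (Finset.mem_insert_of_mem hx)
      have h1 := goodOver_of_open P a (hCc a ha) (h a ha)
      have h2 := GoodOver.union hP h1 (ih hs)
      refine h2.mono ?_
      intro x hx
      obtain ⟨V, hV, hxV⟩ := Set.mem_iUnion₂.mp hx
      rcases Finset.mem_insert.mp hV with rfl | hV'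
      · exact Or.inl hxV
      · exact Or.inr (Set.mem_iUnion₂.mpr ⟨V, hV', hxV⟩)
  refine (key C (Finset.Subset.refl C)).mono ?_
  intro x _
  obtain ⟨V, hV, hxV⟩ := hcov x
  exact Set.mem_iUnion₂.mpr ⟨V, hV, hxV⟩

set_option backward.isDefEq.respectTransparency.types false in
/-- **An fppf cover of a qcqs scheme is dominated by a finite surjective morphism of finite
presentation, Zariski locally on the source.** -/
theorem exists_finite_fp_surjective {U S : Scheme.{u}} (g : U ⟶ S) [Flat g]
    [LocallyOfFinitePresentation g] [Surjective g] [CompactSpace S] [QuasiSeparatedSpace S] :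
    ∃ (S' : Scheme.{u}) (π : S' ⟶ S), Surjective π ∧ IsFinite π ∧ LocallyOfFinitePresentation π ∧
      ∀ y : S', ∃ (V : S'.Opens) (h : V.toScheme ⟶ U), y ∈ V ∧ h ≫ g = V.ι ≫ π := by
  classical
  let E : PreZeroHypercover.{u} S := PreZeroHypercover.singleton g
  obtain ⟨C, hC⟩ := FTApprox.exists_finite_affine_cover S
  -- covers over the affine opens
  have hloc : ∀ V : S.affineOpens, HasCover (Lifts E (𝟙 S)) V.1.ι := by
    intro V
    haveI : IsAffine V.1.toScheme := V.2
    have h0 := hasCover_of_fppf E (fun _ => inferInstanceAs (Flat g))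
      (fun _ => inferInstanceAs (LocallyOfFinitePresentation g))
      (fun t => by
        obtain ⟨x, hx⟩ := g.surjective t
        exact ⟨PUnit.unit, x, hx⟩) V.1.ι
    obtain ⟨Q, q, hq1, hq2, charts⟩ := h0
    refine ⟨Q, q, hq1, hq2, fun z hz => ?_⟩
    obtain ⟨O, o, ho, hzo, i, r, hr⟩ := charts z hz
    refine ⟨O, o, ho, hzo, i, r, ?_⟩
    rw [hr]
    simp only [Category.assoc, Category.comp_id, Category.id_comp]
  have hglob : HasCover (Lifts E (𝟙 S)) (𝟙 S) := by
    refine hasCover_of_finset_cover (Lifts.precomp E (𝟙 S)) (C.image (fun V => V.1))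
      ?_ ?_ ?_
    · intro V hV
      obtain ⟨V', _, rfl⟩ := Finset.mem_image.mp hV
      exact V'.2.isCompact
    · intro s
      have hs : s ∈ (⨆ V : ↥C, (V.1 : S.affineOpens).1) := by rw [hC]; trivial
      obtain ⟨V, hsV⟩ := TopologicalSpace.Opens.mem_iSup.mp hs
      exact ⟨V.1.1, Finset.mem_image_of_mem _ V.2, hsV⟩
    · intro V hV
      obtain ⟨V', _, rfl⟩ := Finset.mem_image.mp hV
      exact hloc V'
  obtain ⟨Q, q, hq1, hq2, charts⟩ := hglob
  -- finitely presented approximation
  have hlift : ∀ y : Q, ∃ (O : Q.Opens) (r : O.toScheme ⟶ U), y ∈ O ∧ r ≫ g = O.ι ≫ q := by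
    intro y
    obtain ⟨O, o, ho, ⟨y₀, hy₀⟩, i, r, hr⟩ := charts y trivial
    let e : O ≅ o.opensRange.toScheme := IsOpenImmersion.isoOfRangeEq o o.opensRange.ι (by simp)
    have he : e.hom ≫ o.opensRange.ι = o := IsOpenImmersion.isoOfRangeEq_hom_fac _ _ _
    refine ⟨o.opensRange, e.inv ≫ r, ⟨y₀, hy₀⟩, ?_⟩
    rw [Category.assoc]
    change e.inv ≫ r ≫ g = _
    have hr' : r ≫ g = o ≫ q := by
      rw [show E.f i = g from rfl] at hr
      rw [hr]
      simp only [Category.assoc, Category.comp_id]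
    rw [hr', ← Category.assoc]
    congr 1
    rw [Iso.inv_comp_eq]
    exact he.symm
  obtain ⟨T, π, c, hπ1, hπ2, hcπ, hT⟩ := exists_fp_approx q g hlift
  refine ⟨T, π, ⟨?_⟩, hπ1, hπ2, hT⟩
  intro s
  obtain ⟨z, hz⟩ := q.surjective s
  exact ⟨c z, by rw [← Scheme.Hom.comp_apply, hcπ, hz]⟩

end Groth.Agent.H72.FppfFin
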