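import Mathlib
import Groth.Prelude.Def_Hens2
import Groth.Agent.Lib.Helper22.QFSliceScheme
import Groth.Agent.S1353

/-!
# fppf morphisms are refined, Nisnevich locally on the base, by finite flat surjective morphisms
(helper72)
-/

set_option autoImplicit false
universe u

open CategoryTheory CategoryTheory.Limits AlgebraicGeometry

namespace Groth.Agent.H72.FppfNis

set_option backward.isDefEq.respectTransparency.types false in
/-- Through every point `a` of a flat morphism `w : W ⟶ X` locally of finite presentation there is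
a finite flat surjective `V ⟶ U` over an elementary étale neighbourhood `U` of `w a`, lifting to
`W`. -/
theorem exists_local_refinement {W X : Scheme.{u}} (w : W ⟶ X) [Flat w]
    [LocallyOfFinitePresentation w] (a : W) :
    ∃ (U V : Scheme.{u}) (u : U ⟶ X) (v : V ⟶ U) (y : U) (r : V ⟶ W), Etale u ∧ u y = w a ∧
      IsIso (u.residueFieldMap y) ∧ IsFinite v ∧ Flat v ∧ Surjective v ∧ r ≫ w = v ≫ u := by
  obtain ⟨T, g, h, hT, hcomm, hgfl, hgfp, hgqf, t, ht⟩ :=
    Groth.Agent.Lib.Helper22.QFSliceScheme.exists_local w a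
  obtain ⟨U₀, gU, u₀, hnbhd, V₀, v₀, hv₀V, hfin, hsnd, -, -, -⟩ :=
    Groth.Agent.S1353.result g t (g.quasiFiniteAt t)
  haveI := hnbhd.etale
  obtain ⟨q, hq⟩ : ∃ q : V₀.toScheme ⟶ U₀, q = V₀.ι ≫ pullback.snd g gU := ⟨_, rfl⟩
  haveI : IsFinite q := by rw [hq]; exact hfin
  haveI : Flat q := by rw [hq]; infer_instance
  haveI : LocallyOfFinitePresentation q := by rw [hq]; infer_instance
  obtain ⟨N, hN⟩ : ∃ N : U₀.Opens, (N : Set U₀) = Set.range q :=
    ⟨⟨Set.range q, q.isOpenMap.isOpen_range⟩, rfl⟩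
  have hu₀N : u₀ ∈ N := by
    rw [← SetLike.mem_coe, hN]
    refine ⟨⟨v₀, hv₀V⟩, ?_⟩
    rw [hq, Scheme.Hom.comp_apply]
    exact hsnd
  refine ⟨N.toScheme, pullback q N.ι, N.ι ≫ gU, pullback.snd q N.ι, ⟨u₀, hu₀N⟩,
    pullback.fst q N.ι ≫ V₀.ι ≫ pullback.fst g gU ≫ h, inferInstance, ?_, ?_, inferInstance,
    inferInstance, ⟨?_⟩, ?_⟩
  · rw [Scheme.Hom.comp_apply]
    change gU u₀ = w a
    rw [hnbhd.base_eq, ht]
  · rw [Scheme.residueFieldMap_comp]
    have h1 : IsIso (gU.residueFieldMap (N.ι ⟨u₀, hu₀N⟩)) := by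
      change IsIso (gU.residueFieldMap u₀)
      exact (ConcreteCategory.isIso_iff_bijective _).mpr hnbhd.residue_bijective
    exact IsIso.comp_isIso' h1 inferInstance
  · intro n
    have hn : N.ι n ∈ Set.range q := by
      rw [← hN]
      exact n.2
    obtain ⟨z, hz⟩ := hn
    obtain ⟨z', -, hz'⟩ := Scheme.Pullback.exists_preimage_pullback (f := q) (g := N.ι) z n hz
    exact ⟨z', hz'⟩
  · simp only [Category.assoc]
    rw [hcomm, pullback.condition (f := g) (g := gU), ← Category.assoc V₀.ι, ← hq,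
      pullback.condition_assoc (f := q) (g := N.ι)]

end Groth.Agent.H72.FppfNis
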