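import Groth.Prelude.Def_Frob
import Mathlib.AlgebraicGeometry.Properties

/-!
# The absolute Frobenius of a reduced scheme is an epimorphism (helper72)
-/

set_option autoImplicit false
open CategoryTheory CategoryTheory.Limits AlgebraicGeometry
universe u
open FrobSch

namespace Groth.Agent.H72.FrobEpi

/-- In a reduced scheme of characteristic `p`, two sections over (propositionally) equal opens with equal
`p`-th powers are equal. -/
theorem eq_of_pow_eq (p : ℕ) [Fact p.Prime] {Y : Scheme.{u}} [FrobSch.IsCharP Y p] [IsReduced Y]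
    {V₁ V₂ : Y.Opens} (hV : V₁ = V₂) (a : Γ(Y, V₁)) (b : Γ(Y, V₂)) (e₁ : V₁ ⟶ V₂) (e₂ : V₂ ⟶ V₁)
    (h : a ^ p = Y.presheaf.map e₁.op (b ^ p)) : Y.presheaf.map e₂.op a = b := by
  subst hV
  have he₁ : e₁ = 𝟙 _ := Subsingleton.elim _ _
  have he₂ : e₂ = 𝟙 _ := Subsingleton.elim _ _
  subst he₁ he₂
  simp only [op_id, CategoryTheory.Functor.map_id, CommRingCat.id_apply] at h ⊢
  have h0 : (a - b) ^ p = 0 := by
    have := map_sub (powHom p Γ(Y, V₁) (natCast_eq_zero_app Y p V₁)) a b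
    simp only [powHom_apply] at this
    rw [this, h, sub_self]
  have := IsReduced.eq_zero _ ⟨p, h0⟩
  exact sub_eq_zero.mp this

/-- The absolute Frobenius of a reduced scheme is an epimorphism. -/
theorem frob_cancel (p : ℕ) [Fact p.Prime] {Y Z : Scheme.{u}} [FrobSch.IsCharP Y p] [IsReduced Y]
    (g₁ g₂ : Y ⟶ Z) (h : frob Y p ≫ g₁ = frob Y p ≫ g₂) : g₁ = g₂ := by
  have hbase : g₁.base = g₂.base := by
    have := congrArg (fun f => f.base) h
    simpa only [Scheme.Hom.comp_base, frob_base, Category.id_comp] using this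
  refine Scheme.Hom.ext hbase (fun U => ?_)
  ext s
  have h1 := Scheme.Hom.congr_app h U
  rw [Scheme.Hom.comp_app, Scheme.Hom.comp_app] at h1
  have h2 := congrArg (fun φ => φ.hom s) h1
  have hV : g₁ ⁻¹ᵁ U = g₂ ⁻¹ᵁ U := by
    ext x
    show g₁ x ∈ U ↔ g₂ x ∈ U
    rw [show g₁ x = g₂ x from congrArg (fun f => f x) hbase]
  exact eq_of_pow_eq p hV (g₁.app U s) (g₂.app U s) _ _ h2

instance epi_frob (p : ℕ) [Fact p.Prime] {Y : Scheme.{u}} [FrobSch.IsCharP Y p] [IsReduced Y] :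
    Epi (frob Y p) := ⟨fun g₁ g₂ h => frob_cancel p g₁ g₂ h⟩

end Groth.Agent.H72.FrobEpi
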