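import Groth.Prelude.Def_W4c3convisocdirimgFrobIter
import Groth.Agent.H72.FrobEpi
import Mathlib.AlgebraicGeometry.Morphisms.Affine
import Mathlib.AlgebraicGeometry.Morphisms.ClosedImmersion

set_option autoImplicit false
set_option linter.style.haveILetI false
open CategoryTheory CategoryTheory.Limits AlgebraicGeometry
universe u
open FrobSch

namespace Groth.Agent.H72.FrobIter

variable (p : ℕ) [Fact p.Prime] (T : Scheme.{u}) [IsCharP T p]

instance isAffineHom_frob : IsAffineHom (frob T p) := ⟨fun _ hU => hU⟩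

instance isAffineHom_frobIter (n : ℕ) : IsAffineHom (frobIter T p n) := by
  induction n with
  | zero => rw [frobIter_zero]; infer_instance
  | succ n ih => rw [frobIter_succ]; infer_instance

theorem frobIter_app_eq_zero_iff (n : ℕ) (U : T.Opens) (s : Γ(T, U)) :
    (frobIter T p n).app U s = 0 ↔ s ^ p ^ n = 0 := by
  induction n generalizing s with
  | zero =>
    change (𝟙 T : T ⟶ T).app U s = 0 ↔ _
    simp only [pow_zero, pow_one]
    exact Iff.rfl
  | succ n ih =>
    change ((frobIter T p n).app U s) ^ p = 0 ↔ _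
    rw [← map_pow, ih, ← pow_mul, ← pow_succ']

theorem mem_ker_frobIter_iff (n : ℕ) (U : T.affineOpens) (s : Γ(T, U)) :
    s ∈ (frobIter T p n).ker.ideal U ↔ s ^ p ^ n = 0 := by
  rw [Scheme.Hom.ker_apply, RingHom.mem_ker]
  exact frobIter_app_eq_zero_iff p T n U s

theorem ker_le (n : ℕ) :
    (frobIter T p (n + 1)).ker.subschemeι.ker ≤
      ((frobIter T p n).ker.subschemeι ≫ frob T p).ker := by
  rw [Scheme.IdealSheafData.ker_subschemeι]
  refine Scheme.IdealSheafData.le_ofIdeals_iff.mpr fun U s hs => ?_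
  rw [mem_ker_frobIter_iff] at hs
  rw [RingHom.mem_ker]
  change (frobIter T p n).ker.subschemeι.app U (s ^ p) = 0
  have h2 : s ^ p ∈ (frobIter T p n).ker.ideal U := by
    rw [mem_ker_frobIter_iff, ← pow_mul, ← pow_succ']
    exact hs
  rw [← Scheme.IdealSheafData.ker_subschemeι_app] at h2
  exact h2

/-- The Frobenius-induced map `T^(n) ⟶ T^(n+1)`. -/
noncomputable def frobLift (n : ℕ) :
    (frobIter T p n).ker.subscheme ⟶ (frobIter T p (n + 1)).ker.subscheme :=
  IsClosedImmersion.lift (frobIter T p (n + 1)).ker.subschemeι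
    ((frobIter T p n).ker.subschemeι ≫ frob T p) (ker_le p T n)

@[reassoc]
theorem frobLift_fac (n : ℕ) :
    frobLift p T n ≫ (frobIter T p (n + 1)).ker.subschemeι =
      (frobIter T p n).ker.subschemeι ≫ frob T p :=
  IsClosedImmersion.lift_fac _ _ _

end Groth.Agent.H72.FrobIter
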