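import Groth.Agent.Lib.Helper38.NormAff
import Groth.Agent.Lib.Helper61.GU13

/-!
# Geometric unibranchness at a prime of a domain: the local radicial criterion

Library of helper72.  For a domain `A` with normalization `φ : A → B` and a prime `p` of `A`, the
local ring `A_p` is geometrically unibranch iff any two maps `g₁ g₂ : B → K` to a field which agree
on `A` and have `ker (g₁ ∘ φ) = p` coincide (the fibre of `Spec B → Spec A` over `p` is a radicial
singleton).
-/

set_option autoImplicit false

universe u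

namespace Groth.Agent.H72.GUCons

open Groth.Agent.Lib.Helper38

/-- Local version of `NormAff.pow_mem_of_univ`. -/
theorem pow_mem_of_univ_local {A B R R' L : Type u} [CommRing A] [CommRing B] [CommRing R]
    [CommRing R'] [Field L] [IsLocalRing R] (p : Ideal A)
    (φ : A →+* B) (alg : A →+* R) (ι : R →+* R') (β : B →+* R') (π : R' →+* L)
    (hπ : Function.Surjective π) (hβ : β.comp φ = ι.comp alg)
    (hfrac : ∀ r' : R', ∃ s, s ∉ p ∧ ∃ b, β b = ι (alg s) * r')
    (hlocal : ∀ r, r ∈ IsLocalRing.maximalIdeal R → π (ι r) = 0)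
    (hunit : ∀ s, s ∉ p → IsUnit (alg s))
    (hp : ∀ a, a ∈ p → alg a ∈ IsLocalRing.maximalIdeal R)
    (huniv : ∀ (K : Type u) [Field K] (g₁ g₂ : B →+* K), g₁.comp φ = g₂.comp φ →
      RingHom.ker (g₁.comp φ) = p → g₁ = g₂) :
    ∀ z : L, ∃ n : ℕ, z ^ (ringExpChar L) ^ n ∈ (π.comp ι).range := by
  have hβ' : ∀ a, β (φ a) = ι (alg a) := fun a => by
    have := congrArg (fun f => f a) hβ
    simpa only [RingHom.comp_apply] using this
  let j : IsLocalRing.ResidueField R →+* L :=
    Ideal.Quotient.lift (IsLocalRing.maximalIdeal R) (π.comp ι) hlocal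
  have hj : ∀ r, j (IsLocalRing.residue R r) = π (ι r) := fun r => rfl
  letI : Algebra (IsLocalRing.ResidueField R) L := j.toAlgebra
  have halg : ∀ y, algebraMap (IsLocalRing.ResidueField R) L y = j y := fun y => rfl
  haveI : ExpChar L (ringExpChar L) := ringExpChar.expChar _
  haveI : ExpChar (IsLocalRing.ResidueField R) (ringExpChar L) :=
    RingHom.expChar j j.injective _
  have hpi : IsPurelyInseparable (IsLocalRing.ResidueField R) L := by
    rw [isPurelyInseparable_iff_subsingleton_emb]
    constructor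
    intro σ₁ σ₂
    have h12 : ((σ₁ : L →+* AlgebraicClosure L).comp (π.comp β)).comp φ =
        ((σ₂ : L →+* AlgebraicClosure L).comp (π.comp β)).comp φ := by
      ext a
      simp only [RingHom.comp_apply, hβ']
      rw [← hj, ← halg]
      exact (σ₁.commutes _).trans (σ₂.commutes _).symm
    have hker : RingHom.ker (((σ₁ : L →+* AlgebraicClosure L).comp (π.comp β)).comp φ) = p := by
      ext a
      rw [RingHom.mem_ker]
      simp only [RingHom.comp_apply, hβ']
      constructor
      · intro h0
        by_contra hap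
        have hu : IsUnit ((σ₁ : L →+* AlgebraicClosure L) (π (ι (alg a)))) :=
          (((hunit a hap).map ι).map π).map (σ₁ : L →+* AlgebraicClosure L)
        exact hu.ne_zero h0
      · intro hap
        rw [hlocal _ (hp a hap), map_zero]
    have h := huniv (AlgebraicClosure L) _ _ h12 hker
    have hg : ∀ b, σ₁ (π (β b)) = σ₂ (π (β b)) := fun b => by
      have := congrArg (fun f => f b) h
      exact this
    ext l
    obtain ⟨r', rfl⟩ := hπ l
    obtain ⟨s, hs, b, hb⟩ := hfrac r'
    have h1 := hg b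
    rw [hb, map_mul, map_mul, map_mul] at h1
    have h2 : σ₁ (π (ι (alg s))) = σ₂ (π (ι (alg s))) := by
      rw [← hj, ← halg]
      exact (σ₁.commutes _).trans (σ₂.commutes _).symm
    have h3 : σ₂ (π (ι (alg s))) ≠ 0 := by
      have hu : IsUnit (σ₂ (π (ι (alg s)))) := (((hunit s hs).map ι).map π).map σ₂
      exact hu.ne_zero
    rw [h2] at h1
    exact mul_left_cancel₀ h3 h1
  intro z
  obtain ⟨n, y, hy⟩ := (isPurelyInseparable_iff_pow_mem (IsLocalRing.ResidueField R)
    (ringExpChar L)).mp hpi z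
  obtain ⟨r, rfl⟩ := IsLocalRing.residue_surjective y
  exact ⟨n, r, hy⟩

section crit

variable {A B : Type u} [CommRing A] [CommRing B]

/-- The fibre of `Spec B → Spec A` over `p` is radicial: two maps from `B` to a field agreeing on
`A`, with kernel `p` on `A`, are equal. -/
def RadAt (φ : A →+* B) (p : Ideal A) : Prop :=
  ∀ (K : Type u) [Field K] (g₁ g₂ : B →+* K), g₁.comp φ = g₂.comp φ →
    RingHom.ker (g₁.comp φ) = p → g₁ = g₂

/-- Under `RadAt`, there is at most one prime of `B` over `p`. -/
theorem eq_of_radAt (φ : A →+* B) (p : Ideal A) [p.IsPrime] (h : RadAt φ p)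
    (Q₁ Q₂ : Ideal B) [Q₁.IsPrime] [Q₂.IsPrime] (h₁ : Q₁.comap φ = p) (h₂ : Q₂.comap φ = p) :
    Q₁ = Q₂ := by
  let m₁ : p.ResidueField →+* Q₁.ResidueField := Ideal.ResidueField.map p Q₁ φ h₁.symm
  let m₂ : p.ResidueField →+* Q₂.ResidueField := Ideal.ResidueField.map p Q₂ φ h₂.symm
  letI : Algebra p.ResidueField Q₁.ResidueField := m₁.toAlgebra
  letI : Algebra p.ResidueField Q₂.ResidueField := m₂.toAlgebra
  let T := TensorProduct p.ResidueField Q₁.ResidueField Q₂.ResidueField
  haveI : Nontrivial T := by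
    have hinj : Function.Injective (algebraMap Q₁.ResidueField T) :=
      Algebra.TensorProduct.includeLeft_injective (S := Q₁.ResidueField)
        (FaithfulSMul.algebraMap_injective _ _)
    exact hinj.nontrivial
  obtain ⟨M, hM⟩ := Ideal.exists_maximal T
  letI : Field (T ⧸ M) := Ideal.Quotient.field M
  let g₁ : B →+* T ⧸ M := (Ideal.Quotient.mk M).comp
    ((Algebra.TensorProduct.includeLeft (R := p.ResidueField) (S := p.ResidueField)
      (A := Q₁.ResidueField) (B := Q₂.ResidueField)).toRingHom.comp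
      (algebraMap B Q₁.ResidueField))
  let g₂ : B →+* T ⧸ M := (Ideal.Quotient.mk M).comp
    ((Algebra.TensorProduct.includeRight (R := p.ResidueField)
      (A := Q₁.ResidueField) (B := Q₂.ResidueField)).toRingHom.comp
      (algebraMap B Q₂.ResidueField))
  have hg₁ : ∀ b, g₁ b = Ideal.Quotient.mk M ((algebraMap B Q₁.ResidueField b) ⊗ₜ 1) := fun b => rfl
  have hg₂ : ∀ b, g₂ b = Ideal.Quotient.mk M ((1 : Q₁.ResidueField) ⊗ₜ
    (algebraMap B Q₂.ResidueField b)) := fun b => rfl
  have h12 : g₁.comp φ = g₂.comp φ := by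
    ext a
    show g₁ (φ a) = g₂ (φ a)
    rw [hg₁, hg₂]
    congr 1
    have e₁ : algebraMap B Q₁.ResidueField (φ a) =
        algebraMap p.ResidueField Q₁.ResidueField (algebraMap A p.ResidueField a) :=
      (Ideal.ResidueField.map_algebraMap p Q₁ φ h₁.symm a).symm
    have e₂ : algebraMap B Q₂.ResidueField (φ a) =
        algebraMap p.ResidueField Q₂.ResidueField (algebraMap A p.ResidueField a) :=
      (Ideal.ResidueField.map_algebraMap p Q₂ φ h₂.symm a).symm
    rw [e₁, e₂]
    generalize algebraMap A p.ResidueField a = c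
    rw [Algebra.algebraMap_eq_smul_one, Algebra.algebraMap_eq_smul_one c, TensorProduct.smul_tmul]
  have hk₁ : RingHom.ker g₁ = Q₁ := by
    ext b
    rw [RingHom.mem_ker, hg₁]
    constructor
    · intro h0
      by_contra hb
      have hne : algebraMap B Q₁.ResidueField b ≠ 0 := by
        rw [Ne, Ideal.algebraMap_residueField_eq_zero]
        exact hb
      have hu : IsUnit (algebraMap B Q₁.ResidueField b) := hne.isUnit
      have hu' : IsUnit (Ideal.Quotient.mk M ((algebraMap B Q₁.ResidueField b) ⊗ₜ[p.ResidueField]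
          (1 : Q₂.ResidueField))) :=
        (hu.map (Algebra.TensorProduct.includeLeft (R := p.ResidueField) (S := p.ResidueField)
          (A := Q₁.ResidueField) (B := Q₂.ResidueField)).toRingHom).map (Ideal.Quotient.mk M)
      exact hu'.ne_zero h0
    · intro hb
      rw [Ideal.algebraMap_residueField_eq_zero.mpr hb, TensorProduct.zero_tmul, map_zero]
  have hk₂ : RingHom.ker g₂ = Q₂ := by
    ext b
    rw [RingHom.mem_ker, hg₂]
    constructor
    · intro h0
      by_contra hb
      have hne : algebraMap B Q₂.ResidueField b ≠ 0 := by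
        rw [Ne, Ideal.algebraMap_residueField_eq_zero]
        exact hb
      have hu : IsUnit (algebraMap B Q₂.ResidueField b) := hne.isUnit
      have hu' : IsUnit (Ideal.Quotient.mk M ((1 : Q₁.ResidueField) ⊗ₜ[p.ResidueField]
          (algebraMap B Q₂.ResidueField b))) :=
        (hu.map (Algebra.TensorProduct.includeRight (R := p.ResidueField)
          (A := Q₁.ResidueField) (B := Q₂.ResidueField)).toRingHom).map (Ideal.Quotient.mk M)
      exact hu'.ne_zero h0
    · intro hb
      rw [Ideal.algebraMap_residueField_eq_zero.mpr hb, TensorProduct.tmul_zero, map_zero]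
  have hkp : RingHom.ker (g₁.comp φ) = p := by
    rw [← RingHom.comap_ker, hk₁, h₁]
  have h3 := h (T ⧸ M) g₁ g₂ h12 hkp
  calc Q₁ = RingHom.ker g₁ := hk₁.symm
    _ = RingHom.ker g₂ := by rw [h3]
    _ = Q₂ := hk₂

end crit

section local_

variable {A B : Type u} [CommRing A] [CommRing B] [IsDomain A] [IsDomain B] [IsIntegrallyClosed B]
  {φ : A →+* B} (hφ : IsFracExt φ) (hφi : φ.IsIntegral) (p : Ideal A) [p.IsPrime]

include hφ hφi in
theorem radAt_of_isGeomUnibranch (hgu : CAlg2.IsGeomUnibranch (Localization.AtPrime p)) :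
    RadAt φ p := by
  obtain ⟨β, hβ⟩ := NormAff.exists_beta hφ hφi p
  intro K _ g₁ g₂ h12 hp
  exact NormAff.eq_of_isGeomUnibranch hφ hφi p hβ hgu g₁ g₂ h12 hp

include hφ hφi in
theorem isGeomUnibranch_of_radAt (h : RadAt φ p) :
    CAlg2.IsGeomUnibranch (Localization.AtPrime p) := by
  obtain ⟨β, hβ⟩ := NormAff.exists_beta hφ hφi p
  have hι := NormRedDom.iota_isFracExt (Localization.AtPrime p)
  have hιi := NormRedDom.iota_isIntegral (Localization.AtPrime p)
  have hinj : ∀ Q₁ Q₂ : Ideal B, Q₁.IsPrime → Q₂.IsPrime → Q₁.comap φ = p → Q₂.comap φ = p →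
      Q₁ = Q₂ := by
    intro Q₁ Q₂ hQ₁ hQ₂ h₁ h₂
    exact eq_of_radAt φ p h Q₁ Q₂ h₁ h₂
  refine ⟨⟨inferInstance, NormAff.isLocalRing_of_injective hφ hφi p hβ hinj⟩, ?_⟩
  intro m' hm'
  refine @pow_mem_of_univ_local A B (Localization.AtPrime p)
    (CAlg2.normRed (Localization.AtPrime p))
    (CAlg2.normRed (Localization.AtPrime p) ⧸ m') _ _ _ _ (Ideal.Quotient.field m') _ p φ
    (algebraMap A (Localization.AtPrime p))
    (NormRedDom.iota (Localization.AtPrime p)) β (Ideal.Quotient.mk m')
    Ideal.Quotient.mk_surjective hβ ?_ ?_ ?_ ?_ h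
  · intro r'
    obtain ⟨s, hs, b, hb⟩ := NormLocal.exists_mul_mem_range p hφ hι hιi hβ r'
    exact ⟨s, hs, b, hb⟩
  · intro r hr
    rw [Ideal.Quotient.eq_zero_iff_mem, ← Ideal.mem_comap]
    haveI := Ideal.isMaximal_comap_of_isIntegral_of_isMaximal'
      (NormRedDom.iota (Localization.AtPrime p)) hιi m'
    rw [IsLocalRing.eq_maximalIdeal (inferInstance :
      (m'.comap (NormRedDom.iota (Localization.AtPrime p))).IsMaximal)]
    exact hr
  · intro s hs
    exact IsLocalization.map_units (Localization.AtPrime p) (⟨s, hs⟩ : p.primeCompl)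
  · intro a ha
    exact (IsLocalization.AtPrime.to_map_mem_maximal_iff (Localization.AtPrime p) p a).mpr ha

include hφ hφi in
theorem isGeomUnibranch_atPrime_iff_radAt :
    CAlg2.IsGeomUnibranch (Localization.AtPrime p) ↔ RadAt φ p :=
  ⟨radAt_of_isGeomUnibranch hφ hφi p, isGeomUnibranch_of_radAt hφ hφi p⟩

end local_

end Groth.Agent.H72.GUCons
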