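import Groth.Agent.H72.GUCons1

/-!
# The geometrically unibranch locus of a Noetherian domain with finite normalization

Library of helper72.  The radicial locus of a finite ring map over a Noetherian ring is
constructible (Chevalley applied to the complement of the diagonal), hence so is the geometrically
unibranch locus of a Noetherian domain whose normalization is finite.
-/

set_option autoImplicit false

universe u

namespace Groth.Agent.H72.GUCons

open PrimeSpectrum TensorProduct Topology Groth.Agent.Lib.Helper38

section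

variable (A B : Type u) [CommRing A] [CommRing B] [Algebra A B]

/-- The open complement of the diagonal in `Spec (B ⊗[A] B)`. -/
def offDiag : Set (PrimeSpectrum (B ⊗[A] B)) :=
  {P | ∃ b : B, (b ⊗ₜ[A] (1 : B) - (1 : B) ⊗ₜ[A] b) ∉ P.asIdeal}

theorem isOpen_offDiag : IsOpen (offDiag A B) := by
  have h : offDiag A B =
      ⋃ b : B, (PrimeSpectrum.basicOpen (b ⊗ₜ[A] (1 : B) - (1 : B) ⊗ₜ[A] b) : Set _) := by
    ext P
    simp only [offDiag, Set.mem_setOf_eq, Set.mem_iUnion, SetLike.mem_coe,
      PrimeSpectrum.mem_basicOpen]
  rw [h]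
  exact isOpen_iUnion fun b => (PrimeSpectrum.basicOpen _).isOpen

theorem not_radAt_iff (p : PrimeSpectrum A) :
    ¬ RadAt (algebraMap A B) p.asIdeal ↔
      p ∈ comap (algebraMap A (B ⊗[A] B)) '' offDiag A B := by
  constructor
  · intro h
    unfold RadAt at h
    push Not at h
    obtain ⟨K, _, g₁, g₂, h12, hker, hne⟩ := h
    letI : Algebra A K := (g₁.comp (algebraMap A B)).toAlgebra
    let f₁ : B →ₐ[A] K := { g₁ with commutes' := fun a => rfl }
    have hc₂ : ∀ a, g₂ (algebraMap A B a) = algebraMap A K a := fun a => by
      have := congrArg (fun f => f a) h12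
      exact this.symm
    let f₂ : B →ₐ[A] K := { g₂ with commutes' := hc₂ }
    let g : B ⊗[A] B →ₐ[A] K := Algebra.TensorProduct.productMap f₁ f₂
    have hf₁ : ∀ b, f₁ b = g₁ b := fun b => rfl
    have hf₂ : ∀ b, f₂ b = g₂ b := fun b => rfl
    haveI : (RingHom.ker g.toRingHom).IsPrime := RingHom.ker_isPrime _
    refine ⟨⟨RingHom.ker g.toRingHom, inferInstance⟩, ?_, ?_⟩
    · have : ∃ b, g₁ b ≠ g₂ b := by
        by_contra hcon
        push Not at hcon
        exact hne (RingHom.ext hcon)
      obtain ⟨b, hb⟩ := this
      refine ⟨b, ?_⟩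
      show ¬ (g.toRingHom (b ⊗ₜ[A] (1 : B) - (1 : B) ⊗ₜ[A] b) = 0)
      have : g.toRingHom (b ⊗ₜ[A] (1 : B) - (1 : B) ⊗ₜ[A] b) = g₁ b - g₂ b := by
        show g (b ⊗ₜ[A] (1 : B) - (1 : B) ⊗ₜ[A] b) = g₁ b - g₂ b
        rw [map_sub, Algebra.TensorProduct.productMap_apply_tmul,
          Algebra.TensorProduct.productMap_apply_tmul, map_one, map_one, mul_one, one_mul,
          hf₁, hf₂]
      rw [this, sub_eq_zero]
      exact hb
    · apply PrimeSpectrum.ext
      ext a
      show g.toRingHom (algebraMap A (B ⊗[A] B) a) = 0 ↔ a ∈ p.asIdeal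
      have : g.toRingHom (algebraMap A (B ⊗[A] B) a) = g₁ (algebraMap A B a) := g.commutes a
      rw [this, ← hker]
      exact Iff.rfl
  · rintro ⟨P, ⟨b, hb⟩, rfl⟩ h
    let g : B ⊗[A] B →+* P.asIdeal.ResidueField := algebraMap _ _
    let g₁ : B →+* P.asIdeal.ResidueField :=
      g.comp (Algebra.TensorProduct.includeLeft (R := A) (S := A) (A := B) (B := B)).toRingHom
    let g₂ : B →+* P.asIdeal.ResidueField :=
      g.comp (Algebra.TensorProduct.includeRight (R := A) (A := B) (B := B)).toRingHom
    have h12 : g₁.comp (algebraMap A B) = g₂.comp (algebraMap A B) := by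
      ext a
      show g ((Algebra.TensorProduct.includeLeft (R := A) (S := A) (A := B) (B := B))
        (algebraMap A B a)) = g ((Algebra.TensorProduct.includeRight (R := A) (A := B) (B := B))
        (algebraMap A B a))
      rw [AlgHom.commutes, AlgHom.commutes]
    have hker : RingHom.ker (g₁.comp (algebraMap A B)) =
        (comap (algebraMap A (B ⊗[A] B)) P).asIdeal := by
      ext a
      rw [RingHom.mem_ker]
      show g ((Algebra.TensorProduct.includeLeft (R := A) (S := A) (A := B) (B := B))
        (algebraMap A B a)) = 0 ↔ algebraMap A (B ⊗[A] B) a ∈ P.asIdeal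
      rw [AlgHom.commutes]
      exact Ideal.algebraMap_residueField_eq_zero
    have h3 := h P.asIdeal.ResidueField g₁ g₂ h12 hker
    apply hb
    have h4 : g (b ⊗ₜ[A] (1 : B)) = g ((1 : B) ⊗ₜ[A] b) := by
      have := congrArg (fun f => f b) h3
      exact this
    rw [← Ideal.algebraMap_residueField_eq_zero, map_sub, sub_eq_zero]
    exact h4

theorem isConstructible_setOf_radAt [IsNoetherianRing A] [Module.Finite A B] :
    IsConstructible {p : PrimeSpectrum A | RadAt (algebraMap A B) p.asIdeal} := by
  have hset : {p : PrimeSpectrum A | RadAt (algebraMap A B) p.asIdeal} =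
      (comap (algebraMap A (B ⊗[A] B)) '' offDiag A B)ᶜ := by
    ext p
    rw [Set.mem_compl_iff, ← not_radAt_iff]
    simp only [Set.mem_setOf_eq, not_not]
  rw [hset, isConstructible_compl]
  haveI : Module.Finite A (B ⊗[A] B) := inferInstance
  haveI : Algebra.FiniteType A (B ⊗[A] B) := inferInstance
  haveI : Algebra.FinitePresentation A (B ⊗[A] B) :=
    Algebra.FinitePresentation.of_finiteType.mp inferInstance
  haveI : IsNoetherianRing (B ⊗[A] B) := Algebra.FiniteType.isNoetherianRing A _
  refine isConstructible_comap_image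
    (RingHom.finitePresentation_algebraMap.mpr inferInstance) ?_
  exact (TopologicalSpace.NoetherianSpace.isCompact _).isConstructible (isOpen_offDiag A B)

end

/-- The geometrically unibranch locus of a Noetherian domain with finite normalization is
constructible. -/
theorem isConstructible_setOf_isGeomUnibranch_of_isDomain (A : Type u) [CommRing A] [IsDomain A]
    [IsNoetherianRing A] [Module.Finite A (integralClosure A (FractionRing A))] :
    IsConstructible {p : PrimeSpectrum A |
      CAlg2.IsGeomUnibranch (Localization.AtPrime p.asIdeal)} := by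
  have hset : {p : PrimeSpectrum A | CAlg2.IsGeomUnibranch (Localization.AtPrime p.asIdeal)} =
      {p : PrimeSpectrum A |
        RadAt (algebraMap A (integralClosure A (FractionRing A))) p.asIdeal} := by
    ext p
    exact isGeomUnibranch_atPrime_iff_radAt (NormAff.isFracExt_algebraMap A)
      (NormAff.isIntegral_algebraMap A) p.asIdeal
  rw [hset]
  exact isConstructible_setOf_radAt A (integralClosure A (FractionRing A))

end Groth.Agent.H72.GUCons
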