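import Groth.Agent.Lib.Helper61.GU13

/-!
# Geometric unibranchness and nilpotent thickenings; reduction to an irreducible component

Library of helper72.
* `isGeomUnibranch_iff_of_surjective`: a surjection of local rings with nil kernel preserves and
  reflects geometric unibranchness.
* `isGeomUnibranch_atPrime_iff_quotient`: if every prime contained in `p` contains `q`, then `R_p` is
  geometrically unibranch iff `(R/q)_{p/q}` is.
* `exists_minimalPrime_of_isGeomUnibranch`: a geometrically unibranch point lies on a unique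
  irreducible component.
-/

set_option autoImplicit false

universe u

namespace Groth.Agent.H72.GUCons

open Groth.Agent.Lib.Helper61.GU

section nil

variable {S S' : Type u} [CommRing S] [CommRing S']

/-- The isomorphism of reductions induced by a surjection with nil kernel. -/
noncomputable def redEquivOfSurjective (π : S →+* S') (hπ : Function.Surjective π)
    (hker : ∀ s, π s = 0 → IsNilpotent s) : CAlg2.red S ≃+* CAlg2.red S' := by
  let e : CAlg2.red S →+* CAlg2.red S' :=
    Ideal.Quotient.lift (nilradical S) ((Ideal.Quotient.mk (nilradical S')).comp π) (by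
      intro s hs
      rw [RingHom.comp_apply, Ideal.Quotient.eq_zero_iff_mem]
      exact mem_nilradical.mpr ((mem_nilradical.mp hs).map π))
  refine RingEquiv.ofBijective e ⟨?_, ?_⟩
  · rw [injective_iff_map_eq_zero]
    intro x hx
    obtain ⟨s, rfl⟩ := Ideal.Quotient.mk_surjective x
    have h1 : Ideal.Quotient.mk (nilradical S') (π s) = 0 := hx
    rw [Ideal.Quotient.eq_zero_iff_mem] at h1
    obtain ⟨n, hn⟩ := mem_nilradical.mp h1
    have h2 : IsNilpotent (s ^ n) := hker _ (by rw [map_pow, hn])
    obtain ⟨m, hm⟩ := h2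
    rw [Ideal.Quotient.eq_zero_iff_mem]
    exact mem_nilradical.mpr ⟨n * m, by rw [pow_mul, hm]⟩
  · intro y
    obtain ⟨s', rfl⟩ := Ideal.Quotient.mk_surjective y
    obtain ⟨s, rfl⟩ := hπ s'
    exact ⟨Ideal.Quotient.mk _ s, rfl⟩

theorem isGeomUnibranch_of_redEquiv [IsLocalRing S] [IsLocalRing S']
    (e : CAlg2.red S ≃+* CAlg2.red S') (h : CAlg2.IsGeomUnibranch S) :
    CAlg2.IsGeomUnibranch S' := by
  haveI : IsDomain (CAlg2.red S) := h.1.1
  haveI : IsLocalRing (CAlg2.red S) :=
    IsLocalRing.of_surjective' (Ideal.Quotient.mk (nilradical S)) Ideal.Quotient.mk_surjective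
  obtain ⟨hdom, h2⟩ := isGeomUnibranch_red h
  haveI : IsDomain (CAlg2.red S') := e.symm.toMulEquiv.isDomain _
  haveI : IsLocalRing (CAlg2.red S') :=
    IsLocalRing.of_surjective' (Ideal.Quotient.mk (nilradical S')) Ideal.Quotient.mk_surjective
  exact isGeomUnibranch_of_red (isGeomUnibranch_of_ringEquiv' e h2)

/-- A surjection of local rings with nil kernel preserves and reflects geometric
unibranchness. -/
theorem isGeomUnibranch_iff_of_surjective [IsLocalRing S] [IsLocalRing S']
    (π : S →+* S') (hπ : Function.Surjective π) (hker : ∀ s, π s = 0 → IsNilpotent s) :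
    CAlg2.IsGeomUnibranch S ↔ CAlg2.IsGeomUnibranch S' :=
  ⟨isGeomUnibranch_of_redEquiv (redEquivOfSurjective π hπ hker),
    isGeomUnibranch_of_redEquiv (redEquivOfSurjective π hπ hker).symm⟩

end nil

section quot

variable {R : Type u} [CommRing R] (q p : Ideal R) [p.IsPrime]
  (P : Ideal (R ⧸ q)) [P.IsPrime] (hP : p = P.comap (Ideal.Quotient.mk q))

include hP in
theorem localRingHom_mk_surjective :
    Function.Surjective (Localization.localRingHom p P (Ideal.Quotient.mk q) hP) := by
  intro y
  obtain ⟨⟨c, d⟩, rfl⟩ := IsLocalization.mk'_surjective P.primeCompl y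
  obtain ⟨c, rfl⟩ := Ideal.Quotient.mk_surjective c
  obtain ⟨d', hd'⟩ := Ideal.Quotient.mk_surjective (d : R ⧸ q)
  have hd'p : d' ∈ p.primeCompl := by
    intro h
    have h' : d' ∈ P.comap (Ideal.Quotient.mk q) := by rw [← hP]; exact h
    rw [Ideal.mem_comap, hd'] at h'
    exact d.2 h'
  refine ⟨IsLocalization.mk' _ c (⟨d', hd'p⟩ : p.primeCompl), ?_⟩
  rw [Localization.localRingHom_mk']
  congr 1
  exact Subtype.ext hd'

/-- Elements of `q` become nilpotent in `R_p` if every prime contained in `p` contains `q`. -/
theorem isNilpotent_algebraMap_of_mem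
    (hmin : ∀ p' : Ideal R, p'.IsPrime → p' ≤ p → q ≤ p') (x : R) (hx : x ∈ q) :
    IsNilpotent (algebraMap R (Localization.AtPrime p) x) := by
  rw [← mem_nilradical, nilradical_eq_sInf, Ideal.mem_sInf]
  intro J hJ
  haveI : J.IsPrime := hJ
  have hle : J.comap (algebraMap R (Localization.AtPrime p)) ≤ p := by
    intro z hz
    by_contra hzp
    have hu : IsUnit (algebraMap R (Localization.AtPrime p) z) :=
      IsLocalization.map_units (Localization.AtPrime p) (⟨z, hzp⟩ : p.primeCompl)
    exact hJ.ne_top (Ideal.eq_top_of_isUnit_mem _ hz hu)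
  exact hmin _ (Ideal.comap_isPrime _ J) hle hx

include hP in
theorem isNilpotent_of_localRingHom_eq_zero
    (hmin : ∀ p' : Ideal R, p'.IsPrime → p' ≤ p → q ≤ p') (s : Localization.AtPrime p)
    (hs : Localization.localRingHom p P (Ideal.Quotient.mk q) hP s = 0) : IsNilpotent s := by
  obtain ⟨⟨a, t⟩, rfl⟩ := IsLocalization.mk'_surjective p.primeCompl s
  rw [Localization.localRingHom_mk', IsLocalization.mk'_eq_zero_iff] at hs
  obtain ⟨u, hu⟩ := hs
  obtain ⟨u', hu'⟩ := Ideal.Quotient.mk_surjective (u : R ⧸ q)
  have hu'p : u' ∉ p := by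
    intro h
    have h' : u' ∈ P.comap (Ideal.Quotient.mk q) := by rw [← hP]; exact h
    rw [Ideal.mem_comap, hu'] at h'
    exact u.2 h'
  have h1 : u' * a ∈ q := by
    rw [← Ideal.Quotient.eq_zero_iff_mem, map_mul, hu']
    exact hu
  have h2 := isNilpotent_algebraMap_of_mem q p hmin _ h1
  rw [map_mul] at h2
  have hunit : IsUnit (algebraMap R (Localization.AtPrime p) u') :=
    IsLocalization.map_units (Localization.AtPrime p) (⟨u', hu'p⟩ : p.primeCompl)
  have h3 : IsNilpotent (algebraMap R (Localization.AtPrime p) a) := by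
    obtain ⟨n, hn⟩ := h2
    rw [mul_pow] at hn
    exact ⟨n, ((hunit.pow n).mul_right_eq_zero).mp hn⟩
  have h4 : IsLocalization.mk' (Localization.AtPrime p) a t *
      algebraMap R (Localization.AtPrime p) (t : R) = algebraMap R _ a :=
    IsLocalization.mk'_spec _ _ _
  have htunit : IsUnit (algebraMap R (Localization.AtPrime p) (t : R)) :=
    IsLocalization.map_units (Localization.AtPrime p) t
  obtain ⟨n, hn⟩ := h3
  refine ⟨n, ?_⟩
  have h5 : (IsLocalization.mk' (Localization.AtPrime p) a t) ^ n *
      (algebraMap R (Localization.AtPrime p) (t : R)) ^ n = 0 := by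
    rw [← mul_pow, h4, hn]
  exact ((htunit.pow n).mul_left_eq_zero).mp h5

include hP in
/-- If every prime contained in `p` contains `q`, then `R_p` is geometrically unibranch iff
`(R/q)_{p/q}` is. -/
theorem isGeomUnibranch_atPrime_iff_quotient
    (hmin : ∀ p' : Ideal R, p'.IsPrime → p' ≤ p → q ≤ p') :
    CAlg2.IsGeomUnibranch (Localization.AtPrime p) ↔
      CAlg2.IsGeomUnibranch (Localization.AtPrime P) :=
  isGeomUnibranch_iff_of_surjective _ (localRingHom_mk_surjective q p P hP)
    (isNilpotent_of_localRingHom_eq_zero q p P hP hmin)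

end quot

section minimal

variable {R : Type u} [CommRing R] (p : Ideal R) [p.IsPrime]

/-- A geometrically unibranch point lies on a unique irreducible component. -/
theorem exists_minimalPrime_of_isGeomUnibranch
    (h : CAlg2.IsGeomUnibranch (Localization.AtPrime p)) :
    ∃ q ∈ minimalPrimes R, q ≤ p ∧ ∀ p' : Ideal R, p'.IsPrime → p' ≤ p → q ≤ p' := by
  haveI hdom : IsDomain (CAlg2.red (Localization.AtPrime p)) := h.1.1
  have hprime : (nilradical (Localization.AtPrime p)).IsPrime :=
    (Ideal.Quotient.isDomain_iff_prime _).mp hdom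
  let q : Ideal R := (nilradical (Localization.AtPrime p)).comap
    (algebraMap R (Localization.AtPrime p))
  haveI hq : q.IsPrime := Ideal.comap_isPrime _ _
  have hqp : q ≤ p := by
    intro z hz
    by_contra hzp
    have hu : IsUnit (algebraMap R (Localization.AtPrime p) z) :=
      IsLocalization.map_units (Localization.AtPrime p) (⟨z, hzp⟩ : p.primeCompl)
    exact hprime.ne_top (Ideal.eq_top_of_isUnit_mem _ hz hu)
  have hall : ∀ p' : Ideal R, p'.IsPrime → p' ≤ p → q ≤ p' := by
    intro p' hp' hp'p x hx
    have hdisj : Disjoint (p.primeCompl : Set R) (p' : Set R) := by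
      rw [Set.disjoint_left]
      intro z hz hz'
      exact hz (hp'p hz')
    have hmapprime : (p'.map (algebraMap R (Localization.AtPrime p))).IsPrime :=
      IsLocalization.isPrime_of_isPrime_disjoint p.primeCompl _ _ hp' hdisj
    have h1 : algebraMap R (Localization.AtPrime p) x ∈
        p'.map (algebraMap R (Localization.AtPrime p)) := by
      have : nilradical (Localization.AtPrime p) ≤ p'.map (algebraMap R (Localization.AtPrime p)) :=
        nilradical_le_prime _
      exact this hx
    have h2 : x ∈ (p'.map (algebraMap R (Localization.AtPrime p))).comap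
        (algebraMap R (Localization.AtPrime p)) := h1
    have h3 : (p'.map (algebraMap R (Localization.AtPrime p))).comap
        (algebraMap R (Localization.AtPrime p)) = p' :=
      IsLocalization.comap_map_of_isPrime_disjoint p.primeCompl _ hp' hdisj
    rwa [h3] at h2
  refine ⟨q, ?_, hqp, hall⟩
  change Minimal (fun q : Ideal R => q.IsPrime ∧ ⊥ ≤ q) q
  refine ⟨⟨hq, bot_le⟩, ?_⟩
  intro p'' hp'' hle
  exact hall p'' hp''.1 (hle.trans hqp)

end minimal

end Groth.Agent.H72.GUCons
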