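import Groth.Agent.H72.GUCons3

/-!
# Finiteness of the normalization of an irreducible component

Library of helper72.  If `A` is a reduced Noetherian ring whose integral closure in its total ring
of fractions is a finite `A`-module, and `θ : A → C` is a surjection onto a domain whose kernel is a
minimal prime of `A`, then the integral closure of `C` in its fraction field is a finite `C`-module.
-/

set_option autoImplicit false

universe u

namespace Groth.Agent.H72.GUCons

section

variable {A : Type u} [CommRing A] [IsReduced A] (q : Ideal A) (hq : q ∈ minimalPrimes A)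

include hq in
/-- An element of a minimal prime of a reduced ring is killed by an element outside. -/
theorem exists_notMem_mul_eq_zero (z : A) (hz : z ∈ q) : ∃ s ∉ q, s * z = 0 := by
  haveI : q.IsPrime := hq.1.1
  have hmin : ∀ p' : Ideal A, p'.IsPrime → p' ≤ q → q ≤ p' :=
    fun p' hp' hle => hq.2 ⟨hp', bot_le⟩ hle
  obtain ⟨n, hn⟩ := isNilpotent_algebraMap_of_mem q q hmin z hz
  rw [← map_pow, IsLocalization.map_eq_zero_iff q.primeCompl] at hn
  obtain ⟨s, hs⟩ := hn
  refine ⟨s, s.2, ?_⟩
  have h1 : ((s : A) * z) ^ (n + 1) = 0 := by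
    have : ((s : A) * z) ^ (n + 1) = (s : A) ^ n * z * ((s : A) * z ^ n) := by ring
    rw [this, hs, mul_zero]
  exact IsReduced.eq_zero _ ⟨n + 1, h1⟩

include hq in
theorem exists_notMem_forall_mul_eq_zero_finset (s : Finset A) (hs : ∀ z ∈ s, z ∈ q) :
    ∃ a ∉ q, ∀ z ∈ s, a * z = 0 := by
  classical
  haveI : q.IsPrime := hq.1.1
  induction s using Finset.induction_on with
  | empty => exact ⟨1, fun h => (Ideal.ne_top_iff_one q).mp (Ideal.IsPrime.ne_top ‹_›) h, by simp⟩
  | insert z s hzs ih =>
    obtain ⟨a, ha, hall⟩ := ih (fun w hw => hs w (Finset.mem_insert_of_mem hw))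
    obtain ⟨t, ht, htz⟩ := exists_notMem_mul_eq_zero q hq z (hs z (Finset.mem_insert_self z s))
    refine ⟨a * t, fun h => (Ideal.IsPrime.mem_or_mem ‹_› h).elim ha ht, ?_⟩
    intro w hw
    rcases Finset.mem_insert.mp hw with rfl | hw
    · rw [mul_assoc, htz, mul_zero]
    · rw [mul_comm a t, mul_assoc, hall w hw, mul_zero]

include hq in
/-- A minimal prime of a reduced Noetherian ring is annihilated by an element outside it. -/
theorem exists_notMem_forall_mul_eq_zero [IsNoetherianRing A] :
    ∃ a ∉ q, ∀ z ∈ q, a * z = 0 := by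
  obtain ⟨s, hs⟩ := (IsNoetherian.noetherian q : q.FG)
  have hsq : ∀ z ∈ s, z ∈ q := fun z hz => by
    rw [← hs]
    exact Ideal.subset_span hz
  obtain ⟨a, ha, hall⟩ := exists_notMem_forall_mul_eq_zero_finset q hq s hsq
  refine ⟨a, ha, ?_⟩
  intro z hz
  rw [← hs] at hz
  induction hz using Submodule.span_induction with
  | mem x hx => exact hall x hx
  | zero => exact mul_zero a
  | add x y _ _ hx hy => rw [mul_add, hx, hy, add_zero]
  | smul r x _ hx => rw [smul_eq_mul, mul_left_comm, hx, mul_zero]

include hq in
/-- Prime avoidance: an element of the minimal prime `q` lying in no other minimal prime. -/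
theorem exists_mem_forall_notMem [IsNoetherianRing A] :
    ∃ b ∈ q, ∀ q' ∈ minimalPrimes A, q' ≠ q → b ∉ q' := by
  classical
  haveI : q.IsPrime := hq.1.1
  have hfin : (minimalPrimes A).Finite := minimalPrimes.finite_of_isNoetherianRing A
  let s : Finset (Ideal A) := hfin.toFinset.erase q
  have hs : ∀ q', q' ∈ s ↔ q' ∈ minimalPrimes A ∧ q' ≠ q := by
    intro q'
    simp only [s, Finset.mem_erase, Set.Finite.mem_toFinset]
    tauto
  have hnot : ¬ ((q : Set A) ⊆ ⋃ i ∈ (↑s : Set (Ideal A)), (id i : Ideal A)) := by
    rw [Ideal.subset_union_prime (f := id) q q (fun i hi _ _ => ((hs i).mp hi).1.1.1)]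
    rintro ⟨i, hi, hle⟩
    obtain ⟨himin, hine⟩ := (hs i).mp hi
    exact hine (le_antisymm (himin.2 ⟨‹q.IsPrime›, bot_le⟩ hle) hle)
  rw [Set.not_subset] at hnot
  obtain ⟨b, hbq, hb⟩ := hnot
  refine ⟨b, hbq, ?_⟩
  intro q' hq' hne hbq'
  apply hb
  simp only [Set.mem_iUnion, Finset.mem_coe, id]
  exact ⟨q', (hs q').mpr ⟨hq', hne⟩, hbq'⟩

end

section main

variable (A C : Type u) [CommRing A] [IsReduced A] [IsNoetherianRing A] [CommRing C] [IsDomain C]
  (θ : A →+* C) (hθ : Function.Surjective θ) (hmin : RingHom.ker θ ∈ minimalPrimes A)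

include hmin in
theorem isUnit_algebraMap_of_mem_nonZeroDivisors (y : nonZeroDivisors A) :
    IsUnit ((algebraMap C (FractionRing C)).comp θ y) := by
  have h1 : (y : A) ∉ RingHom.ker θ := fun h =>
    Set.disjoint_left.mp (Ideal.disjoint_nonZeroDivisors_of_mem_minimalPrimes hmin) h y.2
  have h2 : θ y ≠ 0 := h1
  have h3 : algebraMap C (FractionRing C) (θ y) ≠ 0 := by
    rw [Ne, map_eq_zero_iff _ (IsFractionRing.injective C (FractionRing C))]
    exact h2
  exact h3.isUnit

/-- The map of total rings of fractions induced by the projection onto a component. -/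
noncomputable def psi : FractionRing A →+* FractionRing C :=
  IsLocalization.lift (M := nonZeroDivisors A) (g := (algebraMap C (FractionRing C)).comp θ)
    (isUnit_algebraMap_of_mem_nonZeroDivisors A C θ hmin)

theorem psi_algebraMap (x : A) :
    psi A C θ hmin (algebraMap A (FractionRing A) x) = algebraMap C (FractionRing C) (θ x) :=
  IsLocalization.lift_eq _ x

include hθ in
/-- Surjectivity on integral closures. -/
theorem exists_isIntegral_psi_eq (y : FractionRing C) (hy : IsIntegral C y) :
    ∃ x : FractionRing A, IsIntegral A x ∧ psi A C θ hmin x = y := by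
  haveI hqprime : (RingHom.ker θ).IsPrime := hmin.1.1
  obtain ⟨a, ha, haq⟩ := exists_notMem_forall_mul_eq_zero (RingHom.ker θ) hmin
  obtain ⟨b, hbq, hb⟩ := exists_mem_forall_notMem (RingHom.ker θ) hmin
  -- `a` lies in every other minimal prime
  have haq' : ∀ q' ∈ minimalPrimes A, q' ≠ RingHom.ker θ → a ∈ q' := by
    intro q' hq' hne
    haveI : q'.IsPrime := hq'.1.1
    have hnle : ¬ RingHom.ker θ ≤ q' := fun hle =>
      hne (le_antisymm (hq'.2 ⟨hqprime, bot_le⟩ hle) hle)
    obtain ⟨z₀, hz₀, hz₀'⟩ := Set.not_subset.mp hnle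
    have h0 : a * z₀ ∈ q' := by rw [haq z₀ hz₀]; exact q'.zero_mem
    exact (Ideal.IsPrime.mem_or_mem ‹_› h0).resolve_right hz₀'
  -- the kernel of `psi` is killed by `a`
  have hkill : ∀ v : FractionRing A, psi A C θ hmin v = 0 →
      algebraMap A (FractionRing A) a * v = 0 := by
    intro v hv
    obtain ⟨u, s, rfl⟩ := IsLocalization.exists_mk'_eq (nonZeroDivisors A) v
    have h1 : psi A C θ hmin (IsLocalization.mk' (FractionRing A) u s) *
        psi A C θ hmin (algebraMap A (FractionRing A) (s : A)) =
        psi A C θ hmin (algebraMap A (FractionRing A) u) := by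
      rw [← map_mul, IsLocalization.mk'_spec]
    rw [hv, zero_mul, psi_algebraMap] at h1
    have h2 : θ u = 0 := by
      have := h1.symm
      rwa [map_eq_zero_iff _ (IsFractionRing.injective C (FractionRing C))] at this
    have h3 : a * u = 0 := haq u h2
    rw [IsLocalization.mul_mk'_eq_mk'_of_mul, h3, IsLocalization.mk'_zero]
  -- write `y` as a fraction
  obtain ⟨cb, db, hcd⟩ := IsLocalization.exists_mk'_eq (nonZeroDivisors C) y
  obtain ⟨c, rfl⟩ := hθ cb
  obtain ⟨d, hd⟩ := hθ (db : C)
  have hdq : d ∉ RingHom.ker θ := by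
    intro h
    have h0 : (db : C) = 0 := by rw [← hd]; exact h
    exact nonZeroDivisors.ne_zero db.2 h0
  -- the denominator
  let w : A := d * a + b
  have hwq : w ∉ RingHom.ker θ := by
    intro h
    have h1 : d * a ∈ RingHom.ker θ := by
      have h2 : d * a = w - b := by simp [w]
      rw [h2]
      exact Ideal.sub_mem _ h hbq
    exact (hqprime.mem_or_mem h1).elim hdq ha
  have hw : w ∈ nonZeroDivisors A := by
    rw [mem_nonZeroDivisors_iff_right]
    intro z hz
    have hzall : ∀ q' ∈ minimalPrimes A, z ∈ q' := by
      intro q' hq'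
      haveI : q'.IsPrime := hq'.1.1
      have h0 : z * w ∈ q' := by rw [hz]; exact q'.zero_mem
      by_cases hne : q' = RingHom.ker θ
      · rw [hne] at h0 ⊢
        exact (hqprime.mem_or_mem h0).resolve_right hwq
      · have hwq' : w ∉ q' := by
          intro h
          have h2 : b = w - d * a := by simp [w]
          apply hb q' hq' hne
          rw [h2]
          exact Ideal.sub_mem _ h (Ideal.mul_mem_left _ d (haq' q' hq' hne))
        exact (Ideal.IsPrime.mem_or_mem ‹_› h0).resolve_right hwq'
    have hznil : z ∈ nilradical A := by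
      rw [nilradical, ← Ideal.sInf_minimalPrimes]
      exact Ideal.mem_sInf.mpr fun {q'} hq' => hzall q' hq'
    exact IsReduced.eq_zero z (mem_nilradical.mp hznil)
  let x : FractionRing A := IsLocalization.mk' _ (c * a) (⟨w, hw⟩ : nonZeroDivisors A)
  have hθw : θ w = θ d * θ a := by
    simp only [w, map_add, map_mul, RingHom.mem_ker.mp hbq, add_zero]
  have hx : psi A C θ hmin x = y := by
    have h1 : psi A C θ hmin x * psi A C θ hmin (algebraMap A (FractionRing A) w) =
        psi A C θ hmin (algebraMap A (FractionRing A) (c * a)) := by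
      rw [← map_mul]
      congr 1
      exact IsLocalization.mk'_spec _ _ _
    rw [psi_algebraMap, psi_algebraMap, hθw] at h1
    have h2 : y * algebraMap C (FractionRing C) (θ d) = algebraMap C (FractionRing C) (θ c) := by
      rw [← hcd, hd]
      exact IsLocalization.mk'_spec _ _ _
    have hne : algebraMap C (FractionRing C) (θ d * θ a) ≠ 0 := by
      rw [Ne, map_eq_zero_iff _ (IsFractionRing.injective C (FractionRing C))]
      exact mul_ne_zero hdq ha
    apply mul_right_cancel₀ hne
    rw [h1, map_mul, map_mul, map_mul, ← mul_assoc, h2]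
  refine ⟨x, ?_, hx⟩
  -- integrality
  obtain ⟨Pb, hPb, hPy⟩ := hy
  obtain ⟨P, hPmap, -, hPmonic⟩ := Polynomial.lifts_and_natDegree_eq_and_monic
    (Polynomial.mem_lifts_of_surjective hθ Pb) hPb
  have hv : psi A C θ hmin (Polynomial.eval₂ (algebraMap A (FractionRing A)) x P) = 0 := by
    rw [Polynomial.hom_eval₂]
    have hcomp : (psi A C θ hmin).comp (algebraMap A (FractionRing A)) =
        (algebraMap C (FractionRing C)).comp θ := RingHom.ext (psi_algebraMap A C θ hmin)
    rw [hcomp, hx, ← Polynomial.eval₂_map, hPmap]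
    exact hPy
  have hav := hkill _ hv
  refine ⟨Polynomial.X * P, Polynomial.monic_X.mul hPmonic, ?_⟩
  rw [Polynomial.eval₂_mul, Polynomial.eval₂_X]
  have hxa : x = IsLocalization.mk' (FractionRing A) c (⟨w, hw⟩ : nonZeroDivisors A) *
      algebraMap A (FractionRing A) a := by
    rw [mul_comm, IsLocalization.mul_mk'_eq_mk'_of_mul, mul_comm]
  generalize Polynomial.eval₂ (algebraMap A (FractionRing A)) x P = v at hav ⊢
  rw [hxa, mul_assoc, hav, mul_zero]

theorem isIntegral_psi (x : FractionRing A) (hx : IsIntegral A x) :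
    IsIntegral C (psi A C θ hmin x) := by
  refine IsIntegral.map_of_comp_eq θ (psi A C θ hmin) ?_ hx
  ext a
  exact (psi_algebraMap A C θ hmin a).symm

include hθ hmin in
/-- The normalization of an irreducible component of a reduced Noetherian ring with finite
normalization is finite. -/
theorem finite_integralClosure_of_minimalPrime
    [Module.Finite A (integralClosure A (FractionRing A))] :
    Module.Finite C (integralClosure C (FractionRing C)) := by
  haveI : RingHomSurjective θ := ⟨hθ⟩
  let Ψ : integralClosure A (FractionRing A) →ₛₗ[θ] integralClosure C (FractionRing C) :=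
    { toFun := fun x => ⟨psi A C θ hmin x.1, isIntegral_psi A C θ hmin x.1 x.2⟩
      map_add' := fun x y => by
        apply Subtype.ext
        simp only [Subalgebra.coe_add, map_add]
      map_smul' := fun a x => by
        apply Subtype.ext
        have h1 : ((a • x : integralClosure A (FractionRing A)) : FractionRing A) =
            algebraMap A (FractionRing A) a * (x : FractionRing A) := by
          rw [Subalgebra.coe_smul, Algebra.smul_def]
        have h2 : ∀ m : integralClosure C (FractionRing C),
            ((θ a • m : integralClosure C (FractionRing C)) : FractionRing C) =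
            algebraMap C (FractionRing C) (θ a) * (m : FractionRing C) := fun m => by
          rw [Subalgebra.coe_smul, Algebra.smul_def]
        rw [h2]
        show psi A C θ hmin ((a • x : integralClosure A (FractionRing A)) : FractionRing A) = _
        rw [h1, map_mul, psi_algebraMap] }
  have hsurj : Function.Surjective Ψ := by
    rintro ⟨y, hy⟩
    obtain ⟨x, hx, hxy⟩ := exists_isIntegral_psi_eq A C θ hθ hmin y hy
    exact ⟨⟨x, hx⟩, Subtype.ext hxy⟩
  exact Module.Finite.of_surjective Ψ hsurj

end main

end Groth.Agent.H72.GUCons
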