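import Groth.Agent.H72.GUCons2
import Groth.Agent.H72.GUCons4

/-!
# The geometrically unibranch locus of a Noetherian ring with finite normalization

Library of helper72.  Ring-level form of EGA IV 9.7.10 (constructibility of the geometrically
unibranch locus).
-/

set_option autoImplicit false

universe u

namespace Groth.Agent.H72.GUCons

open PrimeSpectrum Topology

variable (R : Type u) [CommRing R] [IsNoetherianRing R]

omit [IsNoetherianRing R] in
theorem ker_factor_mem_minimalPrimes (q : Ideal R) (hq : q ∈ minimalPrimes R)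
    (hle : nilradical R ≤ q) :
    RingHom.ker (Ideal.Quotient.factor hle) ∈ minimalPrimes (CAlg2.red R) := by
  haveI : q.IsPrime := hq.1.1
  haveI : (RingHom.ker (Ideal.Quotient.factor hle)).IsPrime := RingHom.ker_isPrime _
  change Minimal (fun J : Ideal (CAlg2.red R) => J.IsPrime ∧ ⊥ ≤ J) _
  refine ⟨⟨inferInstance, bot_le⟩, ?_⟩
  intro J hJ hJle
  haveI := hJ.1
  have h1 : J.comap (Ideal.Quotient.mk (nilradical R)) ≤ q := by
    intro x hx
    have h2 : Ideal.Quotient.mk (nilradical R) x ∈ RingHom.ker (Ideal.Quotient.factor hle) :=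
      hJle hx
    rw [RingHom.mem_ker, Ideal.Quotient.factor_mk, Ideal.Quotient.eq_zero_iff_mem] at h2
    exact h2
  have h3 : q ≤ J.comap (Ideal.Quotient.mk (nilradical R)) :=
    hq.2 ⟨Ideal.comap_isPrime _ J, bot_le⟩ h1
  intro y hy
  obtain ⟨x, rfl⟩ := Ideal.Quotient.mk_surjective y
  rw [RingHom.mem_ker, Ideal.Quotient.factor_mk, Ideal.Quotient.eq_zero_iff_mem] at hy
  exact h3 hy

/-- The finite normalization hypothesis passes to the irreducible components. -/
theorem finite_integralClosure_quotient_minimalPrime
    (hfin : Module.Finite (CAlg2.red R) (CAlg2.normRed R)) (q : Ideal R) [q.IsPrime]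
    (hq : q ∈ minimalPrimes R) :
    Module.Finite (R ⧸ q) (integralClosure (R ⧸ q) (FractionRing (R ⧸ q))) := by
  have hle : nilradical R ≤ q := nilradical_le_prime q
  haveI : IsReduced (CAlg2.red R) :=
    (Ideal.isRadical_iff_quotient_reduced _).mp (Ideal.radical_isRadical ⊥)
  haveI : Module.Finite (CAlg2.red R)
      (integralClosure (CAlg2.red R) (FractionRing (CAlg2.red R))) := hfin
  exact finite_integralClosure_of_minimalPrime (CAlg2.red R) (R ⧸ q) (Ideal.Quotient.factor hle)
    (Ideal.Quotient.factor_surjective hle) (ker_factor_mem_minimalPrimes R q hq hle)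

theorem isConstructible_zeroLocus (I : Ideal R) :
    IsConstructible (zeroLocus (I : Set R)) := by
  have h := (TopologicalSpace.NoetherianSpace.isCompact (zeroLocus (I : Set R))ᶜ).isConstructible
    (isClosed_zeroLocus _).isOpen_compl
  exact h.of_compl

/-- The geometrically unibranch locus of a Noetherian ring whose reduction has a finite
normalization is constructible. -/
theorem isConstructible_setOf_isGeomUnibranch
    (hfin : Module.Finite (CAlg2.red R) (CAlg2.normRed R)) :
    IsConstructible {p : PrimeSpectrum R |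
      CAlg2.IsGeomUnibranch (Localization.AtPrime p.asIdeal)} := by
  classical
  have hmpfin : (minimalPrimes R).Finite := minimalPrimes.finite_of_isNoetherianRing R
  let Z : Ideal R → Set (PrimeSpectrum R) := fun q =>
    zeroLocus (q : Set R) \ ⋃ q' ∈ (minimalPrimes R \ {q}), zeroLocus (q' : Set R)
  let Gq : Ideal R → Set (PrimeSpectrum R) := fun q =>
    comap (Ideal.Quotient.mk q) '' {P : PrimeSpectrum (R ⧸ q) |
      CAlg2.IsGeomUnibranch (Localization.AtPrime P.asIdeal)}
  have hset : {p : PrimeSpectrum R | CAlg2.IsGeomUnibranch (Localization.AtPrime p.asIdeal)} =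
      ⋃ q ∈ minimalPrimes R, (Z q ∩ Gq q) := by
    ext p
    simp only [Set.mem_setOf_eq, Set.mem_iUnion, exists_prop]
    constructor
    · intro h
      obtain ⟨q, hq, hqp, hall⟩ := exists_minimalPrime_of_isGeomUnibranch p.asIdeal h
      haveI : q.IsPrime := hq.1.1
      refine ⟨q, hq, ⟨?_, ?_⟩, ?_⟩
      · exact (mem_zeroLocus _ _).mpr hqp
      · simp only [Set.mem_iUnion, exists_prop, not_exists, not_and]
        rintro q' ⟨hq', hne⟩ hpq'
        have hq'p : q' ≤ p.asIdeal := (mem_zeroLocus _ _).mp hpq'
        have h1 : q ≤ q' := hall q' hq'.1.1 hq'p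
        exact hne (le_antisymm (hq'.2 ⟨inferInstance, bot_le⟩ h1) h1)
      · have hkp : RingHom.ker (Ideal.Quotient.mk q) ≤ p.asIdeal := by
          rw [Ideal.mk_ker]; exact hqp
        haveI hPprime : (p.asIdeal.map (Ideal.Quotient.mk q)).IsPrime :=
          Ideal.map_isPrime_of_surjective Ideal.Quotient.mk_surjective hkp
        have hP : p.asIdeal = (p.asIdeal.map (Ideal.Quotient.mk q)).comap (Ideal.Quotient.mk q) := by
          rw [Ideal.comap_map_of_surjective' _ Ideal.Quotient.mk_surjective]
          exact (sup_eq_left.mpr hkp).symm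
        refine ⟨⟨p.asIdeal.map (Ideal.Quotient.mk q), hPprime⟩, ?_, ?_⟩
        · exact (isGeomUnibranch_atPrime_iff_quotient q p.asIdeal _ hP hall).mp h
        · apply PrimeSpectrum.ext
          exact hP.symm
    · rintro ⟨q, hq, ⟨hpq, hpnot⟩, ⟨P, hPG, rfl⟩⟩
      haveI : q.IsPrime := hq.1.1
      have hall : ∀ p' : Ideal R, p'.IsPrime → p' ≤ (comap (Ideal.Quotient.mk q) P).asIdeal →
          q ≤ p' := by
        intro p' hp' hle
        obtain ⟨q', hq', hq'le⟩ := Ideal.exists_minimalPrimes_le (bot_le : ⊥ ≤ p')
        by_cases hne : q' = q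
        · rw [← hne]; exact hq'le
        · exfalso
          apply hpnot
          simp only [Set.mem_iUnion, exists_prop]
          exact ⟨q', ⟨hq', hne⟩, (mem_zeroLocus _ _).mpr (hq'le.trans hle)⟩
      exact (isGeomUnibranch_atPrime_iff_quotient q (comap (Ideal.Quotient.mk q) P).asIdeal
        P.asIdeal rfl hall).mpr hPG
  rw [hset]
  refine IsConstructible.biUnion hmpfin fun q hq => ?_
  haveI : q.IsPrime := hq.1.1
  refine IsConstructible.inter ?_ ?_
  · refine (isConstructible_zeroLocus R q).sdiff ?_
    exact IsConstructible.biUnion (hmpfin.subset Set.diff_subset)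
      fun q' _ => isConstructible_zeroLocus R q'
  · haveI := finite_integralClosure_quotient_minimalPrime R hfin q hq
    refine isConstructible_comap_image ?_
      (isConstructible_setOf_isGeomUnibranch_of_isDomain (R ⧸ q))
    refine RingHom.FinitePresentation.of_surjective _ Ideal.Quotient.mk_surjective ?_
    rw [Ideal.mk_ker]
    exact IsNoetherian.noetherian q

end Groth.Agent.H72.GUCons
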