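import Groth.Agent.H72.GUCons5

/-!
# The geometrically unibranch locus of a locally Noetherian scheme (EGA IV 9.7.10)

Library of helper72.
-/

set_option autoImplicit false

universe u

open AlgebraicGeometry CategoryTheory Topology

namespace Groth.Agent.H72.GUCons

open Groth.Agent.Lib.Helper61.GU

theorem isGeomUnibranch_stalk_iff {X : Scheme.{u}} (U : X.Opens) (hU : IsAffineOpen U) (z : U) :
    CAlg2.IsGeomUnibranch (X.presheaf.stalk z.1) ↔
      CAlg2.IsGeomUnibranch (Localization.AtPrime (hU.primeIdealOf z).asIdeal) := by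
  letI := TopCat.Presheaf.algebra_section_stalk X.presheaf z
  haveI : IsLocalization.AtPrime (X.presheaf.stalk z.1) (hU.primeIdealOf z).asIdeal :=
    hU.isLocalization_stalk z
  let e : Localization.AtPrime (hU.primeIdealOf z).asIdeal ≃+* X.presheaf.stalk z.1 :=
    (IsLocalization.algEquiv (hU.primeIdealOf z).asIdeal.primeCompl _ _).toRingEquiv
  exact ⟨isGeomUnibranch_of_ringEquiv' e.symm, isGeomUnibranch_of_ringEquiv' e⟩

/-- **EGA IV 9.7.10.** On a locally Noetherian scheme whose reduction has (affine-locally) a finite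
normalization, the geometrically unibranch locus is locally constructible. -/
theorem isLocallyConstructible_setOf_isGeomUnibranch (X : Scheme.{u}) [IsLocallyNoetherian X]
    (hfin : ∀ U : X.affineOpens, Module.Finite (CAlg2.red Γ(X, U.1)) (CAlg2.normRed Γ(X, U.1))) :
    IsLocallyConstructible {x : X | CAlg2.IsGeomUnibranch (X.presheaf.stalk x)} := by
  intro x
  obtain ⟨U, hU, hxU, -⟩ := exists_isAffineOpen_mem_and_subset (x := x) (U := ⊤) trivial
  refine ⟨U, U.2.mem_nhds hxU, U.2, ?_⟩
  haveI : IsNoetherianRing Γ(X, U) := IsLocallyNoetherian.component_noetherian ⟨U, hU⟩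
  have hcons := isConstructible_setOf_isGeomUnibranch Γ(X, U) (hfin ⟨U, hU⟩)
  have hemb : IsOpenEmbedding (hU.primeIdealOf) :=
    (Scheme.homeoOfIso hU.isoSpec).isOpenEmbedding
  have hset : (Subtype.val : U → X) ⁻¹' {x | CAlg2.IsGeomUnibranch (X.presheaf.stalk x)} =
      hU.primeIdealOf ⁻¹' {p : PrimeSpectrum Γ(X, U) |
        CAlg2.IsGeomUnibranch (Localization.AtPrime p.asIdeal)} := by
    ext z
    exact isGeomUnibranch_stalk_iff U hU z
  have h := hcons.preimage_of_isOpenEmbedding hemb
  rw [← hset] at h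
  exact h

end Groth.Agent.H72.GUCons
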