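import Groth.Agent.H72.GUPoly
import Groth.Agent.Lib.Helper61.GU13

/-!
# Geometrically unibranch points of a non-local ring: primes of the normalization

Library of helper72.  Let `R` be a ring with an abstract normalization `ρ : R → N` (integral,
nilpotent kernel, fraction extension, `N` an integrally closed domain) and `p` a prime of `R` such
that `R_p` is geometrically unibranch.  Then there is a unique prime of `N` over `p`, and its
residue ring is purely inseparable over `κ(p)` (in the fraction sense).  This is the non-local,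
non-Noetherian input for Chevalley's criterion for universal openness.
-/

set_option autoImplicit false

namespace Groth.Agent.H72.GUGlobal

open Groth.Agent.Lib.Helper38 Groth.Agent.Lib.Helper61.GU Groth.Agent.H72.GUPoly

universe u

section Abstract

variable {R N : Type u} [CommRing R] [CommRing N] [IsDomain N] [IsIntegrallyClosed N]
  (ρ : R →+* N) (hρint : ρ.IsIntegral) (hρker : ∀ a, ρ a = 0 → IsNilpotent a)
  (hρfrac : ∀ b : N, ∃ a c : R, ρ c ≠ 0 ∧ b * ρ c = ρ a)
  (p : Ideal R) [p.IsPrime]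

/-- The image of the complement of `p` in `N`. -/
abbrev M' : Submonoid N := p.primeCompl.map (ρ : R →* N)

/-- The localization of `N` at the image of the complement of `p`. -/
abbrev D : Type u := Localization (M' ρ p)

/-- The induced map `R_p → D`. -/
noncomputable def psi : Localization.AtPrime p →+* D ρ p :=
  IsLocalization.map (D ρ p) ρ (p.primeCompl.le_comap_map : _ ≤ Submonoid.comap (ρ : R →* N) _)

theorem psi_comp : (psi ρ p).comp (algebraMap R (Localization.AtPrime p)) =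
    (algebraMap N (D ρ p)).comp ρ :=
  IsLocalization.map_comp _

theorem psi_algebraMap (a : R) : psi ρ p (algebraMap R (Localization.AtPrime p) a) =
    algebraMap N (D ρ p) (ρ a) :=
  IsLocalization.map_eq _ a

include hρint in
theorem psi_isIntegral : (psi ρ p).IsIntegral :=
  isIntegral_localization' hρint p.primeCompl

include hρker in
theorem rho_ne_zero {s : R} (hs : s ∈ p.primeCompl) : ρ s ≠ 0 := by
  intro h0
  obtain ⟨n, hn⟩ := hρker s h0
  exact hs (Ideal.IsPrime.mem_of_pow_mem inferInstance n (by rw [hn]; exact p.zero_mem))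

include hρker in
theorem M'_le : M' ρ p ≤ nonZeroDivisors N := by
  rintro _ ⟨s, hs, rfl⟩
  exact mem_nonZeroDivisors_of_ne_zero (rho_ne_zero ρ hρker p hs)

include hρker in
theorem algebraMap_D_injective : Function.Injective (algebraMap N (D ρ p)) :=
  IsLocalization.injective _ (M'_le ρ hρker p)

include hρker in
theorem isDomain_D : IsDomain (D ρ p) :=
  IsLocalization.isDomain_of_le_nonZeroDivisors (D ρ p) (M'_le ρ hρker p)

include hρker in
theorem isIntegrallyClosed_D : IsIntegrallyClosed (D ρ p) :=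
  isIntegrallyClosed_of_isLocalization (D ρ p) (M' ρ p) (M'_le ρ hρker p)

include hρker in
theorem psi_ker (r : Localization.AtPrime p) (hr : psi ρ p r = 0) : IsNilpotent r := by
  obtain ⟨⟨a, s⟩, hs⟩ := IsLocalization.surj p.primeCompl r
  have h1 : algebraMap N (D ρ p) (ρ a) = 0 := by
    rw [← psi_algebraMap, ← hs, map_mul, hr, zero_mul]
  have h2 : ρ a = 0 := algebraMap_D_injective ρ hρker p (by rw [h1, map_zero])
  have h3 : IsNilpotent (r * algebraMap R (Localization.AtPrime p) s) := by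
    rw [hs]; exact (hρker a h2).map _
  obtain ⟨n, hn⟩ := h3
  refine ⟨n, ?_⟩
  have hu : IsUnit (algebraMap R (Localization.AtPrime p) s) := IsLocalization.map_units _ s
  rw [mul_pow] at hn
  exact (hu.pow n).mul_left_eq_zero.mp hn

include hρker hρfrac in
theorem psi_frac (d : D ρ p) : ∃ a c : Localization.AtPrime p, psi ρ p c ≠ 0 ∧
    d * psi ρ p c = psi ρ p a := by
  obtain ⟨⟨b, t⟩, ht⟩ := IsLocalization.surj (M' ρ p) d
  obtain ⟨s, hs, hst⟩ := t.2
  obtain ⟨a, c, hc, hac⟩ := hρfrac b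
  refine ⟨IsLocalization.mk' _ a ⟨s, hs⟩, algebraMap R _ c, ?_, ?_⟩
  · rw [psi_algebraMap]
    intro h0
    exact hc (algebraMap_D_injective ρ hρker p (by rw [h0, map_zero]))
  · have hu : IsUnit (algebraMap N (D ρ p) (ρ s)) :=
      IsLocalization.map_units (D ρ p) (⟨ρ s, s, hs, rfl⟩ : M' ρ p)
    apply hu.mul_left_injective
    have h1 : psi ρ p (IsLocalization.mk' (Localization.AtPrime p) a ⟨s, hs⟩) *
        algebraMap N (D ρ p) (ρ s) = algebraMap N (D ρ p) (ρ a) := by
      rw [← psi_algebraMap, ← map_mul, IsLocalization.mk'_spec, psi_algebraMap]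
    have h2 : d * algebraMap N (D ρ p) (ρ s) = algebraMap N (D ρ p) b := by
      rw [← ht]
      congr 2
    change d * psi ρ p (algebraMap R _ c) * algebraMap N (D ρ p) (ρ s) = _ * _
    rw [h1, psi_algebraMap, mul_right_comm, h2, ← map_mul, hac]

include hρint hρker hρfrac in
/-- `D` is the normalization of `(R_p)_red`. -/
theorem exists_equiv (hGU : CAlg2.IsGeomUnibranch (Localization.AtPrime p)) :
    ∃ e : D ρ p ≃+* CAlg2.normRed (Localization.AtPrime p),
      ∀ r : Localization.AtPrime p, e (psi ρ p r) = rho (Localization.AtPrime p) r := by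
  haveI : IsDomain (CAlg2.red (Localization.AtPrime p)) := hGU.1.1
  haveI := isDomain_D ρ hρker p
  haveI := isIntegrallyClosed_D ρ hρker p
  haveI : IsIntegrallyClosed (CAlg2.normRed (Localization.AtPrime p)) :=
    integralClosure.isIntegrallyClosedOfFiniteExtension
      (FractionRing (CAlg2.red (Localization.AtPrime p)))
  have hnil : ∀ a ∈ nilradical (Localization.AtPrime p), psi ρ p a = 0 :=
    fun a ha => ((mem_nilradical.mp ha).map (psi ρ p)).eq_zero
  obtain ⟨φ₁, hφ₁⟩ : ∃ φ₁ : CAlg2.red (Localization.AtPrime p) →+* D ρ p,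
      ∀ r, φ₁ (Ideal.Quotient.mk _ r) = psi ρ p r :=
    ⟨Ideal.Quotient.lift _ (psi ρ p) hnil, fun r => Ideal.Quotient.lift_mk _ _ _⟩
  have h₁ : IsFracExt φ₁ := by
    constructor
    · rw [injective_iff_map_eq_zero]
      intro x hx
      obtain ⟨r, rfl⟩ := Ideal.Quotient.mk_surjective x
      rw [hφ₁] at hx
      exact Ideal.Quotient.eq_zero_iff_mem.mpr (mem_nilradical.mpr (psi_ker ρ hρker p r hx))
    · intro d
      obtain ⟨a, c, hc, hac⟩ := psi_frac ρ hρker hρfrac p d
      refine ⟨Ideal.Quotient.mk _ a, Ideal.Quotient.mk _ c, ?_, ?_⟩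
      · intro h0
        apply hc
        rw [← hφ₁, h0, map_zero]
      · rw [hφ₁, hφ₁]
        exact hac
  have hi₁ : φ₁.IsIntegral := by
    apply RingHom.IsIntegral.tower_top (Ideal.Quotient.mk (nilradical (Localization.AtPrime p))) φ₁
    have : φ₁.comp (Ideal.Quotient.mk (nilradical (Localization.AtPrime p))) = psi ρ p := by
      ext r
      exact hφ₁ _
    rw [this]
    exact psi_isIntegral ρ hρint p
  obtain ⟨e, he⟩ := exists_ringEquiv_of_isFracExt φ₁ h₁ hi₁
    (algebraMap (CAlg2.red (Localization.AtPrime p)) (CAlg2.normRed (Localization.AtPrime p)))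
    (algebraMap_red_normRed_isFracExt _) (algebraMap_isIntegral_iff.mpr inferInstance)
  refine ⟨e, fun r => ?_⟩
  rw [← hφ₁, he]
  rfl

include hρint hρker hρfrac in
/-- **Primes of the normalization over a geometrically unibranch point**: there is a prime `𝔫`
of `N` such that every prime of `N` over `p` equals `𝔫`, and `N ⧸ 𝔫` is purely inseparable over
`κ(p)` in the fraction sense. -/
theorem exists_prime_data (hGU : CAlg2.IsGeomUnibranch (Localization.AtPrime p)) :
    ∃ (𝔫 : Ideal N) (q : ℕ), 𝔫.IsPrime ∧ ExpChar (N ⧸ 𝔫) q ∧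
      (∀ Q : Ideal N, Q.IsPrime → Q.comap ρ = p → Q = 𝔫) ∧
      ∀ x : N ⧸ 𝔫, ∃ (n : ℕ) (s r : R), s ∈ p.primeCompl ∧
        Ideal.Quotient.mk 𝔫 (ρ s) * x ^ q ^ n = Ideal.Quotient.mk 𝔫 (ρ r) := by
  obtain ⟨e, he⟩ := exists_equiv ρ hρint hρker hρfrac p hGU
  haveI : IsDomain (CAlg2.red (Localization.AtPrime p)) := hGU.1.1
  haveI : IsLocalRing (CAlg2.normRed (Localization.AtPrime p)) := hGU.1.2
  haveI := isDomain_D ρ hρker p
  obtain ⟨θ, hθ⟩ : ∃ θ : N →+* CAlg2.normRed (Localization.AtPrime p),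
      ∀ b, θ b = e (algebraMap N (D ρ p) b) :=
    ⟨(e : D ρ p →+* _).comp (algebraMap N (D ρ p)), fun b => rfl⟩
  have hθρ : ∀ a : R, θ (ρ a) = rho (Localization.AtPrime p) (algebraMap R _ a) := by
    intro a
    rw [hθ, ← psi_algebraMap, he]
  obtain ⟨m', hm'⟩ : ∃ m' : Ideal (CAlg2.normRed (Localization.AtPrime p)),
      m' = IsLocalRing.maximalIdeal _ := ⟨_, rfl⟩
  haveI hm'max : m'.IsMaximal := hm' ▸ IsLocalRing.maximalIdeal.isMaximal _
  have h𝔫prime : (m'.comap θ).IsPrime := Ideal.comap_isPrime θ m'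
  -- the injection of residue rings
  have hinj : Function.Injective (Ideal.quotientMap m' θ le_rfl) := Ideal.quotientMap_injective
  haveI hE1 : ExpChar (CAlg2.normRed (Localization.AtPrime p) ⧸ m')
      (ringExpChar (CAlg2.normRed (Localization.AtPrime p) ⧸ m')) := ringExpChar.expChar _
  have hE2 : ExpChar (N ⧸ m'.comap θ)
      (ringExpChar (CAlg2.normRed (Localization.AtPrime p) ⧸ m')) :=
    RingHom.expChar _ hinj _
  refine ⟨m'.comap θ, ringExpChar (CAlg2.normRed (Localization.AtPrime p) ⧸ m'), h𝔫prime, hE2,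
    ?_, ?_⟩
  · -- uniqueness
    intro Q hQ hQp
    have hdisj : Disjoint (M' ρ p : Set N) (Q : Set N) := by
      rw [Set.disjoint_left]
      rintro _ ⟨s, hs, rfl⟩ hsQ
      have : s ∈ Q.comap ρ := hsQ
      rw [hQp] at this
      exact hs this
    have hQ'prime : (Q.map (algebraMap N (D ρ p))).IsPrime :=
      IsLocalization.isPrime_of_isPrime_disjoint (M' ρ p) (D ρ p) Q hQ hdisj
    have hQ'under : (Q.map (algebraMap N (D ρ p))).comap (algebraMap N (D ρ p)) = Q :=
      IsLocalization.under_map_of_isPrime_disjoint (M' ρ p) (D ρ p) hQ hdisj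
    -- the prime of the normalization of `R_p`
    have hQ''prime : ((Q.map (algebraMap N (D ρ p))).comap
        (e.symm : CAlg2.normRed (Localization.AtPrime p) →+* D ρ p)).IsPrime :=
      Ideal.comap_isPrime _ _
    have hcomap : ((Q.map (algebraMap N (D ρ p))).comap
        (e.symm : CAlg2.normRed (Localization.AtPrime p) →+* D ρ p)).comap
          (rho (Localization.AtPrime p)) = IsLocalRing.maximalIdeal (Localization.AtPrime p) := by
      symm
      apply (IsLocalRing.maximalIdeal.isMaximal (Localization.AtPrime p)).eq_of_le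
        (Ideal.comap_isPrime _ _).ne_top
      intro r hr
      rw [Ideal.mem_comap, Ideal.mem_comap, ← he]
      change e.symm (e (psi ρ p r)) ∈ _
      rw [RingEquiv.symm_apply_apply]
      obtain ⟨⟨a, s⟩, hs⟩ := IsLocalization.surj p.primeCompl r
      have ha : a ∈ p := by
        rw [← IsLocalization.AtPrime.to_map_mem_maximal_iff (Localization.AtPrime p) p a, ← hs]
        exact Ideal.mul_mem_right _ _ hr
      have h1 : psi ρ p r * algebraMap N (D ρ p) (ρ s) = algebraMap N (D ρ p) (ρ a) := by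
        rw [← psi_algebraMap, ← psi_algebraMap, ← map_mul, hs]
      have h2 : algebraMap N (D ρ p) (ρ a) ∈ Q.map (algebraMap N (D ρ p)) := by
        apply Ideal.mem_map_of_mem
        have : a ∈ Q.comap ρ := by rw [hQp]; exact ha
        exact this
      rw [← h1] at h2
      rcases hQ'prime.mem_or_mem h2 with h | h
      · exact h
      · exfalso
        have hu : IsUnit (algebraMap N (D ρ p) (ρ s)) :=
          IsLocalization.map_units (D ρ p) (⟨ρ s, s, s.2, rfl⟩ : M' ρ p)
        exact hQ'prime.ne_top (Ideal.eq_top_of_isUnit_mem _ h hu)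
    have hmax : ((Q.map (algebraMap N (D ρ p))).comap
        (e.symm : CAlg2.normRed (Localization.AtPrime p) →+* D ρ p)).IsMaximal := by
      apply Ideal.isMaximal_of_isIntegral_of_isMaximal_comap' (rho (Localization.AtPrime p))
        rho_isIntegral
      rw [hcomap]
      exact IsLocalRing.maximalIdeal.isMaximal _
    have heq := IsLocalRing.eq_maximalIdeal hmax
    rw [← hm'] at heq
    rw [← heq]
    ext b
    rw [Ideal.mem_comap, Ideal.mem_comap, hθ]
    change b ∈ Q ↔ e.symm (e (algebraMap N (D ρ p) b)) ∈ _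
    rw [RingEquiv.symm_apply_apply]
    conv_lhs => rw [← hQ'under]
    rfl
  · -- pure inseparability
    intro x
    obtain ⟨b, rfl⟩ := Ideal.Quotient.mk_surjective x
    obtain ⟨n, r, hr⟩ := hGU.2 m' (Ideal.Quotient.mk m' (θ b))
    obtain ⟨⟨a, s⟩, hs⟩ := IsLocalization.surj p.primeCompl r
    refine ⟨n, s, a, s.2, ?_⟩
    have hr' : Ideal.Quotient.mk m' (rho _ r) = (Ideal.Quotient.mk m' (θ b)) ^
        (ringExpChar (CAlg2.normRed (Localization.AtPrime p) ⧸ m')) ^ n := hr
    apply hinj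
    rw [map_mul, map_pow, Ideal.quotientMap_mk, Ideal.quotientMap_mk, Ideal.quotientMap_mk,
      hθρ, hθρ, ← hs, map_mul, map_mul, ← hr']
    exact mul_comm (Ideal.Quotient.mk m' _) (Ideal.Quotient.mk m' _)

end Abstract

section PI

open MvPolynomial

variable {k k' : Type*} [CommRing k] [CommRing k'] (q : ℕ) [ExpChar k' q] (ψ : k →+* k')
  (S : Submonoid k) (σ : Type*)

include q in
/-- A purely inseparable type condition in the fraction sense passes to polynomial rings. -/
theorem exists_mul_pow_mem_range_map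
    (hpi : ∀ x : k', ∃ (n : ℕ) (s r : k), s ∈ S ∧ ψ s * x ^ q ^ n = ψ r)
    (f : MvPolynomial σ k') : ∃ (n : ℕ) (s : k) (g : MvPolynomial σ k), s ∈ S ∧
      C (ψ s) * f ^ q ^ n = MvPolynomial.map ψ g := by
  have hmono : ∀ (F : MvPolynomial σ k') (a b : ℕ), a ≤ b →
      (∃ (s : k) (g : MvPolynomial σ k), s ∈ S ∧ C (ψ s) * F ^ q ^ a = MvPolynomial.map ψ g) →
      ∃ (s : k) (g : MvPolynomial σ k), s ∈ S ∧ C (ψ s) * F ^ q ^ b = MvPolynomial.map ψ g := by
    rintro F a b hab ⟨s, g, hs, hg⟩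
    obtain ⟨c, rfl⟩ := Nat.exists_eq_add_of_le hab
    refine ⟨s ^ q ^ c, g ^ q ^ c, pow_mem hs _, ?_⟩
    rw [pow_add, pow_mul, map_pow, map_pow, map_pow, ← mul_pow, hg]
  induction f using MvPolynomial.induction_on with
  | C a =>
    obtain ⟨n, s, r, hs, hr⟩ := hpi a
    refine ⟨n, s, C r, hs, ?_⟩
    rw [map_C, ← hr, C_mul, C_pow]
  | add f g hf hg =>
    obtain ⟨a, ha⟩ := hf
    obtain ⟨b, hb⟩ := hg
    obtain ⟨s₁, g₁, hs₁, h₁⟩ := hmono f a _ (le_max_left a b) ha
    obtain ⟨s₂, g₂, hs₂, h₂⟩ := hmono g b _ (le_max_right a b) hb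
    refine ⟨max a b, s₁ * s₂, C s₂ * g₁ + C s₁ * g₂, mul_mem hs₁ hs₂, ?_⟩
    rw [add_pow_expChar_pow]
    simp only [map_add, map_mul, map_C, C_mul]
    rw [← h₁, ← h₂]
    ring
  | mul_X f i hf =>
    obtain ⟨a, s, g, hs, hg⟩ := hf
    refine ⟨a, s, g * X i ^ q ^ a, hs, ?_⟩
    rw [mul_pow, ← mul_assoc, hg, map_mul, map_pow, map_X]

end PI

section Unique

open MvPolynomial

variable {R N : Type*} [CommRing R] [CommRing N] (ρ : R →+* N) (𝔫 : Ideal N)
  (q : ℕ) [ExpChar (N ⧸ 𝔫) q] (S : Submonoid R) (σ : Type*)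

include q in
theorem le_of_comap_map_le'
    (hpi : ∀ x : N ⧸ 𝔫, ∃ (n : ℕ) (s r : R), s ∈ S ∧
      Ideal.Quotient.mk 𝔫 (ρ s) * x ^ q ^ n = Ideal.Quotient.mk 𝔫 (ρ r))
    (Q₁ Q₂ : Ideal (MvPolynomial σ N)) [Q₂.IsPrime]
    (h₁ : 𝔫.map (C (σ := σ)) ≤ Q₁) (h₂ : 𝔫.map (C (σ := σ)) ≤ Q₂)
    (hS : ∀ s ∈ S, C (ρ s) ∉ Q₂)
    (h : Q₁.comap (MvPolynomial.map (σ := σ) ρ) ≤ Q₂.comap (MvPolynomial.map (σ := σ) ρ)) :
    Q₁ ≤ Q₂ := by
  intro f hf
  obtain ⟨n, s, g, hs, hg⟩ := exists_mul_pow_mem_range_map q ((Ideal.Quotient.mk 𝔫).comp ρ) S σ hpi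
    (MvPolynomial.map (Ideal.Quotient.mk 𝔫) f)
  have hker : C (ρ s) * f ^ q ^ n - MvPolynomial.map ρ g ∈ 𝔫.map (C (σ := σ)) := by
    have h0 : MvPolynomial.map (Ideal.Quotient.mk 𝔫)
        (C (ρ s) * f ^ q ^ n - MvPolynomial.map ρ g) = 0 := by
      rw [map_sub, map_mul, map_pow, MvPolynomial.map_map, map_C]
      rw [RingHom.comp_apply] at hg
      rw [hg, sub_self]
    have h0' : C (ρ s) * f ^ q ^ n - MvPolynomial.map ρ g ∈
        RingHom.ker (MvPolynomial.map (σ := σ) (Ideal.Quotient.mk 𝔫)) := h0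
    rwa [MvPolynomial.ker_map, Ideal.mk_ker] at h0'
  have hg₁ : MvPolynomial.map ρ g ∈ Q₁ := by
    have := Q₁.sub_mem (Q₁.mul_mem_left (C (ρ s))
      (Q₁.pow_mem_of_mem hf (q ^ n) (expChar_pow_pos (N ⧸ 𝔫) q n))) (h₁ hker)
    rwa [sub_sub_cancel] at this
  have hg₂ : MvPolynomial.map ρ g ∈ Q₂ := h hg₁
  have hf₂ : C (ρ s) * f ^ q ^ n ∈ Q₂ := by
    have := Q₂.add_mem (h₂ hker) hg₂
    rwa [sub_add_cancel] at this
  rcases (inferInstance : Q₂.IsPrime).mem_or_mem hf₂ with h3 | h3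
  · exact absurd h3 (hS s hs)
  · exact Ideal.IsPrime.mem_of_pow_mem inferInstance _ h3

include q in
theorem eq_of_comap_map_eq'
    (hpi : ∀ x : N ⧸ 𝔫, ∃ (n : ℕ) (s r : R), s ∈ S ∧
      Ideal.Quotient.mk 𝔫 (ρ s) * x ^ q ^ n = Ideal.Quotient.mk 𝔫 (ρ r))
    (Q₁ Q₂ : Ideal (MvPolynomial σ N)) [Q₁.IsPrime] [Q₂.IsPrime]
    (h₁ : 𝔫.map (C (σ := σ)) ≤ Q₁) (h₂ : 𝔫.map (C (σ := σ)) ≤ Q₂)
    (hS₁ : ∀ s ∈ S, C (ρ s) ∉ Q₁) (hS₂ : ∀ s ∈ S, C (ρ s) ∉ Q₂)
    (h : Q₁.comap (MvPolynomial.map (σ := σ) ρ) = Q₂.comap (MvPolynomial.map (σ := σ) ρ)) :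
    Q₁ = Q₂ :=
  le_antisymm (le_of_comap_map_le' ρ 𝔫 q S σ hpi Q₁ Q₂ h₁ h₂ hS₂ h.le)
    (le_of_comap_map_le' ρ 𝔫 q S σ hpi Q₂ Q₁ h₂ h₁ hS₁ h.ge)

end Unique

end Groth.Agent.H72.GUGlobal
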