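import Groth.Agent.H72.GUPoly

/-!
# Quasi-finite algebras over polynomial rings over geometrically unibranch local rings

Library of helper72.  Generalisation of `GUPoly.isOpenAt_tensor_mvPolynomial` to the base ring
`A[σ₀]` (the algebraic core of Chevalley's criterion for universal openness, EGA IV 14.4.1).
-/

set_option autoImplicit false

namespace Groth.Agent.H72.GUPolyBase

open PrimeSpectrum EGA43 Topology MvPolynomial Groth.Agent.H72.GUPoly

universe u v w

section PI

variable {R N : Type*} [CommRing R] [CommRing N] (ρ : R →+* N) (m' : Ideal N)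
  (p : ℕ) [ExpChar (N ⧸ m') p] (σ₀ : Type*)

include p in
/-- The purely inseparable type condition passes to polynomial rings modulo the extended ideal. -/
theorem exists_pow_mem_range_quot
    [ExpChar (MvPolynomial σ₀ N ⧸ m'.map (C (σ := σ₀))) p]
    (hpi : ∀ x : N ⧸ m', ∃ n : ℕ, x ^ p ^ n ∈ ((Ideal.Quotient.mk m').comp ρ).range)
    (x : MvPolynomial σ₀ N ⧸ m'.map (C (σ := σ₀))) :
    ∃ n : ℕ, x ^ p ^ n ∈
      ((Ideal.Quotient.mk (m'.map (C (σ := σ₀)))).comp (MvPolynomial.map (σ := σ₀) ρ)).range := by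
  have hmono : ∀ (g : MvPolynomial σ₀ N ⧸ m'.map (C (σ := σ₀))) (a b : ℕ), a ≤ b →
      g ^ p ^ a ∈ ((Ideal.Quotient.mk (m'.map (C (σ := σ₀)))).comp
        (MvPolynomial.map (σ := σ₀) ρ)).range →
      g ^ p ^ b ∈ ((Ideal.Quotient.mk (m'.map (C (σ := σ₀)))).comp
        (MvPolynomial.map (σ := σ₀) ρ)).range := by
    intro g a b hab hg
    obtain ⟨c, rfl⟩ := Nat.exists_eq_add_of_le hab
    rw [pow_add, pow_mul]
    exact pow_mem hg _
  have key : ∀ F : MvPolynomial σ₀ N, ∃ n : ℕ,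
      (Ideal.Quotient.mk (m'.map (C (σ := σ₀))) F) ^ p ^ n ∈
        ((Ideal.Quotient.mk (m'.map (C (σ := σ₀)))).comp
          (MvPolynomial.map (σ := σ₀) ρ)).range := by
    intro F
    induction F using MvPolynomial.induction_on with
    | C a =>
      obtain ⟨n, r, hr⟩ := hpi (Ideal.Quotient.mk m' a)
      refine ⟨n, C r, ?_⟩
      rw [RingHom.comp_apply, map_C, ← map_pow, ← C_pow, Ideal.Quotient.eq, ← map_sub]
      apply Ideal.mem_map_of_mem
      rw [← Ideal.Quotient.eq, map_pow]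
      exact hr
    | add f g hf hg =>
      obtain ⟨a, ha⟩ := hf
      obtain ⟨b, hb⟩ := hg
      refine ⟨max a b, ?_⟩
      rw [map_add, add_pow_expChar_pow]
      exact add_mem (hmono _ a _ (le_max_left a b) ha) (hmono _ b _ (le_max_right a b) hb)
    | mul_X f i hf =>
      obtain ⟨a, ha⟩ := hf
      refine ⟨a, ?_⟩
      rw [map_mul, mul_pow]
      have hX : Ideal.Quotient.mk (m'.map (C (σ := σ₀))) (X i : MvPolynomial σ₀ N) ∈
          ((Ideal.Quotient.mk (m'.map (C (σ := σ₀)))).comp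
            (MvPolynomial.map (σ := σ₀) ρ)).range :=
        ⟨X i, by rw [RingHom.comp_apply, map_X]⟩
      exact mul_mem ha (pow_mem hX _)
  obtain ⟨F, rfl⟩ := Ideal.Quotient.mk_surjective x
  exact key F

/-- The quotient of the polynomial ring by the extended ideal has the same exponential
characteristic. -/
theorem expChar_quot_map_C [Nontrivial (N ⧸ m')] :
    ExpChar (MvPolynomial σ₀ N ⧸ m'.map (C (σ := σ₀))) p := by
  let θ : N ⧸ m' →+* MvPolynomial σ₀ N ⧸ m'.map (C (σ := σ₀)) :=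
    Ideal.quotientMap _ (C (σ := σ₀)) Ideal.le_comap_map
  have hθ : Function.Injective θ := by
    rw [injective_iff_map_eq_zero]
    intro x hx
    obtain ⟨a, rfl⟩ := Ideal.Quotient.mk_surjective x
    rw [Ideal.quotientMap_mk, Ideal.Quotient.eq_zero_iff_mem, MvPolynomial.mem_map_C_iff] at hx
    have := hx 0
    rw [coeff_zero_C] at this
    exact Ideal.Quotient.eq_zero_iff_mem.mpr this
  exact expChar_of_injective_ringHom hθ p

end PI

section Key

variable {A : Type u} [CommRing A] [IsLocalRing A]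

/-- Abstract form of the key local statement: `ρ : A → N'` plays the role of the normalization of
`A_red`. -/
theorem isOpenAt_mvPolynomial₂_aux {N' : Type*} [CommRing N'] [IsDomain N'] [IsIntegrallyClosed N']
    [IsLocalRing N'] (ρ : A →+* N') (hρint : ρ.IsIntegral) (hρker : ∀ a, ρ a = 0 → IsNilpotent a)
    (hρfrac : ∀ b : N', ∃ a c : A, ρ c ≠ 0 ∧ b * ρ c = ρ a)
    (p : ℕ) [ExpChar (N' ⧸ IsLocalRing.maximalIdeal N') p]
    (hpi : ∀ x : N' ⧸ IsLocalRing.maximalIdeal N', ∃ n : ℕ,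
      x ^ p ^ n ∈ ((Ideal.Quotient.mk (IsLocalRing.maximalIdeal N')).comp ρ).range)
    (σ₀ : Type v) (σ : Type w)
    {ℬ : Type*} [CommRing ℬ] [Algebra (MvPolynomial σ (MvPolynomial σ₀ A)) ℬ]
    [Algebra.FiniteType (MvPolynomial σ (MvPolynomial σ₀ A)) ℬ]
    (z P' : PrimeSpectrum ℬ)
    [Algebra.QuasiFiniteAt (MvPolynomial σ (MvPolynomial σ₀ A)) z.asIdeal]
    (hPz : P'.asIdeal ≤ z.asIdeal)
    (hPnil : ∀ a : MvPolynomial σ (MvPolynomial σ₀ A),
      algebraMap (MvPolynomial σ (MvPolynomial σ₀ A)) ℬ a ∈ P'.asIdeal → IsNilpotent a)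
    (hz : z.asIdeal.comap ((algebraMap (MvPolynomial σ (MvPolynomial σ₀ A)) ℬ).comp
      ((C (σ := σ)).comp (C (σ := σ₀)))) = IsLocalRing.maximalIdeal A) :
    IsOpenAt (comap (algebraMap (MvPolynomial σ (MvPolynomial σ₀ A)) ℬ)) z := by
  haveI : IsIntegrallyClosed (MvPolynomial σ₀ N') := isIntegrallyClosed_mvPolynomial σ₀
  haveI : IsIntegrallyClosed (MvPolynomial σ (MvPolynomial σ₀ N')) :=
    isIntegrallyClosed_mvPolynomial σ
  have hi1 := map_isIntegral _ σ (map_isIntegral ρ σ₀ hρint)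
  have hi2 := isNilpotent_of_map_eq_zero _ σ (isNilpotent_of_map_eq_zero ρ σ₀ hρker)
  have hi3 := frac_mvPolynomial _ σ (frac_mvPolynomial ρ σ₀ hρfrac)
  refine ZMTOpen.isOpenAt_of_quasiFiniteAt
    (N := MvPolynomial σ (MvPolynomial σ₀ N')) z P' hPz hPnil
    (MvPolynomial.map (MvPolynomial.map ρ)) hi1 hi2 hi3 ?_
  intro n₁ n₂ h₁ h₂
  let m' := IsLocalRing.maximalIdeal N'
  haveI : ExpChar (MvPolynomial σ₀ N' ⧸ m'.map (C (σ := σ₀))) p := expChar_quot_map_C m' p σ₀
  have hpi' := exists_pow_mem_range_quot ρ m' p σ₀ hpi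
  have hover : ∀ n : PrimeSpectrum (MvPolynomial σ (MvPolynomial σ₀ N')),
      comap (MvPolynomial.map (MvPolynomial.map ρ)) n =
        comap (algebraMap (MvPolynomial σ (MvPolynomial σ₀ A)) ℬ) z →
      (m'.map (C (σ := σ₀))).map (C (σ := σ)) ≤ n.asIdeal := by
    intro n hn
    rw [Ideal.map_le_iff_le_comap, Ideal.map_le_iff_le_comap, Ideal.comap_comap]
    have hprime : (n.asIdeal.comap ((C (σ := σ)).comp (C (σ := σ₀)))).IsPrime :=
      Ideal.comap_isPrime _ _
    have hcontr : (n.asIdeal.comap ((C (σ := σ)).comp (C (σ := σ₀)))).comap ρ =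
        IsLocalRing.maximalIdeal A := by
      rw [← hz]
      have h3 := congrArg (fun t : PrimeSpectrum (MvPolynomial σ (MvPolynomial σ₀ A)) =>
        t.asIdeal.comap ((C (σ := σ)).comp (C (σ := σ₀)))) hn
      simp only [comap_asIdeal, Ideal.comap_comap] at h3 ⊢
      have e1 : (MvPolynomial.map (MvPolynomial.map ρ)).comp
          ((C (σ := σ)).comp (C (σ := σ₀))) =
          ((C (σ := σ)).comp (C (σ := σ₀))).comp ρ := by
        ext a
        simp
      rw [e1] at h3
      exact h3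
    have hmax : (n.asIdeal.comap ((C (σ := σ)).comp (C (σ := σ₀)))).IsMaximal := by
      algebraize [ρ]
      haveI : Algebra.IsIntegral A N' := ⟨hρint⟩
      apply Ideal.isMaximal_of_isIntegral_of_isMaximal_comap (R := A)
      change ((n.asIdeal.comap ((C (σ := σ)).comp (C (σ := σ₀)))).comap ρ).IsMaximal
      rw [hcontr]
      exact IsLocalRing.maximalIdeal.isMaximal A
    exact (IsLocalRing.eq_maximalIdeal hmax).ge
  apply PrimeSpectrum.ext
  refine eq_of_comap_map_eq (MvPolynomial.map ρ) (m'.map (C (σ := σ₀))) p σ hpi'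
    n₁.asIdeal n₂.asIdeal (hover n₁ h₁) (hover n₂ h₂) ?_
  exact congrArg PrimeSpectrum.asIdeal (h₁.trans h₂.symm)

/-- **Key local statement, general form**: over a geometrically unibranch local ring `A`, a finite
type algebra `ℬ` over the polynomial ring `A[σ₀][σ]`, quasi-finite at a prime `z` lying over the
closed point of `A` and containing a prime lying over the generic point of `A[σ₀][σ]`, is open
at `z`. -/
theorem isOpenAt_mvPolynomial₂ (hA : CAlg2.IsGeomUnibranch A) (σ₀ : Type v) (σ : Type w)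
    {ℬ : Type*} [CommRing ℬ] [Algebra (MvPolynomial σ (MvPolynomial σ₀ A)) ℬ]
    [Algebra.FiniteType (MvPolynomial σ (MvPolynomial σ₀ A)) ℬ]
    (z P' : PrimeSpectrum ℬ)
    [Algebra.QuasiFiniteAt (MvPolynomial σ (MvPolynomial σ₀ A)) z.asIdeal]
    (hPz : P'.asIdeal ≤ z.asIdeal)
    (hPnil : ∀ a : MvPolynomial σ (MvPolynomial σ₀ A),
      algebraMap (MvPolynomial σ (MvPolynomial σ₀ A)) ℬ a ∈ P'.asIdeal → IsNilpotent a)
    (hz : z.asIdeal.comap ((algebraMap (MvPolynomial σ (MvPolynomial σ₀ A)) ℬ).comp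
      ((C (σ := σ)).comp (C (σ := σ₀)))) = IsLocalRing.maximalIdeal A) :
    IsOpenAt (comap (algebraMap (MvPolynomial σ (MvPolynomial σ₀ A)) ℬ)) z := by
  haveI : IsDomain (CAlg2.red A) := hA.1.1
  haveI : IsLocalRing (CAlg2.normRed A) := hA.1.2
  haveI : IsIntegrallyClosed (CAlg2.normRed A) :=
    integralClosure.isIntegrallyClosedOfFiniteExtension (FractionRing (CAlg2.red A))
  haveI : ExpChar (CAlg2.normRed A ⧸ IsLocalRing.maximalIdeal (CAlg2.normRed A))
      (ringExpChar (CAlg2.normRed A ⧸ IsLocalRing.maximalIdeal (CAlg2.normRed A))) :=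
    ringExpChar.expChar _
  exact isOpenAt_mvPolynomial₂_aux (rho A) rho_isIntegral isNilpotent_of_rho_eq_zero rho_frac
    (ringExpChar (CAlg2.normRed A ⧸ IsLocalRing.maximalIdeal (CAlg2.normRed A)))
    (hA.2 (IsLocalRing.maximalIdeal (CAlg2.normRed A))) σ₀ σ z P' hPz hPnil hz

end Key

section Tensor

open scoped TensorProduct
open Algebra.TensorProduct

attribute [local instance] MvPolynomial.algebraMvPolynomial in
/-- The prime `P ⊗ R[σ]` of `R[σ] ⊗ B` (no hypothesis on `R`). -/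
theorem exists_prime_tensor_mvPolynomial' {R : Type u} [CommRing R] {B : Type u} [CommRing B]
    [Algebra R B] (σ : Type v) (P : PrimeSpectrum B) :
    ∃ P' : PrimeSpectrum (MvPolynomial σ R ⊗[R] B),
      P'.asIdeal = P.asIdeal.map
        (includeRight : B →ₐ[R] MvPolynomial σ R ⊗[R] B) ∧
      ∀ a : MvPolynomial σ R, algebraMap (MvPolynomial σ R) (MvPolynomial σ R ⊗[R] B) a ∈
        P'.asIdeal → MvPolynomial.map (algebraMap R (B ⧸ P.asIdeal)) a = 0 := by
  let D := B ⧸ P.asIdeal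
  let mkP : B →ₐ[R] D := Ideal.Quotient.mkₐ R P.asIdeal
  let Ψ₁ : MvPolynomial σ R ⊗[R] B →ₐ[MvPolynomial σ R] MvPolynomial σ R ⊗[R] D :=
    Algebra.TensorProduct.map (AlgHom.id (MvPolynomial σ R) (MvPolynomial σ R)) mkP
  let e : MvPolynomial σ R ⊗[R] D ≃ₐ[MvPolynomial σ R] MvPolynomial σ D :=
    Algebra.IsPushout.equiv R (MvPolynomial σ R) D (MvPolynomial σ D)
  let Ψ : MvPolynomial σ R ⊗[R] B →ₐ[MvPolynomial σ R] MvPolynomial σ D :=
    e.toAlgHom.comp Ψ₁
  have hker : RingHom.ker Ψ = P.asIdeal.map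
      (includeRight : B →ₐ[R] MvPolynomial σ R ⊗[R] B) := by
    have h1 : RingHom.ker Ψ = RingHom.ker Ψ₁ := by
      ext t
      simp only [RingHom.mem_ker]
      change e (Ψ₁ t) = 0 ↔ Ψ₁ t = 0
      exact e.map_eq_zero_iff
    rw [h1]
    have h2 := Algebra.TensorProduct.lTensor_ker (A := MvPolynomial σ R) (R := R) mkP
      (Ideal.Quotient.mkₐ_surjective R P.asIdeal)
    have h3 : RingHom.ker mkP = P.asIdeal := Ideal.Quotient.mkₐ_ker R P.asIdeal
    rw [h3] at h2
    exact h2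
  refine ⟨⟨RingHom.ker Ψ, RingHom.ker_isPrime Ψ.toRingHom⟩, hker, ?_⟩
  intro a ha
  have h4 : Ψ (algebraMap _ _ a) = 0 := ha
  rw [AlgHom.commutes, MvPolynomial.algebraMap_def] at h4
  exact h4

variable {A : Type u} [CommRing A] [IsLocalRing A] (σ₀ : Type u)
  {B : Type u} [CommRing B] [Algebra (MvPolynomial σ₀ A) B]

/-- **Key local statement over `A[σ₀]`**: over `R = A[σ₀]`, `A` geometrically unibranch local,
a finite type `R`-algebra `B` which is quasi-finite at a prime `q` over the closed point of `A`,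
such that `q` contains a prime lying over the generic point of `Spec R`, is universally open at
`q` with respect to polynomial base changes. -/
theorem isOpenAt_tensor_mvPolynomial_base [Algebra.FiniteType (MvPolynomial σ₀ A) B]
    (hA : CAlg2.IsGeomUnibranch A)
    (q P : PrimeSpectrum B) [Algebra.QuasiFiniteAt (MvPolynomial σ₀ A) q.asIdeal]
    (hq : q.asIdeal.comap ((algebraMap (MvPolynomial σ₀ A) B).comp (C (σ := σ₀))) =
      IsLocalRing.maximalIdeal A)
    (hPq : P.asIdeal ≤ q.asIdeal)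
    (hP : ∀ a : MvPolynomial σ₀ A, algebraMap (MvPolynomial σ₀ A) B a ∈ P.asIdeal → IsNilpotent a)
    (σ : Type v) (z : PrimeSpectrum (MvPolynomial σ (MvPolynomial σ₀ A) ⊗[MvPolynomial σ₀ A] B))
    (hz : comap (includeRight : B →ₐ[MvPolynomial σ₀ A]
      MvPolynomial σ (MvPolynomial σ₀ A) ⊗[MvPolynomial σ₀ A] B).toRingHom z = q) :
    IsOpenAt (comap (algebraMap (MvPolynomial σ (MvPolynomial σ₀ A))
      (MvPolynomial σ (MvPolynomial σ₀ A) ⊗[MvPolynomial σ₀ A] B))) z := by
  have h0 : q.asIdeal = z.asIdeal.comap (includeRight : B →ₐ[MvPolynomial σ₀ A]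
      MvPolynomial σ (MvPolynomial σ₀ A) ⊗[MvPolynomial σ₀ A] B).toRingHom := by
    rw [← hz]; rfl
  haveI := Algebra.QuasiFiniteAt.baseChange (R := MvPolynomial σ₀ A) (S := B) q.asIdeal
    (A := MvPolynomial σ (MvPolynomial σ₀ A)) z.asIdeal h0
  obtain ⟨P', hP'1, hP'2⟩ := exists_prime_tensor_mvPolynomial' (R := MvPolynomial σ₀ A) σ P
  refine isOpenAt_mvPolynomial₂ hA σ₀ σ z P' ?_ ?_ ?_
  · rw [hP'1, Ideal.map_le_iff_le_comap]
    intro b hb
    have := hPq hb
    rw [← hz] at this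
    exact this
  · intro a ha
    have h1 := hP'2 a ha
    apply isNilpotent_of_map_eq_zero (algebraMap (MvPolynomial σ₀ A) (B ⧸ P.asIdeal)) σ _ a h1
    intro x hx
    apply hP
    rw [IsScalarTower.algebraMap_apply (MvPolynomial σ₀ A) B (B ⧸ P.asIdeal),
      Ideal.Quotient.algebraMap_eq, Ideal.Quotient.eq_zero_iff_mem] at hx
    exact hx
  · rw [← hq, ← hz]
    have e2 : (algebraMap (MvPolynomial σ (MvPolynomial σ₀ A))
        (MvPolynomial σ (MvPolynomial σ₀ A) ⊗[MvPolynomial σ₀ A] B)).comp (C (σ := σ)) =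
        ((includeRight : B →ₐ[MvPolynomial σ₀ A]
          MvPolynomial σ (MvPolynomial σ₀ A) ⊗[MvPolynomial σ₀ A] B).toRingHom).comp
          (algebraMap (MvPolynomial σ₀ A) B) := by
      ext a
      · change (C (C a) : MvPolynomial σ (MvPolynomial σ₀ A)) ⊗ₜ[MvPolynomial σ₀ A] (1 : B) =
          (1 : MvPolynomial σ (MvPolynomial σ₀ A)) ⊗ₜ[MvPolynomial σ₀ A]
            algebraMap (MvPolynomial σ₀ A) B (C a)
        rw [Algebra.algebraMap_eq_smul_one, ← TensorProduct.smul_tmul,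
          MvPolynomial.smul_eq_C_mul, mul_one]
      · change (C (X _) : MvPolynomial σ (MvPolynomial σ₀ A)) ⊗ₜ[MvPolynomial σ₀ A] (1 : B) =
          (1 : MvPolynomial σ (MvPolynomial σ₀ A)) ⊗ₜ[MvPolynomial σ₀ A]
            algebraMap (MvPolynomial σ₀ A) B (X _)
        rw [Algebra.algebraMap_eq_smul_one, ← TensorProduct.smul_tmul,
          MvPolynomial.smul_eq_C_mul, mul_one]
    rw [← RingHom.comp_assoc, e2]
    simp only [comap_asIdeal, Ideal.comap_comap]
    rfl

end Tensor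

end Groth.Agent.H72.GUPolyBase
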