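import Groth.Agent.H72.GUGlobal
import Groth.Agent.H72.GUPolyBase

/-!
# Quasi-finite algebras over a ring at a geometrically unibranch point: universal openness

Library of helper72.  Non-local, non-Noetherian version of `GUPoly.isOpenAt_tensor_mvPolynomial`.
-/

set_option autoImplicit false

namespace Groth.Agent.H72.GUGlobal

open PrimeSpectrum EGA43 Topology MvPolynomial Groth.Agent.H72.GUPoly Groth.Agent.H72.GUPolyBase
open scoped TensorProduct
open Algebra.TensorProduct

universe u v

/-- **Key statement, global form**: `B` a finite type `R`-algebra, quasi-finite at a prime `q`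
lying over a prime `p` of `R` with `R_p` geometrically unibranch, such that `q` contains a prime
`P` lying over the generic point of `Spec R` (in particular `Spec R` is irreducible).  Then
`Spec B → Spec R` is universally open at `q` with respect to polynomial base changes. -/
theorem isOpenAt_tensor_mvPolynomial_global {R B : Type u} [CommRing R] [CommRing B] [Algebra R B]
    [Algebra.FiniteType R B] (q P : PrimeSpectrum B) [Algebra.QuasiFiniteAt R q.asIdeal]
    (p : Ideal R) [p.IsPrime] (hq : q.asIdeal.comap (algebraMap R B) = p)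
    (hGU : CAlg2.IsGeomUnibranch (Localization.AtPrime p))
    (hPq : P.asIdeal ≤ q.asIdeal)
    (hP : ∀ a : R, algebraMap R B a ∈ P.asIdeal → IsNilpotent a)
    (σ : Type v) (z : PrimeSpectrum (MvPolynomial σ R ⊗[R] B))
    (hz : comap (includeRight : B →ₐ[R] MvPolynomial σ R ⊗[R] B).toRingHom z = q) :
    IsOpenAt (comap (algebraMap (MvPolynomial σ R) (MvPolynomial σ R ⊗[R] B))) z := by
  have hnil : nilradical R = P.asIdeal.comap (algebraMap R B) := by
    apply le_antisymm
    · exact nilradical_le_prime _
    · intro a ha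
      exact mem_nilradical.mpr (hP a ha)
  have hnp : (nilradical R).IsPrime := hnil ▸ Ideal.comap_isPrime _ _
  haveI : IsDomain (CAlg2.red R) := (Ideal.Quotient.isDomain_iff_prime _).mpr hnp
  haveI : IsIntegrallyClosed (CAlg2.normRed R) :=
    integralClosure.isIntegrallyClosedOfFiniteExtension (FractionRing (CAlg2.red R))
  haveI : IsIntegrallyClosed (MvPolynomial σ (CAlg2.normRed R)) :=
    isIntegrallyClosed_mvPolynomial σ
  haveI : Algebra.QuasiFiniteAt (MvPolynomial σ R) z.asIdeal :=
    Algebra.QuasiFiniteAt.baseChange q.asIdeal z.asIdeal (by rw [← hz]; rfl)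
  obtain ⟨P', hP'1, hP'2⟩ := exists_prime_tensor_mvPolynomial' (R := R) σ P
  have hi1 := map_isIntegral (rho R) σ rho_isIntegral
  have hi2 := isNilpotent_of_map_eq_zero (rho R) σ isNilpotent_of_rho_eq_zero
  have hi3 := frac_mvPolynomial (rho R) σ rho_frac
  obtain ⟨𝔫, q₀, h𝔫, hE, huniq, hpi⟩ := exists_prime_data (rho R) rho_isIntegral
    isNilpotent_of_rho_eq_zero rho_frac p hGU
  refine ZMTOpen.isOpenAt_of_quasiFiniteAt (N := MvPolynomial σ (CAlg2.normRed R)) z P' ?_ ?_
    (MvPolynomial.map (rho R)) hi1 hi2 hi3 ?_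
  · rw [hP'1, Ideal.map_le_iff_le_comap]
    intro b hb
    have := hPq hb
    rw [← hz] at this
    exact this
  · intro a ha
    have h1 := hP'2 a ha
    apply isNilpotent_of_map_eq_zero (algebraMap R (B ⧸ P.asIdeal)) σ _ a h1
    intro x hx
    apply hP
    rw [IsScalarTower.algebraMap_apply R B (B ⧸ P.asIdeal), Ideal.Quotient.algebraMap_eq,
      Ideal.Quotient.eq_zero_iff_mem] at hx
    exact hx
  · intro n₁ n₂ h₁ h₂
    have hover : ∀ n : PrimeSpectrum (MvPolynomial σ (CAlg2.normRed R)),
        comap (MvPolynomial.map (rho R)) n =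
          comap (algebraMap (MvPolynomial σ R) (MvPolynomial σ R ⊗[R] B)) z →
        (n.asIdeal.comap (C (σ := σ))).comap (rho R) = p := by
      intro n hn
      rw [← hq, ← hz]
      have h3 := congrArg (fun t : PrimeSpectrum (MvPolynomial σ R) =>
        t.asIdeal.comap (C (σ := σ))) hn
      simp only [comap_asIdeal, Ideal.comap_comap] at h3 ⊢
      have e1 : (MvPolynomial.map (rho R)).comp (C (σ := σ)) = (C (σ := σ)).comp (rho R) := by
        ext a
        simp
      have e2 : (algebraMap (MvPolynomial σ R) (MvPolynomial σ R ⊗[R] B)).comp (C (σ := σ)) =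
          ((includeRight : B →ₐ[R] MvPolynomial σ R ⊗[R] B).toRingHom).comp
            (algebraMap R B) := by
        ext a
        change (C a : MvPolynomial σ R) ⊗ₜ[R] (1 : B) = (1 : MvPolynomial σ R) ⊗ₜ[R] algebraMap R B a
        rw [Algebra.algebraMap_eq_smul_one, ← TensorProduct.smul_tmul, MvPolynomial.smul_eq_C_mul,
          mul_one]
      rw [e1, e2] at h3
      exact h3
    have hle : ∀ n : PrimeSpectrum (MvPolynomial σ (CAlg2.normRed R)),
        comap (MvPolynomial.map (rho R)) n =
          comap (algebraMap (MvPolynomial σ R) (MvPolynomial σ R ⊗[R] B)) z →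
        𝔫.map (C (σ := σ)) ≤ n.asIdeal := by
      intro n hn
      rw [Ideal.map_le_iff_le_comap, ← huniq _ (Ideal.comap_isPrime _ _) (hover n hn)]
    have hS : ∀ n : PrimeSpectrum (MvPolynomial σ (CAlg2.normRed R)),
        comap (MvPolynomial.map (rho R)) n =
          comap (algebraMap (MvPolynomial σ R) (MvPolynomial σ R ⊗[R] B)) z →
        ∀ s ∈ p.primeCompl, C (rho R s) ∉ n.asIdeal := by
      intro n hn s hs hmem
      apply hs
      rw [← hover n hn]
      exact hmem
    apply PrimeSpectrum.ext
    refine eq_of_comap_map_eq' (rho R) 𝔫 q₀ p.primeCompl σ hpi n₁.asIdeal n₂.asIdeal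
      (hle n₁ h₁) (hle n₂ h₂) (hS n₁ h₁) (hS n₂ h₂) ?_
    exact congrArg PrimeSpectrum.asIdeal (h₁.trans h₂.symm)

end Groth.Agent.H72.GUGlobal
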