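import Groth.Agent.H72.ZMTOpen
import Groth.Prelude.Def_CAlg2

/-!
# Polynomial rings over geometrically unibranch local rings

Library of helper72.
-/

set_option autoImplicit false

namespace Groth.Agent.H72.GUPoly

open PrimeSpectrum EGA43 Topology MvPolynomial

universe u v

section PI

variable {k k' : Type*} [CommRing k] [CommRing k'] (p : ℕ) [ExpChar k' p] (ψ : k →+* k')
  (σ : Type*)

include p in
/-- A purely inseparable type condition passes to polynomial rings. -/
theorem exists_pow_mem_range_map (hpi : ∀ x : k', ∃ n : ℕ, x ^ p ^ n ∈ ψ.range)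
    (f : MvPolynomial σ k') : ∃ n : ℕ, f ^ p ^ n ∈ (MvPolynomial.map (σ := σ) ψ).range := by
  have hmono : ∀ (g : MvPolynomial σ k') (a b : ℕ), a ≤ b →
      g ^ p ^ a ∈ (MvPolynomial.map (σ := σ) ψ).range →
      g ^ p ^ b ∈ (MvPolynomial.map (σ := σ) ψ).range := by
    intro g a b hab hg
    obtain ⟨c, rfl⟩ := Nat.exists_eq_add_of_le hab
    rw [pow_add, pow_mul]
    exact pow_mem hg _
  induction f using MvPolynomial.induction_on with
  | C a =>
    obtain ⟨n, r, hr⟩ := hpi a
    refine ⟨n, C r, ?_⟩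
    rw [map_C, hr, C_pow]
  | add f g hf hg =>
    obtain ⟨a, ha⟩ := hf
    obtain ⟨b, hb⟩ := hg
    refine ⟨max a b, ?_⟩
    rw [add_pow_expChar_pow]
    exact add_mem (hmono f a _ (le_max_left a b) ha) (hmono g b _ (le_max_right a b) hb)
  | mul_X f i hf =>
    obtain ⟨a, ha⟩ := hf
    refine ⟨a, ?_⟩
    rw [mul_pow]
    have hX : (X i : MvPolynomial σ k') ∈ (MvPolynomial.map (σ := σ) ψ).range :=
      ⟨X i, map_X _ _⟩
    exact mul_mem ha (pow_mem hX _)

end PI


section Unique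

variable {R N : Type*} [CommRing R] [CommRing N] (ρ : R →+* N) (𝔫 : Ideal N)
  (p : ℕ) [ExpChar (N ⧸ 𝔫) p] (σ : Type*)

include p in
theorem le_of_comap_map_le
    (hpi : ∀ x : N ⧸ 𝔫, ∃ n : ℕ, x ^ p ^ n ∈ ((Ideal.Quotient.mk 𝔫).comp ρ).range)
    (Q₁ Q₂ : Ideal (MvPolynomial σ N)) [Q₂.IsPrime]
    (h₁ : 𝔫.map (C (σ := σ)) ≤ Q₁) (h₂ : 𝔫.map (C (σ := σ)) ≤ Q₂)
    (h : Q₁.comap (MvPolynomial.map (σ := σ) ρ) ≤ Q₂.comap (MvPolynomial.map (σ := σ) ρ)) :
    Q₁ ≤ Q₂ := by
  intro f hf
  obtain ⟨n, g, hg⟩ := exists_pow_mem_range_map p ((Ideal.Quotient.mk 𝔫).comp ρ) σ hpi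
    (MvPolynomial.map (Ideal.Quotient.mk 𝔫) f)
  have hker : f ^ p ^ n - MvPolynomial.map ρ g ∈ 𝔫.map (C (σ := σ)) := by
    have h0 : MvPolynomial.map (Ideal.Quotient.mk 𝔫) (f ^ p ^ n - MvPolynomial.map ρ g) = 0 := by
      rw [map_sub, map_pow, MvPolynomial.map_map, hg, sub_self]
    have h0' : f ^ p ^ n - MvPolynomial.map ρ g ∈
        RingHom.ker (MvPolynomial.map (σ := σ) (Ideal.Quotient.mk 𝔫)) := h0
    rwa [MvPolynomial.ker_map, Ideal.mk_ker] at h0'
  have hg₁ : MvPolynomial.map ρ g ∈ Q₁ := by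
    have := Q₁.sub_mem (Q₁.pow_mem_of_mem hf (p ^ n) (expChar_pow_pos (N ⧸ 𝔫) p n)) (h₁ hker)
    rwa [sub_sub_cancel] at this
  have hg₂ : MvPolynomial.map ρ g ∈ Q₂ := h hg₁
  have hf₂ : f ^ p ^ n ∈ Q₂ := by
    have := Q₂.add_mem (h₂ hker) hg₂
    rwa [sub_add_cancel] at this
  exact Ideal.IsPrime.mem_of_pow_mem inferInstance _ hf₂

include p in
theorem eq_of_comap_map_eq
    (hpi : ∀ x : N ⧸ 𝔫, ∃ n : ℕ, x ^ p ^ n ∈ ((Ideal.Quotient.mk 𝔫).comp ρ).range)
    (Q₁ Q₂ : Ideal (MvPolynomial σ N)) [Q₁.IsPrime] [Q₂.IsPrime]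
    (h₁ : 𝔫.map (C (σ := σ)) ≤ Q₁) (h₂ : 𝔫.map (C (σ := σ)) ≤ Q₂)
    (h : Q₁.comap (MvPolynomial.map (σ := σ) ρ) = Q₂.comap (MvPolynomial.map (σ := σ) ρ)) :
    Q₁ = Q₂ :=
  le_antisymm (le_of_comap_map_le ρ 𝔫 p σ hpi Q₁ Q₂ h₁ h₂ h.le)
    (le_of_comap_map_le ρ 𝔫 p σ hpi Q₂ Q₁ h₂ h₁ h.ge)

end Unique


section PolyLemmas

variable {R N : Type*} [CommRing R] [CommRing N] (ρ : R →+* N) (σ : Type*)

attribute [local instance] MvPolynomial.algebraMvPolynomial in
/-- Polynomial rings over integrally closed domains are integrally closed. -/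
theorem isIntegrallyClosed_mvPolynomial [IsDomain N] [IsIntegrallyClosed N] :
    IsIntegrallyClosed (MvPolynomial σ N) := by
  let K := FractionRing N
  have : IsIntegrallyClosed (MvPolynomial σ K) := UniqueFactorizationMonoid.instIsIntegrallyClosed
  suffices IsIntegrallyClosedIn (MvPolynomial σ N) (MvPolynomial σ K) from
    .of_isIntegrallyClosed_of_isIntegrallyClosedIn _ (MvPolynomial σ K)
  refine isIntegrallyClosedIn_iff.mpr ⟨MvPolynomial.map_injective _ (IsFractionRing.injective _ _),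
    ?_⟩
  intro f hf
  have hc := MvPolynomial.isIntegral_iff_isIntegral_coeff.mp hf
  have hc' : ∀ n, ∃ a : N, algebraMap N K a = f.coeff n :=
    fun n => IsIntegrallyClosed.isIntegral_iff.mp (hc n)
  choose c hc'' using hc'
  classical
  refine ⟨∑ n ∈ f.support, monomial n (c n), ?_⟩
  rw [MvPolynomial.algebraMap_def, map_sum]
  simp only [map_monomial, hc'']
  exact f.support_sum_monomial_coeff

theorem map_isIntegral (hρ : ρ.IsIntegral) : (MvPolynomial.map (σ := σ) ρ).IsIntegral := by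
  algebraize [ρ]
  have : Algebra.IsIntegral R N := ⟨hρ⟩
  letI := MvPolynomial.algebraMvPolynomial (σ := σ) (R := R) (S := N)
  have h : Algebra.IsIntegral (MvPolynomial σ R) (MvPolynomial σ N) := inferInstance
  exact algebraMap_isIntegral_iff.mpr h

theorem isNilpotent_of_map_eq_zero (hρ : ∀ a, ρ a = 0 → IsNilpotent a) (f : MvPolynomial σ R)
    (hf : MvPolynomial.map ρ f = 0) : IsNilpotent f := by
  rw [MvPolynomial.isNilpotent_iff]
  intro i
  apply hρ
  rw [← MvPolynomial.coeff_map, hf, coeff_zero]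

theorem frac_mvPolynomial [IsDomain N]
    (hfrac : ∀ b : N, ∃ a c : R, ρ c ≠ 0 ∧ b * ρ c = ρ a) (f : MvPolynomial σ N) :
    ∃ a c : MvPolynomial σ R, MvPolynomial.map ρ c ≠ 0 ∧
      f * MvPolynomial.map ρ c = MvPolynomial.map ρ a := by
  induction f using MvPolynomial.induction_on with
  | C b =>
    obtain ⟨a, c, hc, h⟩ := hfrac b
    refine ⟨C a, C c, ?_, ?_⟩
    · rw [map_C]
      exact fun h0 => hc (C_eq_zero.mp h0)
    · rw [map_C, map_C, ← C_mul, h]
  | add f g hf hg =>
    obtain ⟨a₁, c₁, hc₁, h₁⟩ := hf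
    obtain ⟨a₂, c₂, hc₂, h₂⟩ := hg
    refine ⟨a₁ * c₂ + a₂ * c₁, c₁ * c₂, ?_, ?_⟩
    · rw [map_mul]
      exact mul_ne_zero hc₁ hc₂
    · rw [map_mul, map_add, map_mul, map_mul, ← h₁, ← h₂]
      ring
  | mul_X f i hf =>
    obtain ⟨a, c, hc, h⟩ := hf
    refine ⟨a * X i, c, hc, ?_⟩
    rw [map_mul, map_X, ← h]
    ring

end PolyLemmas


section Rho

variable (A : Type u) [CommRing A]

/-- The canonical map `A → normRed A`. -/
noncomputable def rho : A →+* CAlg2.normRed A :=
  (algebraMap (CAlg2.red A) (CAlg2.normRed A)).comp (Ideal.Quotient.mk (nilradical A))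

variable {A}

theorem rho_isIntegral : (rho A).IsIntegral :=
  RingHom.IsIntegral.trans _ _ (RingHom.isIntegral_of_surjective _ Ideal.Quotient.mk_surjective)
    (algebraMap_isIntegral_iff.mpr inferInstance)

theorem algebraMap_red_normRed_injective :
    Function.Injective (algebraMap (CAlg2.red A) (CAlg2.normRed A)) := by
  intro x y hxy
  have := congrArg Subtype.val hxy
  exact IsFractionRing.injective (CAlg2.red A) (FractionRing (CAlg2.red A)) this

theorem isNilpotent_of_rho_eq_zero (a : A) (ha : rho A a = 0) : IsNilpotent a := by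
  have h1 : Ideal.Quotient.mk (nilradical A) a = 0 :=
    algebraMap_red_normRed_injective (by rw [map_zero]; exact ha)
  exact mem_nilradical.mp (Ideal.Quotient.eq_zero_iff_mem.mp h1)

theorem rho_frac [Nontrivial (CAlg2.red A)] (b : CAlg2.normRed A) :
    ∃ a c : A, rho A c ≠ 0 ∧ b * rho A c = rho A a := by
  obtain ⟨⟨x, y⟩, hxy⟩ := IsLocalization.surj (nonZeroDivisors (CAlg2.red A))
    (b : FractionRing (CAlg2.red A))
  obtain ⟨a, rfl⟩ := Ideal.Quotient.mk_surjective x
  obtain ⟨c, hc⟩ := Ideal.Quotient.mk_surjective (y : CAlg2.red A)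
  refine ⟨a, c, ?_, ?_⟩
  · intro h0
    have h1 : (y : CAlg2.red A) = 0 := by
      rw [← hc]
      exact algebraMap_red_normRed_injective (by rw [map_zero]; exact h0)
    exact nonZeroDivisors.ne_zero y.2 h1
  · apply Subtype.ext
    change (b : FractionRing (CAlg2.red A)) *
      algebraMap (CAlg2.red A) (FractionRing (CAlg2.red A)) (Ideal.Quotient.mk _ c) = _
    rw [hc]
    exact hxy

end Rho


section Local

open scoped TensorProduct
open Algebra.TensorProduct

attribute [local instance] MvPolynomial.algebraMvPolynomial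

variable {A : Type u} [CommRing A] [IsLocalRing A] {B : Type u} [CommRing B] [Algebra A B]

/-- The prime `P ⊗ A[σ]` of `A[σ] ⊗ B`. -/
theorem exists_prime_tensor_mvPolynomial (σ : Type v) (P : PrimeSpectrum B) :
    ∃ P' : PrimeSpectrum (MvPolynomial σ A ⊗[A] B),
      P'.asIdeal = P.asIdeal.map
        (includeRight : B →ₐ[A] MvPolynomial σ A ⊗[A] B) ∧
      ∀ a : MvPolynomial σ A, algebraMap (MvPolynomial σ A) (MvPolynomial σ A ⊗[A] B) a ∈
        P'.asIdeal → MvPolynomial.map (algebraMap A (B ⧸ P.asIdeal)) a = 0 := by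
  let D := B ⧸ P.asIdeal
  let mkP : B →ₐ[A] D := Ideal.Quotient.mkₐ A P.asIdeal
  let Ψ₁ : MvPolynomial σ A ⊗[A] B →ₐ[MvPolynomial σ A] MvPolynomial σ A ⊗[A] D :=
    Algebra.TensorProduct.map (AlgHom.id (MvPolynomial σ A) (MvPolynomial σ A)) mkP
  let e : MvPolynomial σ A ⊗[A] D ≃ₐ[MvPolynomial σ A] MvPolynomial σ D :=
    Algebra.IsPushout.equiv A (MvPolynomial σ A) D (MvPolynomial σ D)
  let Ψ : MvPolynomial σ A ⊗[A] B →ₐ[MvPolynomial σ A] MvPolynomial σ D :=
    e.toAlgHom.comp Ψ₁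
  have hker : RingHom.ker Ψ = P.asIdeal.map
      (includeRight : B →ₐ[A] MvPolynomial σ A ⊗[A] B) := by
    have h1 : RingHom.ker Ψ = RingHom.ker Ψ₁ := by
      ext t
      simp only [RingHom.mem_ker]
      change e (Ψ₁ t) = 0 ↔ Ψ₁ t = 0
      exact e.map_eq_zero_iff
    rw [h1]
    have h2 := Algebra.TensorProduct.lTensor_ker (A := MvPolynomial σ A) (R := A) mkP
      (Ideal.Quotient.mkₐ_surjective A P.asIdeal)
    have h3 : RingHom.ker mkP = P.asIdeal := Ideal.Quotient.mkₐ_ker A P.asIdeal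
    rw [h3] at h2
    exact h2
  refine ⟨⟨RingHom.ker Ψ, RingHom.ker_isPrime Ψ.toRingHom⟩, hker, ?_⟩
  intro a ha
  have h4 : Ψ (algebraMap _ _ a) = 0 := ha
  rw [AlgHom.commutes, MvPolynomial.algebraMap_def] at h4
  exact h4


/-- **Key local statement**: over a geometrically unibranch local ring `A`, a finite type algebra
`B` which is quasi-finite at a prime `q` over the closed point, such that `q` contains a prime
lying over the nilradical of `A`, is universally open at `q` with respect to polynomial base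
changes. -/
theorem isOpenAt_tensor_mvPolynomial [Algebra.FiniteType A B] (hA : CAlg2.IsGeomUnibranch A)
    (q P : PrimeSpectrum B) [Algebra.QuasiFiniteAt A q.asIdeal]
    (hq : q.asIdeal.comap (algebraMap A B) = IsLocalRing.maximalIdeal A)
    (hPq : P.asIdeal ≤ q.asIdeal)
    (hP : ∀ a : A, algebraMap A B a ∈ P.asIdeal → IsNilpotent a)
    (σ : Type v) (z : PrimeSpectrum (MvPolynomial σ A ⊗[A] B))
    (hz : comap (includeRight : B →ₐ[A] MvPolynomial σ A ⊗[A] B).toRingHom z = q) :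
    IsOpenAt (comap (algebraMap (MvPolynomial σ A) (MvPolynomial σ A ⊗[A] B))) z := by
  haveI : IsDomain (CAlg2.red A) := hA.1.1
  haveI : IsLocalRing (CAlg2.normRed A) := hA.1.2
  haveI : IsIntegrallyClosed (CAlg2.normRed A) :=
    integralClosure.isIntegrallyClosedOfFiniteExtension (FractionRing (CAlg2.red A))
  haveI : IsIntegrallyClosed (MvPolynomial σ (CAlg2.normRed A)) :=
    isIntegrallyClosed_mvPolynomial σ
  haveI : Algebra.QuasiFiniteAt (MvPolynomial σ A) z.asIdeal :=
    Algebra.QuasiFiniteAt.baseChange q.asIdeal z.asIdeal (by rw [← hz]; rfl)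
  obtain ⟨P', hP'1, hP'2⟩ := exists_prime_tensor_mvPolynomial (A := A) σ P
  have hi1 := map_isIntegral (rho A) σ rho_isIntegral
  have hi2 := isNilpotent_of_map_eq_zero (rho A) σ isNilpotent_of_rho_eq_zero
  have hi3 := frac_mvPolynomial (rho A) σ rho_frac
  refine ZMTOpen.isOpenAt_of_quasiFiniteAt (N := MvPolynomial σ (CAlg2.normRed A)) z P' ?_ ?_
    (MvPolynomial.map (rho A)) hi1 hi2 hi3 ?_
  · rw [hP'1, Ideal.map_le_iff_le_comap]
    intro b hb
    have := hPq hb
    rw [← hz] at this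
    exact this
  · intro a ha
    have h1 := hP'2 a ha
    apply isNilpotent_of_map_eq_zero (algebraMap A (B ⧸ P.asIdeal)) σ _ a h1
    intro x hx
    apply hP
    rw [IsScalarTower.algebraMap_apply A B (B ⧸ P.asIdeal), Ideal.Quotient.algebraMap_eq,
      Ideal.Quotient.eq_zero_iff_mem] at hx
    exact hx
  · intro n₁ n₂ h₁ h₂
    let m' := IsLocalRing.maximalIdeal (CAlg2.normRed A)
    haveI : ExpChar (CAlg2.normRed A ⧸ m') (ringExpChar (CAlg2.normRed A ⧸ m')) :=
      ringExpChar.expChar _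
    have hpi : ∀ x : CAlg2.normRed A ⧸ m', ∃ n : ℕ,
        x ^ (ringExpChar (CAlg2.normRed A ⧸ m')) ^ n ∈
          ((Ideal.Quotient.mk m').comp (rho A)).range := hA.2 m'
    have hover : ∀ n : PrimeSpectrum (MvPolynomial σ (CAlg2.normRed A)),
        comap (MvPolynomial.map (rho A)) n =
          comap (algebraMap (MvPolynomial σ A) (MvPolynomial σ A ⊗[A] B)) z →
        m'.map (C (σ := σ)) ≤ n.asIdeal := by
      intro n hn
      rw [Ideal.map_le_iff_le_comap]
      have hprime : (n.asIdeal.comap (C (σ := σ))).IsPrime := Ideal.comap_isPrime _ _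
      have hcontr : (n.asIdeal.comap (C (σ := σ))).comap (rho A) =
          IsLocalRing.maximalIdeal A := by
        rw [← hq, ← hz]
        have h3 := congrArg (fun t : PrimeSpectrum (MvPolynomial σ A) =>
          t.asIdeal.comap (C (σ := σ))) hn
        simp only [comap_asIdeal, Ideal.comap_comap] at h3 ⊢
        have e1 : (MvPolynomial.map (rho A)).comp (C (σ := σ)) = (C (σ := σ)).comp (rho A) := by
          ext a
          simp
        have e2 : (algebraMap (MvPolynomial σ A) (MvPolynomial σ A ⊗[A] B)).comp (C (σ := σ)) =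
            ((includeRight : B →ₐ[A] MvPolynomial σ A ⊗[A] B).toRingHom).comp
              (algebraMap A B) := by
          ext a
          change (C a : MvPolynomial σ A) ⊗ₜ[A] (1 : B) = (1 : MvPolynomial σ A) ⊗ₜ[A] algebraMap A B a
          rw [Algebra.algebraMap_eq_smul_one, ← TensorProduct.smul_tmul, MvPolynomial.smul_eq_C_mul,
            mul_one]
        rw [e1, e2] at h3
        exact h3
      have hmax : (n.asIdeal.comap (C (σ := σ))).IsMaximal := by
        algebraize [rho A]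
        haveI : Algebra.IsIntegral A (CAlg2.normRed A) := ⟨rho_isIntegral⟩
        apply Ideal.isMaximal_of_isIntegral_of_isMaximal_comap (R := A)
        change ((n.asIdeal.comap (C (σ := σ))).comap (rho A)).IsMaximal
        rw [hcontr]
        exact IsLocalRing.maximalIdeal.isMaximal A
      exact (IsLocalRing.eq_maximalIdeal hmax).ge
    apply PrimeSpectrum.ext
    refine eq_of_comap_map_eq (rho A) m' (ringExpChar (CAlg2.normRed A ⧸ m')) σ hpi
      n₁.asIdeal n₂.asIdeal (hover n₁ h₁) (hover n₂ h₂) ?_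
    exact congrArg PrimeSpectrum.asIdeal (h₁.trans h₂.symm)

end Local

end Groth.Agent.H72.GUPoly
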