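import Mathlib

/-!
# Flat separated morphisms injective with trivial residue extensions at maximal points are universally injective (helper72)
-/

set_option autoImplicit false
set_option linter.style.haveILetI false
universe u

namespace Groth.Agent.H72.GenInj

open CategoryTheory CategoryTheory.Limits AlgebraicGeometry

section Top

variable {P X : Type*} [TopologicalSpace P] [TopologicalSpace X] [QuasiSober X] [T0Space P]

/-- A continuous generalizing map sends maximal points to maximal points. -/
theorem closure_image_mem_irreducibleComponents {p : P → X}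
    (hg : GeneralizingMap p) (ζ : P) (hζ : closure {ζ} ∈ irreducibleComponents P) :
    closure {p ζ} ∈ irreducibleComponents X := by
  have hS : IsIrreducible (closure {p ζ}) := isIrreducible_singleton.closure
  obtain ⟨Z', hZ', hSZ'⟩ := exists_mem_irreducibleComponents_subset_of_isIrreducible _ hS
  obtain ⟨ξ', hξ'⟩ := QuasiSober.sober hZ'.1 (isClosed_of_mem_irreducibleComponents Z' hZ')
  have h1 : ξ' ⤳ p ζ := by
    rw [specializes_iff_mem_closure, hξ'.def]
    exact hSZ' (subset_closure rfl)
  obtain ⟨ζ', hζ', hpζ'⟩ := hg h1
  have h2 : closure {ζ} ⊆ closure {ζ'} := hζ'.closure_subset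
  have h3 : closure {ζ'} ⊆ closure {ζ} := hζ.2 isIrreducible_singleton.closure h2
  have h4 : ζ ⤳ ζ' := by
    rw [specializes_iff_mem_closure]
    exact h3 (subset_closure rfl)
  have h5 : ζ' = ζ := (hζ'.antisymm h4).eq
  rw [h5] at hpζ'
  rw [hpζ', hξ'.def]
  exact hZ'

end Top


set_option backward.isDefEq.respectTransparency.types false in
set_option backward.defeqAttrib.useBackward true in
/-- Two `K`-points with the same underlying point agreeing after a morphism with surjective residue
field map at that point are equal. -/
theorem specHom_ext {X Y : Scheme.{u}} (f : X ⟶ Y) {K : Type u} [Field K]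
    (g₁ g₂ : Spec (.of K) ⟶ X) (hg : g₁ ≫ f = g₂ ≫ f)
    (hpt : g₁ (IsLocalRing.closedPoint K) = g₂ (IsLocalRing.closedPoint K))
    (hsurj : Function.Surjective (f.residueFieldMap (g₁ (IsLocalRing.closedPoint K))).hom) :
    g₁ = g₂ := by
  obtain ⟨e, h⟩ := Scheme.SpecToEquivOfField_eq_iff.mp congr((Y.SpecToEquivOfField K) $(hg))
  apply (X.SpecToEquivOfField K).injective
  dsimp at e h
  simp only [Scheme.descResidueField_stalkClosedPointTo_comp] at e h
  rw [← f.residueFieldMap_congr'_assoc hpt, CommRingCat.hom_ext_iff] at h
  rw [Scheme.SpecToEquivOfField_eq_iff]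
  refine ⟨hpt, CommRingCat.hom_ext ?_⟩
  exact (RingHom.cancel_right hsurj).mp h


theorem universallyInjective_of_generic {X Y : Scheme.{u}} (f : X ⟶ Y) [Flat f] [IsSeparated f]
    (h2 : ∀ ξ : X, closure ({ξ} : Set X) ∈ irreducibleComponents (X : Type u) →
      Function.Surjective (f.residueFieldMap ξ).hom)
    (h3 : Set.InjOn f.base {ξ : X | closure ({ξ} : Set X) ∈ irreducibleComponents (X : Type u)}) :
    UniversallyInjective f := by
  rw [UniversallyInjective.iff_diagonal]
  refine ⟨fun z => ?_⟩
  have hZ₀ := irreducibleComponent_mem_irreducibleComponents z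
  obtain ⟨ζ, hζ⟩ := QuasiSober.sober (isIrreducible_irreducibleComponent (x := z))
    isClosed_irreducibleComponent
  have hζmax : closure {ζ} ∈ irreducibleComponents (pullback f f : Scheme.{u}) := by
    rw [hζ.def]; exact hZ₀
  have hζz : ζ ⤳ z := by
    rw [specializes_iff_mem_closure, hζ.def]; exact mem_irreducibleComponent
  have hm1 := closure_image_mem_irreducibleComponents
    (Flat.generalizingMap (pullback.fst f f)) ζ hζmax
  have hm2 := closure_image_mem_irreducibleComponents
    (Flat.generalizingMap (pullback.snd f f)) ζ hζmax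
  have hff : f (pullback.fst f f ζ) = f (pullback.snd f f ζ) :=
    congr($(pullback.condition (f := f) (g := f)) ζ)
  have hpt : pullback.fst f f ζ = pullback.snd f f ζ := h3 hm1 hm2 hff
  let φ := (pullback f f).fromSpecResidueField ζ
  let pt : Spec ((pullback f f).residueField ζ) :=
    IsLocalRing.closedPoint ((pullback f f).residueField ζ)
  have hφpt : φ pt = ζ := Scheme.fromSpecResidueField_apply _ _
  have ha : (φ ≫ pullback.fst f f) ≫ f = (φ ≫ pullback.snd f f) ≫ f := by
    rw [Category.assoc, Category.assoc, pullback.condition]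
  have hb : (φ ≫ pullback.fst f f) pt = (φ ≫ pullback.snd f f) pt := by
    show pullback.fst f f (φ pt) = pullback.snd f f (φ pt)
    rw [hφpt]; exact hpt
  have hc : Function.Surjective (f.residueFieldMap ((φ ≫ pullback.fst f f) pt)).hom := by
    show Function.Surjective (f.residueFieldMap (pullback.fst f f (φ pt))).hom
    rw [hφpt]
    exact h2 _ hm1
  have hgg : (φ ≫ pullback.fst f f) = (φ ≫ pullback.snd f f) :=
    specHom_ext (K := (pullback f f).residueField ζ) f (φ ≫ pullback.fst f f)
      (φ ≫ pullback.snd f f) ha hb hc
  have hφ₂ : φ = (φ ≫ pullback.fst f f) ≫ pullback.diagonal f := by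
    apply pullback.hom_ext
    · simp
    · simp [hgg]
  have hζrange : ζ ∈ Set.range (pullback.diagonal f) := by
    refine ⟨(φ ≫ pullback.fst f f) pt, ?_⟩
    show ((φ ≫ pullback.fst f f) ≫ pullback.diagonal f) pt = ζ
    rw [← hφ₂, hφpt]
  have hcl : IsClosed (Set.range (pullback.diagonal f)) :=
    (pullback.diagonal f).isClosedEmbedding.isClosed_range
  exact hζz.mem_closed hcl hζrange

end Groth.Agent.H72.GenInj
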