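import Mathlib.AlgebraicGeometry.Gluing
import Mathlib.AlgebraicGeometry.Restrict
import Mathlib.AlgebraicGeometry.Noetherian

/-!
# Gluing morphisms on a family of opens; integral neighbourhoods (helper72)

* `exists_glue`: morphisms `f j : F j ⟶ Y` on opens `F j` of `X` agreeing on the pairwise
  intersections glue to a morphism on `⨆ j, F j`.
* `exists_isIntegral_nhd`: in a locally Noetherian scheme, a point whose local ring is a domain has
  an integral (affine) open neighbourhood.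
-/

set_option autoImplicit false
set_option linter.style.haveILetI false
universe u
open AlgebraicGeometry CategoryTheory CategoryTheory.Limits

namespace Groth.Agent.H72.GlueOpens

theorem pullback_compat {X Y : Scheme.{u}} (A B C : X.Opens) (hA : A ≤ C) (hB : B ≤ C)
    (f : (A : Scheme.{u}) ⟶ Y) (g : (B : Scheme.{u}) ⟶ Y)
    (hfg : X.homOfLE (inf_le_left : A ⊓ B ≤ A) ≫ f = X.homOfLE (inf_le_right : A ⊓ B ≤ B) ≫ g) :
    pullback.fst (X.homOfLE hA) (X.homOfLE hB) ≫ f =
      pullback.snd (X.homOfLE hA) (X.homOfLE hB) ≫ g := by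
  set p₁ := pullback.fst (X.homOfLE hA) (X.homOfLE hB) with hp₁
  set p₂ := pullback.snd (X.homOfLE hA) (X.homOfLE hB) with hp₂
  have hcond : p₁ ≫ X.homOfLE hA = p₂ ≫ X.homOfLE hB := pullback.condition
  have hι : p₁ ≫ A.ι = p₂ ≫ B.ι := by
    rw [← X.homOfLE_ι hA, ← X.homOfLE_ι hB, ← Category.assoc, ← Category.assoc, hcond]
  have hr : Set.range (p₁ ≫ A.ι) ⊆ Set.range (A ⊓ B).ι := by
    rintro _ ⟨w, rfl⟩
    rw [Scheme.Opens.range_ι]
    refine ⟨(p₁ w).2, ?_⟩
    have : (p₁ ≫ A.ι) w = (p₂ ≫ B.ι) w := by rw [hι]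
    rw [this]
    exact (p₂ w).2
  set k := IsOpenImmersion.lift (A ⊓ B).ι (p₁ ≫ A.ι) hr with hk
  have hkι : k ≫ (A ⊓ B).ι = p₁ ≫ A.ι := IsOpenImmersion.lift_fac _ _ _
  have h1 : p₁ = k ≫ X.homOfLE (inf_le_left : A ⊓ B ≤ A) := by
    rw [← cancel_mono A.ι, Category.assoc, X.homOfLE_ι, hkι]
  have h2 : p₂ = k ≫ X.homOfLE (inf_le_right : A ⊓ B ≤ B) := by
    rw [← cancel_mono B.ι, Category.assoc, X.homOfLE_ι, hkι, hι]
  rw [h1, h2, Category.assoc, Category.assoc, hfg]

theorem hom_ext_iSup {X Y : Scheme.{u}} {J : Type*} (F : J → X.Opens)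
    (k₁ k₂ : ((⨆ j, F j : X.Opens) : Scheme.{u}) ⟶ Y)
    (h : ∀ j, X.homOfLE (le_iSup F j) ≫ k₁ = X.homOfLE (le_iSup F j) ≫ k₂) : k₁ = k₂ :=
  (Scheme.Opens.iSupOpenCover F).hom_ext _ _ h

theorem exists_glue {X Y : Scheme.{u}} {J : Type*} (F : J → X.Opens)
    (f : ∀ j, ((F j : X.Opens) : Scheme.{u}) ⟶ Y)
    (hf : ∀ i j, X.homOfLE (inf_le_left : F i ⊓ F j ≤ F i) ≫ f i =
      X.homOfLE (inf_le_right : F i ⊓ F j ≤ F j) ≫ f j) :
    ∃ k : ((⨆ j, F j : X.Opens) : Scheme.{u}) ⟶ Y, ∀ j, X.homOfLE (le_iSup F j) ≫ k = f j := by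
  have hf' : ∀ i j : J, pullback.fst ((Scheme.Opens.iSupOpenCover F).f i)
      ((Scheme.Opens.iSupOpenCover F).f j) ≫ f i = pullback.snd _ _ ≫ f j := fun i j =>
    pullback_compat (F i) (F j) (⨆ j, F j) (le_iSup F i) (le_iSup F j) (f i) (f j) (hf i j)
  refine ⟨(Scheme.Opens.iSupOpenCover F).glueMorphisms f hf', fun j => ?_⟩
  exact (Scheme.Opens.iSupOpenCover F).ι_glueMorphisms f hf' j


/-- finitely many elements dying in a localization are killed by one element of the submonoid -/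
theorem exists_mul_eq_zero_of_finset {A : Type*} [CommRing A] (M : Submonoid A) (B : Type*)
    [CommRing B] [Algebra A B] [IsLocalization M B] (G : Finset A)
    (hG : ∀ a ∈ G, algebraMap A B a = 0) : ∃ s ∈ M, ∀ a ∈ G, s * a = 0 := by
  classical
  induction G using Finset.induction_on with
  | empty => exact ⟨1, M.one_mem, by simp⟩
  | insert b G hb ih =>
    obtain ⟨s, hs, hsG⟩ := ih (fun a ha => hG a (Finset.mem_insert_of_mem ha))
    obtain ⟨m, hm⟩ := (IsLocalization.map_eq_zero_iff M B b).mp (hG b (Finset.mem_insert_self b G))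
    refine ⟨m * s, M.mul_mem m.2 hs, fun a ha => ?_⟩
    rcases Finset.mem_insert.mp ha with rfl | ha
    · rw [mul_comm (m : A) s, mul_assoc, hm, mul_zero]
    · rw [mul_assoc, hsG a ha, mul_zero]

theorem exists_isIntegral_nhd {X : Scheme.{u}} [IsLocallyNoetherian X] (x : X)
    [IsDomain (X.presheaf.stalk x)] :
    ∃ W : X.Opens, x ∈ W ∧ IsAffineOpen W ∧ IsIntegral (W : Scheme.{u}) := by
  obtain ⟨_, ⟨U, hU : IsAffineOpen U, rfl⟩, hxU, -⟩ :=
    X.isBasis_affineOpens.exists_subset_of_mem_open (Set.mem_univ x) isOpen_univ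
  have hxU' : x ∈ U := hxU
  haveI : IsNoetherianRing Γ(X, U) := IsLocallyNoetherian.component_noetherian ⟨U, hU⟩
  letI := TopCat.Presheaf.algebra_section_stalk X.presheaf (⟨x, hxU'⟩ : U)
  haveI : IsLocalization.AtPrime (X.presheaf.stalk x) (hU.primeIdealOf ⟨x, hxU'⟩).asIdeal :=
    hU.isLocalization_stalk ⟨x, hxU'⟩
  set φ : Γ(X, U) →+* X.presheaf.stalk x := (X.presheaf.germ U x hxU').hom with hφ
  have hφalg : ∀ a, algebraMap Γ(X, U) (X.presheaf.stalk x) a = φ a := fun a => rfl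
  obtain ⟨G, hG⟩ : (RingHom.ker φ).FG := IsNoetherian.noetherian _
  obtain ⟨s, hs, hsG⟩ := exists_mul_eq_zero_of_finset
    (hU.primeIdealOf ⟨x, hxU'⟩).asIdeal.primeCompl (X.presheaf.stalk x) G (by
      intro a ha
      have : a ∈ RingHom.ker φ := by rw [← hG]; exact Ideal.subset_span ha
      exact this)
  have hsker : ∀ a ∈ RingHom.ker φ, s * a = 0 := by
    intro a ha
    rw [← hG] at ha
    have hle : Ideal.span (G : Set Γ(X, U)) ≤ LinearMap.ker (LinearMap.mulLeft Γ(X, U) s) := by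
      rw [Ideal.span_le]
      intro b hb
      exact hsG b hb
    exact hle ha
  have hxW : x ∈ X.basicOpen s := by
    rw [Scheme.mem_basicOpen X s x hxU']
    exact (IsLocalization.AtPrime.isUnit_to_map_iff (X.presheaf.stalk x)
      (hU.primeIdealOf ⟨x, hxU'⟩).asIdeal s).mpr hs
  have hWaff : IsAffineOpen (X.basicOpen s) := hU.basicOpen s
  refine ⟨X.basicOpen s, hxW, hWaff, ?_⟩
  -- the sections over the basic open form a domain
  haveI := hU.isLocalization_basicOpen s
  set ψ : Γ(X, X.basicOpen s) →+* X.presheaf.stalk x :=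
    (X.presheaf.germ (X.basicOpen s) x hxW).hom with hψ
  have hψres : ∀ a : Γ(X, U), ψ (algebraMap Γ(X, U) Γ(X, X.basicOpen s) a) = φ a := by
    intro a
    exact TopCat.Presheaf.germ_res_apply X.presheaf (homOfLE (X.basicOpen_le s)) x hxW a
  have hinj : Function.Injective ψ := by
    rw [injective_iff_map_eq_zero]
    intro y hy
    obtain ⟨n, a, hya⟩ := IsLocalization.Away.surj s y
    have h1 : φ a = 0 := by
      rw [← hψres, ← hya, map_mul, hy, zero_mul]
    have h2 : s * a = 0 := hsker a h1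
    have hu : IsUnit (algebraMap Γ(X, U) Γ(X, X.basicOpen s) s) :=
      IsLocalization.Away.algebraMap_isUnit s
    have h3 : algebraMap Γ(X, U) Γ(X, X.basicOpen s) a = 0 := by
      have := congrArg (algebraMap Γ(X, U) Γ(X, X.basicOpen s)) h2
      rw [map_mul, map_zero] at this
      exact (hu.mul_right_eq_zero).mp this
    rw [h3] at hya
    exact ((hu.pow n).mul_left_eq_zero).mp hya
  haveI : IsDomain Γ(X, X.basicOpen s) := hinj.isDomain ψ
  haveI : IsAffine ((X.basicOpen s : X.Opens) : Scheme.{u}) := hWaff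
  haveI : Nonempty ((X.basicOpen s : X.Opens) : Scheme.{u}) := ⟨⟨x, hxW⟩⟩
  haveI : IsDomain Γ(((X.basicOpen s : X.Opens) : Scheme.{u}), ⊤) :=
    (X.basicOpen s).topIso.commRingCatIsoToRingEquiv.toMulEquiv.isDomain _
  exact isIntegral_of_isAffine_of_isDomain _

end Groth.Agent.H72.GlueOpens
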