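import Mathlib

/-!
# An abstract Hartogs lemma (helper72)

`R` a commutative ring, `f : ι → R` a finite family, `φ : R →ₗ[R] T` a linear map to an `R`-module
`T` such that (a) no nonzero element of `T` is killed by powers of all `f i`, (b) `φ` is surjective
after inverting any `f i`, (c) `φ` is injective after inverting any `f i`.  If at every prime `z`
containing all the `f i` the local ring `R_z` has a weakly regular sequence of length two in its
maximal ideal (elementwise form), then `φ` is bijective.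
-/

universe u v

namespace Groth.Agent.H72.HartogsAlg

/-- elementwise form of: `a, b` is a weakly regular sequence in the maximal ideal of `S` -/
structure Good (S : Type*) [CommRing S] (a b : S) : Prop where
  reg : ∀ x : S, a * x = 0 → x = 0
  regq : ∀ x y : S, b * x = a * y → ∃ y', x = a * y'

namespace Good

variable {S : Type*} [CommRing S] {a b : S}

theorem reg_pow (h : Good S a b) (k : ℕ) : ∀ x : S, a ^ k * x = 0 → x = 0 := by
  induction k with
  | zero => intro x hx; simpa using hx
  | succ k ih =>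
    intro x hx
    rw [pow_succ, mul_assoc] at hx
    exact h.reg x (ih _ hx)

theorem regq_pow_left (h : Good S a b) (j : ℕ) : ∀ x y : S, b * x = a ^ j * y → ∃ y', x = a ^ j * y' := by
  induction j with
  | zero => intro x y _; exact ⟨x, by simp⟩
  | succ j ih =>
    intro x y hxy
    obtain ⟨x', rfl⟩ := ih x (a * y) (by rw [hxy]; ring)
    have h1 : a ^ j * (b * x' - a * y) = 0 := by
      have : b * (a ^ j * x') = a ^ (j + 1) * y := hxy
      linear_combination this
    have h2 := h.reg_pow j _ h1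
    obtain ⟨x'', rfl⟩ := h.regq x' y (by linear_combination h2)
    exact ⟨x'', by ring⟩

theorem pow (h : Good S a b) (j k : ℕ) : Good S (a ^ j) (b ^ k) where
  reg := h.reg_pow j
  regq := by
    induction k with
    | zero => intro x y hxy; exact ⟨y, by simpa using hxy⟩
    | succ k ih =>
      intro x y hxy
      obtain ⟨y₁, hy₁⟩ := h.regq_pow_left j (b ^ k * x) y (by rw [← hxy]; ring)
      exact ih x y₁ hy₁

theorem mul_units (h : Good S a b) {u v : S} (hu : IsUnit u) (hv : IsUnit v) :
    Good S (a * u) (b * v) where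
  reg := by
    intro x hx
    obtain ⟨u', hu'⟩ := hu.exists_right_inv
    have := h.reg (u * x) (by linear_combination hx)
    have h2 : x = u' * (u * x) := by linear_combination (-x) * hu'
    rw [h2, this, mul_zero]
  regq := by
    intro x y hxy
    obtain ⟨v', hv'⟩ := hv.exists_right_inv
    obtain ⟨u', hu'⟩ := hu.exists_right_inv
    obtain ⟨y', hy'⟩ := h.regq (v * x) (u * y) (by linear_combination hxy)
    refine ⟨u' * v' * y', ?_⟩
    have h2 : x = v' * (v * x) := by linear_combination (-x) * hv'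
    rw [h2, hy']
    linear_combination (- a * v' * y') * hu'

end Good

theorem good_of_isWeaklyRegular {S : Type*} [CommRing S] {a b : S}
    (h : RingTheory.Sequence.IsWeaklyRegular S [a, b]) : Good S a b := by
  rw [RingTheory.Sequence.isWeaklyRegular_cons_iff,
    RingTheory.Sequence.isWeaklyRegular_singleton_iff] at h
  obtain ⟨h1, h2⟩ := h
  refine ⟨fun x hx => ?_, fun x y hxy => ?_⟩
  · exact h1.right_eq_zero_of_smul hx
  · have := (isSMulRegular_quotient_iff_mem_of_smul_mem _ b).mp h2 x (by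
      rw [Submodule.mem_smul_pointwise_iff_exists]
      exact ⟨y, trivial, by simpa [smul_eq_mul] using hxy.symm⟩)
    rw [Submodule.mem_smul_pointwise_iff_exists] at this
    obtain ⟨y', -, hy'⟩ := this
    exact ⟨y', by simpa [smul_eq_mul] using hy'.symm⟩

section

variable {R : Type u} [CommRing R] {T : Type v} [AddCommGroup T] [Module R T] (φ : R →ₗ[R] T)
  {ι : Type*} [Finite ι] (f : ι → R)

/-- the depth hypothesis at the primes containing all `f i` -/
def DepthTwo : Prop :=
  ∀ (z : Ideal R) [z.IsPrime], (∀ i, f i ∈ z) →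
    ∃ (S : Type u) (_ : CommRing S) (_ : Algebra R S) (_ : IsLocalization.AtPrime S z) (a b : S),
      ¬ IsUnit a ∧ ¬ IsUnit b ∧ Good S a b

include f in
theorem injective_of_depth
    (hc : ∀ i (r : R), φ r = 0 → ∃ N : ℕ, f i ^ N * r = 0)
    (hd : DepthTwo (R := R) f) : Function.Injective φ := by
  rw [injective_iff_map_eq_zero]
  intro r hr
  by_contra hr0
  let I : Ideal R := (Submodule.span R {r}).annihilator
  have hI : ∀ c : R, c ∈ I ↔ c * r = 0 := fun c => by
    simp only [I, Submodule.mem_annihilator_span_singleton, smul_eq_mul]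
  have hItop : I ≠ ⊤ := by
    intro h
    have : (1 : R) ∈ I := h ▸ Submodule.mem_top
    rw [hI, one_mul] at this
    exact hr0 this
  obtain ⟨z, hz⟩ := Ideal.nonempty_minimalPrimes hItop
  haveI : z.IsPrime := hz.1.1
  have hIz : I ≤ z := hz.1.2
  have hfz : ∀ i, f i ∈ z := by
    intro i
    obtain ⟨N, hN⟩ := hc i r hr
    exact Ideal.IsPrime.mem_of_pow_mem inferInstance N (hIz ((hI _).mpr hN))
  obtain ⟨S, _, _, _, a, b, ha, hb, hgood⟩ := hd z hfz
  haveI : IsLocalRing S := IsLocalization.AtPrime.isLocalRing S z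
  have hrad := IsLocalization.AtPrime.radical_map_of_mem_minimalPrimes (A := S) z I hz
  have ham : a ∈ (I.map (algebraMap R S)).radical := by
    rw [hrad, IsLocalization.AtPrime.map_eq_maximalIdeal z S]
    exact (IsLocalRing.mem_maximalIdeal a).mpr ha
  obtain ⟨k, hk⟩ := ham
  rw [IsLocalization.mem_map_algebraMap_iff z.primeCompl] at hk
  obtain ⟨⟨i, s⟩, his⟩ := hk
  have h0 : a ^ k * (algebraMap R S s * algebraMap R S r) = 0 := by
    rw [← mul_assoc, his, ← map_mul, (hI _).mp i.2, map_zero]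
  have h1 := hgood.reg_pow k _ h0
  have hs : IsUnit (algebraMap R S (s : R)) := IsLocalization.map_units S s
  have h2 : algebraMap R S r = 0 := by
    rcases hs.exists_left_inv with ⟨w, hw⟩
    calc algebraMap R S r = w * (algebraMap R S s * algebraMap R S r) := by
          rw [← mul_assoc, hw, one_mul]
      _ = 0 := by rw [h1, mul_zero]
  rw [IsLocalization.map_eq_zero_iff z.primeCompl] at h2
  obtain ⟨c, hc'⟩ := h2
  exact c.2 (hIz ((hI _).mpr hc'))

include f in
theorem surjective_of_depth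
    (ha : ∀ t : T, (∀ i, ∃ N : ℕ, f i ^ N • t = 0) → t = 0)
    (hb : ∀ i (t : T), ∃ (N : ℕ) (r : R), f i ^ N • t = φ r)
    (hc : ∀ i (r : R), φ r = 0 → ∃ N : ℕ, f i ^ N * r = 0)
    (hd : DepthTwo (R := R) f) : Function.Surjective φ := by
  classical
  have hinj := injective_of_depth φ f hc hd
  intro t
  let D : Ideal R :=
    { carrier := {d | ∃ r, d • t = φ r}
      add_mem' := by
        rintro d₁ d₂ ⟨r₁, h₁⟩ ⟨r₂, h₂⟩
        exact ⟨r₁ + r₂, by rw [add_smul, h₁, h₂, map_add]⟩
      zero_mem' := ⟨0, by simp⟩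
      smul_mem' := by
        rintro c d ⟨r, h⟩
        exact ⟨c * r, by rw [smul_eq_mul, mul_smul, h, ← smul_eq_mul, map_smul]⟩ }
  have hD : ∀ d, d ∈ D ↔ ∃ r, d • t = φ r := fun d => Iff.rfl
  suffices hDtop : D = ⊤ by
    have : (1 : R) ∈ D := hDtop ▸ Submodule.mem_top
    obtain ⟨r, hr⟩ := (hD 1).mp this
    exact ⟨r, by rw [← hr, one_smul]⟩
  by_contra hDtop
  obtain ⟨z, hz⟩ := Ideal.nonempty_minimalPrimes hDtop
  haveI : z.IsPrime := hz.1.1
  have hDz : D ≤ z := hz.1.2
  have hfz : ∀ i, f i ∈ z := by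
    intro i
    obtain ⟨N, r, hN⟩ := hb i t
    exact Ideal.IsPrime.mem_of_pow_mem inferInstance N (hDz ((hD _).mpr ⟨r, hN⟩))
  obtain ⟨S, _, _, _, a, b, ha', hb', hgood⟩ := hd z hfz
  haveI : IsLocalRing S := IsLocalization.AtPrime.isLocalRing S z
  have hrad := IsLocalization.AtPrime.radical_map_of_mem_minimalPrimes (A := S) z D hz
  have hmem : ∀ c : S, ¬ IsUnit c → c ∈ (D.map (algebraMap R S)).radical := by
    intro c hc
    rw [hrad, IsLocalization.AtPrime.map_eq_maximalIdeal z S]
    exact (IsLocalRing.mem_maximalIdeal c).mpr hc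
  obtain ⟨k₁, hk₁⟩ := hmem a ha'
  obtain ⟨k₂, hk₂⟩ := hmem b hb'
  rw [IsLocalization.mem_map_algebraMap_iff z.primeCompl] at hk₁ hk₂
  obtain ⟨⟨d₁, s₁⟩, h₁⟩ := hk₁
  obtain ⟨⟨d₂, s₂⟩, h₂⟩ := hk₂
  have hg : Good S (algebraMap R S d₁) (algebraMap R S d₂) := by
    have := (hgood.pow k₁ k₂).mul_units (IsLocalization.map_units S s₁)
      (IsLocalization.map_units S s₂)
    rwa [h₁, h₂] at this
  obtain ⟨r₁, hr₁⟩ := (hD _).mp d₁.2
  obtain ⟨r₂, hr₂⟩ := (hD _).mp d₂.2
  have hrr : (d₁ : R) * r₂ = (d₂ : R) * r₁ := by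
    apply hinj
    rw [← smul_eq_mul, ← smul_eq_mul, map_smul, map_smul, ← hr₁, ← hr₂, smul_smul, smul_smul,
      mul_comm]
  -- divide in `S`
  obtain ⟨y', hy'⟩ := hg.regq (algebraMap R S r₁) (algebraMap R S r₂) (by
    rw [← map_mul, ← map_mul, hrr])
  obtain ⟨⟨r', e⟩, hre⟩ := IsLocalization.surj z.primeCompl y'
  have h3 : algebraMap R S ((e : R) * r₁ - d₁ * r') = 0 := by
    rw [map_sub, map_mul, map_mul, hy', ← hre]
    ring
  rw [IsLocalization.map_eq_zero_iff z.primeCompl] at h3
  obtain ⟨c, hc'⟩ := h3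
  -- `e' r₁ = d₁ r''`
  have hkey : ((c : R) * e) * r₁ = d₁ * ((c : R) * r') := by linear_combination hc'
  -- the element `w`
  set w : T := ((c : R) * e) • t - φ ((c : R) * r') with hw
  have hdw : (d₁ : R) • w = 0 := by
    rw [hw, smul_sub, smul_smul, mul_comm, ← smul_smul, hr₁, ← map_smul, ← map_smul, ← map_sub,
      smul_eq_mul, smul_eq_mul, hkey, sub_self, map_zero]
  -- regularity on `T` up to an element outside `z`
  have hv : ∃ v : R, v ∉ z ∧ v • w = 0 := by
    have hi : ∀ i, ∃ (N : ℕ) (v : R), v ∉ z ∧ f i ^ N • (v • w) = 0 := by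
      intro i
      obtain ⟨N, x, hx⟩ := hb i w
      have hdx : (d₁ : R) * x = 0 := by
        apply hinj
        rw [map_zero, ← smul_eq_mul, map_smul, ← hx, smul_comm, hdw, smul_zero]
      have hx0 : algebraMap R S x = 0 := hg.reg _ (by rw [← map_mul, hdx, map_zero])
      rw [IsLocalization.map_eq_zero_iff z.primeCompl] at hx0
      obtain ⟨v, hvx⟩ := hx0
      refine ⟨N, v, v.2, ?_⟩
      rw [smul_comm, hx, ← map_smul, smul_eq_mul, hvx, map_zero]
    choose N v hvz hvw using hi
    haveI := Fintype.ofFinite ι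
    refine ⟨∏ i, v i, ?_, ?_⟩
    · intro hmem
      obtain ⟨i, -, hi⟩ := (Ideal.IsPrime.prod_mem_iff (hp := inferInstance)).mp hmem
      exact hvz i hi
    · apply ha
      intro i
      refine ⟨N i, ?_⟩
      have : (∏ j, v j) = (∏ j ∈ Finset.univ.erase i, v j) * v i := by
        rw [Finset.prod_erase_mul _ _ (Finset.mem_univ i)]
      rw [this, mul_smul, smul_comm, hvw i, smul_zero]
  obtain ⟨v, hvz, hvw⟩ := hv
  have : v * ((c : R) * e) ∈ D := by
    rw [hD]
    refine ⟨v * ((c : R) * r'), ?_⟩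
    rw [hw, smul_sub, sub_eq_zero, smul_smul] at hvw
    rw [hvw, ← map_smul, smul_eq_mul]
  have h4 := hDz this
  rcases Ideal.IsPrime.mem_or_mem inferInstance h4 with h | h
  · exact hvz h
  · rcases Ideal.IsPrime.mem_or_mem inferInstance h with h | h
    · exact c.2 h
    · exact e.2 h

include f in
theorem bijective_of_depth
    (ha : ∀ t : T, (∀ i, ∃ N : ℕ, f i ^ N • t = 0) → t = 0)
    (hb : ∀ i (t : T), ∃ (N : ℕ) (r : R), f i ^ N • t = φ r)
    (hc : ∀ i (r : R), φ r = 0 → ∃ N : ℕ, f i ^ N * r = 0)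
    (hd : DepthTwo (R := R) f) : Function.Bijective φ :=
  ⟨injective_of_depth φ f hc hd, surjective_of_depth φ f ha hb hc hd⟩

end

end Groth.Agent.H72.HartogsAlg
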