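import Groth.Agent.S14272
import Groth.Agent.Lib.Helper45.RefHullRegular
import Groth.Agent.Lib.Helper89.RegTriple

/-!
# Hartogs extension in `Over X`: restriction to a big open is fully faithful (helper72)

`HZ X U`: at every point outside `U` the local ring has a weakly regular pair in its maximal ideal.
* `HZ_of_regular`: regular local rings of dimension `≥ 2`.
* `HZ_preimage`: stability under flat pullback.
* `full`, `faithful`: for `P Q : Over X` with `P.hom` flat and `Q.hom` affine and locally of finite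
  presentation, `Over.pullback U.ι` is full and faithful on `P ⟶ Q`.
-/

set_option autoImplicit false
universe u

namespace Groth.Agent.H72.HartogsOver

open AlgebraicGeometry CategoryTheory CategoryTheory.Limits

/-- the Hartogs condition -/
def HZ (X : Scheme.{u}) (U : X.Opens) : Prop :=
  ∀ z : X, z ∉ U → ∃ a b : X.presheaf.stalk z, a ∈ IsLocalRing.maximalIdeal (X.presheaf.stalk z) ∧
    b ∈ IsLocalRing.maximalIdeal (X.presheaf.stalk z) ∧
    RingTheory.Sequence.IsWeaklyRegular (X.presheaf.stalk z) [a, b]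

lemma exists_pair_of_regular (R : Type u) [CommRing R] [IsRegularLocalRing R]
    (h : (2 : WithBot ℕ∞) ≤ ringKrullDim R) :
    ∃ a b : R, a ∈ IsLocalRing.maximalIdeal R ∧ b ∈ IsLocalRing.maximalIdeal R ∧
      RingTheory.Sequence.IsWeaklyRegular R [a, b] := by
  have hd := Groth.Agent.Lib.Helper45.RefHullRegular.two_le_depth_of_isRegularLocalRing R h
  obtain ⟨rs, hrs, hmem, hlen⟩ := Groth.Agent.Lib.Helper89.RegTriple.exists_of_le_depth (R := R) 2
    (by exact_mod_cast hd)
  match rs, hrs, hmem, hlen with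
  | a :: b :: rest, hrs, hmem, _ =>
    refine ⟨a, b, hmem a (by simp), hmem b (by simp), ?_⟩
    rw [RingTheory.Sequence.isWeaklyRegular_cons_iff] at hrs ⊢
    refine ⟨hrs.1, ?_⟩
    have h2 := hrs.2
    rw [RingTheory.Sequence.isWeaklyRegular_cons_iff] at h2 ⊢
    exact ⟨h2.1, RingTheory.Sequence.IsWeaklyRegular.nil _ _⟩
  | [], _, _, hlen => simp at hlen
  | [_], _, _, hlen => simp at hlen

lemma HZ_of_regular {X : Scheme.{u}} (U : X.Opens)
    (hZ : ∀ z : X, z ∉ U → IsRegularLocalRing (X.presheaf.stalk z) ∧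
      (2 : WithBot ℕ∞) ≤ ringKrullDim (X.presheaf.stalk z)) : HZ X U := by
  intro z hz
  obtain ⟨h1, h2⟩ := hZ z hz
  exact exists_pair_of_regular _ h2

lemma HZ_preimage {P X : Scheme.{u}} (p : P ⟶ X) [Flat p] (U : X.Opens) (h : HZ X U) :
    HZ P (p ⁻¹ᵁ U) := by
  intro q hq
  have hpq : p q ∉ U := hq
  obtain ⟨a, b, ha, hb, hab⟩ := h (p q) hpq
  let φ := (p.stalkMap q).hom
  have hflat : φ.Flat := Flat.stalkMap p q
  letI := φ.toAlgebra
  haveI : Module.Flat (X.presheaf.stalk (p q)) (P.presheaf.stalk q) := hflat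
  have hloc : IsLocalHom φ := inferInstanceAs (IsLocalHom (p.stalkMap q).hom)
  refine ⟨φ a, φ b, ?_, ?_, ?_⟩
  · rw [IsLocalRing.mem_maximalIdeal, mem_nonunits_iff] at ha ⊢
    exact fun h => ha ((isUnit_map_iff φ a).mp h)
  · rw [IsLocalRing.mem_maximalIdeal, mem_nonunits_iff] at hb ⊢
    exact fun h => hb ((isUnit_map_iff φ b).mp h)
  · exact hab.of_flat (S := P.presheaf.stalk q)

instance quasiCompact_preimage_ι {P X : Scheme.{u}} (p : P ⟶ X) (U : X.Opens) [QuasiCompact U.ι] :
    QuasiCompact (p ⁻¹ᵁ U).ι :=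
  MorphismProperty.of_isPullback (P := @QuasiCompact) (isPullback_morphismRestrict p U)
    inferInstance

variable {X : Scheme.{u}} (U : X.Opens) [QuasiCompact U.ι] (hZ : HZ X U)
  (P Q : Over X) [Flat P.hom] [IsAffineHom Q.hom] [LocallyOfFinitePresentation Q.hom]

omit [QuasiCompact U.ι] [Flat P.hom] [IsAffineHom Q.hom] [LocallyOfFinitePresentation Q.hom] in
lemma map_left_fst {P Q : Over X} (k : P ⟶ Q) :
    ((Over.pullback U.ι).map k).left ≫ pullback.fst Q.hom U.ι = pullback.fst P.hom U.ι ≫ k.left :=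
  pullback.lift_fst _ _ _

omit [QuasiCompact U.ι] [Flat P.hom] [IsAffineHom Q.hom] [LocallyOfFinitePresentation Q.hom] in
lemma map_left_snd {P Q : Over X} (k : P ⟶ Q) :
    ((Over.pullback U.ι).map k).left ≫ pullback.snd Q.hom U.ι = pullback.snd P.hom U.ι :=
  pullback.lift_snd _ _ _

include hZ in
/-- `Over.pullback U.ι` is full on morphisms `P ⟶ Q`. -/
theorem full (h' : (Over.pullback U.ι).obj P ⟶ (Over.pullback U.ι).obj Q) :
    ∃ h : P ⟶ Q, (Over.pullback U.ι).map h = h' := by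
  let V : P.left.Opens := P.hom ⁻¹ᵁ U
  let e : pullback P.hom U.ι ≅ (V : Scheme.{u}) := pullbackRestrictIsoRestrict P.hom U
  have he : e.hom ≫ V.ι = pullback.fst P.hom U.ι := pullbackRestrictIsoRestrict_hom_ι P.hom U
  have hw : h'.left ≫ pullback.snd Q.hom U.ι = pullback.snd P.hom U.ι := Over.w h'
  let t₀ : pullback P.hom U.ι ⟶ pullback Q.hom P.hom :=
    pullback.lift (h'.left ≫ pullback.fst Q.hom U.ι) (pullback.fst P.hom U.ι) (by
      rw [Category.assoc, pullback.condition, reassoc_of% hw, pullback.condition])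
  let t : (V : Scheme.{u}) ⟶ pullback Q.hom P.hom := e.inv ≫ t₀
  have ht : t ≫ pullback.snd Q.hom P.hom = V.ι := by
    rw [Category.assoc, pullback.lift_snd, ← he, Iso.inv_hom_id_assoc]
  have : IsAffineHom (pullback.snd Q.hom P.hom) :=
    MorphismProperty.pullback_snd (P := @IsAffineHom) _ _ inferInstance
  obtain ⟨s, ⟨hs1, hs2⟩, -⟩ := Groth.Agent.S14272.result P.left V (HZ_preimage P.hom U hZ)
    (pullback Q.hom P.hom) (pullback.snd Q.hom P.hom) t ht
  refine ⟨Over.homMk (s ≫ pullback.fst Q.hom P.hom) (by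
    rw [Category.assoc, pullback.condition, reassoc_of% hs1]), ?_⟩
  apply Over.OverMorphism.ext
  apply pullback.hom_ext
  · rw [map_left_fst]
    change pullback.fst P.hom U.ι ≫ s ≫ pullback.fst Q.hom P.hom = _
    rw [← he, Category.assoc, reassoc_of% hs2]
    change e.hom ≫ (e.inv ≫ t₀) ≫ _ = _
    rw [Category.assoc, Iso.hom_inv_id_assoc, pullback.lift_fst]
  · rw [map_left_snd, hw]

include hZ in
/-- `Over.pullback U.ι` is faithful on morphisms `P ⟶ Q`. -/
theorem faithful (h₁ h₂ : P ⟶ Q) (heq : (Over.pullback U.ι).map h₁ = (Over.pullback U.ι).map h₂) :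
    h₁ = h₂ := by
  let V : P.left.Opens := P.hom ⁻¹ᵁ U
  let e : pullback P.hom U.ι ≅ (V : Scheme.{u}) := pullbackRestrictIsoRestrict P.hom U
  have he : e.hom ≫ V.ι = pullback.fst P.hom U.ι := pullbackRestrictIsoRestrict_hom_ι P.hom U
  have h1 : pullback.fst P.hom U.ι ≫ h₁.left = pullback.fst P.hom U.ι ≫ h₂.left := by
    rw [← map_left_fst U h₁, ← map_left_fst U h₂, heq]
  have h2 : V.ι ≫ h₁.left = V.ι ≫ h₂.left := by
    rw [← he, Category.assoc, Category.assoc] at h1
    exact (cancel_epi e.hom).mp h1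
  let s₁ : P.left ⟶ pullback Q.hom P.hom := pullback.lift h₁.left (𝟙 _) (by simp)
  let s₂ : P.left ⟶ pullback Q.hom P.hom := pullback.lift h₂.left (𝟙 _) (by simp)
  have hs : V.ι ≫ s₁ = V.ι ≫ s₂ := by
    apply pullback.hom_ext
    · simp only [Category.assoc, s₁, s₂, pullback.lift_fst]
      exact h2
    · simp only [Category.assoc, s₁, s₂, pullback.lift_snd]
  have ht : (V.ι ≫ s₁) ≫ pullback.snd Q.hom P.hom = V.ι := by
    rw [Category.assoc, pullback.lift_snd, Category.comp_id]
  have : IsAffineHom (pullback.snd Q.hom P.hom) :=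
    MorphismProperty.pullback_snd (P := @IsAffineHom) _ _ inferInstance
  obtain ⟨s, -, huniq⟩ := Groth.Agent.S14272.result P.left V (HZ_preimage P.hom U hZ)
    (pullback Q.hom P.hom) (pullback.snd Q.hom P.hom) (V.ι ≫ s₁) ht
  have e1 : s₁ = s := huniq s₁ ⟨pullback.lift_snd _ _ _, rfl⟩
  have e2 : s₂ = s := huniq s₂ ⟨pullback.lift_snd _ _ _, hs.symm⟩
  apply Over.OverMorphism.ext
  have h3 : s₁ ≫ pullback.fst Q.hom P.hom = s₂ ≫ pullback.fst Q.hom P.hom := by rw [e1, e2]
  have h4 : s₁ ≫ pullback.fst Q.hom P.hom = h₁.left := pullback.lift_fst _ _ _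
  have h5 : s₂ ≫ pullback.fst Q.hom P.hom = h₂.left := pullback.lift_fst _ _ _
  rw [← h4, ← h5, h3]

end Groth.Agent.H72.HartogsOver
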