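import Mathlib
import Groth.Agent.H72.HartogsAlg

/-!
# Hartogs extension for sections of the structure sheaf (helper72)

`bijective_restrict`: `V` an affine open of a scheme `X`, `W ≤ V` a quasi-compact open such that at
every point of `V` outside `W` the local ring has a weakly regular sequence of length two in its
maximal ideal.  Then `Γ(X, V) → Γ(X, W)` is bijective.
-/

universe u

open AlgebraicGeometry CategoryTheory TopologicalSpace Opposite

namespace Groth.Agent.H72.HartogsSections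

open Groth.Agent.H72.HartogsAlg

set_option backward.isDefEq.respectTransparency.types false in
theorem bijective_restrict (X : Scheme.{u}) {V W : X.Opens} (hV : IsAffineOpen V) (hWV : W ≤ V)
    (hW : IsCompact (W : Set X))
    (hZ : ∀ z : X, z ∈ V → z ∉ W → ∃ a b : X.presheaf.stalk z,
      a ∈ IsLocalRing.maximalIdeal (X.presheaf.stalk z) ∧
      b ∈ IsLocalRing.maximalIdeal (X.presheaf.stalk z) ∧
      RingTheory.Sequence.IsWeaklyRegular (X.presheaf.stalk z) [a, b]) :
    Function.Bijective (X.presheaf.map (homOfLE hWV).op) := by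
  classical
  -- finite cover by basic opens
  have hcov : ∀ x : W, ∃ f : Γ(X, V), X.basicOpen f ≤ W ∧ (x : X) ∈ X.basicOpen f :=
    fun x => hV.exists_basicOpen_le x (hWV x.2)
  choose g hgW hxg using hcov
  obtain ⟨s, hs⟩ := hW.elim_finite_subcover (fun x : W => (X.basicOpen (g x) : Set X))
    (fun x => (X.basicOpen (g x)).isOpen)
    (fun x hx => Set.mem_iUnion.mpr ⟨⟨x, hx⟩, hxg ⟨x, hx⟩⟩)
  obtain ⟨ρ, hρ⟩ : ∃ ρ : Γ(X, V) →+* Γ(X, W), ρ = (X.presheaf.map (homOfLE hWV).op).hom :=
    ⟨_, rfl⟩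
  letI : Algebra Γ(X, V) Γ(X, W) := ρ.toAlgebra
  obtain ⟨f, hf⟩ : ∃ f : s → Γ(X, V), f = fun i => g i.1 := ⟨_, rfl⟩
  have hfW : ∀ i, X.basicOpen (f i) ≤ W := fun i => by rw [hf]; exact hgW i.1
  have hcover : W ≤ ⨆ i : s, X.basicOpen (f i) := by
    intro x hx
    have := hs hx
    simp only [Set.mem_iUnion] at this
    obtain ⟨i, hi, hxi⟩ := this
    rw [Opens.mem_iSup]
    exact ⟨⟨i, hi⟩, by rw [hf]; exact hxi⟩
  -- restriction maps
  have hq : ∀ i (a : Γ(X, V)), X.presheaf.map (homOfLE (hfW i)).op (ρ a) =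
      X.presheaf.map (homOfLE (X.basicOpen_le (f i))).op a := by
    intro i a
    rw [hρ]
    change (X.presheaf.map (homOfLE hWV).op ≫ X.presheaf.map (homOfLE (hfW i)).op) a = _
    rw [← Functor.map_comp]
    rfl
  have hunit : ∀ i, IsUnit (X.presheaf.map (homOfLE (hfW i)).op (ρ (f i))) := by
    intro i
    rw [hq]
    exact RingedSpace.isUnit_res_basicOpen _ (f i)
  suffices h : Function.Bijective (Algebra.linearMap Γ(X, V) Γ(X, W)) by
    have e : ⇑(Algebra.linearMap Γ(X, V) Γ(X, W)) = ⇑(X.presheaf.map (homOfLE hWV).op) := by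
      ext a
      change ρ a = _
      rw [hρ]
    rw [← e]
    exact h
  refine bijective_of_depth (Algebra.linearMap Γ(X, V) Γ(X, W)) f ?_ ?_ ?_ ?_
  · -- (a)
    intro t ht
    refine X.sheaf.eq_of_locally_eq' (fun i : s => X.basicOpen (f i)) W
      (fun i => homOfLE (hfW i)) hcover t 0 ?_
    intro i
    obtain ⟨N, hN⟩ := ht i
    rw [Algebra.smul_def] at hN
    have h1 := congrArg (X.presheaf.map (homOfLE (hfW i)).op) hN
    rw [map_mul, map_zero] at h1
    change X.presheaf.map (homOfLE (hfW i)).op t = X.presheaf.map (homOfLE (hfW i)).op 0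
    rw [map_zero]
    have hu : IsUnit (X.presheaf.map (homOfLE (hfW i)).op (algebraMap Γ(X, V) Γ(X, W) (f i ^ N))) := by
      rw [map_pow, map_pow]
      exact (hunit i).pow N
    exact (hu.mul_right_eq_zero).mp h1
  · -- (b)
    intro i t
    obtain ⟨n, y, hy⟩ := exists_eq_pow_mul_of_isCompact_of_isQuasiSeparated X V hV.isCompact
      hV.isQuasiSeparated (f i) (X.presheaf.map (homOfLE (hfW i)).op t)
    simp only [TopCat.Presheaf.restrictOpenCommRingCat_apply] at hy
    have hx0 : X.presheaf.map (homOfLE (hfW i)).op (ρ (f i) ^ n * t - ρ y) = 0 := by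
      rw [map_sub, map_mul, map_pow, hq, hq, hy, sub_self]
    have hle : X.basicOpen (ρ (f i)) ≤ X.basicOpen (f i) := by
      rw [hρ, Scheme.basicOpen_res]
      exact inf_le_right
    have H : (ρ (f i) ^ n * t - ρ y) |_ X.basicOpen (ρ (f i)) = 0 := by
      change X.presheaf.map (homOfLE (X.basicOpen_le (ρ (f i)))).op (ρ (f i) ^ n * t - ρ y) = 0
      have : X.presheaf.map (homOfLE (X.basicOpen_le (ρ (f i)))).op (ρ (f i) ^ n * t - ρ y) =
          X.presheaf.map (homOfLE hle).op
            (X.presheaf.map (homOfLE (hfW i)).op (ρ (f i) ^ n * t - ρ y)) := by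
        change _ = (X.presheaf.map (homOfLE (hfW i)).op ≫ X.presheaf.map (homOfLE hle).op) _
        rw [← Functor.map_comp]
        rfl
      rw [this, hx0, map_zero]
    obtain ⟨N, hN⟩ := exists_pow_mul_eq_zero_of_res_basicOpen_eq_zero_of_isCompact X hW _ _ H
    refine ⟨N + n, f i ^ N * y, ?_⟩
    rw [Algebra.smul_def, Algebra.linearMap_apply]
    change ρ (f i ^ (N + n)) * t = ρ (f i ^ N * y)
    rw [map_pow, map_mul, map_pow]
    linear_combination hN
  · -- (c)
    intro i r hr
    apply exists_pow_mul_eq_zero_of_res_basicOpen_eq_zero_of_isCompact X hV.isCompact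
    change X.presheaf.map (homOfLE (X.basicOpen_le (f i))).op r = 0
    rw [← hq]
    have : ρ r = 0 := hr
    rw [this, map_zero]
  · -- (d)
    intro z hz hfz
    have hxV : hV.fromSpec ⟨z, hz⟩ ∈ V := by
      rw [← SetLike.mem_coe, ← hV.range_fromSpec]
      exact ⟨_, rfl⟩
    have hxW : hV.fromSpec ⟨z, hz⟩ ∉ W := by
      intro hx
      have := hcover hx
      rw [Opens.mem_iSup] at this
      obtain ⟨i, hi⟩ := this
      have h1 : (⟨z, hz⟩ : PrimeSpectrum Γ(X, V)) ∈ hV.fromSpec ⁻¹ᵁ X.basicOpen (f i) := hi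
      rw [hV.fromSpec_preimage_basicOpen] at h1
      exact h1 (hfz i)
    obtain ⟨a, b, ha, hb, hab⟩ := hZ _ hxV hxW
    refine ⟨X.presheaf.stalk (hV.fromSpec ⟨z, hz⟩), inferInstance,
      TopCat.Presheaf.algebra_section_stalk X.presheaf ⟨hV.fromSpec ⟨z, hz⟩, hxV⟩,
      hV.isLocalization_stalk' ⟨z, hz⟩ hxV, a, b, ?_, ?_, good_of_isWeaklyRegular hab⟩
    · exact (IsLocalRing.mem_maximalIdeal a).mp ha
    · exact (IsLocalRing.mem_maximalIdeal b).mp hb

end Groth.Agent.H72.HartogsSections
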