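import Mathlib
import Groth.Agent.H72.HartogsSections

/-!
# Extending sections of affine morphisms across a closed subset of depth ≥ 2 (helper72)
-/

universe u

open AlgebraicGeometry CategoryTheory CategoryTheory.Limits TopologicalSpace Opposite

namespace Groth.Agent.H72.HartogsSch

open Groth.Agent.H72.HartogsSections

set_option backward.isDefEq.respectTransparency.types false in
theorem app_bijective (X : Scheme.{u}) (U : X.Opens) [QuasiCompact U.ι]
    (hZ : ∀ z : X, z ∉ U → ∃ a b : X.presheaf.stalk z,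
      a ∈ IsLocalRing.maximalIdeal (X.presheaf.stalk z) ∧
      b ∈ IsLocalRing.maximalIdeal (X.presheaf.stalk z) ∧
      RingTheory.Sequence.IsWeaklyRegular (X.presheaf.stalk z) [a, b])
    {V : X.Opens} (hV : IsAffineOpen V) : Function.Bijective (U.ι.app V) := by
  rw [Scheme.Opens.ι_app]
  apply bijective_restrict X hV
  · have := U.ι.isCompact_preimage hV.isCompact
    exact this.image U.ι.continuous
  · intro z hzV hzW
    apply hZ
    intro hzU
    apply hzW
    exact ⟨⟨z, hzU⟩, hzV, rfl⟩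

theorem isIso_of_forall_app {X E : Scheme.{u}} (e : E ⟶ X) [IsAffineHom e]
    (h : ∀ V : X.Opens, IsAffineOpen V → Function.Bijective (e.app V)) : IsIso e := by
  have key : ∀ V : X.affineOpens, MorphismProperty.isomorphisms Scheme (e ∣_ V.1) := by
    intro V
    have : IsIso (e.app V.1) := (ConcreteCategory.isIso_iff_bijective _).mpr (h V.1 V.2)
    exact (isIso_morphismRestrict_iff_isIso_app e V.2).mpr this
  exact IsZariskiLocalAtTarget.of_iSup_eq_top (P := MorphismProperty.isomorphisms Scheme)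
    (fun V : X.affineOpens => V.1) (iSup_affineOpens_eq_top X) key

theorem isIso_of_lift {X E U' : Scheme.{u}} (e : E ⟶ X) [IsClosedImmersion e] (ℓ : U' ⟶ E)
    (hinj : ∀ V : X.Opens, IsAffineOpen V → Function.Injective ((ℓ ≫ e).app V)) : IsIso e := by
  apply isIso_of_forall_app
  intro V hV
  refine ⟨?_, e.app_surjective V hV⟩
  have h := hinj V hV
  rw [Scheme.Hom.comp_app] at h
  exact Function.Injective.of_comp (f := ℓ.app (e ⁻¹ᵁ V)) h

theorem exists_section_of_bijective {X Y U' : Scheme.{u}} (f : Y ⟶ X) [IsAffineHom f]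
    (t : U' ⟶ Y) [QuasiCompact t]
    (hbij : ∀ V : X.Opens, IsAffineOpen V → Function.Bijective ((t ≫ f).app V)) :
    ∃ s : X ⟶ Y, s ≫ f = 𝟙 X ∧ (t ≫ f) ≫ s = t := by
  obtain ⟨h, hh⟩ : ∃ h : t.image ⟶ X, h = t.imageι ≫ f := ⟨_, rfl⟩
  have : IsAffineHom h := by rw [hh]; infer_instance
  have hth : t.toImage ≫ h = t ≫ f := by
    rw [hh, ← Category.assoc, Scheme.Hom.toImage_imageι]
  have hiso : IsIso h := by
    apply isIso_of_forall_app
    intro V hV
    have hb : Function.Bijective ((t.toImage ≫ h).app V) := by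
      rw [hth]; exact hbij V hV
    rw [Scheme.Hom.comp_app] at hb
    have hinj' : Function.Injective (t.toImage.app (h ⁻¹ᵁ V)) := by
      subst hh
      exact t.toImage_app_injective ⟨f ⁻¹ᵁ V, hV.preimage f⟩
    refine ⟨Function.Injective.of_comp (f := t.toImage.app (h ⁻¹ᵁ V)) hb.1, ?_⟩
    intro z
    obtain ⟨r, hr⟩ := hb.2 (t.toImage.app (h ⁻¹ᵁ V) z)
    exact ⟨r, hinj' hr⟩
  refine ⟨inv h ≫ t.imageι, ?_, ?_⟩
  · rw [Category.assoc, ← hh, IsIso.inv_hom_id]
  · rw [← hth, Category.assoc, IsIso.hom_inv_id_assoc, Scheme.Hom.toImage_imageι]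

set_option backward.isDefEq.respectTransparency.types false in
theorem section_unique {X Y U' : Scheme.{u}} (f : Y ⟶ X) [IsSeparated f] (j : U' ⟶ X)
    (hinj : ∀ V : X.Opens, IsAffineOpen V → Function.Injective (j.app V))
    (s₁ s₂ : X ⟶ Y) (h₁ : s₁ ≫ f = 𝟙 X) (h₂ : s₂ ≫ f = 𝟙 X) (h : j ≫ s₁ = j ≫ s₂) :
    s₁ = s₂ := by
  let X' : Over X := Over.mk (s₁ ≫ f)
  let Y' : Over X := Over.mk f
  let U'' : Over X := Over.mk (j ≫ s₁ ≫ f)
  let f' : X' ⟶ Y' := Over.homMk s₁
  let g' : X' ⟶ Y' := Over.homMk s₂ (by simp [X', Y', h₁, h₂])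
  let ι' : U'' ⟶ X' := Over.homMk j
  have : IsSeparated Y'.hom := ‹_›
  have hcond : ι' ≫ f' = ι' ≫ g' := by
    ext1; exact h
  have hlift : (equalizer.lift ι' hcond).left ≫ (equalizer.ι f' g').left = j := by
    rw [← Over.comp_left, equalizer.lift_ι]
    rfl
  have := isIso_of_lift (equalizer.ι f' g').left (equalizer.lift ι' hcond).left (by
    rw [hlift]; exact hinj)
  rw [← cancel_epi (equalizer.ι f' g').left]
  exact congr($(equalizer.condition f' g').left)

end Groth.Agent.H72.HartogsSch
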