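import Mathlib
import Groth.Prelude.Def_EGA43

/-!
# Integral extensions of domains over integrally closed domains are open

Library of helper72.
-/

set_option autoImplicit false

namespace Groth.Agent.H72.IntOpen

open PrimeSpectrum EGA43

/-- An injective integral ring map from an integrally closed domain to a domain induces an open
map on prime spectra. -/
theorem isOpenMap_comap_of_isIntegrallyClosed {N E : Type*} [CommRing N] [IsDomain N]
    [IsIntegrallyClosed N] [CommRing E] [IsDomain E] (φ : N →+* E)
    (hinj : Function.Injective φ) (hint : φ.IsIntegral) : IsOpenMap (comap φ) := by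
  algebraize [φ]
  have : FaithfulSMul N E := (faithfulSMul_iff_algebraMap_injective N E).mpr hinj
  have : Algebra.IsIntegral N E := ⟨hint⟩
  rw [isBasis_basic_opens.isOpenMap_iff]
  rintro _ ⟨_, ⟨g, rfl⟩, rfl⟩
  have hg : IsIntegral N g := Algebra.IsIntegral.isIntegral g
  let C := Algebra.adjoin N ({g} : Set E)
  let pb := Algebra.adjoin.powerBasis' hg
  have : Module.Finite N C := pb.finite
  have : Module.Free N C := Module.Free.of_basis pb.basis
  have : Module.FinitePresentation N C := Module.finitePresentation_of_projective _ _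
  have : Algebra.IsIntegral C E := Algebra.IsIntegral.tower_top (R := N)
  let gC : C := ⟨g, Algebra.subset_adjoin (Set.mem_singleton g)⟩
  have himage : comap (algebraMap N E) '' (basicOpen g : Set (PrimeSpectrum E)) =
      comap (algebraMap N C) '' (basicOpen gC : Set (PrimeSpectrum C)) := by
    ext p
    constructor
    · rintro ⟨Q, hQ, rfl⟩
      refine ⟨comap (algebraMap C E) Q, ?_, ?_⟩
      · exact hQ
      · rw [← comap_comp_apply, ← IsScalarTower.algebraMap_eq]
    · rintro ⟨QC, hQC, rfl⟩
      have hCE : (algebraMap C E).IsIntegral := algebraMap_isIntegral_iff.mpr inferInstance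
      obtain ⟨Q, hQ⟩ := hCE.comap_surjective (FaithfulSMul.algebraMap_injective C E) QC
      refine ⟨Q, ?_, ?_⟩
      · change g ∉ Q.asIdeal
        intro hmem
        apply hQC
        rw [← hQ]
        exact hmem
      · rw [IsScalarTower.algebraMap_eq N C E, comap_comp_apply, hQ]
  change IsOpen (comap (algebraMap N E) '' (basicOpen g : Set (PrimeSpectrum E)))
  rw [himage]
  exact isOpenMap_comap_of_hasGoingDown_of_finitePresentation _ (basicOpen gC).isOpen


/-- Openness at a point of an integral extension of domains `R ⊆ D`, when the prime of `R` under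
the point has a unique prime above it in a normalization `N` of `R`. -/
theorem isOpenAt_comap_of_unique {R N D : Type*} [CommRing R] [IsDomain R] [CommRing N]
    [IsDomain N] [IsIntegrallyClosed N] [CommRing D] [IsDomain D]
    (φN : R →+* N) (φD : R →+* D) (hNinj : Function.Injective φN)
    (hDinj : Function.Injective φD) (hNint : φN.IsIntegral) (hDint : φD.IsIntegral)
    (hfrac : ∀ b : N, ∃ a c : R, c ≠ 0 ∧ b * φN c = φN a)
    (Q : PrimeSpectrum D)
    (huniq : ∀ n₁ n₂ : PrimeSpectrum N, comap φN n₁ = comap φD Q → comap φN n₂ = comap φD Q →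
      n₁ = n₂) :
    IsOpenAt (comap φD) Q := by
  algebraize [φN, φD]
  have : FaithfulSMul R N := (faithfulSMul_iff_algebraMap_injective R N).mpr hNinj
  have : FaithfulSMul R D := (faithfulSMul_iff_algebraMap_injective R D).mpr hDinj
  have : Algebra.IsIntegral R N := ⟨hNint⟩
  have : Algebra.IsIntegral R D := ⟨hDint⟩
  let K := FractionRing N
  let L := FractionRing D
  have hRK : Function.Injective (algebraMap R K) := by
    rw [IsScalarTower.algebraMap_eq R N K]
    exact (IsFractionRing.injective N K).comp hNinj
  have hRL : Function.Injective (algebraMap R L) := by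
    rw [IsScalarTower.algebraMap_eq R D L]
    exact (IsFractionRing.injective D L).comp hDinj
  have : FaithfulSMul R K := (faithfulSMul_iff_algebraMap_injective R K).mpr hRK
  have hNK : ∀ n : N, ∃ a c : R, algebraMap R K c ≠ 0 ∧
      algebraMap N K n = algebraMap R K a / algebraMap R K c := by
    intro n
    obtain ⟨a, c, hc, h⟩ := hfrac n
    have hc' : algebraMap R K c ≠ 0 := (map_ne_zero_iff _ hRK).mpr hc
    refine ⟨a, c, hc', ?_⟩
    rw [eq_div_iff hc', IsScalarTower.algebraMap_apply R N K, IsScalarTower.algebraMap_apply R N K,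
      ← map_mul]
    exact congrArg _ h
  have : IsFractionRing R K := by
    apply IsFractionRing.of_field
    intro z
    obtain ⟨n, n', hn', rfl⟩ := IsFractionRing.div_surjective (A := N) z
    obtain ⟨a, c, hc, h1⟩ := hNK n
    obtain ⟨a', c', hc', h2⟩ := hNK n'
    refine ⟨a * c', c * a', ?_⟩
    rw [h1, h2, map_mul, map_mul]
    by_cases ha' : algebraMap R K a' = 0
    · simp [ha']
    · rw [div_div_div_eq]
  let g : R →ₐ[R] L := Algebra.ofId R L
  have hg : Function.Injective g := hRL
  let ψ : N →ₐ[R] L := (IsFractionRing.liftAlgHom (K := K) hg).comp (IsScalarTower.toAlgHom R N K)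
  have hψinj : Function.Injective ψ :=
    (RingHom.injective (IsFractionRing.liftAlgHom (K := K) hg : K →+* L)).comp
      (IsFractionRing.injective N K)
  let E := integralClosure R L
  let ιN : N →ₐ[R] E := ψ.codRestrict E fun b => (Algebra.IsIntegral.isIntegral b).map ψ
  let ιD : D →ₐ[R] E := (IsScalarTower.toAlgHom R D L).codRestrict E
    fun b => (Algebra.IsIntegral.isIntegral b).map (IsScalarTower.toAlgHom R D L)
  have hιNinj : Function.Injective ιN := by
    intro a b hab
    exact hψinj (congrArg Subtype.val hab)
  have hιDinj : Function.Injective ιD := by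
    intro a b hab
    exact IsFractionRing.injective D L (congrArg Subtype.val hab)
  have hE : (algebraMap R E).IsIntegral := algebraMap_isIntegral_iff.mpr inferInstance
  have hιNint : (ιN : N →+* E).IsIntegral := by
    apply RingHom.IsIntegral.tower_top (algebraMap R N)
    rw [show (ιN : N →+* E).comp (algebraMap R N) = algebraMap R E from ιN.comp_algebraMap]
    exact hE
  have hιDint : (ιD : D →+* E).IsIntegral := by
    apply RingHom.IsIntegral.tower_top (algebraMap R D)
    rw [show (ιD : D →+* E).comp (algebraMap R D) = algebraMap R E from ιD.comp_algebraMap]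
    exact hE
  have hopen := isOpenMap_comap_of_isIntegrallyClosed (ιN : N →+* E) hιNinj hιNint
  have hclosed := isClosedMap_comap_of_isIntegral (algebraMap R N) hNint
  -- commutativity of the square of spectra
  have hsq : ∀ Q' : PrimeSpectrum E, comap (algebraMap R N) (comap (ιN : N →+* E) Q') =
      comap (algebraMap R D) (comap (ιD : D →+* E) Q') := by
    intro Q'
    rw [← comap_comp_apply, ← comap_comp_apply,
      show (ιN : N →+* E).comp (algebraMap R N) = algebraMap R E from ιN.comp_algebraMap,
      show (ιD : D →+* E).comp (algebraMap R D) = algebraMap R E from ιD.comp_algebraMap]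
  intro W hW
  obtain ⟨_, ⟨d, rfl⟩, hQd, hdW⟩ := (isTopologicalBasis_basic_opens (R := D)).mem_nhds_iff.mp hW
  let U' : Set (PrimeSpectrum N) :=
    comap (ιN : N →+* E) '' (basicOpen (ιD d) : Set (PrimeSpectrum E))
  have hU' : IsOpen U' := hopen _ (basicOpen (ιD d)).isOpen
  let V : Set (PrimeSpectrum R) := (comap (algebraMap R N) '' U'ᶜ)ᶜ
  have hV : IsOpen V := (hclosed _ hU'.isClosed_compl).isOpen_compl
  have hVsub : V ⊆ comap (algebraMap R D) '' W := by
    intro p hp
    obtain ⟨n, hn⟩ := hNint.comap_surjective hNinj p
    have hnU : n ∈ U' := by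
      by_contra hcon
      exact hp ⟨n, hcon, hn⟩
    obtain ⟨Q', hQ', rfl⟩ := hnU
    refine ⟨comap (ιD : D →+* E) Q', hdW ?_, ?_⟩
    · exact hQ'
    · rw [← hsq]
      exact hn
  have hQV : comap (algebraMap R D) Q ∈ V := by
    rintro ⟨n, hnU, hn⟩
    obtain ⟨Q', hQ'⟩ := hιDint.comap_surjective hιDinj Q
    have h1 : comap (algebraMap R N) (comap (ιN : N →+* E) Q') = comap (algebraMap R D) Q := by
      rw [hsq, hQ']
    have h2 := huniq n (comap (ιN : N →+* E) Q') hn h1
    apply hnU
    rw [h2]
    refine ⟨Q', ?_, rfl⟩
    change ιD d ∉ Q'.asIdeal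
    intro hmem
    apply hQd
    rw [← hQ']
    exact hmem
  exact Filter.mem_of_superset (hV.mem_nhds hQV) hVsub

end Groth.Agent.H72.IntOpen
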