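import Mathlib
import Groth.Agent.Lib.Helper71.FlatColim
import Groth.Agent.H34.FerrandDescent

/-!
# Descent of flatness along integral injective ring maps (finitely presented case)

Library of helper72.  `flat_of_integral_injective`: let `A → A'` be injective and integral, `B` a
finitely presented `A`-algebra and `M` a finitely presented `B`-module.  If `A' ⊗ M` is flat over
`A'` then `M` is flat over `A`.  (Reduction to the Noetherian finite case, i.e. Ferrand's theorem
`Groth.Agent.H34.FerrandDescent.main`, via helper76's descent of flatness to a finitely generated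
subring.)
-/

set_option autoImplicit false

namespace Groth.Agent.H72.IntegralFlat

open TensorProduct
open Groth.Agent.H76.FlatKernel Groth.Agent.H76.FlatDescentLocal Groth.Agent.H76.FlatBaseChange
  Groth.Agent.H76.FlatDescentGlobal
open Groth.Agent.Lib.Helper71.FlatColim

universe u

attribute [local instance] MvPolynomial.algebraMvPolynomial

section

variable {A A' : Type u} [CommRing A] [CommRing A'] [Algebra A A']

/-- the image of a stage of `A` lies in any stage of `A'` containing the image of the generators -/
theorem algebraMap_mem_stg (t : Finset A) (s' : Finset A')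
    (h : ∀ y ∈ t, algebraMap A A' y ∈ s') (x : Stg t) : algebraMap A A' (x : A) ∈ Stg s' := by
  have h1 : algebraMap A A' (x : A) ∈ (Stg t).map ((algebraMap A A').toIntAlgHom) :=
    ⟨x, x.2, rfl⟩
  rw [AlgHom.map_adjoin] at h1
  refine Algebra.adjoin_mono ?_ h1
  rintro _ ⟨y, hy, rfl⟩
  exact h y hy

/-- the induced map of stages -/
noncomputable def stgMap (t : Finset A) (s' : Finset A')
    (h : ∀ y ∈ t, algebraMap A A' y ∈ s') : Stg t →+* Stg s' :=
  RingHom.codRestrict ((algebraMap A A').comp (algebraMap (Stg t) A)) (Stg s')
    (fun x => algebraMap_mem_stg t s' h x)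

theorem algebraMap_stgMap (t : Finset A) (s' : Finset A')
    (h : ∀ y ∈ t, algebraMap A A' y ∈ s') :
    (algebraMap (Stg s') A').comp (stgMap t s' h) =
      (algebraMap A A').comp (algebraMap (Stg t) A) := by
  ext x; rfl

theorem stgMap_injective (hinj : Function.Injective (algebraMap A A')) (t : Finset A)
    (s' : Finset A') (h : ∀ y ∈ t, algebraMap A A' y ∈ s') :
    Function.Injective (stgMap t s' h) := by
  intro x y hxy
  have h1 : algebraMap (Stg s') A' (stgMap t s' h x) = algebraMap (Stg s') A' (stgMap t s' h y) :=
    congrArg _ hxy
  have h2 : ∀ z : Stg t, algebraMap (Stg s') A' (stgMap t s' h z) =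
      algebraMap A A' (algebraMap (Stg t) A z) := fun z =>
    congrFun (congrArg DFunLike.coe (algebraMap_stgMap t s' h)) z
  rw [h2, h2] at h1
  exact algebraMap_stg_injective t (hinj h1)

/-- Ring-level core: descent of flatness of a matrix cokernel along an integral injective map. -/
theorem flat_coker_of_integral_injective [Algebra.IsIntegral A A']
    (hinj : Function.Injective (algebraMap A A')) {n a b : ℕ}
    (c : Fin a → Fin b → MvPolynomial (Fin n) A)
    (hflat : Module.Flat A' (Coker (cmap (algebraMap A A') c))) : Module.Flat A (Coker c) := by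
  classical
  rcases subsingleton_or_nontrivial A with hA | hA
  · haveI : Subsingleton (Coker c) := Module.subsingleton A _
    infer_instance
  obtain ⟨s, -, c', hc', hfl⟩ := exists_stage_flat_global (cmap (algebraMap A A') c) ∅
  -- integrality data
  have hint : ∀ x : A', ∃ P : Polynomial A, P.Monic ∧
      Polynomial.eval₂ (algebraMap A A') x P = 0 := fun x => Algebra.IsIntegral.isIntegral x
  choose P hPm hP0 using hint
  set t : Finset A := (s.biUnion fun x => (P x).coeffs) ∪
    (Finset.univ.biUnion fun j => Finset.univ.biUnion fun i => (c j i).coeffs) with ht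
  -- lift `c` to `Stg t`
  have hcl : ∀ j i, ∃ f : MvPolynomial (Fin n) (Stg t),
      MvPolynomial.map (algebraMap (Stg t) A) f = c j i := by
    intro j i
    apply exists_map_eq
    intro x hx
    rw [ht]
    apply Finset.mem_union_right
    simp only [Finset.mem_biUnion, Finset.mem_univ, true_and]
    exact ⟨j, i, hx⟩
  choose cl hcl using hcl
  have hcl' : cmap (algebraMap (Stg t) A) cl = c := by
    ext j i : 2
    exact hcl j i
  -- the big stage of `A'`
  set s' : Finset A' := s ∪ t.image (algebraMap A A') with hs'
  have hts' : ∀ y ∈ t, algebraMap A A' y ∈ s' := fun y hy =>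
    Finset.mem_union_right _ (Finset.mem_image_of_mem _ hy)
  have hss' : s ⊆ s' := Finset.subset_union_left
  set ψ : Stg t →+* Stg s' := stgMap t s' hts' with hψ
  have hψinj : Function.Injective ψ := stgMap_injective hinj t s' hts'
  letI algψ : Algebra (Stg t) (Stg s') := ψ.toAlgebra
  have halgψ : algebraMap (Stg t) (Stg s') = ψ := RingHom.algebraMap_toAlgebra _
  have hψval : ∀ z : Stg t, ((ψ z : Stg s') : A') = algebraMap A A' (z : A) := fun z => rfl
  -- (a) finiteness
  have hfin : Module.Finite (Stg t) (Stg s') := by
    set S : Set (Stg s') := {z | (z : A') ∈ s} with hS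
    have hSfin : S.Finite := (s.finite_toSet).preimage Subtype.val_injective.injOn
    have hSint : ∀ z ∈ S, IsIntegral (Stg t) z := by
      intro z hz
      have hlift : P (z : A') ∈ Polynomial.lifts (algebraMap (Stg t) A) := by
        rw [Polynomial.lifts_iff_coeff_lifts]
        intro k
        by_cases hk : (P (z : A')).coeff k = 0
        · exact ⟨0, by rw [map_zero, hk]⟩
        · refine ⟨⟨(P (z : A')).coeff k, Algebra.subset_adjoin ?_⟩, rfl⟩
          rw [ht]
          apply Finset.mem_union_left
          exact Finset.mem_biUnion.mpr ⟨(z : A'), hz, Polynomial.coeff_mem_coeffs hk⟩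
      obtain ⟨Q, hQ, -, hQm⟩ := Polynomial.lifts_and_degree_eq_and_monic hlift (hPm _)
      refine ⟨Q, hQm, ?_⟩
      apply Subtype.val_injective
      have h1 : ((Polynomial.eval₂ (algebraMap (Stg t) (Stg s')) z Q : Stg s') : A') =
          Polynomial.eval₂ (algebraMap A A') (z : A') (P (z : A')) := by
        rw [← hQ, Polynomial.eval₂_map]
        have h2 := Polynomial.hom_eval₂ Q (algebraMap (Stg t) (Stg s'))
          (algebraMap (Stg s') A') z
        exact h2.trans (by rw [halgψ, algebraMap_stgMap]; rfl)
      rw [h1, hP0]
      rfl
    have htop : Algebra.adjoin (Stg t) S = ⊤ := by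
      rw [eq_top_iff]
      rintro ⟨z, hz⟩ -
      induction hz using Algebra.adjoin_induction with
      | mem x hx =>
        rw [hs', Finset.coe_union, Set.mem_union] at hx
        rcases hx with hx | hx
        · exact Algebra.subset_adjoin hx
        · rw [Finset.coe_image] at hx
          obtain ⟨y, hy, rfl⟩ := hx
          have : (⟨algebraMap A A' y, Algebra.subset_adjoin
              (Finset.mem_coe.mpr (hts' y hy))⟩ : Stg s') =
              algebraMap (Stg t) (Stg s') ⟨y, Algebra.subset_adjoin hy⟩ := by
            rw [halgψ]; rfl
          rw [this]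
          exact Subalgebra.algebraMap_mem _ _
      | algebraMap r =>
        have : (⟨algebraMap ℤ A' r, Subalgebra.algebraMap_mem _ r⟩ : Stg s') =
            algebraMap (Stg t) (Stg s') (algebraMap ℤ (Stg t) r) := by
          apply Subtype.val_injective
          rw [halgψ, hψval]
          simp
        rw [this]
        exact Subalgebra.algebraMap_mem _ _
      | add x y hx hy hx' hy' =>
        exact Subalgebra.add_mem _ hx' hy'
      | mul x y hx hy hx' hy' =>
        exact Subalgebra.mul_mem _ hx' hy'
    have hfg := fg_adjoin_of_finite hSfin hSint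
    rw [htop, Algebra.top_toSubmodule] at hfg
    exact Module.finite_def.mpr hfg
  -- (b) flatness over the big stage
  letI algss' : Algebra (Stg s) (Stg s') := (stgIncl hss').toAlgebra
  have halgss' : algebraMap (Stg s) (Stg s') = stgIncl hss' := RingHom.algebraMap_toAlgebra _
  haveI := hfl
  have hflat'' : Module.Flat (Stg s') (Coker (cmap (algebraMap (Stg s) (Stg s')) c')) :=
    Module.Flat.of_linearEquiv (cokerBaseChange (Stg s') c').symm
  -- (c) the two matrices over the big stage agree
  have heq : cmap (algebraMap (Stg s) (Stg s')) c' = cmap (algebraMap (Stg t) (Stg s')) cl := by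
    ext j i : 2
    apply MvPolynomial.map_injective _ (algebraMap_stg_injective s')
    rw [cmap_apply, cmap_apply, MvPolynomial.map_map, MvPolynomial.map_map, halgss',
      algebraMap_comp_stgIncl, halgψ, algebraMap_stgMap, ← MvPolynomial.map_map, hcl]
    exact congrFun (congrFun hc' j) i
  rw [heq] at hflat''
  -- (d) Ferrand
  haveI : Module.Flat (Stg s') (Stg s' ⊗[Stg t] Coker cl) :=
    Module.Flat.of_linearEquiv (cokerBaseChange (Stg s') cl)
  have hinj' : Function.Injective (algebraMap (Stg t) (Stg s')) := by
    rw [halgψ]; exact hψinj
  haveI hfl_t : Module.Flat (Stg t) (Coker cl) :=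
    Groth.Agent.H34.FerrandDescent.main (Stg t) (Stg s') hinj' (Coker cl)
  -- (e) conclusion
  have hfinal : Module.Flat A (Coker (cmap (algebraMap (Stg t) A) cl)) :=
    Module.Flat.of_linearEquiv (cokerBaseChange A cl).symm
  rw [hcl'] at hfinal
  exact hfinal

/-- **Descent of flatness along an integral injective ring map**, for finitely presented modules
over finitely presented algebras. -/
theorem flat_of_integral_injective [Algebra.IsIntegral A A']
    (hinj : Function.Injective (algebraMap A A'))
    (B : Type u) [CommRing B] [Algebra A B] [Algebra.FinitePresentation A B]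
    (M : Type u) [AddCommGroup M] [Module B M] [Module A M] [IsScalarTower A B M]
    [Module.FinitePresentation B M] (hflat : Module.Flat A' (A' ⊗[A] M)) : Module.Flat A M := by
  obtain ⟨n, a, b, c, ⟨e⟩⟩ := exists_presentation (A₀ := A) B M
  have h1 := (flat_coker_iff A' c M e).mp hflat
  haveI := flat_coker_of_integral_injective hinj c h1
  exact Module.Flat.of_linearEquiv e

end

end Groth.Agent.H72.IntegralFlat
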