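import Mathlib
import Groth.Agent.H72.IntegralFlat
import Groth.Agent.Lib.Helper2.FlatLocusOpen
import Groth.Agent.Lib.Helper14.FlatBaseChangeStalk

/-!
# Descent of flatness at a point along integral injective base changes (EGA IV 11.5.1-type)

Library of helper72.
-/

set_option autoImplicit false

namespace Groth.Agent.H72.IntegralFlatSch

open CategoryTheory AlgebraicGeometry Limits TopologicalSpace TensorProduct

universe u

set_option backward.isDefEq.respectTransparency.types false in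
/-- Let `g : S' ⟶ S` be an integral morphism of affine schemes, injective on global sections, and
`f : X ⟶ S` locally of finite presentation.  If the base change `X ×_S S' ⟶ S'` is flat at every
point above `x`, then `f` is flat at `x`. -/
theorem flat_stalkMap_of_integral {X S S' : Scheme.{u}} [IsAffine S] [IsAffine S']
    (f : X ⟶ S) [LocallyOfFinitePresentation f] (g : S' ⟶ S) [IsIntegralHom g]
    (hinj : Function.Injective g.appTop.hom) (x : X)
    (h : ∀ x' : ↥(pullback f g), (pullback.fst f g) x' = x →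
      ((pullback.snd f g).stalkMap x').hom.Flat) :
    (f.stalkMap x).hom.Flat := by
  have hint : g.appTop.hom.IsIntegral :=
    ((HasAffineProperty.iff_of_isAffine (P := @IsIntegralHom)).mp inferInstance).2
  have hopen : IsOpen {x' : ↥(pullback f g) | ((pullback.snd f g).stalkMap x').hom.Flat} :=
    Groth.Agent.Lib.Helper2.isOpen_flat_stalkMap_locus (pullback.snd f g)
  have hclosed : IsClosed ((pullback.fst f g) ''
      {x' : ↥(pullback f g) | ((pullback.snd f g).stalkMap x').hom.Flat}ᶜ) :=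
    (pullback.fst f g).isClosedMap _ hopen.isClosed_compl
  have hxE : x ∈ ((pullback.fst f g) ''
      {x' : ↥(pullback f g) | ((pullback.snd f g).stalkMap x').hom.Flat}ᶜ)ᶜ := by
    rintro ⟨x', hx', hxx'⟩
    exact hx' (h x' hxx')
  obtain ⟨_, ⟨W, hW, rfl⟩, hxW, hWE⟩ :=
    X.isBasis_affineOpens.exists_subset_of_mem_open hxE hclosed.isOpen_compl
  -- the affine open of the fibre product
  have H : IsPullback (pullback.fst f g) (pullback.snd f g) f g := IsPullback.of_hasPullback f g
  have hUST : (⊤ : S'.Opens) ≤ g ⁻¹ᵁ ⊤ := le_top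
  have hUSX : W ≤ f ⁻¹ᵁ ⊤ := le_top
  obtain ⟨UY, hUYdef⟩ : ∃ UY : (pullback f g).Opens,
      UY = (pullback.fst f g) ⁻¹ᵁ W ⊓ (pullback.snd f g) ⁻¹ᵁ ⊤ := ⟨_, rfl⟩
  have hS : IsAffineOpen (⊤ : S.Opens) := isAffineOpen_top S
  have hS' : IsAffineOpen (⊤ : S'.Opens) := isAffineOpen_top S'
  have hiso := isIso_pushoutSection_of_isAffineOpen H hUST hUSX hUYdef hS hS' hW
  have hpush := (isIso_pushoutSection_iff H hUST hUSX hUYdef).mp hiso
  have hUY : IsAffineOpen UY := by
    have : IsAffine (Scheme.Opens.toScheme (⊤ : S.Opens)) := hS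
    have : IsAffine (Scheme.Opens.toScheme (⊤ : S'.Opens)) := hS'
    have : IsAffine (Scheme.Opens.toScheme W) := hW
    exact .of_isIso (Scheme.Hom.isPullback_resLE H hUST hUSX hUYdef).isoPullback.hom
  have e1 : UY ≤ (pullback.fst f g) ⁻¹ᵁ W := hUYdef ▸ inf_le_left
  have e2 : UY ≤ (pullback.snd f g) ⁻¹ᵁ ⊤ := hUYdef ▸ inf_le_right
  -- all points of `UY` are flat points
  have hflatUY : ∀ x' (_ : x' ∈ UY), ((pullback.snd f g).stalkMap x').hom.Flat := by
    intro x' hx'
    by_contra hcon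
    exact hWE (show (pullback.fst f g) x' ∈ W from e1 hx') ⟨x', hcon, rfl⟩
  algebraize [(f.appLE ⊤ W hUSX).hom, (g.appLE ⊤ ⊤ hUST).hom,
    ((pullback.fst f g).appLE W UY e1).hom, ((pullback.snd f g).appLE ⊤ UY e2).hom,
    (((pullback.fst f g).appLE W UY e1).hom.comp (f.appLE ⊤ W hUSX).hom)]
  have : IsScalarTower Γ(S, ⊤) Γ(X, W) Γ(pullback f g, UY) := .of_algebraMap_eq' rfl
  have : IsScalarTower Γ(S, ⊤) Γ(S', ⊤) Γ(pullback f g, UY) :=
    .of_algebraMap_eq' congr($(hpush.w).hom)
  have hP : Algebra.IsPushout Γ(S, ⊤) Γ(X, W) Γ(S', ⊤) Γ(pullback f g, UY) :=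
    CommRingCat.isPushout_iff_isPushout.mp hpush
  -- flatness of the sections over `UY`
  have key : ∀ (I J : Ideal Γ(pullback f g, UY)) [I.IsPrime] [J.IsPrime], I = J →
      Module.Flat Γ(S', ⊤) (Localization.AtPrime I) →
      Module.Flat Γ(S', ⊤) (Localization.AtPrime J) := by
    intro I J _ _ h; subst h; exact id
  have hflatB' : Module.Flat Γ(S', ⊤) Γ(pullback f g, UY) := by
    refine Module.flat_of_isLocalized_maximal Γ(pullback f g, UY) Γ(pullback f g, UY)
      (fun P _ => Localization.AtPrime P) (fun P _ => Algebra.linearMap _ _) ?_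
    intro P hP
    haveI : P.IsPrime := hP.isPrime
    have hmem : hUY.fromSpec ⟨P, inferInstance⟩ ∈ UY := by
      have h1 : hUY.fromSpec ⟨P, inferInstance⟩ ∈ Set.range hUY.fromSpec := ⟨_, rfl⟩
      rw [hUY.range_fromSpec] at h1
      exact h1
    have h2 := (Groth.Agent.Lib.Helper14.flat_stalkMap_iff_flat_localization (pullback.snd f g)
      ⊤ hS' UY hUY e2 _ hmem).mp (hflatUY _ hmem)
    have h3 : hUY.primeIdealOf ⟨hUY.fromSpec ⟨P, inferInstance⟩, hmem⟩ = ⟨P, inferInstance⟩ := by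
      apply hUY.fromSpec.isOpenEmbedding.injective
      exact hUY.fromSpec_primeIdealOf _
    exact key _ _ (congrArg PrimeSpectrum.asIdeal h3) h2
  -- the ring map on the base
  have htop : g.appLE ⊤ ⊤ hUST = g.appTop := by
    rw [Scheme.Hom.appLE]
    simp
  have hinj' : Function.Injective (algebraMap Γ(S, ⊤) Γ(S', ⊤)) := by
    show Function.Injective (g.appLE ⊤ ⊤ hUST).hom
    rw [htop]; exact hinj
  haveI : Algebra.IsIntegral Γ(S, ⊤) Γ(S', ⊤) := by
    have h1 : (g.appLE ⊤ ⊤ hUST).hom.IsIntegral := by rw [htop]; exact hint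
    exact algebraMap_isIntegral_iff.mp h1
  have hfp : (f.appLE ⊤ W hUSX).hom.FinitePresentation :=
    HasRingHomProperty.appLE (P := @LocallyOfFinitePresentation) f inferInstance ⟨⊤, hS⟩ ⟨W, hW⟩
      hUSX
  haveI : Algebra.FinitePresentation Γ(S, ⊤) Γ(X, W) := hfp
  have hbc : IsBaseChange Γ(S', ⊤)
      (IsScalarTower.toAlgHom Γ(S, ⊤) Γ(X, W) Γ(pullback f g, UY)).toLinearMap := hP.symm.out
  have hflat' : Module.Flat Γ(S', ⊤) (Γ(S', ⊤) ⊗[Γ(S, ⊤)] Γ(X, W)) :=
    Module.Flat.of_linearEquiv hbc.equiv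
  have hflatB : Module.Flat Γ(S, ⊤) Γ(X, W) :=
    Groth.Agent.H72.IntegralFlat.flat_of_integral_injective hinj' Γ(X, W) Γ(X, W) hflat'
  rw [Groth.Agent.Lib.Helper14.flat_stalkMap_iff_flat_localization f ⊤ hS W hW hUSX x hxW]
  exact Module.Flat.trans Γ(S, ⊤) Γ(X, W) _

end Groth.Agent.H72.IntegralFlatSch
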