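import Mathlib
import Groth.Agent.Lib.Helper85.IntMult.PushLenAlg
import Groth.Agent.Lib.Helper12.LengthTensor

/-!
# Local invariants of a local homomorphism: length of the closed fibre and residue degrees

Library of helper72.  For a local homomorphism `ψ : A → B` of local rings:
* `locLen ψ = length_B (B / 𝔪_A B)`;
* `locDeg ψ = [κ(B) : κ(A)]`, `locSep ψ`, `locInsep ψ` its separable and inseparable parts.
We record their behaviour under composition.
-/

set_option autoImplicit false

universe u

namespace Groth.Agent.H72.LocInv

open IsLocalRing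

/-- Lengths are invariant under bijective semilinear maps. -/
theorem length_eq_of_semilinear {A A' N N' : Type*} [Ring A] [Ring A'] [AddCommGroup N]
    [AddCommGroup N'] [Module A N] [Module A' N'] {α : A →+* A'} [RingHomSurjective α]
    (f : N →ₛₗ[α] N') (hf : Function.Bijective f) : Module.length A N = Module.length A' N' := by
  rw [Module.length, Module.length, WithBot.unbot_inj,
    Order.krullDim_eq_of_orderIso (Submodule.orderIsoMapComapOfBijective f hf)]

theorem length_quot_congr {B : Type*} [CommRing B] {I J : Ideal B} (h : I = J) :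
    Module.length B (B ⧸ I) = Module.length B (B ⧸ J) := by
  subst h; rfl

section defs

variable {A B : Type u} [CommRing A] [CommRing B] [IsLocalRing A] [IsLocalRing B]
  (ψ : A →+* B) [IsLocalHom ψ]

/-- Length of the closed fibre `B / 𝔪_A B` over `B`. -/
noncomputable def locLen : ℕ∞ := Module.length B (B ⧸ (maximalIdeal A).map ψ)

/-- The residue degree `[κ(B) : κ(A)]`. -/
noncomputable def locDeg : ℕ :=
  letI := (ResidueField.map ψ).toAlgebra
  Module.finrank (ResidueField A) (ResidueField B)

/-- The separable residue degree. -/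
noncomputable def locSep : ℕ :=
  letI := (ResidueField.map ψ).toAlgebra
  Field.finSepDegree (ResidueField A) (ResidueField B)

/-- The inseparable residue degree. -/
noncomputable def locInsep : ℕ :=
  letI := (ResidueField.map ψ).toAlgebra
  Field.finInsepDegree (ResidueField A) (ResidueField B)

theorem locSep_mul_locInsep : locSep ψ * locInsep ψ = locDeg ψ := by
  letI := (ResidueField.map ψ).toAlgebra
  exact Field.finSepDegree_mul_finInsepDegree (ResidueField A) (ResidueField B)

theorem locLen_ne_zero : locLen ψ ≠ 0 := by
  unfold locLen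
  rw [Ne, Module.length_eq_zero_iff, not_subsingleton_iff_nontrivial]
  apply Ideal.Quotient.nontrivial_iff.mpr
  intro htop
  have h1 : (maximalIdeal A).map ψ ≤ maximalIdeal B :=
    ((IsLocalRing.local_hom_TFAE ψ).out 0 2).mp ‹IsLocalHom ψ›
  rw [htop] at h1
  exact (maximalIdeal.isMaximal B).ne_top (top_le_iff.mp h1)

end defs

section comp

variable {A A' B B' : Type u} [CommRing A] [CommRing A'] [CommRing B] [CommRing B']
  [IsLocalRing A] [IsLocalRing A'] [IsLocalRing B] [IsLocalRing B']

/-- An unramified first step does not change the length of the closed fibre. -/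
theorem locLen_comp_of_map_eq (ψ₀ : A →+* A') [IsLocalHom ψ₀] (ψ' : A' →+* B') [IsLocalHom ψ']
    (h : (maximalIdeal A).map ψ₀ = maximalIdeal A') :
    locLen (ψ'.comp ψ₀) = locLen ψ' := by
  unfold locLen
  apply length_quot_congr
  rw [← Ideal.map_map, h]

/-- A flat unramified second step does not change the length of the closed fibre. -/
theorem locLen_comp_of_flat (ψ : A →+* B) [IsLocalHom ψ] (χ : B →+* B') [IsLocalHom χ]
    (hflat : χ.Flat) (h : (maximalIdeal B).map χ = maximalIdeal B') :
    locLen (χ.comp ψ) = locLen ψ := by
  unfold locLen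
  letI : Algebra B B' := χ.toAlgebra
  haveI : IsLocalHom (algebraMap B B') := ‹IsLocalHom χ›
  haveI : Module.Flat B B' := hflat
  haveI hff : Module.FaithfullyFlat B B' := Module.FaithfullyFlat.of_flat_of_isLocalHom
  set J : Ideal B := (maximalIdeal A).map ψ with hJ
  have hmap : (maximalIdeal A).map (χ.comp ψ) = J.map (algebraMap B B') := by
    rw [hJ, Ideal.map_map]; rfl
  rw [length_quot_congr hmap]
  have key := Groth.Agent.Lib.Helper12.LengthTensor.length_tensor (A := B) (B := B') B' (B ⧸ J)
  have e1 := Groth.Agent.Lib.Helper12.LengthTensor.tensorQuotEquiv (A := B) (B := B') B' J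
  rw [e1.length_eq] at key
  have h2 : (maximalIdeal B).map (algebraMap B B') = maximalIdeal B' := h
  have e2 : ∀ I : Ideal B', (I • (⊤ : Submodule B' B')) = I := fun I => by
    rw [Ideal.smul_eq_mul, Ideal.mul_top]
  have h3 : Module.length B'
      (B' ⧸ ((maximalIdeal B).map (algebraMap B B') • (⊤ : Submodule B' B'))) = 1 := by
    rw [Module.length_eq_one_iff, e2, h2]
    exact isSimpleModule_iff_isCoatom.mpr (Ideal.isMaximal_def.mp inferInstance)
  rw [h3, mul_one] at key
  rw [← key]
  exact (Submodule.quotEquivOfEq _ _ (e2 _).symm).length_eq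

/-- A surjective second step with kernel `𝔪_A B` does not change the length of the closed
fibre. -/
theorem locLen_comp_of_surjective (ψ : A →+* B) [IsLocalHom ψ] (χ : B →+* B') [IsLocalHom χ]
    (hχ : Function.Surjective χ) (hker : RingHom.ker χ = (maximalIdeal A).map ψ) :
    locLen (χ.comp ψ) = locLen ψ := by
  unfold locLen
  have hbot : (maximalIdeal A).map (χ.comp ψ) = ⊥ := by
    rw [← Ideal.map_map, ← hker, Ideal.map_eq_bot_iff_le_ker]
  rw [length_quot_congr hbot, ← hker]
  have h1 : Module.length B' (B' ⧸ (⊥ : Ideal B')) = Module.length B' B' :=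
    (Submodule.quotEquivOfEqBot (⊥ : Submodule B' B') rfl).length_eq
  rw [h1]
  haveI : RingHomSurjective χ := ⟨hχ⟩
  let f : (B ⧸ RingHom.ker χ) →ₛₗ[χ] B' :=
    { toFun := RingHom.kerLift χ
      map_add' := map_add _
      map_smul' := fun b x => by
        obtain ⟨y, rfl⟩ := Ideal.Quotient.mk_surjective x
        show RingHom.kerLift χ (Ideal.Quotient.mk _ (b * y)) = χ b * RingHom.kerLift χ _
        rw [RingHom.kerLift_mk, RingHom.kerLift_mk, map_mul] }
  have hf : Function.Bijective f :=
    ⟨RingHom.kerLift_injective χ, fun y => by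
      obtain ⟨b, rfl⟩ := hχ y
      exact ⟨Ideal.Quotient.mk _ b, RingHom.kerLift_mk χ b⟩⟩
  exact (length_eq_of_semilinear f hf).symm

section tower

variable (ψ : A →+* B) [IsLocalHom ψ] (χ : B →+* B') [IsLocalHom χ]

theorem locDeg_comp : locDeg (χ.comp ψ) = locDeg ψ * locDeg χ := by
  unfold locDeg
  letI i1 : Algebra (ResidueField A) (ResidueField B) := (ResidueField.map ψ).toAlgebra
  letI i2 : Algebra (ResidueField B) (ResidueField B') := (ResidueField.map χ).toAlgebra
  letI i3 : Algebra (ResidueField A) (ResidueField B') := (ResidueField.map (χ.comp ψ)).toAlgebra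
  haveI : IsScalarTower (ResidueField A) (ResidueField B) (ResidueField B') :=
    IsScalarTower.of_algebraMap_eq fun x => by
      show ResidueField.map (χ.comp ψ) x = ResidueField.map χ (ResidueField.map ψ x)
      rw [ResidueField.map_comp]; rfl
  exact (Module.finrank_mul_finrank (ResidueField A) (ResidueField B) (ResidueField B')).symm

theorem locInsep_comp
    (halg : letI := (ResidueField.map ψ).toAlgebra
      Algebra.IsAlgebraic (ResidueField A) (ResidueField B)) :
    locInsep (χ.comp ψ) = locInsep ψ * locInsep χ := by
  unfold locInsep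
  letI i1 : Algebra (ResidueField A) (ResidueField B) := (ResidueField.map ψ).toAlgebra
  letI i2 : Algebra (ResidueField B) (ResidueField B') := (ResidueField.map χ).toAlgebra
  letI i3 : Algebra (ResidueField A) (ResidueField B') := (ResidueField.map (χ.comp ψ)).toAlgebra
  haveI : IsScalarTower (ResidueField A) (ResidueField B) (ResidueField B') :=
    IsScalarTower.of_algebraMap_eq fun x => by
      show ResidueField.map (χ.comp ψ) x = ResidueField.map χ (ResidueField.map ψ x)
      rw [ResidueField.map_comp]; rfl
  haveI : Algebra.IsAlgebraic (ResidueField A) (ResidueField B) := halg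
  exact (Field.finInsepDegree_mul_finInsepDegree_of_isAlgebraic (ResidueField A) (ResidueField B)
    (ResidueField B')).symm

end tower

/-- A local homomorphism inducing a bijection on residue fields has residue degree one. -/
theorem locDeg_eq_one_of_bijective (ψ : A →+* B) [IsLocalHom ψ]
    (h : Function.Bijective (ResidueField.map ψ)) : locDeg ψ = 1 := by
  unfold locDeg
  letI : Algebra (ResidueField A) (ResidueField B) := (ResidueField.map ψ).toAlgebra
  have e : ResidueField A ≃ₗ[ResidueField A] ResidueField B :=
    LinearEquiv.ofBijective (Algebra.linearMap (ResidueField A) (ResidueField B)) h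
  rw [← e.finrank_eq, Module.finrank_self]

theorem residueField_map_bijective_of_surjective (ψ : A →+* B) [IsLocalHom ψ]
    (h : Function.Surjective ψ) : Function.Bijective (ResidueField.map ψ) := by
  refine ⟨(ResidueField.map ψ).injective, fun y => ?_⟩
  obtain ⟨b, rfl⟩ := IsLocalRing.residue_surjective y
  obtain ⟨a, rfl⟩ := h b
  exact ⟨IsLocalRing.residue A a, ResidueField.map_residue ψ a⟩

theorem locDeg_eq_one_of_surjective (ψ : A →+* B) [IsLocalHom ψ]
    (h : Function.Surjective ψ) : locDeg ψ = 1 :=
  locDeg_eq_one_of_bijective ψ (residueField_map_bijective_of_surjective ψ h)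

theorem locInsep_eq_one_of_isSeparable (ψ : A →+* B) [IsLocalHom ψ]
    (h : letI := (ResidueField.map ψ).toAlgebra
      Algebra.IsSeparable (ResidueField A) (ResidueField B)) : locInsep ψ = 1 := by
  unfold locInsep
  letI : Algebra (ResidueField A) (ResidueField B) := (ResidueField.map ψ).toAlgebra
  haveI : Algebra.IsSeparable (ResidueField A) (ResidueField B) := h
  exact Algebra.IsSeparable.finInsepDegree_eq (ResidueField A) (ResidueField B)

end comp

section fibreDim

variable {A B : Type u} [CommRing A] [CommRing B] [IsLocalRing A] [IsLocalRing B]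
  (ψ : A →+* B) [IsLocalHom ψ]

/-- `length_A (B / 𝔪_A B) = [κ(B) : κ(A)] · length_B (B / 𝔪_A B)`, in the form: the length over
`A` (through `ψ`) of the closed fibre. -/
theorem length_compHom_closedFibre (hfin : IsFiniteLength B (B ⧸ (maximalIdeal A).map ψ)) :
    @Module.length A (B ⧸ (maximalIdeal A).map ψ) _ _
      (Module.compHom (B ⧸ (maximalIdeal A).map ψ) ψ) =
      @Module.length (ResidueField A) (ResidueField B) _ _
        (ResidueField.map ψ).toAlgebra.toModule * locLen ψ :=
  Groth.Agent.Lib.Helper85.PushLenAlg.length_compHom_eq ψ _ hfin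

end fibreDim

end Groth.Agent.H72.LocInv
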