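import Mathlib
import Groth.Agent.H72.LocInv

/-!
# Local invariants, part 2: quasi-finite local homomorphisms, invariance under isomorphisms,
and the degree formula for a finite algebra over a field.

Library of helper72.
-/

set_option autoImplicit false

universe u

namespace Groth.Agent.H72.LocInv

open IsLocalRing

section algebraEq

variable {A B : Type u} [CommRing A] [CommRing B] [IsLocalRing A] [IsLocalRing B]
  [Algebra A B] [IsLocalHom (algebraMap A B)]

/-- Mathlib's algebra structure on residue fields is the one induced by `ResidueField.map`. -/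
theorem residueField_algebra_eq :
    (ResidueField.map (algebraMap A B)).toAlgebra =
      (inferInstance : Algebra (ResidueField A) (ResidueField B)) :=
  Algebra.algebra_ext _ _ fun x => by
    obtain ⟨x, rfl⟩ := residue_surjective x
    rfl

theorem locDeg_algebraMap :
    locDeg (algebraMap A B) = Module.finrank (ResidueField A) (ResidueField B) := by
  unfold locDeg
  rw [residueField_algebra_eq]

end algebraEq

section quasiFinite

variable {A B : Type u} [CommRing A] [CommRing B] [IsLocalRing A] [IsLocalRing B]
  (ψ : A →+* B) [IsLocalHom ψ]

/-- For a quasi-finite local homomorphism the residue field extension is finite. -/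
theorem finite_residueField_of_quasiFinite (h : ψ.QuasiFinite) :
    letI := (ResidueField.map ψ).toAlgebra
    Module.Finite (ResidueField A) (ResidueField B) := by
  algebraize [ψ]
  haveI : IsLocalHom (algebraMap A B) := ‹IsLocalHom ψ›
  have key : Module.Finite (ResidueField A) (ResidueField B) := by
    haveI : Algebra.QuasiFinite A (ResidueField B) :=
      inferInstanceAs (Algebra.QuasiFinite A (B ⧸ maximalIdeal B))
    haveI : Algebra.QuasiFinite (ResidueField A) (ResidueField B) :=
      Algebra.QuasiFinite.of_restrictScalars A _ _
    exact Module.Finite.of_quasiFinite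
  show @Module.Finite _ _ _ _ (ResidueField.map (algebraMap A B)).toAlgebra.toModule
  rw [residueField_algebra_eq]
  exact key

set_option backward.inferInstanceAs.wrap.data false in
/-- For a quasi-finite local homomorphism the closed fibre has finite length. -/
theorem locLen_ne_top_of_quasiFinite (h : ψ.QuasiFinite) : locLen ψ ≠ ⊤ := by
  unfold locLen
  algebraize [ψ]
  haveI : IsLocalHom (algebraMap A B) := ‹IsLocalHom ψ›
  set mR : Ideal B := (maximalIdeal A).map (algebraMap A B) with hmR
  change Module.length B (B ⧸ mR) ≠ ⊤
  letI : Algebra (ResidueField A) (B ⧸ mR) := (inferInstanceAs <| Algebra (A ⧸ _) _)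
  haveI : IsScalarTower A (ResidueField A) (B ⧸ mR) :=
    (inferInstanceAs <| IsScalarTower A (A ⧸ _) _)
  haveI : Algebra.QuasiFinite (ResidueField A) (B ⧸ mR) :=
    Algebra.QuasiFinite.of_restrictScalars A _ _
  haveI : Module.Finite (ResidueField A) (B ⧸ mR) := Module.Finite.of_quasiFinite
  haveI : IsArtinianRing (B ⧸ mR) := isArtinian_of_tower (ResidueField A) inferInstance
  haveI : IsNoetherianRing (B ⧸ mR) := isNoetherian_of_tower (ResidueField A) inferInstance
  rw [Module.length_eq_of_surjective (S := B) (R := B ⧸ mR) (M := B ⧸ mR)
    Ideal.Quotient.mk_surjective]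
  exact Module.length_ne_top

end quasiFinite

section equiv

variable {A A' B B' : Type u} [CommRing A] [CommRing A'] [CommRing B] [CommRing B']
  [IsLocalRing A] [IsLocalRing A'] [IsLocalRing B] [IsLocalRing B']

theorem isLocalHom_of_bijective {A A' : Type*} [CommRing A] [CommRing A'] (e : A →+* A')
    (he : Function.Bijective e) : IsLocalHom e :=
  ⟨fun a ha => by
    have h := ha.map (RingEquiv.ofBijective e he).symm
    have h2 : (RingEquiv.ofBijective e he).symm (e a) = a :=
      (RingEquiv.ofBijective e he).symm_apply_apply a
    rwa [h2] at h⟩

theorem map_maximalIdeal_of_bijective (e : A →+* A') (he : Function.Bijective e) :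
    (maximalIdeal A).map e = maximalIdeal A' := by
  haveI : IsLocalHom e := isLocalHom_of_bijective e he
  have h := ((IsLocalRing.local_hom_TFAE e).out 0 4).mp ‹IsLocalHom e›
  rw [← h, Ideal.map_comap_of_surjective e he.surjective]

theorem locLen_comp_bijective_right (ψ : A →+* B) [IsLocalHom ψ] (e : A' →+* A)
    (he : Function.Bijective e) : locLen (ψ.comp e) = locLen ψ := by
  haveI : IsLocalHom e := isLocalHom_of_bijective e he
  exact locLen_comp_of_map_eq e ψ (map_maximalIdeal_of_bijective e he)

theorem locLen_comp_bijective_left (ψ : A →+* B) [IsLocalHom ψ] (e : B →+* B')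
    (he : Function.Bijective e) : locLen (e.comp ψ) = locLen ψ := by
  haveI : IsLocalHom e := isLocalHom_of_bijective e he
  exact locLen_comp_of_flat ψ e (RingHom.Flat.of_bijective he)
    (map_maximalIdeal_of_bijective e he)

theorem locDeg_comp_bijective_right (ψ : A →+* B) [IsLocalHom ψ] (e : A' →+* A) [IsLocalHom e]
    (he : Function.Bijective e) : locDeg (ψ.comp e) = locDeg ψ := by
  rw [locDeg_comp, locDeg_eq_one_of_surjective e he.surjective, one_mul]

theorem locDeg_comp_bijective_left (ψ : A →+* B) [IsLocalHom ψ] (e : B →+* B') [IsLocalHom e]
    (he : Function.Bijective e) : locDeg (e.comp ψ) = locDeg ψ := by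
  rw [locDeg_comp, locDeg_eq_one_of_surjective e he.surjective, mul_one]

end equiv

section field

variable {K C : Type u} [Field K] [CommRing C] [Algebra K C]

set_option backward.isDefEq.respectTransparency.types false in
/-- The local degree formula at a prime of a finite algebra over a field. -/
theorem finrank_localization_eq (Q : PrimeSpectrum C) :
    Module.finrank K (Localization.AtPrime Q.asIdeal) =
    (locLen (Localization.localRingHom (PrimeSpectrum.comap (algebraMap K C) Q).asIdeal
      Q.asIdeal (algebraMap K C) rfl)).toNat *
      locDeg (Localization.localRingHom (PrimeSpectrum.comap (algebraMap K C) Q).asIdeal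
        Q.asIdeal (algebraMap K C) rfl) := by
  set P : Ideal K := (PrimeSpectrum.comap (algebraMap K C) Q).asIdeal with hP
  set ψ := Localization.localRingHom P Q.asIdeal (algebraMap K C) rfl with hψ
  letI : Algebra (Localization.AtPrime P) (Localization.AtPrime Q.asIdeal) := ψ.toAlgebra
  haveI : IsLocalHom (algebraMap (Localization.AtPrime P) (Localization.AtPrime Q.asIdeal)) :=
    inferInstanceAs (IsLocalHom ψ)
  haveI : IsScalarTower K (Localization.AtPrime P) (Localization.AtPrime Q.asIdeal) :=
    IsScalarTower.of_algebraMap_eq fun x => by
      exact ((Localization.localRingHom_to_map P Q.asIdeal (algebraMap K C) rfl x).trans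
        (IsScalarTower.algebraMap_apply K C _ x).symm).symm
  -- `K → K_P` is surjective
  have hsurj : Function.Surjective (algebraMap K (Localization.AtPrime P)) := by
    intro y
    obtain ⟨a, s, rfl⟩ := IsLocalization.exists_mk'_eq P.primeCompl y
    have hs : (s : K) ≠ 0 := fun h0 => s.2 (by rw [h0]; exact P.zero_mem)
    refine ⟨a * (s : K)⁻¹, ?_⟩
    rw [IsLocalization.eq_mk'_iff_mul_eq, ← map_mul, mul_assoc, inv_mul_cancel₀ hs, mul_one]
  -- the maximal ideal of `K_P` is zero
  have hbot : maximalIdeal (Localization.AtPrime P) = ⊥ := by
    rw [eq_bot_iff]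
    intro y hy
    obtain ⟨a, rfl⟩ := hsurj y
    by_cases ha : a = 0
    · simp [ha]
    · exact absurd ((IsUnit.mk0 a ha).map (algebraMap K (Localization.AtPrime P)))
        ((IsLocalRing.mem_maximalIdeal _).mp hy)
  have h1 := IsLocalRing.length_restrictScalars (Localization.AtPrime P)
    (Localization.AtPrime Q.asIdeal) (Localization.AtPrime Q.asIdeal)
  have h2 : Module.length K (Localization.AtPrime Q.asIdeal) =
      Module.length (Localization.AtPrime P) (Localization.AtPrime Q.asIdeal) :=
    Module.length_eq_of_surjective hsurj
  have h3 : Module.length K (Localization.AtPrime Q.asIdeal) =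
      (Module.rank K (Localization.AtPrime Q.asIdeal)).toENat := Module.length_eq_rank _ _
  have h4 : locLen ψ = Module.length (Localization.AtPrime Q.asIdeal)
      (Localization.AtPrime Q.asIdeal) := by
    unfold locLen
    rw [hbot, Ideal.map_bot]
    exact (Submodule.quotEquivOfEqBot (⊥ : Submodule (Localization.AtPrime Q.asIdeal)
      (Localization.AtPrime Q.asIdeal)) rfl).length_eq
  have h5 : (locDeg ψ : ℕ) = (Module.length (ResidueField (Localization.AtPrime P))
      (ResidueField (Localization.AtPrime Q.asIdeal))).toNat := by
    rw [Module.length_eq_rank, Cardinal.toNat_toENat]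
    exact locDeg_algebraMap
  rw [h4, h5, ← ENat.toNat_mul, ← h1, ← h2, h3, Cardinal.toNat_toENat]
  rfl

set_option backward.isDefEq.respectTransparency.types false in
/-- **Degree formula over a field**: the dimension of a finite `K`-algebra is the sum over its
primes of (length of the local ring) · (residue degree). -/
theorem finrank_eq_sum_locLen_mul_locDeg [Module.Finite K C] [Fintype (PrimeSpectrum C)] :
    Module.finrank K C =
    ∑ Q : PrimeSpectrum C,
      (locLen (Localization.localRingHom (PrimeSpectrum.comap (algebraMap K C) Q).asIdeal
        Q.asIdeal (algebraMap K C) rfl)).toNat *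
      locDeg (Localization.localRingHom (PrimeSpectrum.comap (algebraMap K C) Q).asIdeal
        Q.asIdeal (algebraMap K C) rfl) := by
  haveI : IsArtinianRing C := IsArtinianRing.of_finite K C
  rw [IsArtinianRing.finrank_eq_sum_primeSpectrum C K]
  exact Finset.sum_congr rfl fun Q _ => finrank_localization_eq Q

end field

end Groth.Agent.H72.LocInv
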