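import Mathlib
import Groth.Agent.H72.LocInv2

/-!
# Local invariants of a morphism of schemes at a point

Library of helper72.  For `f : X ⟶ Y` and `x : X`:
* `fibLen f x = length_{O_{X,x}} (O_{X,x} / 𝔪_{f x} O_{X,x})`;
* `resDeg f x = [κ(x) : κ(f x)]`, with separable / inseparable parts `resSep`, `resInsep`.
We prove their behaviour under composition and their invariance under étale localisation.
-/

set_option autoImplicit false

universe u

namespace Groth.Agent.H72.LocInv

open AlgebraicGeometry CategoryTheory Limits IsLocalRing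

variable {X Y Z : Scheme.{u}}

/-- Length of the local ring of the fibre at `x`. -/
noncomputable def fibLen (f : X ⟶ Y) (x : X) : ℕ∞ := locLen (f.stalkMap x).hom

/-- Residue degree at `x`. -/
noncomputable def resDeg (f : X ⟶ Y) (x : X) : ℕ := locDeg (f.stalkMap x).hom

/-- Separable residue degree at `x`. -/
noncomputable def resSep (f : X ⟶ Y) (x : X) : ℕ := locSep (f.stalkMap x).hom

/-- Inseparable residue degree at `x`. -/
noncomputable def resInsep (f : X ⟶ Y) (x : X) : ℕ := locInsep (f.stalkMap x).hom

theorem resSep_mul_resInsep (f : X ⟶ Y) (x : X) : resSep f x * resInsep f x = resDeg f x :=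
  locSep_mul_locInsep _

theorem stalkMap_comp_hom (f : X ⟶ Y) (g : Y ⟶ Z) (x : X) :
    ((f ≫ g).stalkMap x).hom = (f.stalkMap x).hom.comp (g.stalkMap (f x)).hom := by
  rw [Scheme.Hom.stalkMap_comp]
  rfl

section comp

variable (f : X ⟶ Y) (g : Y ⟶ Z) (x : X)

theorem fibLen_comp_of_flat (hflat : (f.stalkMap x).hom.Flat)
    (hm : (maximalIdeal (Y.presheaf.stalk (f x))).map (f.stalkMap x).hom =
      maximalIdeal (X.presheaf.stalk x)) :
    fibLen (f ≫ g) x = fibLen g (f x) :=
  (congrArg locLen (stalkMap_comp_hom f g x)).trans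
    (locLen_comp_of_flat (g.stalkMap (f x)).hom (f.stalkMap x).hom hflat hm)

theorem fibLen_comp_of_map_eq
    (hm : (maximalIdeal (Z.presheaf.stalk (g (f x)))).map (g.stalkMap (f x)).hom =
      maximalIdeal (Y.presheaf.stalk (f x))) :
    fibLen (f ≫ g) x = fibLen f x :=
  (congrArg locLen (stalkMap_comp_hom f g x)).trans
    (locLen_comp_of_map_eq (g.stalkMap (f x)).hom (f.stalkMap x).hom hm)

theorem fibLen_comp_of_surjective (hsurj : Function.Surjective (f.stalkMap x).hom)
    (hker : RingHom.ker (f.stalkMap x).hom =
      (maximalIdeal (Z.presheaf.stalk (g (f x)))).map (g.stalkMap (f x)).hom) :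
    fibLen (f ≫ g) x = fibLen g (f x) :=
  (congrArg locLen (stalkMap_comp_hom f g x)).trans
    (locLen_comp_of_surjective (g.stalkMap (f x)).hom (f.stalkMap x).hom hsurj hker)

theorem resDeg_comp : resDeg (f ≫ g) x = resDeg g (f x) * resDeg f x := by
  unfold resDeg
  have h := locDeg_comp (g.stalkMap (f x)).hom (f.stalkMap x).hom
  rw [← h]
  congr 1
  exact stalkMap_comp_hom f g x

end comp

theorem resInsep_comp (f : X ⟶ Y) (g : Y ⟶ Z) (x : X)
    (halg : letI := (ResidueField.map (g.stalkMap (f x)).hom).toAlgebra
      Algebra.IsAlgebraic (ResidueField (Z.presheaf.stalk (g (f x))))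
        (ResidueField (Y.presheaf.stalk (f x)))) :
    resInsep (f ≫ g) x = resInsep g (f x) * resInsep f x := by
  unfold resInsep
  have h := locInsep_comp (g.stalkMap (f x)).hom (f.stalkMap x).hom halg
  rw [← h]
  congr 1
  exact stalkMap_comp_hom f g x

section unramified

variable (g : X ⟶ Y) [FormallyUnramified g] [LocallyOfFiniteType g] (x : X)

theorem map_maximalIdeal_of_formallyUnramified :
    (maximalIdeal (Y.presheaf.stalk (g x))).map (g.stalkMap x).hom =
      maximalIdeal (X.presheaf.stalk x) := by
  algebraize [(g.stalkMap x).hom]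
  haveI : IsLocalHom (algebraMap (Y.presheaf.stalk (g x)) (X.presheaf.stalk x)) :=
    inferInstanceAs <| IsLocalHom (g.stalkMap x).hom
  haveI : Algebra.EssFiniteType (Y.presheaf.stalk (g x)) (X.presheaf.stalk x) := by
    rw [← RingHom.essFiniteType_algebraMap, RingHom.algebraMap_toAlgebra]
    exact LocallyOfFiniteType.stalkMap g x
  haveI : Algebra.FormallyUnramified (Y.presheaf.stalk (g x)) (X.presheaf.stalk x) := by
    rw [← RingHom.formallyUnramified_algebraMap, RingHom.algebraMap_toAlgebra]
    exact FormallyUnramified.stalkMap g x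
  exact Algebra.FormallyUnramified.map_maximalIdeal

theorem isSeparable_of_formallyUnramified :
    letI := (ResidueField.map (g.stalkMap x).hom).toAlgebra
    Algebra.IsSeparable (ResidueField (Y.presheaf.stalk (g x)))
      (ResidueField (X.presheaf.stalk x)) := by
  have h : letI : Algebra (Y.residueField (g.base x)) (X.residueField x) :=
      (g.residueFieldMap x).hom.toAlgebra
    Algebra.IsSeparable (Y.residueField (g.base x)) (X.residueField x) := inferInstance
  exact h

theorem resInsep_eq_one_of_formallyUnramified : resInsep g x = 1 :=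
  locInsep_eq_one_of_isSeparable _ (isSeparable_of_formallyUnramified g x)

theorem isAlgebraic_of_formallyUnramified :
    letI := (ResidueField.map (g.stalkMap x).hom).toAlgebra
    Algebra.IsAlgebraic (ResidueField (Y.presheaf.stalk (g x)))
      (ResidueField (X.presheaf.stalk x)) := by
  letI := (ResidueField.map (g.stalkMap x).hom).toAlgebra
  haveI := isSeparable_of_formallyUnramified g x
  exact Algebra.IsSeparable.isAlgebraic _ _

end unramified

section quasiFinite

variable (f : X ⟶ Y) [LocallyQuasiFinite f] (x : X)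

theorem finite_residueField_of_locallyQuasiFinite :
    letI := (ResidueField.map (f.stalkMap x).hom).toAlgebra
    Module.Finite (ResidueField (Y.presheaf.stalk (f x))) (ResidueField (X.presheaf.stalk x)) :=
  finite_residueField_of_quasiFinite _ (f.quasiFiniteAt x)

theorem isAlgebraic_of_locallyQuasiFinite :
    letI := (ResidueField.map (f.stalkMap x).hom).toAlgebra
    Algebra.IsAlgebraic (ResidueField (Y.presheaf.stalk (f x)))
      (ResidueField (X.presheaf.stalk x)) := by
  letI := (ResidueField.map (f.stalkMap x).hom).toAlgebra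
  haveI := finite_residueField_of_locallyQuasiFinite f x
  exact Algebra.IsAlgebraic.of_finite _ _

theorem fibLen_ne_top_of_locallyQuasiFinite : fibLen f x ≠ ⊤ :=
  locLen_ne_top_of_quasiFinite _ (f.quasiFiniteAt x)

theorem fibLen_ne_zero (f : X ⟶ Y) (x : X) : fibLen f x ≠ 0 := locLen_ne_zero _

theorem resInsep_pos_of_locallyQuasiFinite : 0 < resInsep f x := by
  unfold resInsep locInsep
  letI := (ResidueField.map (f.stalkMap x).hom).toAlgebra
  haveI := finite_residueField_of_locallyQuasiFinite f x
  exact Module.finrank_pos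

end quasiFinite

section etale

variable {U V : Scheme.{u}}

/-- **Étale invariance** of the fibre length and of the inseparable degree. -/
theorem fibLen_eq_of_etale_square (f : X ⟶ Y) (a : U ⟶ X) (π : U ⟶ V) (g : V ⟶ Y)
    (h : a ≫ f = π ≫ g) [Etale a] [Etale g] (u : U) :
    fibLen π u = fibLen f (a u) := by
  have h1 : fibLen (a ≫ f) u = fibLen f (a u) :=
    fibLen_comp_of_flat a f u (Flat.stalkMap a u) (map_maximalIdeal_of_formallyUnramified a u)
  have h2 : fibLen (π ≫ g) u = fibLen π u :=
    fibLen_comp_of_map_eq π g u (map_maximalIdeal_of_formallyUnramified g (π u))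
  have h3 : fibLen (a ≫ f) u = fibLen (π ≫ g) u := congrArg (fun k => fibLen k u) h
  rw [← h2, ← h3, h1]

theorem resInsep_eq_of_etale_square (f : X ⟶ Y) [LocallyQuasiFinite f] (a : U ⟶ X) (π : U ⟶ V)
    (g : V ⟶ Y) (h : a ≫ f = π ≫ g) [Etale a] [Etale g] (u : U) :
    resInsep π u = resInsep f (a u) := by
  have h1 : resInsep (a ≫ f) u = resInsep f (a u) := by
    rw [resInsep_comp a f u (isAlgebraic_of_locallyQuasiFinite f (a u)),
      resInsep_eq_one_of_formallyUnramified a u, mul_one]
  have h2 : resInsep (π ≫ g) u = resInsep π u := by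
    rw [resInsep_comp π g u (isAlgebraic_of_formallyUnramified g (π u)),
      resInsep_eq_one_of_formallyUnramified g (π u), one_mul]
  have h3 : resInsep (a ≫ f) u = resInsep (π ≫ g) u := congrArg (fun k => resInsep k u) h
  rw [← h2, ← h3, h1]

end etale

end Groth.Agent.H72.LocInv
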