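import Mathlib
import Groth.Agent.H72.LocInvSch
import Groth.Agent.Lib.Helper49.FiberStalk

/-!
# The degree formula for finite flat morphisms

Library of helper72.  For a finite flat morphism `π : U ⟶ V` and `v : V`,
`∑_{u ↦ v} length(O_{U,u}/𝔪_v O_{U,u}) · [κ(u) : κ(v)] = rank of π at v`.
-/

set_option autoImplicit false

universe u

namespace Groth.Agent.H72.LocInv

open AlgebraicGeometry CategoryTheory Limits IsLocalRing

section surj

variable {A A' : Type u} [CommRing A] [CommRing A'] [IsLocalRing A] [IsLocalRing A']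

theorem map_maximalIdeal_of_surjective (ψ : A →+* A') [IsLocalHom ψ]
    (h : Function.Surjective ψ) : (maximalIdeal A).map ψ = maximalIdeal A' := by
  apply le_antisymm (((IsLocalRing.local_hom_TFAE ψ).out 0 2).mp ‹IsLocalHom ψ›)
  intro y hy
  obtain ⟨a, rfl⟩ := h y
  apply Ideal.mem_map_of_mem
  rw [IsLocalRing.mem_maximalIdeal] at hy ⊢
  exact fun ha => hy (ha.map ψ)

end surj

variable {X Y Z : Scheme.{u}}

section surjStalk

theorem fibLen_comp_of_stalkMap_surjective_right (f : X ⟶ Y) (g : Y ⟶ Z) (x : X)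
    (h : Function.Surjective (g.stalkMap (f x)).hom) : fibLen (f ≫ g) x = fibLen f x :=
  fibLen_comp_of_map_eq f g x (map_maximalIdeal_of_surjective _ h)

theorem resDeg_comp_of_stalkMap_surjective_right (f : X ⟶ Y) (g : Y ⟶ Z) (x : X)
    (h : Function.Surjective (g.stalkMap (f x)).hom) : resDeg (f ≫ g) x = resDeg f x := by
  rw [resDeg_comp]
  unfold resDeg
  rw [locDeg_eq_one_of_surjective _ h, one_mul]

theorem resDeg_comp_of_stalkMap_surjective_left (f : X ⟶ Y) (g : Y ⟶ Z) (x : X)
    (h : Function.Surjective (f.stalkMap x).hom) : resDeg (f ≫ g) x = resDeg g (f x) := by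
  rw [resDeg_comp]
  unfold resDeg
  rw [locDeg_eq_one_of_surjective _ h, mul_one]

end surjStalk

section iso

variable (e : X ⟶ Y) [IsIso e] (g : Y ⟶ Z) (x : X)

theorem fibLen_comp_of_isIso : fibLen (e ≫ g) x = fibLen g (e x) :=
  fibLen_comp_of_flat e g x (Flat.stalkMap e x) (map_maximalIdeal_of_formallyUnramified e x)

theorem resDeg_comp_of_isIso : resDeg (e ≫ g) x = resDeg g (e x) :=
  resDeg_comp_of_stalkMap_surjective_left e g x (e.stalkMap_surjective x)

end iso

section spec

set_option backward.isDefEq.respectTransparency.types false in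
theorem stalkMap_SpecMap_hom {R S : CommRingCat.{u}} (φ : R ⟶ S) (Q : PrimeSpectrum S) :
    ((Spec.map φ).stalkMap Q).hom =
      ((Spec.stalkIso S Q).inv.hom).comp
        ((Localization.localRingHom (PrimeSpectrum.comap φ.hom Q).asIdeal Q.asIdeal φ.hom rfl).comp
          (Spec.stalkIso R (PrimeSpectrum.comap φ.hom Q)).hom.hom) := by
  rw [← Scheme.localRingHom_comp_stalkIso]
  rfl

set_option backward.isDefEq.respectTransparency.types false in
theorem fibLen_SpecMap {R S : CommRingCat.{u}} (φ : R ⟶ S) (Q : PrimeSpectrum S) :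
    fibLen (Spec.map φ) Q =
      locLen (Localization.localRingHom (PrimeSpectrum.comap φ.hom Q).asIdeal Q.asIdeal
        φ.hom rfl) := by
  unfold fibLen
  rw [stalkMap_SpecMap_hom]
  have h1 : Function.Bijective (Spec.stalkIso S Q).inv.hom :=
    ConcreteCategory.bijective_of_isIso _
  have h2 : Function.Bijective (Spec.stalkIso R (PrimeSpectrum.comap φ.hom Q)).hom.hom :=
    ConcreteCategory.bijective_of_isIso _
  haveI := isLocalHom_of_bijective _ h1
  haveI := isLocalHom_of_bijective _ h2
  exact (locLen_comp_bijective_left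
    ((Localization.localRingHom (PrimeSpectrum.comap φ.hom Q).asIdeal Q.asIdeal φ.hom rfl).comp
      (Spec.stalkIso R (PrimeSpectrum.comap φ.hom Q)).hom.hom) _ h1).trans
    (locLen_comp_bijective_right
      (Localization.localRingHom (PrimeSpectrum.comap φ.hom Q).asIdeal Q.asIdeal φ.hom rfl) _ h2)

set_option backward.isDefEq.respectTransparency.types false in
theorem resDeg_SpecMap {R S : CommRingCat.{u}} (φ : R ⟶ S) (Q : PrimeSpectrum S) :
    resDeg (Spec.map φ) Q =
      locDeg (Localization.localRingHom (PrimeSpectrum.comap φ.hom Q).asIdeal Q.asIdeal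
        φ.hom rfl) := by
  have h1 : Function.Bijective (Spec.stalkIso S Q).inv.hom :=
    ConcreteCategory.bijective_of_isIso _
  have h2 : Function.Bijective (Spec.stalkIso R (PrimeSpectrum.comap φ.hom Q)).hom.hom :=
    ConcreteCategory.bijective_of_isIso _
  haveI := isLocalHom_of_bijective _ h1
  haveI := isLocalHom_of_bijective _ h2
  have h3 := locDeg_comp_bijective_right
    (Localization.localRingHom (PrimeSpectrum.comap φ.hom Q).asIdeal Q.asIdeal φ.hom rfl) _ h2
  have h4 := locDeg_comp_bijective_left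
    ((Localization.localRingHom (PrimeSpectrum.comap φ.hom Q).asIdeal Q.asIdeal φ.hom rfl).comp
      (Spec.stalkIso R (PrimeSpectrum.comap φ.hom Q)).hom.hom) _ h1
  rw [← h3, ← h4]
  unfold resDeg
  congr 1
  exact stalkMap_SpecMap_hom φ Q

end spec

section field

variable {k : Type u} [Field k]

set_option backward.isDefEq.respectTransparency.types false in
theorem sum_fibLen_mul_resDeg_SpecMap {C : CommRingCat.{u}} (φ : CommRingCat.of k ⟶ C)
    (hfin : φ.hom.Finite) [Fintype (PrimeSpectrum C)] :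
    ∑ Q : PrimeSpectrum C, (fibLen (Spec.map φ) Q).toNat * resDeg (Spec.map φ) Q =
      @Module.finrank k C _ _ φ.hom.toAlgebra.toModule := by
  letI : Algebra k C := φ.hom.toAlgebra
  haveI : Module.Finite k C := hfin
  rw [finrank_eq_sum_locLen_mul_locDeg (K := k) (C := C)]
  refine Finset.sum_congr rfl fun Q _ => ?_
  rw [fibLen_SpecMap, resDeg_SpecMap]
  rfl

set_option backward.isDefEq.respectTransparency.types false in
theorem finsum_fibLen_mul_resDeg_of_field {Z : Scheme.{u}} (q : Z ⟶ Spec (.of k)) [IsFinite q]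
    (pt : Spec (.of k)) :
    ∑ᶠ z : Z, (fibLen q z).toNat * resDeg q z = q.finrank pt := by
  haveI : IsAffine Z := isAffine_of_isAffineHom q
  obtain ⟨φ, hφ⟩ : ∃ φ : CommRingCat.of k ⟶ Γ(Z, ⊤), Spec.map φ = Z.isoSpec.inv ≫ q :=
    ⟨Spec.preimage _, Spec.map_preimage _⟩
  have hq : q = Z.isoSpec.hom ≫ Spec.map φ := by rw [hφ, Iso.hom_inv_id_assoc]
  haveI : IsFinite (Spec.map φ) := by rw [hφ]; infer_instance
  have hfin : φ.hom.Finite := (IsFinite.SpecMap_iff φ).mp ‹_›
  have hflat : φ.hom.Flat := by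
    letI : Algebra k Γ(Z, ⊤) := φ.hom.toAlgebra
    exact (inferInstance : Module.Flat k Γ(Z, ⊤))
  haveI : Flat (Spec.map φ) := Flat.SpecMap_iff.mpr hflat
  subst hq
  rw [Scheme.Hom.finrank_comp_left_of_isIso, Scheme.Hom.finrank_SpecMap_eq_finrank hfin hflat]
  letI : Algebra k Γ(Z, ⊤) := φ.hom.toAlgebra
  haveI : Module.Finite k Γ(Z, ⊤) := hfin
  haveI : IsArtinianRing Γ(Z, ⊤) := IsArtinianRing.of_finite k _
  haveI : Fintype (PrimeSpectrum Γ(Z, ⊤)) := Fintype.ofFinite _
  have hR : φ.hom.finrank pt = Module.finrank k Γ(Z, ⊤) := by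
    show Module.rankAtStalk (R := k) Γ(Z, ⊤) pt = _
    rw [Module.rankAtStalk_eq_finrank_of_free]
    rfl
  rw [hR, ← sum_fibLen_mul_resDeg_SpecMap φ hfin]
  let G : ↥(Spec Γ(Z, ⊤)) → ℕ := fun Q =>
    (fibLen (Spec.map φ) Q).toNat * resDeg (Spec.map φ) Q
  have hG : ∑ᶠ z : Z, G (Z.isoSpec.hom z) = ∑ᶠ Q : ↥(Spec Γ(Z, ⊤)), G Q :=
    finsum_comp_equiv (Z.isoSpec.hom.homeomorph.toEquiv)
  have h3 : (∑ᶠ Q : ↥(Spec Γ(Z, ⊤)), G Q) = ∑ Q : PrimeSpectrum Γ(Z, ⊤),
      (fibLen (Spec.map φ) Q).toNat * resDeg (Spec.map φ) Q :=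
    finsum_eq_sum_of_fintype (α := PrimeSpectrum Γ(Z, ⊤)) G
  rw [← h3, ← hG]
  refine finsum_congr fun z => ?_
  rw [fibLen_comp_of_isIso, resDeg_comp_of_isIso]

end field

section fibre

variable {U V : Scheme.{u}} (π : U ⟶ V) (v : V)

theorem fibLen_fiberι (z : π.fiber v) :
    fibLen π (π.fiberι v z) = fibLen (π.fiberToSpecResidueField v) z := by
  have h1 : fibLen (π.fiberι v ≫ π) z = fibLen π (π.fiberι v z) :=
    fibLen_comp_of_surjective (π.fiberι v) π z ((π.fiberι v).stalkMap_surjective z)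
      (le_antisymm (Groth.Agent.Lib.Helper49.ker_le_map π v z)
        (Groth.Agent.Lib.Helper49.map_le_ker π v z))
  have h2 : fibLen (π.fiberToSpecResidueField v ≫ V.fromSpecResidueField v) z =
      fibLen (π.fiberToSpecResidueField v) z :=
    fibLen_comp_of_stalkMap_surjective_right _ _ z
      ((V.fromSpecResidueField v).stalkMap_surjective _)
  have h3 : fibLen (π.fiberι v ≫ π) z =
      fibLen (π.fiberToSpecResidueField v ≫ V.fromSpecResidueField v) z :=
    congrArg (fun k => fibLen k z) (π.fiber_fac v)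
  rw [← h1, h3, h2]

theorem resDeg_fiberι (z : π.fiber v) :
    resDeg π (π.fiberι v z) = resDeg (π.fiberToSpecResidueField v) z := by
  have h1 : resDeg (π.fiberι v ≫ π) z = resDeg π (π.fiberι v z) :=
    resDeg_comp_of_stalkMap_surjective_left (π.fiberι v) π z
      ((π.fiberι v).stalkMap_surjective z)
  have h2 : resDeg (π.fiberToSpecResidueField v ≫ V.fromSpecResidueField v) z =
      resDeg (π.fiberToSpecResidueField v) z :=
    resDeg_comp_of_stalkMap_surjective_right _ _ z
      ((V.fromSpecResidueField v).stalkMap_surjective _)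
  have h3 : resDeg (π.fiberι v ≫ π) z =
      resDeg (π.fiberToSpecResidueField v ≫ V.fromSpecResidueField v) z :=
    congrArg (fun k => resDeg k z) (π.fiber_fac v)
  rw [← h1, h3, h2]

set_option backward.isDefEq.respectTransparency.types false in
/-- **Degree formula** for a finite flat morphism. -/
theorem finsum_fibLen_mul_resDeg [IsFinite π] [Flat π] :
    ∑ᶠ u : {u : U // π u = v}, (fibLen π u.1).toNat * resDeg π u.1 = π.finrank v := by
  let q : π.fiber v ⟶ Spec (.of (ResidueField (V.presheaf.stalk v))) :=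
    π.fiberToSpecResidueField v
  haveI : IsFinite q := inferInstanceAs (IsFinite (pullback.snd π (V.fromSpecResidueField v)))
  let pt : Spec (.of (ResidueField (V.presheaf.stalk v))) :=
    IsLocalRing.closedPoint (ResidueField (V.presheaf.stalk v))
  have hpt : V.fromSpecResidueField v pt = v := Scheme.fromSpecResidueField_apply v pt
  have h1 : π.finrank v = q.finrank pt := by
    have := Scheme.Hom.finrank_pullback_snd π (V.fromSpecResidueField v) pt
    rw [hpt] at this
    exact this.symm
  rw [h1, ← finsum_fibLen_mul_resDeg_of_field q pt]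
  have h2 : ∑ᶠ u : {u : U // π u = v}, (fibLen π u.1).toNat * resDeg π u.1 =
      ∑ᶠ u : (π ⁻¹' {v} : Set U), (fibLen π u.1).toNat * resDeg π u.1 := rfl
  rw [h2, ← finsum_comp_equiv (π.fiberHomeo v).toEquiv]
  refine finsum_congr fun z => ?_
  show (fibLen π (π.fiberι v z)).toNat * resDeg π (π.fiberι v z) = _
  rw [fibLen_fiberι, resDeg_fiberι]
  rfl

end fibre

end Groth.Agent.H72.LocInv
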