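import Mathlib
import Groth.Prelude
import Groth.Agent.H72.LocInvDeg

/-!
# The canonical weighting of a flat locally quasi-finite morphism

Library of helper72: `x ↦ length(O_{X,x}/𝔪_{f x} O_{X,x}) · [κ(x) : κ(f x)]_i` is a positive
weighting of a flat, locally quasi-finite morphism locally of finite presentation
(Stacks, More on Morphisms, weightings).
-/

set_option autoImplicit false

universe u

namespace Groth.Agent.H72.LocInv

open AlgebraicGeometry CategoryTheory Limits IsLocalRing

variable {X Y : Scheme.{u}}

/-- The canonical weight. -/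
noncomputable def wt (f : X ⟶ Y) (x : X) : ℤ := ((fibLen f x).toNat : ℤ) * (resInsep f x : ℤ)

theorem wt_pos (f : X ⟶ Y) [LocallyQuasiFinite f] (x : X) : 0 < wt f x := by
  unfold wt
  apply mul_pos
  · have h1 := fibLen_ne_zero f x
    have h2 := fibLen_ne_top_of_locallyQuasiFinite f x
    have : 0 < (fibLen f x).toNat :=
      Nat.pos_of_ne_zero fun h => (ENat.toNat_eq_zero.mp h).elim h1 h2
    exact_mod_cast this
  · exact_mod_cast resInsep_pos_of_locallyQuasiFinite f x

set_option backward.isDefEq.respectTransparency.types false in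
theorem fibreIntegral_wt_eq (f : X ⟶ Y) [LocallyQuasiFinite f] [Flat f]
    {V : Scheme.{u}} (g : V ⟶ Y) [Etale g] (U : (pullback f g).Opens)
    (hfin : IsFinite (U.ι ≫ pullback.snd f g)) (v : V) :
    MoreMor.fibreIntegral (U.ι ≫ pullback.snd f g)
      (fun u => wt f (pullback.fst f g (U.ι u))) v =
      ((U.ι ≫ pullback.snd f g).finrank v : ℤ) := by
  haveI : IsFinite (U.ι ≫ pullback.snd f g) := hfin
  set π := U.ι ≫ pullback.snd f g with hπ
  set a := U.ι ≫ pullback.fst f g with ha
  have hsq : a ≫ f = π ≫ g := by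
    rw [ha, hπ, Category.assoc, Category.assoc, pullback.condition]
  haveI : Finite {u : U // π u = v} := by
    have := π.finite_preimage_singleton v
    exact this.to_subtype
  have hcast := @Nat.cast_finsum {u : U // π u = v} this ℤ _
    (fun u => (fibLen π u.1).toNat * resDeg π u.1)
  rw [← finsum_fibLen_mul_resDeg π v]
  refine Eq.trans ?_ hcast.symm
  unfold MoreMor.fibreIntegral
  refine finsum_congr fun u => ?_
  have h1 : fibLen π u.1 = fibLen f (a u.1) := fibLen_eq_of_etale_square f a π g hsq u.1
  have h2 : resInsep π u.1 = resInsep f (a u.1) := resInsep_eq_of_etale_square f a π g hsq u.1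
  have h3 : resSep π u.1 * resInsep π u.1 = resDeg π u.1 := resSep_mul_resInsep π u.1
  show wt f (a u.1) * (resSep π u.1 : ℤ) = _
  unfold wt
  rw [← h1, ← h2, ← h3]
  push_cast
  ring

theorem isWeighting_wt (f : X ⟶ Y) [LocallyQuasiFinite f] [Flat f]
    [LocallyOfFinitePresentation f] : MoreMor.IsWeighting f (wt f) := by
  intro V g _ U hfin
  haveI : IsFinite (U.ι ≫ pullback.snd f g) := hfin
  have h : MoreMor.fibreIntegral (U.ι ≫ pullback.snd f g)
      (fun u => wt f (pullback.fst f g (U.ι u))) =
      fun v => ((U.ι ≫ pullback.snd f g).finrank v : ℤ) :=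
    funext fun v => fibreIntegral_wt_eq f g U hfin v
  rw [h]
  exact (Scheme.Hom.isLocallyConstant_finrank (U.ι ≫ pullback.snd f g)).comp _

end Groth.Agent.H72.LocInv
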