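import Mathlib
import Groth.Prelude.Def_FlatCA

/-!
# Limits of rings along surjections with locally nilpotent kernels (helper72)
-/

set_option autoImplicit false
universe u

namespace Groth.Agent.H72.NilLimit

variable {A : Type u} [CommRing A] {A' : ℕ → Type u} [∀ n, CommRing (A' n)]
    {φ : ∀ n, A' (n + 1) →+* A' n} {π : ∀ n, A →+* A' n}

theorem pi_zero_surjective (hlim : FlatCA.IsRingLimit A A' φ π)
    (hsurj : ∀ n, Function.Surjective (φ n)) : Function.Surjective (π 0) := by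
  intro x₀
  obtain ⟨x, hx0, hx⟩ : ∃ x : ∀ n, A' n, x 0 = x₀ ∧ ∀ n, φ n (x (n + 1)) = x n := by
    refine ⟨fun n => Nat.rec (motive := fun n => A' n) x₀
      (fun n xn => Classical.choose (hsurj n xn)) n, rfl, fun n => ?_⟩
    exact Classical.choose_spec (hsurj n _)
  obtain ⟨a, ha⟩ := hlim.2.2 x hx
  exact ⟨a, (ha 0).trans hx0⟩

theorem isNilpotent_pi_of_mem_ker (hlim : FlatCA.IsRingLimit A A' φ π)
    (hnil : ∀ n, ∀ x ∈ RingHom.ker (φ n), IsNilpotent x) {x : A} (hx : π 0 x = 0) (n : ℕ) :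
    IsNilpotent (π n x) := by
  induction n with
  | zero => rw [hx]; exact IsNilpotent.zero
  | succ n ih =>
    obtain ⟨k, hk⟩ := ih
    have h1 : φ n (π (n + 1) x) = π n x := by
      rw [← hlim.1 n]; rfl
    have h2 : (π (n + 1) x) ^ k ∈ RingHom.ker (φ n) := by
      rw [RingHom.mem_ker, map_pow, h1, hk]
    obtain ⟨m, hm⟩ := hnil n _ h2
    exact ⟨k * m, by rw [pow_mul, hm]⟩

theorem isUnit_one_sub_of_mem_ker (hlim : FlatCA.IsRingLimit A A' φ π)
    (hnil : ∀ n, ∀ x ∈ RingHom.ker (φ n), IsNilpotent x) {x : A} (hx : π 0 x = 0) :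
    IsUnit (1 - x) := by
  have hu : ∀ n, IsUnit (π n (1 - x)) := fun n => by
    rw [map_sub, map_one]
    exact (isNilpotent_pi_of_mem_ker hlim hnil hx n).isUnit_one_sub
  have hcompat : ∀ n, φ n (π (n + 1) (1 - x)) = π n (1 - x) := fun n => by
    rw [← hlim.1 n]; rfl
  obtain ⟨b, hb⟩ := hlim.2.2 (fun n => ((hu n).unit⁻¹ : (A' n)ˣ)) (fun n => by
    have h1 : φ n ((hu (n + 1)).unit⁻¹ : (A' (n + 1))ˣ) * π n (1 - x) = 1 := by
      rw [← hcompat n, ← map_mul]
      have : (((hu (n + 1)).unit⁻¹ : (A' (n + 1))ˣ) : A' (n + 1)) * π (n + 1) (1 - x) = 1 :=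
        (hu (n + 1)).val_inv_mul
      rw [this, map_one]
    have h2 : π n (1 - x) * (((hu n).unit⁻¹ : (A' n)ˣ) : A' n) = 1 := (hu n).mul_val_inv
    calc φ n ((hu (n + 1)).unit⁻¹ : (A' (n + 1))ˣ)
        = φ n ((hu (n + 1)).unit⁻¹ : (A' (n + 1))ˣ) *
            (π n (1 - x) * (((hu n).unit⁻¹ : (A' n)ˣ) : A' n)) := by rw [h2, mul_one]
      _ = (φ n ((hu (n + 1)).unit⁻¹ : (A' (n + 1))ˣ) * π n (1 - x)) *
            (((hu n).unit⁻¹ : (A' n)ˣ) : A' n) := by ring
      _ = (((hu n).unit⁻¹ : (A' n)ˣ) : A' n) := by rw [h1, one_mul])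
  refine IsUnit.of_mul_eq_one b ?_
  apply hlim.2.1
  intro n
  rw [map_mul, hb n, map_one]
  exact (hu n).mul_val_inv

/-- a compatible family of ring homomorphisms into the `A' n` lifts to the limit -/
theorem exists_ringHom_lift (hlim : FlatCA.IsRingLimit A A' φ π) {B : Type u} [CommRing B]
    (β : ∀ n, B →+* A' n) (hβ : ∀ n, (φ n).comp (β (n + 1)) = β n) :
    ∃ b : B →+* A, ∀ n, (π n).comp b = β n := by
  have hex : ∀ y : B, ∃ a : A, ∀ n, π n a = β n y := fun y =>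
    hlim.2.2 (fun n => β n y) (fun n => by rw [← hβ n]; rfl)
  choose b hb using hex
  refine ⟨{ toFun := b, map_one' := ?_, map_mul' := ?_, map_zero' := ?_, map_add' := ?_ },
    fun n => RingHom.ext fun y => hb y n⟩
  · apply hlim.2.1
    intro n
    rw [hb, map_one, map_one]
  · intro y z
    apply hlim.2.1
    intro n
    rw [hb, map_mul, map_mul, hb, hb]
  · apply hlim.2.1
    intro n
    rw [hb, map_zero, map_zero]
  · intro y z
    apply hlim.2.1
    intro n
    rw [hb, map_add, map_add, hb, hb]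

end Groth.Agent.H72.NilLimit
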