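import Mathlib
import Groth.Prelude.Def_FlatCA
import Groth.Agent.H72.NilLimit

/-!
# A monomorphism locally of finite type into `Spec (lim A_n)` through which every `Spec A_n` factors
is an isomorphism (helper72)
-/

set_option autoImplicit false
universe u

open CategoryTheory CategoryTheory.Limits AlgebraicGeometry

namespace Groth.Agent.H72.NilLimit

/-- a quasi-compact open containing a given compact subset -/
theorem exists_compact_opens_of_isCompact {T : Scheme.{u}} {K : Set T} (hK : IsCompact K) :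
    ∃ V : T.Opens, IsCompact (V : Set T) ∧ K ⊆ V := by
  classical
  have hW : ∀ t : T, ∃ W : T.Opens, IsAffineOpen W ∧ t ∈ W := fun t => by
    obtain ⟨_, ⟨W, hW, rfl⟩, htW, -⟩ := T.isBasis_affineOpens.exists_subset_of_mem_open
      (Set.mem_univ t) isOpen_univ
    exact ⟨W, hW, htW⟩
  choose W hWaff htW using hW
  obtain ⟨F, -, hF⟩ := hK.elim_nhds_subcover (fun t => (W t : Set T))
    (fun t _ => (W t).2.mem_nhds (htW t))
  refine ⟨⨆ t ∈ F, W t, ?_, ?_⟩
  · have : ((⨆ t ∈ F, W t : T.Opens) : Set T) = ⋃ t ∈ F, (W t : Set T) := by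
      simp
    rw [this]
    exact F.isCompact_biUnion fun t _ => (hWaff t).isCompact
  · intro x hx
    obtain ⟨t, ht, hxt⟩ := Set.mem_iUnion₂.mp (hF hx)
    exact TopologicalSpace.Opens.mem_iSup.mpr ⟨t, TopologicalSpace.Opens.mem_iSup.mpr ⟨ht, hxt⟩⟩

set_option backward.isDefEq.respectTransparency.types false in
theorem isIso_of_mono_of_sections {A : Type u} [CommRing A] (A' : ℕ → Type u)
    [∀ n, CommRing (A' n)]
    (φ : ∀ n, A' (n + 1) →+* A' n) (π : ∀ n, A →+* A' n) (hlim : FlatCA.IsRingLimit A A' φ π)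
    (hsurj : ∀ n, Function.Surjective (φ n)) (hnil : ∀ n, ∀ x ∈ RingHom.ker (φ n), IsNilpotent x)
    {T : Scheme.{u}} (h : T ⟶ Spec (CommRingCat.of A)) [Mono h] [LocallyOfFiniteType h]
    (hsec : ∀ n, ∃ g : Spec (CommRingCat.of (A' n)) ⟶ T,
      g ≫ h = Spec.map (CommRingCat.ofHom (π n))) :
    IsIso h := by
  classical
  choose g hg using hsec
  -- compatibility of the sections
  have hgc : ∀ n, Spec.map (CommRingCat.ofHom (φ n)) ≫ g (n + 1) = g n := by
    intro n
    rw [← cancel_mono h, Category.assoc, hg, hg, ← Spec.map_comp, ← CommRingCat.ofHom_comp,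
      hlim.1 n]
  -- the maps `Spec A_n → Spec A_{n+1}` are surjective
  have hφs : ∀ n, Function.Surjective (Spec.map (CommRingCat.ofHom (φ n))) := by
    intro n q
    change PrimeSpectrum (A' (n + 1)) at q
    have hker : RingHom.ker (φ n) ≤ q.asIdeal := by
      intro x hx
      obtain ⟨k, hk⟩ := hnil n x hx
      exact q.2.mem_of_pow_mem k (by rw [hk]; exact zero_mem _)
    have hmem : q ∈ Set.range (PrimeSpectrum.comap (φ n)) := by
      rw [range_comap_of_surjective _ _ (hsurj n)]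
      exact hker
    obtain ⟨q', hq'⟩ := hmem
    exact ⟨q', hq'⟩
  -- all sections have the same image
  have hrange : ∀ n, Set.range (g n) = Set.range (g 0) := by
    intro n
    induction n with
    | zero => rfl
    | succ n ih =>
      rw [← ih, ← hgc n]
      ext t
      constructor
      · rintro ⟨q, rfl⟩
        obtain ⟨q', rfl⟩ := hφs n q
        exact ⟨q', by rw [Scheme.Hom.comp_apply]⟩
      · rintro ⟨q, rfl⟩
        exact ⟨_, (Scheme.Hom.comp_apply _ _ q).symm⟩
  -- a quasi-compact open containing the image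
  obtain ⟨V, hVc, hKV⟩ := exists_compact_opens_of_isCompact
    (isCompact_range (g 0).continuous)
  haveI : CompactSpace V.toScheme := isCompact_iff_compactSpace.mp hVc
  obtain ⟨f, hf⟩ : ∃ f : V.toScheme ⟶ Spec (CommRingCat.of A), f = V.ι ≫ h := ⟨_, rfl⟩
  haveI : Mono f := by rw [hf]; infer_instance
  haveI : LocallyOfFiniteType f := by rw [hf]; infer_instance
  haveI : LocallyQuasiFinite f := LocallyQuasiFinite.of_injective f.injective
  haveI : QuasiCompact f := inferInstance
  -- the sections factor through V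
  have hgV : ∀ n, Set.range (g n) ⊆ Set.range V.ι := by
    intro n
    rw [hrange n, Scheme.Opens.range_ι]
    exact hKV
  obtain ⟨gV, hgVdef⟩ : ∃ gV : ∀ n, Spec (CommRingCat.of (A' n)) ⟶ V.toScheme,
      ∀ n, gV n ≫ V.ι = g n :=
    ⟨fun n => IsOpenImmersion.lift V.ι (g n) (hgV n), fun n => IsOpenImmersion.lift_fac _ _ _⟩
  -- Zariski's main theorem
  obtain ⟨N, j, p, hj, hp, hjp⟩ : ∃ (N : Scheme.{u}) (j : V.toScheme ⟶ N)
      (p : N ⟶ Spec (CommRingCat.of A)), IsOpenImmersion j ∧ IsAffineHom p ∧ j ≫ p = f :=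
    ⟨f.normalization, f.toNormalization, f.fromNormalization, inferInstance, inferInstance,
      f.toNormalization_fromNormalization⟩
  haveI : IsAffine N := isAffine_of_isAffineHom p
  -- the induced ring maps
  obtain ⟨k, hk⟩ : ∃ k : ∀ n, Spec (CommRingCat.of (A' n)) ⟶ Spec Γ(N, ⊤),
      ∀ n, k n = gV n ≫ j ≫ N.isoSpec.hom := ⟨_, fun _ => rfl⟩
  have hkc : ∀ n, Spec.map (CommRingCat.ofHom (φ n)) ≫ k (n + 1) = k n := by
    intro n
    have hgVc : Spec.map (CommRingCat.ofHom (φ n)) ≫ gV (n + 1) = gV n := by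
      rw [← cancel_mono V.ι, Category.assoc, hgVdef, hgVdef, hgc]
    rw [hk, hk, ← Category.assoc, hgVc]
  have hkp : ∀ n, k n ≫ N.isoSpec.inv ≫ p = Spec.map (CommRingCat.ofHom (π n)) := by
    intro n
    rw [hk]
    simp only [Category.assoc, Iso.hom_inv_id_assoc]
    rw [hjp, hf, ← Category.assoc, hgVdef, hg]
  obtain ⟨β, hβ⟩ : ∃ β : ∀ n, Γ(N, ⊤) ⟶ CommRingCat.of (A' n), ∀ n, Spec.map (β n) = k n :=
    ⟨fun n => Spec.preimage (k n), fun n => Spec.map_preimage _⟩
  have hβc : ∀ n, (φ n).comp (β (n + 1)).hom = (β n).hom := by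
    intro n
    have : β (n + 1) ≫ CommRingCat.ofHom (φ n) = β n := by
      apply Spec.map_injective
      rw [Spec.map_comp, hβ, hβ, hkc]
    rw [← this]
    rfl
  obtain ⟨b, hb⟩ := exists_ringHom_lift hlim (fun n => (β n).hom) hβc
  obtain ⟨α, hα⟩ : ∃ α : CommRingCat.of A ⟶ Γ(N, ⊤), Spec.map α = N.isoSpec.inv ≫ p :=
    ⟨Spec.preimage _, Spec.map_preimage _⟩
  have hαb : α ≫ CommRingCat.ofHom b = 𝟙 _ := by
    ext a
    apply hlim.2.1
    intro n
    have h1 : α ≫ β n = CommRingCat.ofHom (π n) := by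
      apply Spec.map_injective
      rw [Spec.map_comp, hβ, hα, hkp]
    have h2 : (π n).comp b = (β n).hom := hb n
    change π n (b (α a)) = π n a
    have h3 : π n (b (α a)) = (β n).hom (α a) := by rw [← h2]; rfl
    rw [h3]
    have h4 := congrArg (fun t => t.hom a) h1
    exact h4
  -- the section of `p`
  obtain ⟨σ', hσ'⟩ : ∃ σ' : Spec (CommRingCat.of A) ⟶ N,
      σ' = Spec.map (CommRingCat.ofHom b) ≫ N.isoSpec.inv := ⟨_, rfl⟩
  have hσp : σ' ≫ p = 𝟙 _ := by
    rw [hσ', Category.assoc, ← hα, ← Spec.map_comp, hαb, Spec.map_id]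
  have hσk : ∀ n, Spec.map (CommRingCat.ofHom (π n)) ≫ σ' = gV n ≫ j := by
    intro n
    have h2 : CommRingCat.ofHom b ≫ CommRingCat.ofHom (π n) = β n := by
      ext y
      have := hb n
      exact congrArg (fun t => t y) this
    rw [hσ', ← Category.assoc, ← Spec.map_comp, h2, hβ, hk]
    simp only [Category.assoc, Iso.hom_inv_id, Category.comp_id]
  -- `σ'` lands in the image of `j`
  have hσrange : Set.range σ' ⊆ Set.range j := by
    rintro _ ⟨x, rfl⟩
    by_contra hx
    -- the complement of the preimage of `range j`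
    obtain ⟨Z, hZ⟩ : ∃ Z : Set (PrimeSpectrum A), Z = {y | σ' y ∉ Set.range j} := ⟨_, rfl⟩
    have hZclosed : IsClosed Z := by
      rw [hZ]
      have : IsOpen (σ' ⁻¹' Set.range j) := j.isOpenEmbedding.isOpen_range.preimage σ'.continuous
      exact this.isClosed_compl
    have hxZ : x ∈ Z := by rw [hZ]; exact hx
    -- a maximal ideal in Z
    obtain ⟨m, hm, hxm⟩ := Ideal.exists_le_maximal (PrimeSpectrum.asIdeal x) x.2.ne_top
    obtain ⟨M, hM⟩ : ∃ M : PrimeSpectrum A, M = ⟨m, hm.isPrime⟩ := ⟨_, rfl⟩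
    have hspec : (show PrimeSpectrum A from x) ⤳ M :=
      (PrimeSpectrum.le_iff_specializes _ _).mp (by rw [hM]; exact hxm)
    have hmZ : M ∈ Z := hspec.mem_closed hZclosed hxZ
    -- m contains ker π 0
    have hker : RingHom.ker (π 0) ≤ m := by
      intro y hy
      by_contra hym
      obtain ⟨a, i, hi, hai⟩ := hm.exists_inv hym
      have hi' : i = 1 - a * y := by rw [← hai]; ring
      have hay : π 0 (a * y) = 0 := by rw [map_mul, (RingHom.mem_ker).mp hy, mul_zero]
      have hunit : IsUnit i := hi' ▸ isUnit_one_sub_of_mem_ker hlim hnil hay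
      exact hm.ne_top (Ideal.eq_top_of_isUnit_mem _ hi hunit)
    have hs0 := pi_zero_surjective hlim hsurj
    obtain ⟨Q, hQ⟩ : ∃ Q : PrimeSpectrum (A' 0), PrimeSpectrum.comap (π 0) Q = M := by
      refine ⟨⟨Ideal.map (π 0) m, Ideal.map_isPrime_of_surjective hs0 hker⟩, ?_⟩
      rw [hM]
      ext1
      change Ideal.comap (π 0) (Ideal.map (π 0) m) = m
      rw [Ideal.comap_map_of_surjective _ hs0]
      exact sup_eq_left.mpr hker
    apply (show σ' M ∉ Set.range j from by rw [hZ] at hmZ; exact hmZ)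
    have h1 : σ' M = (Spec.map (CommRingCat.ofHom (π 0)) ≫ σ') Q := by
      rw [Scheme.Hom.comp_apply]
      congr 1
      exact hQ.symm
    rw [h1, hσk 0, Scheme.Hom.comp_apply]
    exact ⟨_, rfl⟩
  obtain ⟨σ, hσ⟩ : ∃ σ : Spec (CommRingCat.of A) ⟶ V.toScheme, σ ≫ j = σ' :=
    ⟨IsOpenImmersion.lift j σ' hσrange, IsOpenImmersion.lift_fac _ _ _⟩
  have hsec : (σ ≫ V.ι) ≫ h = 𝟙 _ := by
    rw [Category.assoc, ← hf, ← hjp, ← Category.assoc, hσ, hσp]
  haveI : IsSplitEpi h := IsSplitEpi.mk' ⟨σ ≫ V.ι, hsec⟩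
  exact isIso_of_mono_of_isSplitEpi h

end Groth.Agent.H72.NilLimit
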