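import Groth.Prelude.Def_Pi1
import Mathlib

/-!
# A universally closed radicial birational morphism to a normal integral scheme is an iso (helper72)
-/

set_option autoImplicit false
set_option linter.style.haveILetI false
universe u

namespace Groth.Agent.H72.NormalBir

section Alg

variable {R S : Type*} [CommRing R] [CommRing S] [IsDomain R] [IsDomain S]

/-- An integral injective map from an integrally closed domain to a domain inducing an isomorphism
on fraction fields is surjective. -/
theorem surjective_of_frac [IsIntegrallyClosed R] (φ : R →+* S) (hint : φ.IsIntegral)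
    (hinj : Function.Injective φ)
    (hfrac : ∀ s : S, ∃ a b : R, b ≠ 0 ∧ φ b * s = φ a) : Function.Surjective φ := by
  intro s
  obtain ⟨a, b, hb, hab⟩ := hfrac s
  obtain ⟨P, hP, hPs⟩ := hint s
  let K := FractionRing R
  let L := FractionRing S
  have hle : nonZeroDivisors R ≤ (nonZeroDivisors S).comap φ :=
    nonZeroDivisors_le_comap_nonZeroDivisors_of_injective φ hinj
  let ψ : K →+* L := IsLocalization.map L φ hle
  have hψ : ∀ r : R, ψ (algebraMap R K r) = algebraMap S L (φ r) := fun r =>
    IsLocalization.map_eq hle r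
  have hb' : algebraMap R K b ≠ 0 := by
    rw [Ne, map_eq_zero_iff _ (IsFractionRing.injective R K)]; exact hb
  let x : K := algebraMap R K a / algebraMap R K b
  have hψx : ψ x = algebraMap S L s := by
    have hφb : algebraMap S L (φ b) ≠ 0 := by
      rw [Ne, map_eq_zero_iff _ (IsFractionRing.injective S L), map_eq_zero_iff _ hinj]; exact hb
    rw [map_div₀, hψ, hψ, div_eq_iff hφb, ← map_mul, mul_comm, hab]
  have hx : IsIntegral R x := by
    refine ⟨P, hP, ?_⟩
    apply ψ.injective
    rw [map_zero, Polynomial.hom_eval₂, hψx]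
    have : ψ.comp (algebraMap R K) = (algebraMap S L).comp φ := RingHom.ext hψ
    rw [this, ← Polynomial.hom_eval₂, hPs, map_zero]
  obtain ⟨r, hr⟩ := IsIntegrallyClosed.isIntegral_iff.mp hx
  refine ⟨r, ?_⟩
  have h1 : algebraMap R K a = algebraMap R K (r * b) := by
    rw [map_mul, hr]
    exact (div_mul_cancel₀ _ hb').symm
  have h2 : a = r * b := IsFractionRing.injective R K h1
  have hφb : φ b ≠ 0 := by rw [Ne, map_eq_zero_iff _ hinj]; exact hb
  apply mul_left_cancel₀ hφb
  rw [hab, h2, map_mul, mul_comm]

end Alg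

end Groth.Agent.H72.NormalBir

namespace Groth.Agent.H72.NormalBir

open AlgebraicGeometry CategoryTheory CategoryTheory.Limits

/-- sections over a nonempty affine open of a normal integral scheme are integrally closed -/
theorem isIntegrallyClosed_of_isNormal {V : Scheme.{u}} [IsIntegral V] (hN : Pi1.IsNormalScheme V)
    (W : V.Opens) (hW : IsAffineOpen W) [Nonempty W] : IsIntegrallyClosed Γ(V, W) := by
  apply IsIntegrallyClosed.of_localization_maximal
  intro P _ hPmax
  let y : PrimeSpectrum Γ(V, W) := ⟨P, hPmax.isPrime⟩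
  have hz : hW.fromSpec y ∈ W := by
    have := hW.range_fromSpec
    rw [← SetLike.mem_coe, ← this]
    exact ⟨y, rfl⟩
  letI := TopCat.Presheaf.algebra_section_stalk V.presheaf ⟨hW.fromSpec y, hz⟩
  haveI : IsLocalization.AtPrime (V.presheaf.stalk (hW.fromSpec y)) P :=
    hW.isLocalization_stalk' y hz
  let e := IsLocalization.algEquiv P.primeCompl (Localization.AtPrime P)
    (V.presheaf.stalk (hW.fromSpec y))
  haveI := (hN (hW.fromSpec y)).2
  exact IsIntegrallyClosed.of_equiv e.symm.toRingEquiv

theorem residue_bijective_of_isField {X : Scheme.{u}} (x : X)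
    (hF : IsField (X.presheaf.stalk x)) : Function.Bijective (X.residue x) := by
  refine ⟨?_, IsLocalRing.residue_surjective⟩
  rw [injective_iff_map_eq_zero]
  intro a ha
  have h1 : a ∈ IsLocalRing.maximalIdeal (X.presheaf.stalk x) :=
    (IsLocalRing.residue_eq_zero_iff a).mp ha
  rw [IsLocalRing.isField_iff_maximalIdeal_eq.mp hF] at h1
  exact h1

end Groth.Agent.H72.NormalBir

namespace Groth.Agent.H72.NormalBir

open AlgebraicGeometry CategoryTheory CategoryTheory.Limits

variable {U V : Scheme.{u}} [IsIntegral U] [IsIntegral V]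

theorem stalkMap_bijective (h : U ⟶ V) (hgen : h.base (genericPoint U) = genericPoint V)
    (hbir : Function.Bijective (h.residueFieldMap (genericPoint U)).hom) :
    Function.Bijective (h.stalkMap (genericPoint U)) := by
  have hFU : IsField (U.presheaf.stalk (genericPoint U)) := Field.toIsField U.functionField
  have hFV : IsField (V.presheaf.stalk (h.base (genericPoint U))) := by
    rw [hgen]; exact Field.toIsField V.functionField
  have h1 := residue_bijective_of_isField _ hFU
  have h2 := residue_bijective_of_isField _ hFV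
  have hsq := Scheme.residue_residueFieldMap h (genericPoint U)
  have h3 : Function.Bijective (h.stalkMap (genericPoint U) ≫ U.residue (genericPoint U)) := by
    rw [← hsq]
    exact hbir.comp h2
  exact (Function.Bijective.of_comp_iff' h1 _).mp h3

theorem app_bijective (hN : Pi1.IsNormalScheme V) (h : U ⟶ V) [IsIntegralHom h]
    (hsurj : Function.Surjective h)
    (hgen : h.base (genericPoint U) = genericPoint V)
    (hbir : Function.Bijective (h.residueFieldMap (genericPoint U)).hom)
    (W : V.Opens) (hW : IsAffineOpen W) [Nonempty W] : Function.Bijective (h.app W) := by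
  have hη : genericPoint U ∈ h ⁻¹ᵁ W := by
    obtain ⟨⟨w, hw⟩⟩ := ‹Nonempty W›
    obtain ⟨x, rfl⟩ := hsurj w
    exact ((genericPoint_spec U).mem_open_set_iff (h ⁻¹ᵁ W).isOpen).mpr ⟨x, trivial, hw⟩
  have hv : h (genericPoint U) ∈ W := hη
  haveI : Nonempty (h ⁻¹ᵁ W) := ⟨⟨_, hη⟩⟩
  haveI := isIntegrallyClosed_of_isNormal hN W hW
  have hint : (h.app W).hom.IsIntegral := h.isIntegral_app W hW
  have hst := stalkMap_bijective h hgen hbir
  have hinj : Function.Injective (h.app W).hom := by
    rw [injective_iff_map_eq_zero]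
    intro r hr
    have h1 := Scheme.Hom.germ_stalkMap_apply h W (genericPoint U) hv r
    rw [show (h.app W) r = 0 from hr, map_zero] at h1
    have h2 : V.presheaf.germ W (h (genericPoint U)) hv r = 0 := hst.1 (h1.trans (map_zero _).symm)
    exact germ_injective_of_isIntegral V _ hv (h2.trans (map_zero _).symm)
  have hfrac : ∀ s : Γ(U, h ⁻¹ᵁ W), ∃ a b : Γ(V, W), b ≠ 0 ∧ (h.app W).hom b * s = (h.app W).hom a := by
    intro s
    obtain ⟨t, ht⟩ := hst.2 (U.presheaf.germ (h ⁻¹ᵁ W) (genericPoint U) hη s)
    letI := TopCat.Presheaf.algebra_section_stalk V.presheaf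
      (⟨h (genericPoint U), hv⟩ : W)
    haveI : IsLocalization.AtPrime (V.presheaf.stalk (h (genericPoint U)))
        (hW.primeIdealOf ⟨h (genericPoint U), hv⟩).asIdeal :=
      hW.isLocalization_stalk ⟨h (genericPoint U), hv⟩
    obtain ⟨⟨a, b⟩, hab⟩ := IsLocalization.surj
      (hW.primeIdealOf ⟨h (genericPoint U), hv⟩).asIdeal.primeCompl t
    refine ⟨a, b.1, ?_, ?_⟩
    · intro hb0
      exact b.2 (hb0 ▸ Ideal.zero_mem _)
    · apply germ_injective_of_isIntegral U (genericPoint U) hη
      rw [map_mul, ← Scheme.Hom.germ_stalkMap_apply h W (genericPoint U) hv,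
        ← Scheme.Hom.germ_stalkMap_apply h W (genericPoint U) hv, ← ht, ← map_mul]
      congr 1
      rw [mul_comm]
      exact hab
  exact ⟨hinj, surjective_of_frac _ hint hinj hfrac⟩

end Groth.Agent.H72.NormalBir

namespace Groth.Agent.H72.NormalBir

set_option backward.isDefEq.respectTransparency.types false in
open CategoryTheory CategoryTheory.Limits AlgebraicGeometry in
theorem isIso_of_birational {U V : Scheme.{u}} [AlgebraicGeometry.IsIntegral U] [AlgebraicGeometry.IsIntegral V]
    (hN : Pi1.IsNormalScheme V) (h : U ⟶ V) [UniversallyClosed h]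
    [UniversallyInjective h] (hgen : h.base (genericPoint U) = genericPoint V)
    (hbir : Function.Bijective (h.residueFieldMap (genericPoint U)).hom) :
    IsIso h := by
  have hinj : Function.Injective h := h.injective
  have hemb : Topology.IsClosedEmbedding h :=
    Topology.IsClosedEmbedding.of_continuous_injective_isClosedMap h.continuous hinj h.isClosedMap
  haveI : IsAffineHom h := isAffineHom_of_isInducing h hemb.isInducing hemb.isClosed_range
  haveI : IsIntegralHom h :=
    IsIntegralHom.iff_universallyClosed_and_isAffineHom.mpr ⟨inferInstance, inferInstance⟩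
  have hsurj : Function.Surjective h := by
    rw [← Set.range_eq_univ]
    apply Set.eq_univ_of_univ_subset
    have hg := (genericPoint_spec V)
    rw [← hg.def]
    exact hemb.isClosed_range.closure_subset_iff.mpr
      (Set.singleton_subset_iff.mpr ⟨genericPoint U, hgen⟩)
  rw [← MorphismProperty.isomorphisms.iff,
    HasAffineProperty.eq_targetAffineLocally (MorphismProperty.isomorphisms Scheme.{u})]
  intro W
  have hUaff : IsAffineOpen (h ⁻¹ᵁ W.1) := W.2.preimage h
  refine ⟨hUaff, ?_⟩
  rw [ConcreteCategory.isIso_iff_bijective]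
  rcases isEmpty_or_nonempty (W.1 : Scheme) with hE | hN'
  · haveI : IsEmpty ((h ⁻¹ᵁ W.1 : U.Opens) : Scheme) := ⟨fun x => hE.false ((h ∣_ W.1) x)⟩
    have hsub : ∀ (Z : Scheme.{u}) [IsEmpty Z], Subsingleton Γ(Z, ⊤) := by
      intro Z _
      have : (⊤ : Z.Opens) = ⊥ := by
        rw [eq_bot_iff]; intro x _; exact (IsEmpty.false x).elim
      rw [this]
      exact CommRingCat.subsingleton_of_isTerminal (Z.sheaf.isTerminalOfEqEmpty rfl)
    haveI := hsub (W.1 : Scheme)
    haveI := hsub ((h ⁻¹ᵁ W.1 : U.Opens) : Scheme)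
    exact ⟨fun a b _ => Subsingleton.elim a b, fun b => ⟨0, Subsingleton.elim _ _⟩⟩
  · rw [morphismRestrict_appTop]
    have hW' : IsAffineOpen (W.1.ι ''ᵁ ⊤) := by
      rw [Scheme.Opens.ι_image_top]; exact W.2
    haveI : Nonempty (W.1.ι ''ᵁ ⊤ : V.Opens) := by
      obtain ⟨y⟩ := hN'
      exact ⟨⟨y.1, ⟨y, trivial, rfl⟩⟩⟩
    have hb := Groth.Agent.H72.NormalBir.app_bijective hN h hsurj hgen hbir (W.1.ι ''ᵁ ⊤) hW'
    have hiso : Function.Bijective (U.presheaf.map
        (eqToHom (image_morphismRestrict_preimage h W.1 ⊤)).op) :=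
      ConcreteCategory.bijective_of_isIso _
    exact hiso.comp hb

end Groth.Agent.H72.NormalBir
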