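import Groth.Agent.H72.NormalBir

/-!
# Integral morphisms with a rational section onto a normal scheme (helper72)
-/

set_option autoImplicit false
set_option linter.style.haveILetI false
universe u

namespace Groth.Agent.H72.NormalBir

open AlgebraicGeometry CategoryTheory CategoryTheory.Limits

variable {U V : Scheme.{u}} [IsIntegral U] [IsIntegral V]

/-- variant of `app_bijective` in terms of the stalk map at a generic point -/
theorem app_bijective' (hN : Pi1.IsNormalScheme V) (h : U ⟶ V) [IsIntegralHom h]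
    (hsurj : Function.Surjective h) (x' : U) (hx' : x' = genericPoint U)
    (hst : Function.Bijective (h.stalkMap x'))
    (W : V.Opens) (hW : IsAffineOpen W) [Nonempty W] : Function.Bijective (h.app W) := by
  subst hx'
  have hη : genericPoint U ∈ h ⁻¹ᵁ W := by
    obtain ⟨⟨w, hw⟩⟩ := ‹Nonempty W›
    obtain ⟨x, rfl⟩ := hsurj w
    exact ((genericPoint_spec U).mem_open_set_iff (h ⁻¹ᵁ W).isOpen).mpr ⟨x, trivial, hw⟩
  have hv : h (genericPoint U) ∈ W := hη
  haveI : Nonempty (h ⁻¹ᵁ W) := ⟨⟨_, hη⟩⟩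
  haveI := isIntegrallyClosed_of_isNormal hN W hW
  have hint : (h.app W).hom.IsIntegral := h.isIntegral_app W hW
  have hinj : Function.Injective (h.app W).hom := by
    rw [injective_iff_map_eq_zero]
    intro r hr
    have h1 := Scheme.Hom.germ_stalkMap_apply h W (genericPoint U) hv r
    rw [show (h.app W) r = 0 from hr, map_zero] at h1
    have h2 : V.presheaf.germ W (h (genericPoint U)) hv r = 0 := hst.1 (h1.trans (map_zero _).symm)
    exact germ_injective_of_isIntegral V _ hv (h2.trans (map_zero _).symm)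
  have hfrac : ∀ s : Γ(U, h ⁻¹ᵁ W), ∃ a b : Γ(V, W), b ≠ 0 ∧ (h.app W).hom b * s = (h.app W).hom a := by
    intro s
    obtain ⟨t, ht⟩ := hst.2 (U.presheaf.germ (h ⁻¹ᵁ W) (genericPoint U) hη s)
    letI := TopCat.Presheaf.algebra_section_stalk V.presheaf
      (⟨h (genericPoint U), hv⟩ : W)
    haveI : IsLocalization.AtPrime (V.presheaf.stalk (h (genericPoint U)))
        (hW.primeIdealOf ⟨h (genericPoint U), hv⟩).asIdeal :=
      hW.isLocalization_stalk ⟨h (genericPoint U), hv⟩
    obtain ⟨⟨a, b⟩, hab⟩ := IsLocalization.surj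
      (hW.primeIdealOf ⟨h (genericPoint U), hv⟩).asIdeal.primeCompl t
    refine ⟨a, b.1, ?_, ?_⟩
    · intro hb0
      exact b.2 (hb0 ▸ Ideal.zero_mem _)
    · apply germ_injective_of_isIntegral U (genericPoint U) hη
      rw [map_mul, ← Scheme.Hom.germ_stalkMap_apply h W (genericPoint U) hv,
        ← Scheme.Hom.germ_stalkMap_apply h W (genericPoint U) hv, ← ht, ← map_mul]
      congr 1
      rw [mul_comm]
      exact hab
  exact ⟨hinj, surjective_of_frac _ hint hinj hfrac⟩

/-- A point of the source of an integral morphism of integral schemes lying over the generic point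
is the generic point. -/
theorem eq_genericPoint_of_isIntegralHom (g : U ⟶ V) [IsIntegralHom g] (x' : U)
    (hx' : g x' = genericPoint V) : x' = genericPoint U := by
  obtain ⟨_, ⟨W, hW : IsAffineOpen W, rfl⟩, hηW, -⟩ :=
    V.isBasis_affineOpens.exists_subset_of_mem_open (Set.mem_univ (genericPoint V)) isOpen_univ
  have hηW' : genericPoint V ∈ W := hηW
  haveI : Nonempty W := ⟨⟨_, hηW'⟩⟩
  have hxW : x' ∈ g ⁻¹ᵁ W := by
    show g x' ∈ W
    rw [hx']; exact hηW'
  haveI : Nonempty (g ⁻¹ᵁ W) := ⟨⟨_, hxW⟩⟩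
  have hW' : IsAffineOpen (g ⁻¹ᵁ W) := hW.preimage g
  have hηU : genericPoint U ∈ g ⁻¹ᵁ W :=
    ((genericPoint_spec U).mem_open_set_iff (g ⁻¹ᵁ W).isOpen).mpr ⟨x', trivial, hxW⟩
  -- the prime of `x'` contracts to the prime of the generic point, which is zero
  have h1 := IsAffineOpen.comap_primeIdealOf_appLE (f := g) (x := x') W hW (g ⁻¹ᵁ W) hW' le_rfl hxW
  have h2 : hW.primeIdealOf ⟨g x', hxW⟩ = hW.primeIdealOf ⟨genericPoint V, hηW'⟩ := by
    congr 1
    exact Subtype.ext hx'
  have h3 : hW.primeIdealOf ⟨genericPoint V, hηW'⟩ = (⊥ : PrimeSpectrum Γ(V, W)) := by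
    rw [← genericPoint_eq_bot_of_affine]
    exact hW.primeIdealOf_genericPoint
  have h4 : hW'.primeIdealOf ⟨genericPoint U, hηU⟩ = (⊥ : PrimeSpectrum Γ(U, g ⁻¹ᵁ W)) := by
    rw [← genericPoint_eq_bot_of_affine]
    exact hW'.primeIdealOf_genericPoint
  letI := (g.app W).hom.toAlgebra
  haveI : Algebra.IsIntegral Γ(V, W) Γ(U, g ⁻¹ᵁ W) := ⟨g.isIntegral_app W hW⟩
  have h5 : (hW'.primeIdealOf ⟨x', hxW⟩).asIdeal = ⊥ := by
    apply Ideal.eq_bot_of_comap_eq_bot (R := Γ(V, W))
    have := congrArg PrimeSpectrum.asIdeal (h1.trans (h2.trans h3))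
    rw [PrimeSpectrum.comap_asIdeal] at this
    rw [← Scheme.Hom.app_eq_appLE] at this
    exact this
  have h6 : hW'.primeIdealOf ⟨x', hxW⟩ = hW'.primeIdealOf ⟨genericPoint U, hηU⟩ := by
    rw [h4]
    exact PrimeSpectrum.ext h5
  have h7 := congrArg hW'.fromSpec h6
  rw [hW'.fromSpec_primeIdealOf, hW'.fromSpec_primeIdealOf] at h7
  exact h7

end Groth.Agent.H72.NormalBir

namespace Groth.Agent.H72.NormalBir

open AlgebraicGeometry CategoryTheory CategoryTheory.Limits

set_option backward.isDefEq.respectTransparency.types false in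
/-- An affine morphism which is bijective on sections over nonempty affine opens is an iso. -/
theorem isIso_of_forall_app_bijective {U V : Scheme.{u}} (h : U ⟶ V) [IsAffineHom h]
    (H : ∀ (W : V.Opens), IsAffineOpen W → Nonempty W → Function.Bijective (h.app W)) :
    IsIso h := by
  rw [← MorphismProperty.isomorphisms.iff,
    HasAffineProperty.eq_targetAffineLocally (MorphismProperty.isomorphisms Scheme.{u})]
  intro W
  have hUaff : IsAffineOpen (h ⁻¹ᵁ W.1) := W.2.preimage h
  refine ⟨hUaff, ?_⟩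
  rw [ConcreteCategory.isIso_iff_bijective]
  rcases isEmpty_or_nonempty (W.1 : Scheme) with hE | hN'
  · haveI : IsEmpty ((h ⁻¹ᵁ W.1 : U.Opens) : Scheme) := ⟨fun x => hE.false ((h ∣_ W.1) x)⟩
    have hsub : ∀ (Z : Scheme.{u}) [IsEmpty Z], Subsingleton Γ(Z, ⊤) := by
      intro Z _
      have : (⊤ : Z.Opens) = ⊥ := by
        rw [eq_bot_iff]; intro x _; exact (IsEmpty.false x).elim
      rw [this]
      exact CommRingCat.subsingleton_of_isTerminal (Z.sheaf.isTerminalOfEqEmpty rfl)
    haveI := hsub (W.1 : Scheme)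
    haveI := hsub ((h ⁻¹ᵁ W.1 : U.Opens) : Scheme)
    exact ⟨fun a b _ => Subsingleton.elim a b, fun b => ⟨0, Subsingleton.elim _ _⟩⟩
  · rw [morphismRestrict_appTop]
    have hW' : IsAffineOpen (W.1.ι ''ᵁ ⊤) := by
      rw [Scheme.Opens.ι_image_top]; exact W.2
    have hne : Nonempty (W.1.ι ''ᵁ ⊤ : V.Opens) := by
      obtain ⟨y⟩ := hN'
      exact ⟨⟨y.1, ⟨y, trivial, rfl⟩⟩⟩
    have hb := H (W.1.ι ''ᵁ ⊤) hW' hne
    have hiso : Function.Bijective (U.presheaf.map
        (eqToHom (image_morphismRestrict_preimage h W.1 ⊤)).op) :=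
      ConcreteCategory.bijective_of_isIso _
    exact hiso.comp hb

theorem stalkMap_bijective_of_section {X X' U' : Scheme.{u}} [IsIntegral X'] (g : X' ⟶ X)
    (σ : U' ⟶ X') [IsOpenImmersion (σ ≫ g)] (x₀ : U') (hx : σ x₀ = genericPoint X') :
    Function.Bijective (g.stalkMap (σ x₀)) := by
  have hcomp := Scheme.Hom.stalkMap_comp σ g x₀
  have hiso : IsIso ((σ ≫ g).stalkMap x₀) := (IsOpenImmersion.iff_isIso_stalkMap.mp ‹_›).2 x₀
  have hb0 : Function.Bijective ((σ ≫ g).stalkMap x₀) := ConcreteCategory.bijective_of_isIso _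
  have hb : Function.Bijective (g.stalkMap (σ x₀) ≫ σ.stalkMap x₀) := by
    rw [← hcomp]; exact hb0
  have hF : IsField (X'.presheaf.stalk (σ x₀)) := by
    rw [hx]; exact Field.toIsField X'.functionField
  have hσsurj : Function.Surjective (σ.stalkMap x₀) := Function.Surjective.of_comp hb.2
  have hσinj : Function.Injective (σ.stalkMap x₀) := by
    rw [injective_iff_map_eq_zero]
    intro a ha
    by_contra hne
    obtain ⟨b, hb'⟩ := hF.mul_inv_cancel hne
    have h1 : (σ.stalkMap x₀) a * (σ.stalkMap x₀) b = 1 := by rw [← map_mul, hb', map_one]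
    rw [ha, zero_mul] at h1
    exact zero_ne_one h1
  exact (Function.Bijective.of_comp_iff' ⟨hσinj, hσsurj⟩ _).mp hb

theorem isIso_of_rational_section {X X' : Scheme.{u}} [IsIntegral X] [IsIntegral X']
    (hX : Pi1.IsNormalScheme X) (g : X' ⟶ X) [IsIntegralHom g] (U : X.Opens)
    (hU : Dense (U : Set X)) (s : (U : Scheme.{u}) ⟶ X') (hs : s ≫ g = U.ι) : IsIso g := by
  haveI : Nonempty U := by
    obtain ⟨x, hx⟩ := hU.nonempty
    exact ⟨⟨x, hx⟩⟩
  have hgx : g (s (genericPoint U)) = genericPoint X := by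
    rw [← Scheme.Hom.comp_apply, hs]
    exact genericPoint_eq_of_isOpenImmersion U.ι
  have hx := eq_genericPoint_of_isIntegralHom g (s (genericPoint U)) hgx
  haveI : IsOpenImmersion (s ≫ g) := hs ▸ inferInstance
  have hst := stalkMap_bijective_of_section g s (genericPoint U) hx
  have hsurj : Function.Surjective g := by
    rw [← Set.range_eq_univ]
    have hcl : IsClosed (Set.range g) := g.isClosedMap.isClosed_range
    have hsub : (U : Set X) ⊆ Set.range g := by
      intro u hu
      have h1 : (s ≫ g) (⟨u, hu⟩ : (U : Scheme.{u})) = U.ι ⟨u, hu⟩ := by rw [hs]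
      exact ⟨s (⟨u, hu⟩ : (U : Scheme.{u})), (Scheme.Hom.comp_apply s g _).symm.trans h1⟩
    exact Set.eq_univ_of_univ_subset (hU.closure_eq ▸ hcl.closure_subset_iff.mpr hsub)
  exact isIso_of_forall_app_bijective g fun W hW hne =>
    haveI := hne
    app_bijective' hX g hsurj _ hx hst W hW

end Groth.Agent.H72.NormalBir
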