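import Groth.Prelude.Def_Pi1
import Groth.Agent.H72.NormalBir2
import Mathlib.AlgebraicGeometry.ZariskisMainTheorem

/-!
# Birational morphisms near a normal point (helper72)

* `exists_primeCompl_mul_eq`, `prime_eq_of_comap_eq`, `exists_away`: commutative algebra.
* `fibre_subsingleton`: the fibre of an integral birational morphism of integral schemes over a
  point with integrally closed local ring has at most one point.
* `exists_isIso_morphismRestrict_of_isFinite`: a finite birational morphism of integral schemes is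
  an isomorphism over a neighbourhood of a point with integrally closed local ring.
* `exists_isIso_nhd`: a proper morphism of integral schemes which is an isomorphism over a nonempty
  open and quasi-finite at a point over a normal point is an isomorphism near that point
  (uses Mathlib's Zariski main theorem).
-/

set_option autoImplicit false
set_option linter.style.haveILetI false
set_option linter.unusedSectionVars false
universe u

namespace Groth.Agent.H72.NormalPt

section Alg

variable {A B S : Type*} [CommRing A] [CommRing B] [IsDomain A] [IsDomain B]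
  [CommRing S] [Algebra A S] (p : Ideal A) [p.IsPrime] [IsLocalization.AtPrime S p]
  [IsIntegrallyClosed S]

include S in
/-- If `A_p` is integrally closed, `A → B` is integral and birational, then every element of `B`
is a fraction with denominator outside `p`. -/
theorem exists_primeCompl_mul_eq (φ : A →+* B) (hint : φ.IsIntegral)
    (hinj : Function.Injective φ)
    (hfrac : ∀ s : B, ∃ a b : A, b ≠ 0 ∧ φ b * s = φ a) (s : B) :
    ∃ a b : A, b ∉ p ∧ φ b * s = φ a := by
  obtain ⟨a, b, hb, hab⟩ := hfrac s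
  obtain ⟨P, hP, hPs⟩ := hint s
  let K := FractionRing A
  let L := FractionRing B
  have hle : nonZeroDivisors A ≤ (nonZeroDivisors B).comap φ :=
    nonZeroDivisors_le_comap_nonZeroDivisors_of_injective φ hinj
  let ψ : K →+* L := IsLocalization.map L φ hle
  have hψ : ∀ r : A, ψ (algebraMap A K r) = algebraMap B L (φ r) := fun r =>
    IsLocalization.map_eq hle r
  have hb' : algebraMap A K b ≠ 0 := by
    rw [Ne, map_eq_zero_iff _ (IsFractionRing.injective A K)]; exact hb
  let x : K := algebraMap A K a / algebraMap A K b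
  have hψx : ψ x = algebraMap B L s := by
    have hφb : algebraMap B L (φ b) ≠ 0 := by
      rw [Ne, map_eq_zero_iff _ (IsFractionRing.injective B L), map_eq_zero_iff _ hinj]; exact hb
    rw [map_div₀, hψ, hψ, div_eq_iff hφb, ← map_mul, mul_comm, hab]
  have hx : IsIntegral A x := by
    refine ⟨P, hP, ?_⟩
    apply ψ.injective
    rw [map_zero, Polynomial.hom_eval₂, hψx]
    have : ψ.comp (algebraMap A K) = (algebraMap B L).comp φ := RingHom.ext hψ
    rw [this, ← Polynomial.hom_eval₂, hPs, map_zero]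
  -- the localization as a subalgebra of `K`
  have hM : p.primeCompl ≤ nonZeroDivisors A := p.primeCompl_le_nonZeroDivisors
  let T := (Localization.mapToFractionRing K p.primeCompl S hM).range
  haveI : IsLocalization p.primeCompl T := inferInstance
  haveI : IsFractionRing T K := inferInstance
  let e : S ≃ₐ[A] T := IsLocalization.algEquiv p.primeCompl S T
  haveI : IsIntegrallyClosed T := IsIntegrallyClosed.of_equiv e.toRingEquiv
  have hxT : IsIntegral T x := hx.tower_top
  obtain ⟨y, hy⟩ := IsIntegrallyClosed.isIntegral_iff.mp hxT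
  have hxmem : x ∈ (Localization.mapToFractionRing K p.primeCompl S hM).range := by
    rw [← hy]; exact y.2
  obtain ⟨a', s', hs', hx'⟩ :=
    (Localization.subalgebra.mem_range_mapToFractionRing_iff_ofField K p.primeCompl hM S x).mp hxmem
  refine ⟨a', s', hs', ?_⟩
  have hs0 : algebraMap A K s' ≠ 0 := by
    rw [Ne, map_eq_zero_iff _ (IsFractionRing.injective A K)]
    rintro rfl
    exact hs' (Ideal.zero_mem p)
  apply IsFractionRing.injective B L
  rw [map_mul, ← hψ, ← hψ, ← hψx, ← map_mul]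
  congr 1
  rw [hx', mul_comm, mul_assoc, inv_mul_cancel₀ hs0, mul_one]

end Alg


section Alg2

variable {A B : Type*} [CommRing A] [CommRing B] (p : Ideal A) [p.IsPrime]

theorem prime_eq_of_comap_eq (φ : A →+* B)
    (hloc : ∀ s : B, ∃ a b : A, b ∉ p ∧ φ b * s = φ a)
    (q₁ q₂ : Ideal B) [q₁.IsPrime] [q₂.IsPrime] (h₁ : q₁.comap φ = p) (h₂ : q₂.comap φ = p) :
    q₁ = q₂ := by
  have key : ∀ (q q' : Ideal B) [q.IsPrime] [q'.IsPrime], q.comap φ = p → q'.comap φ = p →
      q ≤ q' := by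
    intro q q' _ _ h h' s hs
    obtain ⟨a, b, hb, hab⟩ := hloc s
    have ha : a ∈ p := by
      rw [← h, Ideal.mem_comap, ← hab]
      exact Ideal.mul_mem_left _ _ hs
    have ha' : φ a ∈ q' := by
      rw [← h'] at ha; exact ha
    rw [← hab] at ha'
    rcases (Ideal.IsPrime.mem_or_mem ‹q'.IsPrime› ha') with h3 | h3
    · exact absurd (h' ▸ (Ideal.mem_comap.mpr h3) : b ∈ p) hb
    · exact h3
  exact le_antisymm (key q₁ q₂ h₁ h₂) (key q₂ q₁ h₂ h₁)

theorem exists_away (φ : A →+* B) (hfin : φ.Finite)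
    (hloc : ∀ s : B, ∃ a b : A, b ∉ p ∧ φ b * s = φ a) :
    ∃ t : A, t ∉ p ∧ ∀ s : B, ∃ a : A, φ a = φ t * s := by
  classical
  letI := φ.toAlgebra
  haveI : Module.Finite A B := hfin
  obtain ⟨G, hG⟩ := (Module.finite_def.mp ‹Module.Finite A B›)
  choose a b hb hab using hloc
  refine ⟨∏ g ∈ G, b g, ?_, ?_⟩
  · exact p.primeCompl.prod_mem (fun g _ => hb g)
  · intro s
    have hs : s ∈ Submodule.span A (G : Set B) := hG ▸ Submodule.mem_top
    induction hs using Submodule.span_induction with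
    | mem g hg =>
      obtain ⟨c, hc⟩ := Finset.dvd_prod_of_mem b hg
      refine ⟨c * a g, ?_⟩
      rw [hc, map_mul, map_mul, ← hab g]
      ring
    | zero => exact ⟨0, by simp⟩
    | add x y _ _ hx hy =>
      obtain ⟨ax, hax⟩ := hx
      obtain ⟨ay, hay⟩ := hy
      exact ⟨ax + ay, by rw [map_add, hax, hay, mul_add]⟩
    | smul r x _ hx =>
      obtain ⟨ax, hax⟩ := hx
      refine ⟨r * ax, ?_⟩
      rw [map_mul, hax, Algebra.smul_def]
      show φ r * _ = _ * (φ r * x)
      ring

end Alg2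


open AlgebraicGeometry CategoryTheory CategoryTheory.Limits
open Groth.Agent.H72.NormalBir

variable {U V : Scheme.{u}} [IsIntegral U] [IsIntegral V]

/-- sections of a birational morphism are injective and fractions -/
theorem app_injective_and_frac (h : U ⟶ V)
    (hst : Function.Bijective (h.stalkMap (genericPoint U)))
    (W : V.Opens) (hW : IsAffineOpen W) (hη : genericPoint U ∈ h ⁻¹ᵁ W) :
    Function.Injective (h.app W).hom ∧
      ∀ s : Γ(U, h ⁻¹ᵁ W), ∃ a b : Γ(V, W), b ≠ 0 ∧ (h.app W).hom b * s = (h.app W).hom a := by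
  have hv : h (genericPoint U) ∈ W := hη
  haveI : Nonempty (h ⁻¹ᵁ W) := ⟨⟨_, hη⟩⟩
  haveI : Nonempty W := ⟨⟨_, hv⟩⟩
  refine ⟨?_, ?_⟩
  · rw [injective_iff_map_eq_zero]
    intro r hr
    have h1 := Scheme.Hom.germ_stalkMap_apply h W (genericPoint U) hv r
    rw [show (h.app W) r = 0 from hr, map_zero] at h1
    have h2 : V.presheaf.germ W (h (genericPoint U)) hv r = 0 := hst.1 (h1.trans (map_zero _).symm)
    exact germ_injective_of_isIntegral V _ hv (h2.trans (map_zero _).symm)
  · intro s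
    obtain ⟨t, ht⟩ := hst.2 (U.presheaf.germ (h ⁻¹ᵁ W) (genericPoint U) hη s)
    letI := TopCat.Presheaf.algebra_section_stalk V.presheaf
      (⟨h (genericPoint U), hv⟩ : W)
    haveI : IsLocalization.AtPrime (V.presheaf.stalk (h (genericPoint U)))
        (hW.primeIdealOf ⟨h (genericPoint U), hv⟩).asIdeal :=
      hW.isLocalization_stalk ⟨h (genericPoint U), hv⟩
    obtain ⟨⟨a, b⟩, hab⟩ := IsLocalization.surj
      (hW.primeIdealOf ⟨h (genericPoint U), hv⟩).asIdeal.primeCompl t
    refine ⟨a, b.1, ?_, ?_⟩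
    · intro hb0
      exact b.2 (hb0 ▸ Ideal.zero_mem _)
    · apply germ_injective_of_isIntegral U (genericPoint U) hη
      rw [map_mul, ← Scheme.Hom.germ_stalkMap_apply h W (genericPoint U) hv,
        ← Scheme.Hom.germ_stalkMap_apply h W (genericPoint U) hv, ← ht, ← map_mul]
      congr 1
      rw [mul_comm]
      exact hab

/-- (*) at the scheme level -/
theorem exists_primeCompl_frac (h : U ⟶ V)
    (hst : Function.Bijective (h.stalkMap (genericPoint U)))
    (W : V.Opens) (hW : IsAffineOpen W) (hη : genericPoint U ∈ h ⁻¹ᵁ W)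
    (hint : (h.app W).hom.IsIntegral)
    (x : V) (hx : x ∈ W) (hN : IsIntegrallyClosed (V.presheaf.stalk x)) :
    ∀ s : Γ(U, h ⁻¹ᵁ W), ∃ a b : Γ(V, W),
      b ∉ (hW.primeIdealOf ⟨x, hx⟩).asIdeal ∧ (h.app W).hom b * s = (h.app W).hom a := by
  have hv : h (genericPoint U) ∈ W := hη
  haveI : Nonempty (h ⁻¹ᵁ W) := ⟨⟨_, hη⟩⟩
  haveI : Nonempty W := ⟨⟨_, hv⟩⟩
  obtain ⟨hinj, hfrac⟩ := app_injective_and_frac h hst W hW hη
  letI := TopCat.Presheaf.algebra_section_stalk V.presheaf (⟨x, hx⟩ : W)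
  haveI : IsLocalization.AtPrime (V.presheaf.stalk x) (hW.primeIdealOf ⟨x, hx⟩).asIdeal :=
    hW.isLocalization_stalk ⟨x, hx⟩
  exact exists_primeCompl_mul_eq (S := V.presheaf.stalk x) (hW.primeIdealOf ⟨x, hx⟩).asIdeal
    (h.app W).hom hint hinj hfrac

/-- the fibre of an integral birational morphism over a normal point is a subsingleton -/
theorem fibre_subsingleton (g : U ⟶ V) [IsIntegralHom g]
    (hst : Function.Bijective (g.stalkMap (genericPoint U)))
    (hgen : g (genericPoint U) = genericPoint V)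
    (x : V) (hN : IsIntegrallyClosed (V.presheaf.stalk x)) (y₁ y₂ : U)
    (h₁ : g y₁ = x) (h₂ : g y₂ = x) : y₁ = y₂ := by
  obtain ⟨_, ⟨W, hW : IsAffineOpen W, rfl⟩, hxW, -⟩ :=
    V.isBasis_affineOpens.exists_subset_of_mem_open (Set.mem_univ x) isOpen_univ
  have hxW' : x ∈ W := hxW
  have hηV : genericPoint V ∈ W :=
    ((genericPoint_spec V).mem_open_set_iff W.isOpen).mpr ⟨x, trivial, hxW'⟩
  have hη : genericPoint U ∈ g ⁻¹ᵁ W := by
    show g (genericPoint U) ∈ W
    rw [hgen]; exact hηV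
  have hW' : IsAffineOpen (g ⁻¹ᵁ W) := hW.preimage g
  have hint : (g.app W).hom.IsIntegral := g.isIntegral_app W hW
  have hloc := exists_primeCompl_frac g hst W hW hη hint x hxW' hN
  have hy₁ : y₁ ∈ g ⁻¹ᵁ W := by show g y₁ ∈ W; rw [h₁]; exact hxW'
  have hy₂ : y₂ ∈ g ⁻¹ᵁ W := by show g y₂ ∈ W; rw [h₂]; exact hxW'
  have c₁ := IsAffineOpen.comap_primeIdealOf_appLE (f := g) (x := y₁) W hW (g ⁻¹ᵁ W) hW' le_rfl hy₁
  have c₂ := IsAffineOpen.comap_primeIdealOf_appLE (f := g) (x := y₂) W hW (g ⁻¹ᵁ W) hW' le_rfl hy₂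
  have e₁ : hW.primeIdealOf ⟨g y₁, hy₁⟩ = hW.primeIdealOf ⟨x, hxW'⟩ := by
    congr 1; exact Subtype.ext h₁
  have e₂ : hW.primeIdealOf ⟨g y₂, hy₂⟩ = hW.primeIdealOf ⟨x, hxW'⟩ := by
    congr 1; exact Subtype.ext h₂
  have k₁ : (hW'.primeIdealOf ⟨y₁, hy₁⟩).asIdeal.comap (g.app W).hom =
      (hW.primeIdealOf ⟨x, hxW'⟩).asIdeal := by
    have := congrArg PrimeSpectrum.asIdeal (c₁.trans e₁)
    rw [PrimeSpectrum.comap_asIdeal, ← Scheme.Hom.app_eq_appLE] at this
    exact this
  have k₂ : (hW'.primeIdealOf ⟨y₂, hy₂⟩).asIdeal.comap (g.app W).hom =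
      (hW.primeIdealOf ⟨x, hxW'⟩).asIdeal := by
    have := congrArg PrimeSpectrum.asIdeal (c₂.trans e₂)
    rw [PrimeSpectrum.comap_asIdeal, ← Scheme.Hom.app_eq_appLE] at this
    exact this
  have hq := prime_eq_of_comap_eq _ (g.app W).hom hloc _ _ k₁ k₂
  have h6 : hW'.primeIdealOf ⟨y₁, hy₁⟩ = hW'.primeIdealOf ⟨y₂, hy₂⟩ := PrimeSpectrum.ext hq
  have h7 := congrArg hW'.fromSpec h6
  rw [hW'.fromSpec_primeIdealOf, hW'.fromSpec_primeIdealOf] at h7
  exact h7


set_option backward.isDefEq.respectTransparency.types false in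
/-- a morphism with affine target-open `V`, affine preimage, bijective on sections over `V`
restricts to an isomorphism over `V` -/
theorem isIso_morphismRestrict_of_bijective {Y X : Scheme.{u}} (f : Y ⟶ X) (V : X.Opens)
    (hV : IsAffineOpen V) (hV' : IsAffineOpen (f ⁻¹ᵁ V)) (hb : Function.Bijective (f.app V)) :
    IsIso (f ∣_ V) := by
  haveI : IsAffine (V : Scheme.{u}) := hV
  rw [← MorphismProperty.isomorphisms.iff,
    HasAffineProperty.iff_of_isAffine (P := MorphismProperty.isomorphisms Scheme.{u})]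
  refine ⟨hV', ?_⟩
  rw [ConcreteCategory.isIso_iff_bijective, morphismRestrict_appTop]
  have key : ∀ V' : X.Opens, V' = V → Function.Bijective (f.app V') := by
    rintro _ rfl; exact hb
  have hb' := key (V.ι ''ᵁ ⊤) (Scheme.Opens.ι_image_top V)
  have hiso : Function.Bijective (Y.presheaf.map
      (eqToHom (image_morphismRestrict_preimage f V ⊤)).op) :=
    ConcreteCategory.bijective_of_isIso _
  exact hiso.comp hb'


/-- A finite birational morphism of integral schemes is an isomorphism near a normal point. -/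
theorem exists_isIso_morphismRestrict_of_isFinite (g : U ⟶ V) [IsFinite g]
    (hst : Function.Bijective (g.stalkMap (genericPoint U)))
    (hgen : g (genericPoint U) = genericPoint V)
    (x : V) (hN : IsIntegrallyClosed (V.presheaf.stalk x)) :
    ∃ V₀ : V.Opens, x ∈ V₀ ∧ IsIso (g ∣_ V₀) := by
  obtain ⟨_, ⟨W, hW : IsAffineOpen W, rfl⟩, hxW, -⟩ :=
    V.isBasis_affineOpens.exists_subset_of_mem_open (Set.mem_univ x) isOpen_univ
  have hxW' : x ∈ W := hxW
  have hηV : genericPoint V ∈ W :=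
    ((genericPoint_spec V).mem_open_set_iff W.isOpen).mpr ⟨x, trivial, hxW'⟩
  have hη : genericPoint U ∈ g ⁻¹ᵁ W := by
    show g (genericPoint U) ∈ W
    rw [hgen]; exact hηV
  have hW' : IsAffineOpen (g ⁻¹ᵁ W) := hW.preimage g
  have hfin : (g.app W).hom.Finite := g.finite_app W hW
  have hint : (g.app W).hom.IsIntegral := RingHom.IsIntegral.of_finite hfin
  have hloc := exists_primeCompl_frac g hst W hW hη hint x hxW' hN
  obtain ⟨hinj, -⟩ := app_injective_and_frac g hst W hW hη
  obtain ⟨t, ht, hts⟩ := exists_away (hW.primeIdealOf ⟨x, hxW'⟩).asIdeal (g.app W).hom hfin hloc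
  refine ⟨V.basicOpen t, ?_, ?_⟩
  · rw [Scheme.mem_basicOpen V t x hxW']
    letI := TopCat.Presheaf.algebra_section_stalk V.presheaf (⟨x, hxW'⟩ : W)
    haveI : IsLocalization.AtPrime (V.presheaf.stalk x) (hW.primeIdealOf ⟨x, hxW'⟩).asIdeal :=
      hW.isLocalization_stalk ⟨x, hxW'⟩
    exact (IsLocalization.AtPrime.isUnit_to_map_iff (V.presheaf.stalk x)
      (hW.primeIdealOf ⟨x, hxW'⟩).asIdeal t).mpr ht
  · have hVaff : IsAffineOpen (V.basicOpen t) := hW.basicOpen t
    have hpre : g ⁻¹ᵁ V.basicOpen t = U.basicOpen ((g.app W) t) := Scheme.preimage_basicOpen g t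
    have hV'aff : IsAffineOpen (g ⁻¹ᵁ V.basicOpen t) := by
      rw [hpre]; exact hW'.basicOpen _
    apply isIso_morphismRestrict_of_bijective g _ hVaff hV'aff
    have h1 := hW.app_basicOpen_eq_away_map g hW' t
    haveI := hW.isLocalization_basicOpen t
    haveI := hW'.isLocalization_basicOpen (g.app W t)
    have hmapb : Function.Bijective (IsLocalization.Away.map Γ(V, V.basicOpen t)
        Γ(U, U.basicOpen (g.app W t)) (g.app W).hom t) := by
      constructor
      · rw [IsLocalization.Away.map_injective_iff]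
        intro a ha
        exact ⟨0, by rw [pow_zero, one_mul]; exact hinj (ha.trans (map_zero _).symm)⟩
      · rw [IsLocalization.Away.map_surjective_iff]
        intro s
        obtain ⟨a, ha⟩ := hts s
        exact ⟨a, 1, by rw [pow_one]; exact ha⟩
    rw [h1]
    have hiso : Function.Bijective (U.presheaf.map
        (eqToHom (Scheme.preimage_basicOpen g t)).op) :=
      ConcreteCategory.bijective_of_isIso _
    exact hiso.comp hmapb


/-- birationality data from an isomorphism over a nonempty open -/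
theorem birational_of_isIso_restrict {X Y : Scheme.{u}} [IsIntegral X] [IsIntegral Y]
    (f : Y ⟶ X) (W : X.Opens) (hW : (W : Set X).Nonempty) [IsIso (f ∣_ W)] :
    f (genericPoint Y) = genericPoint X ∧
      ∀ y₀ : Y, y₀ = genericPoint Y → Function.Bijective (f.stalkMap y₀) := by
  obtain ⟨w, hw⟩ := hW
  obtain ⟨z, -⟩ := (f ∣_ W).surjective ⟨w, hw⟩
  haveI : Nonempty (f ⁻¹ᵁ W) := ⟨z⟩
  haveI : IsOpenImmersion ((f ⁻¹ᵁ W).ι ≫ f) := by
    rw [← morphismRestrict_ι]; infer_instance
  have hι : (f ⁻¹ᵁ W).ι (genericPoint (f ⁻¹ᵁ W)) = genericPoint Y :=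
    genericPoint_eq_of_isOpenImmersion (f ⁻¹ᵁ W).ι
  have h1 : ((f ⁻¹ᵁ W).ι ≫ f) (genericPoint (f ⁻¹ᵁ W)) = genericPoint X :=
    genericPoint_eq_of_isOpenImmersion ((f ⁻¹ᵁ W).ι ≫ f)
  refine ⟨?_, ?_⟩
  · rw [← hι]; exact h1
  · rintro _ rfl
    have := stalkMap_bijective_of_section f (f ⁻¹ᵁ W).ι (genericPoint (f ⁻¹ᵁ W)) hι
    rw [hι] at this
    exact this


theorem exists_isIso_nhd {X Y : Scheme.{u}} [IsIntegral X] [IsIntegral Y]
    (f : Y ⟶ X) [IsProper f] (W : X.Opens) (hW : (W : Set X).Nonempty) (hfW : IsIso (f ∣_ W))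
    (x : X) (hx : IsIntegrallyClosed (X.presheaf.stalk x)) (y : Y) (hy : f.base y = x)
    (hq : f.QuasiFiniteAt y) :
    ∃ V : X.Opens, x ∈ V ∧ IsIso (f ∣_ V) := by
  obtain ⟨hgen, hst⟩ := birational_of_isIso_restrict f W hW
  obtain ⟨w, hw⟩ := hW
  obtain ⟨z, -⟩ := (f ∣_ W).surjective ⟨w, hw⟩
  haveI : Nonempty (f ⁻¹ᵁ W) := ⟨z⟩
  have hι : (f ⁻¹ᵁ W).ι (genericPoint (f ⁻¹ᵁ W)) = genericPoint Y :=
    genericPoint_eq_of_isOpenImmersion (f ⁻¹ᵁ W).ι
  have hfac : f.toNormalization ≫ f.fromNormalization = f := f.toNormalization_fromNormalization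
  haveI : IsIntegral f.normalization := inferInstance
  have hση : f.toNormalization (genericPoint Y) = genericPoint f.normalization := by
    apply ((genericPoint_spec f.normalization).eq _).symm
    have := (genericPoint_spec Y).image f.toNormalization.continuous
    rw [Set.image_univ, f.toNormalization.denseRange.closure_range] at this
    exact this
  haveI : IsOpenImmersion (((f ⁻¹ᵁ W).ι ≫ f.toNormalization) ≫ f.fromNormalization) := by
    rw [Category.assoc, hfac, ← morphismRestrict_ι]; infer_instance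
  have hσ' : ((f ⁻¹ᵁ W).ι ≫ f.toNormalization) (genericPoint (f ⁻¹ᵁ W)) =
      genericPoint f.normalization := by
    rw [Scheme.Hom.comp_apply, hι, hση]
  have hst' : Function.Bijective (f.fromNormalization.stalkMap (genericPoint f.normalization)) := by
    have := stalkMap_bijective_of_section f.fromNormalization
      ((f ⁻¹ᵁ W).ι ≫ f.toNormalization) (genericPoint (f ⁻¹ᵁ W)) hσ'
    rw [hσ'] at this
    exact this
  have hgen' : f.fromNormalization (genericPoint f.normalization) = genericPoint X := by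
    rw [← hση, ← Scheme.Hom.comp_apply, hfac]; exact hgen
  obtain ⟨U', hyU', hisoU'⟩ := f.exists_mem_and_isIso_morphismRestrict_toNormalization y hq
  have hfib : f.base ⁻¹' {x} ⊆ {y} := by
    intro y₂ hy₂
    have hy₂' : f y₂ = x := hy₂
    have e : f.toNormalization y₂ = f.toNormalization y :=
      fibre_subsingleton f.fromNormalization hst' hgen' x hx _ _
        (by rw [← Scheme.Hom.comp_apply, hfac]; exact hy₂')
        (by rw [← Scheme.Hom.comp_apply, hfac]; exact hy)
    have hy₂U : y₂ ∈ f.toNormalization ⁻¹ᵁ U' := by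
      show f.toNormalization y₂ ∈ U'
      rw [e]; exact hyU'
    have hyU : y ∈ f.toNormalization ⁻¹ᵁ U' := hyU'
    have inj := (f.toNormalization ∣_ U').isOpenEmbedding.injective
    have h2 : (⟨y₂, hy₂U⟩ : ((f.toNormalization ⁻¹ᵁ U' : Y.Opens) : Scheme.{u})) = ⟨y, hyU⟩ :=
      inj (Subtype.ext ((morphismRestrict_base_coe f.toNormalization U' ⟨y₂, hy₂U⟩).trans
        (e.trans (morphismRestrict_base_coe f.toNormalization U' ⟨y, hyU⟩).symm)))
    exact congrArg Subtype.val h2
  have hfinite : (f ⁻¹' {x}).Finite := (Set.finite_singleton y).subset hfib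
  obtain ⟨V₁, hxV₁, hfin⟩ :=
    exists_isFinite_morphismRestrict_of_finite_preimage_singleton f x hfinite
  haveI : Nonempty V₁ := ⟨⟨x, hxV₁⟩⟩
  have hyV₁ : y ∈ f ⁻¹ᵁ V₁ := by show f y ∈ V₁; rw [hy]; exact hxV₁
  haveI : Nonempty (f ⁻¹ᵁ V₁) := ⟨⟨y, hyV₁⟩⟩
  have hι₁ : (f ⁻¹ᵁ V₁).ι (genericPoint (f ⁻¹ᵁ V₁)) = genericPoint Y :=
    genericPoint_eq_of_isOpenImmersion (f ⁻¹ᵁ V₁).ι
  have hst₁ : Function.Bijective ((f ∣_ V₁).stalkMap (genericPoint (f ⁻¹ᵁ V₁))) := by
    have e := morphismRestrictStalkMap f V₁ (genericPoint (f ⁻¹ᵁ V₁))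
    have hb := hst (genericPoint (f ⁻¹ᵁ V₁)).1 hι₁
    have h1 : IsIso (f.stalkMap (genericPoint (f ⁻¹ᵁ V₁)).1) :=
      (ConcreteCategory.isIso_iff_bijective _).mpr hb
    have h2 : IsIso ((f ∣_ V₁).stalkMap (genericPoint (f ⁻¹ᵁ V₁))) :=
      ((MorphismProperty.isomorphisms CommRingCat).arrow_mk_iso_iff e).mpr h1
    exact ConcreteCategory.bijective_of_isIso _
  have hgen₁ : (f ∣_ V₁) (genericPoint (f ⁻¹ᵁ V₁)) = genericPoint V₁ := by
    apply V₁.ι.isOpenEmbedding.injective
    rw [genericPoint_eq_of_isOpenImmersion V₁.ι, ← Scheme.Hom.comp_apply, morphismRestrict_ι,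
      Scheme.Hom.comp_apply, hι₁]
    exact hgen
  have hN₁ : IsIntegrallyClosed ((V₁ : Scheme.{u}).presheaf.stalk (⟨x, hxV₁⟩ : V₁)) :=
    IsIntegrallyClosed.of_equiv (V₁.stalkIso ⟨x, hxV₁⟩).symm.commRingCatIsoToRingEquiv
  obtain ⟨V₀, hxV₀, hiso⟩ :=
    exists_isIso_morphismRestrict_of_isFinite (f ∣_ V₁) hst₁ hgen₁ ⟨x, hxV₁⟩ hN₁
  refine ⟨V₁.ι ''ᵁ V₀, ⟨⟨x, hxV₁⟩, hxV₀, rfl⟩, ?_⟩
  exact ((MorphismProperty.isomorphisms Scheme).arrow_mk_iso_iff
    (morphismRestrictRestrict f V₁ V₀)).mp hiso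

end Groth.Agent.H72.NormalPt
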