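import Groth.Agent.H72.UnibranchUO

/-!
# Universal openness at a point follows from universal openness at the maximal points of the fibre
(EGA IV 14.3.3.1)

Library of helper72.
-/

set_option autoImplicit false

namespace Groth.Agent.H72.UOMaximal

open CategoryTheory AlgebraicGeometry Limits EGA43 TopologicalSpace Topology
open Groth.Agent.H72.UnibranchUO

universe u

/-- Morphisms of spectra of fields are flat. -/
theorem flat_SpecMap_of_field {K L : CommRingCat.{u}} (hK : IsField K) (φ : K ⟶ L) :
    Flat (Spec.map φ) := by
  rw [Flat.SpecMap_iff]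
  letI := hK.toField
  algebraize [φ.hom]
  change Module.Flat K L
  infer_instance

set_option backward.isDefEq.respectTransparency.types false in
/-- The induced map on fibres of a base change is generalizing. -/
theorem exists_generalizingMap_fiber {X Y T : Scheme.{u}} (f : X ⟶ Y) (g : T ⟶ Y) (t : T) :
    ∃ φ : (pullback.snd f g).fiber t ⟶ f.fiber (g.base t), GeneralizingMap φ.base ∧
      φ ≫ f.fiberι (g.base t) = (pullback.snd f g).fiberι t ≫ pullback.fst f g := by
  have hpb := isPullback_fiberToSpecResidueField_of_isPullback (IsPullback.of_hasPullback f g) t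
  haveI : Flat (Spec.map (g.residueFieldMap t)) :=
    flat_SpecMap_of_field (Field.toIsField _) _
  have hflat : Flat (pullback.map (pullback.snd f g) (T.fromSpecResidueField t) f
      (Y.fromSpecResidueField (g.base t)) (pullback.fst f g) (Spec.map (g.residueFieldMap t)) g
      (IsPullback.of_hasPullback f g).w.symm (by simp)) :=
    MorphismProperty.of_isPullback (P := @Flat) hpb.flip inferInstance
  refine ⟨pullback.map (pullback.snd f g) (T.fromSpecResidueField t) f
      (Y.fromSpecResidueField (g.base t)) (pullback.fst f g) (Spec.map (g.residueFieldMap t)) g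
      (IsPullback.of_hasPullback f g).w.symm (by simp), ?_, pullback.lift_fst _ _ _⟩
  exact @Flat.generalizingMap _ _ _ hflat

set_option backward.isDefEq.respectTransparency.types false in
/-- **EGA IV 14.3.3.1**: a morphism which is universally open at all maximal points of the fibre
through `x` which specialize to `x` is universally open at `x`. -/
theorem isUnivOpenAt_of_forall_maximal {X Y : Scheme.{u}} (f : X ⟶ Y) (x : X)
    (H : ∀ w : X, f.base w = f.base x → w ⤳ x →
      (∀ w₁ : X, f.base w₁ = f.base x → w₁ ⤳ w → w₁ = w) → IsUnivOpenAt f w) :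
    IsUnivOpenAt f x := by
  intro T g x' hx'
  -- the fibre of the base change through `x'`
  have hirr : IsIrreducible (irreducibleComponent ((pullback.snd f g).asFiber x')) :=
    isIrreducible_irreducibleComponent
  have hcl : IsClosed (irreducibleComponent ((pullback.snd f g).asFiber x')) :=
    isClosed_irreducibleComponent
  have hC := irreducibleComponent_mem_irreducibleComponents ((pullback.snd f g).asFiber x')
  let ξ := hirr.genericPoint
  have hξ : IsGenericPoint ξ (irreducibleComponent ((pullback.snd f g).asFiber x')) := by
    have := hirr.isGenericPoint_genericPoint_closure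
    rwa [hcl.closure_eq] at this
  have hξa : ξ ⤳ (pullback.snd f g).asFiber x' := by
    rw [specializes_iff_mem_closure, hξ.def]
    exact mem_irreducibleComponent
  obtain ⟨w', hw'⟩ : ∃ w', ((pullback.snd f g).fiberι _).base ξ = w' := ⟨_, rfl⟩
  have hw'x' : w' ⤳ x' := by
    have := hξa.map ((pullback.snd f g).fiberι _).continuous
    rwa [(pullback.snd f g).fiberι_asFiber, hw'] at this
  have hsw' : (pullback.snd f g).base w' = (pullback.snd f g).base x' := by
    have : w' ∈ Set.range ((pullback.snd f g).fiberι ((pullback.snd f g).base x')).base :=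
      ⟨ξ, hw'⟩
    rw [Scheme.Hom.range_fiberι] at this
    exact this
  have hfx : f.base x = g.base ((pullback.snd f g).base x') := by
    rw [← hx', ← Scheme.Hom.comp_apply, pullback.condition, Scheme.Hom.comp_apply]
  -- the image point
  obtain ⟨w, hw⟩ : ∃ w, (pullback.fst f g).base w' = w := ⟨_, rfl⟩
  have hfw : f.base w = f.base x := by
    rw [← hw, ← Scheme.Hom.comp_apply, pullback.condition, Scheme.Hom.comp_apply, hsw', hfx]
  have hwx : w ⤳ x := by
    have := hw'x'.map (pullback.fst f g).continuous
    rwa [hw, hx'] at this
  -- maximality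
  have hmax : ∀ w₁ : X, f.base w₁ = f.base x → w₁ ⤳ w → w₁ = w := by
    intro w₁ hfw₁ hw₁w
    obtain ⟨φ, hgen, hφι⟩ := exists_generalizingMap_fiber f g ((pullback.snd f g).base x')
    have hw₁r : w₁ ∈ Set.range (f.fiberι (g.base ((pullback.snd f g).base x'))).base := by
      rw [Scheme.Hom.range_fiberι]
      exact hfw₁.trans hfx
    obtain ⟨b₁, hb₁⟩ := hw₁r
    have hb : (f.fiberι (g.base ((pullback.snd f g).base x'))).base (φ.base ξ) = w := by
      have := congr(($hφι).base ξ)
      rw [Scheme.Hom.comp_apply, Scheme.Hom.comp_apply] at this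
      rw [this, hw', hw]
    have hsp : b₁ ⤳ φ.base ξ := by
      apply (f.fiberι _).isEmbedding.toIsInducing.specializes_iff.mp
      rw [hb₁, hb]
      exact hw₁w
    obtain ⟨c, hc, hcb⟩ := hgen hsp
    have hcξ : c = ξ := eq_of_specializes_of_isGenericPoint hC hξ hc
    rw [← hb₁, ← hcb, hcξ, hb]
  have hU := H w hfw hwx hmax
  have hopen : IsOpenAt (pullback.snd f g).base w' := hU T g w' hw
  intro W hW
  have hW' : W ∈ 𝓝 w' := hw'x' hW
  have := hopen W hW'
  rwa [hsw'] at this

end Groth.Agent.H72.UOMaximal
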