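import Groth.Agent.H72.ChevalleyPt
import Groth.Agent.H72.UOMaximal
import Groth.Agent.Lib.Helper55.OpenAtBaseChange
import Groth.Agent.Lib.Helper55.EquidimCriterion
import Groth.Agent.Lib.Helper55.ClosedSubschemeDim
import Groth.Agent.Lib.Helper61.GU13

/-!
# Over a geometrically unibranch point, open at a maximal point of the fibre implies universally
open (EGA IV 14.4.? / 14.4.3)

Library of helper72.
-/

set_option autoImplicit false

namespace Groth.Agent.H72.OpenUO

open CategoryTheory AlgebraicGeometry Limits EGA43 TopologicalSpace Topology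
open Groth.Agent.Lib.Helper55

universe u

/-- An irreducible scheme dominating an irreducible locally Noetherian scheme, whose local fibre
dimension at `x₁` is at most the transcendence degree of the function field extension, is
equidimensional at `x₁`. -/
theorem isEquidimAt_of_irreducible {X₁ Y : Scheme.{u}} [IrreducibleSpace X₁] [IrreducibleSpace Y]
    [IsLocallyNoetherian Y] (g : X₁ ⟶ Y) [LocallyOfFiniteType g] (x₁ : X₁) (d : ℕ)
    (hgen : g.base (genericPoint X₁) = genericPoint Y)
    (htr : @Algebra.trdeg (Y.residueField (g.base (genericPoint X₁)))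
      (X₁.residueField (genericPoint X₁)) _ _
      (g.residueFieldMap (genericPoint X₁)).hom.toAlgebra = d)
    (hfd : FlatMor.fibreDimAt g x₁ ≤ d) : EGA43.IsEquidimAt g x₁ := by
  have hξ : IsGenericPoint (genericPoint X₁) (Set.univ : Set X₁) := genericPoint_spec X₁
  have hη : IsGenericPoint (genericPoint Y) (Set.univ : Set Y) := genericPoint_spec Y
  apply isEquidimAt_of_components g x₁ d
  intro Xj hXj hx
  rw [irreducibleComponents_eq_singleton, Set.mem_singleton_iff] at hXj
  subst hXj
  have himg : closure (g.base '' (Set.univ : Set X₁)) = Set.univ := by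
    rw [closure_image_eq_of_isGenericPoint g Set.univ _ hξ, hgen]
    exact hη.def
  refine ⟨?_, ?_, ?_⟩
  · rw [himg, irreducibleComponents_eq_singleton]
    rfl
  · intro η hηc
    rw [himg] at hηc
    have hηeq : genericPoint Y = η := hη.eq hηc
    obtain ⟨m, hm1, hm2⟩ := Groth.Agent.S3393.dim_closure_inter_fibre g η (genericPoint X₁)
      (hgen.trans hηeq)
    rw [hξ.def] at hm1
    have hmd : m = d := by
      have : ((m : ℕ) : Cardinal) = ((d : ℕ) : Cardinal) := by rw [← hm2, ← htr]
      exact_mod_cast this
    rw [hm1, hmd]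
  · apply le_antisymm
    · exact (localDim_inter_fibre_le g Set.univ x₁ hx).trans hfd
    · exact trdeg_le_localDim_inter_fibre g ⟨Set.univ, isClosed_univ⟩ x₁ (genericPoint X₁)
        hx (Set.mem_univ _) (hξ.specializes (Set.mem_univ _)) d htr

set_option backward.isDefEq.respectTransparency.types false in
/-- **Open at a maximal point of the fibre implies universally open**, irreducible base. -/
theorem isUnivOpenAt_of_isOpenAt_irreducible {X Y : Scheme.{u}} [IrreducibleSpace Y]
    [IsLocallyNoetherian Y] (f : X ⟶ Y) [LocallyOfFiniteType f] (x : X)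
    (hmax : ∀ w : X, f.base w = f.base x → w ⤳ x → w = x)
    (hY : CAlg2.IsGeomUnibranch (Y.presheaf.stalk (f.base x)))
    (hopen : IsOpenAt f.base x) : IsUnivOpenAt f x := by
  obtain ⟨ξ, d, -, hξx, hfξ, htrξ, -, hfd⟩ :=
    exists_dominant_maximal_point_of_isOpenAt f x hopen hmax
  obtain ⟨Z, hZ⟩ : ∃ Z : TopologicalSpace.Closeds X, (Z : Set X) = closure {ξ} :=
    ⟨⟨closure {ξ}, isClosed_closure⟩, rfl⟩
  have hrange : Set.range (Scheme.IdealSheafData.vanishingIdeal Z).subschemeι.base =
      closure {ξ} := by
    rw [Scheme.IdealSheafData.range_subschemeι, Scheme.IdealSheafData.coe_support_vanishingIdeal,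
      hZ]
  have hirrZ : IsIrreducible (Set.range (Scheme.IdealSheafData.vanishingIdeal Z).subschemeι.base) := by
    rw [hrange]; exact isIrreducible_singleton.closure
  haveI : IrreducibleSpace ↥(Scheme.IdealSheafData.vanishingIdeal Z).subscheme :=
    irreducibleSpace_of_isEmbedding _
      (Scheme.IdealSheafData.vanishingIdeal Z).subschemeι.isEmbedding hirrZ
  obtain ⟨x₁, hx₁⟩ : x ∈ Set.range (Scheme.IdealSheafData.vanishingIdeal Z).subschemeι.base := by
    rw [hrange]; exact specializes_iff_mem_closure.mp hξx
  -- the generic point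
  have hgp : (Scheme.IdealSheafData.vanishingIdeal Z).subschemeι.base
      (genericPoint ↥(Scheme.IdealSheafData.vanishingIdeal Z).subscheme) = ξ := by
    have h1 : IsGenericPoint ((Scheme.IdealSheafData.vanishingIdeal Z).subschemeι.base
        (genericPoint ↥(Scheme.IdealSheafData.vanishingIdeal Z).subscheme))
        (closure ((Scheme.IdealSheafData.vanishingIdeal Z).subschemeι.base '' Set.univ)) :=
      (genericPoint_spec _).image (Scheme.IdealSheafData.vanishingIdeal Z).subschemeι.continuous
    rw [Set.image_univ, hrange, closure_closure] at h1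
    exact h1.eq (show IsGenericPoint ξ (closure {ξ}) from rfl)
  subst hgp
  subst hx₁
  have hE : EGA43.IsEquidimAt ((Scheme.IdealSheafData.vanishingIdeal Z).subschemeι ≫ f) x₁ := by
    apply isEquidimAt_of_irreducible _ x₁ d
    · rw [Scheme.Hom.comp_apply]; exact hfξ
    · rw [trdeg_residueField_preimmersion_comp]; exact htrξ
    · exact (fibreDimAt_preimmersion_comp_le f _ x₁).trans hfd.le
  have h1 := Groth.Agent.H72.Chevalley.isUnivOpenAt_of_isEquidimAt
    ((Scheme.IdealSheafData.vanishingIdeal Z).subschemeι ≫ f) x₁ hY hE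
  exact Groth.Agent.S4926.result _ f x₁ h1

set_option backward.isDefEq.respectTransparency.types false in
/-- **Open at a maximal point of the fibre implies universally open**, over a geometrically
unibranch point of a locally Noetherian base (EGA IV 14.4.?, c) ⇒ a)). -/
theorem isUnivOpenAt_of_isOpenAt {X Y : Scheme.{u}} [IsLocallyNoetherian Y] (f : X ⟶ Y)
    [LocallyOfFiniteType f] (x : X)
    (hmax : ∀ w : X, f.base w = f.base x → w ⤳ x → w = x)
    (hY : CAlg2.IsGeomUnibranch (Y.presheaf.stalk (f.base x)))
    (hopen : IsOpenAt f.base x) : IsUnivOpenAt f x := by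
  obtain ⟨y, hy⟩ : ∃ y, f.base x = y := ⟨_, rfl⟩
  rw [hy] at hY
  have hcl : f.base x = (Y.fromSpecStalk y).base (IsLocalRing.closedPoint (Y.presheaf.stalk y)) := by
    rw [hy]; exact Scheme.fromSpecStalk_closedPoint.symm
  obtain ⟨x₁, hx₁, hx₁'⟩ := Scheme.Pullback.exists_preimage_pullback (f := f)
    (g := Y.fromSpecStalk y) x _ hcl
  apply UOStalk.isUnivOpenAt_of_fromSpecStalk f x y hy x₁ hx₁
  haveI : IsDomain (CAlg2.red (Y.presheaf.stalk y)) := hY.1.1
  have hnp : (nilradical (Y.presheaf.stalk y)).IsPrime :=
    (Ideal.Quotient.isDomain_iff_prime _).mp inferInstance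
  haveI : IrreducibleSpace ↥(Spec (Y.presheaf.stalk y)) :=
    PrimeSpectrum.irreducibleSpace_iff_isPrime_nilradical.mpr hnp
  apply isUnivOpenAt_of_isOpenAt_irreducible (pullback.snd f (Y.fromSpecStalk y)) x₁
  · intro w hw hwx
    have hemb : Topology.IsEmbedding (pullback.fst f (Y.fromSpecStalk y)).base :=
      (pullback.fst f (Y.fromSpecStalk y)).isEmbedding
    apply hemb.injective
    rw [hx₁]
    apply hmax
    · rw [← Scheme.Hom.comp_apply, pullback.condition, Scheme.Hom.comp_apply, hw, hx₁', ← hcl]
    · have := hwx.map (pullback.fst f (Y.fromSpecStalk y)).continuous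
      rwa [hx₁] at this
  · rw [hx₁']
    exact Groth.Agent.Lib.Helper61.GU.isGeomUnibranch_of_ringEquiv'
      (stalkClosedPointIso (Y.presheaf.stalk y)).symm.commRingCatIsoToRingEquiv hY
  · apply isOpenAt_snd_of_isOpenAt f (Y.fromSpecStalk y) x₁
    rw [hx₁]
    exact hopen

end Groth.Agent.H72.OpenUO
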