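import Groth.Agent.H72.Perfection

/-!
# Sections of a perfection; a scheme whose perfection is affine is affine (helper72)
-/

set_option autoImplicit false
set_option linter.style.haveILetI false
set_option linter.unusedSectionVars false

universe u

open CategoryTheory CategoryTheory.Limits AlgebraicGeometry MorphismProperty Opposite

namespace Groth.Agent.H72.PerfAff

open FrobSch Groth.Agent.H72.Perf

variable (p : ℕ) [Fact p.Prime]

section Sections

variable {X XP : Scheme.{u}} [IsCharP X p] [IsCharP XP p] (π : XP ⟶ X) (hπ : IsPerfection π p)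

/-- Compatibility of `π.app` with restriction maps. -/
theorem app_res {S V : X.Opens} (i : V ≤ S) (x : Γ(X, S)) :
    π.app V (X.presheaf.map (homOfLE i).op x) =
      XP.presheaf.map (homOfLE (π.preimage_mono i)).op (π.app S x) := by
  have h := π.naturality (homOfLE i).op
  exact ConcreteCategory.congr_hom h x

include hπ in
/-- A section over a compact open which dies on the perfection is nilpotent. -/
theorem isNilpotent_of_app_eq_zero {S : X.Opens} (hS : IsCompact (S : Set X)) (d : Γ(X, S))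
    (hd : π.app S d = 0) : IsNilpotent d := by
  rw [Scheme.isNilpotent_iff_basicOpen_eq_bot_of_isCompact hS]
  have hsurj := surjective_of_isPerfection p π hπ
  rw [eq_bot_iff]
  intro x hx
  obtain ⟨x', rfl⟩ := hsurj.surj x
  have h1 : x' ∈ π ⁻¹ᵁ X.basicOpen d := hx
  rw [Scheme.preimage_basicOpen, hd, Scheme.basicOpen_zero] at h1
  exact h1

include hπ in
/-- For a perfection of an affine scheme, every global section of the perfection has a
`p`-power coming from the base. -/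
theorem exists_appTop_eq_pow_of_isAffine [IsAffine X] (g : Γ(XP, ⊤)) :
    ∃ (n : ℕ) (f : Γ(X, ⊤)), π.appTop f = g ^ p ^ n := by
  rcases isEmpty_or_nonempty X with hE | hN
  · haveI : IsEmpty XP := ⟨fun x => hE.false (π x)⟩
    refine ⟨0, 0, ?_⟩
    haveI : Subsingleton Γ(XP, ⊤) := by
      have : (⊤ : XP.Opens) = ⊥ := by
        rw [eq_bot_iff]; intro x _; exact (IsEmpty.false x).elim
      rw [this]
      exact CommRingCat.subsingleton_of_isTerminal (XP.sheaf.isTerminalOfEqEmpty rfl)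
    exact Subsingleton.elim _ _
  · haveI := charP_Γ p X
    obtain ⟨e, he⟩ := exists_iso_Spec_perfectClosure p π hπ
    haveI : IsPRadical (PerfectClosure.of Γ(X, ⊤) p) p := PerfectClosure.isPRadical Γ(X, ⊤) p
    obtain ⟨n, r, hr⟩ := IsPRadical.pow_mem (PerfectClosure.of Γ(X, ⊤) p) p
      ((Scheme.ΓSpecIso _).hom (e.inv.appTop g))
    refine ⟨n, r, ?_⟩
    have h1 : π.appTop = (Scheme.ΓSpecIso Γ(X, ⊤)).inv ≫
        (Spec.map (CommRingCat.ofHom (PerfectClosure.of Γ(X, ⊤) p))).appTop ≫ e.hom.appTop := by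
      have h0 : π ≫ X.toSpecΓ =
          e.hom ≫ Spec.map (CommRingCat.ofHom (PerfectClosure.of Γ(X, ⊤) p)) := by
        rw [he, Category.assoc, Category.assoc, Scheme.isoSpec_inv_toSpecΓ]
        exact congrArg (e.hom ≫ ·) (Category.comp_id _)
      have h0' := congrArg Scheme.Hom.appTop h0
      rw [Scheme.Hom.comp_appTop, Scheme.Hom.comp_appTop, Scheme.toSpecΓ_appTop] at h0'
      rw [← h0', Iso.inv_hom_id_assoc]
    have h2 : (Scheme.ΓSpecIso Γ(X, ⊤)).inv ≫
        (Spec.map (CommRingCat.ofHom (PerfectClosure.of Γ(X, ⊤) p))).appTop =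
        CommRingCat.ofHom (PerfectClosure.of Γ(X, ⊤) p) ≫ (Scheme.ΓSpecIso _).inv :=
      (Scheme.ΓSpecIso_inv_naturality _).symm
    rw [h1, ← Category.assoc, h2]
    simp only [CommRingCat.comp_apply, CommRingCat.hom_ofHom]
    rw [hr, map_pow, map_pow]
    congr 1
    have h3 : ∀ y, (Scheme.ΓSpecIso (CommRingCat.of (PerfectClosure Γ(X, ⊤) p))).inv
        ((Scheme.ΓSpecIso _).hom y) = y := fun y => by
      rw [← CommRingCat.comp_apply, Iso.hom_inv_id]; rfl
    have h4 : e.hom.appTop (e.inv.appTop g) = g := by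
      rw [← CommRingCat.comp_apply, ← Scheme.Hom.comp_appTop, Iso.hom_inv_id]; rfl
    rw [h3, h4]

/-- Global sections of the restriction `π ∣_ U` in terms of `π.app U`. -/
theorem topIso_app_topIso (U : X.Opens) :
    U.topIso.hom ≫ π.app U ≫ (π ⁻¹ᵁ U).topIso.inv = (π ∣_ U).appTop := by
  rw [← Scheme.Hom.resLE_eq_morphismRestrict, Scheme.Hom.appTop, Scheme.Hom.resLE_app_top,
    Scheme.Hom.appLE_eq_app]

include hπ in
/-- Affine base case: over an affine open, every section of the perfection has a `p`-power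
coming from the base. -/
theorem exists_app_eq_pow_of_isAffineOpen {U : X.Opens} (hU : IsAffineOpen U)
    (g : Γ(XP, π ⁻¹ᵁ U)) : ∃ (n : ℕ) (f : Γ(X, U)), π.app U f = g ^ p ^ n := by
  haveI : IsAffine (U : Scheme) := hU
  haveI : IsCharP (U : Scheme) p := IsCharP.of_hom U.ι p
  haveI : IsCharP ((π ⁻¹ᵁ U : XP.Opens) : Scheme) p := IsCharP.of_hom (π ⁻¹ᵁ U).ι p
  haveI : IsCharP (pullback π U.ι) p := IsCharP.of_hom (pullback.fst _ _) p
  have hq : IsPerfection (pullback.snd π U.ι) p := isPerfection_pullback_snd p hπ U.ι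
  have hq' : IsPerfection (π ∣_ U) p :=
    isPerfection_of_iso p hq (pullbackRestrictIsoRestrict π U).symm (Iso.refl _) _
      (by simp [morphismRestrict])
  obtain ⟨n, f', hf'⟩ := exists_appTop_eq_pow_of_isAffine p (π ∣_ U) hq'
    ((π ⁻¹ᵁ U).topIso.inv g)
  refine ⟨n, U.topIso.hom f', ?_⟩
  have key := ConcreteCategory.congr_hom (topIso_app_topIso π U) f'
  simp only [CommRingCat.comp_apply] at key
  rw [hf', ← map_pow] at key
  have h2 := congrArg (π ⁻¹ᵁ U).topIso.hom key
  have h3 : ∀ y, (π ⁻¹ᵁ U).topIso.hom ((π ⁻¹ᵁ U).topIso.inv y) = y := fun y => by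
    rw [← CommRingCat.comp_apply, Iso.inv_hom_id]; rfl
  rwa [h3, h3] at h2

/-- In a ring where `p = 0`, the `p ^ k`-th power map is additive. -/
theorem sub_pow_p_pow {R : Type*} [CommRing R] (h : (p : R) = 0) (a b : R) (k : ℕ) :
    (a - b) ^ p ^ k = a ^ p ^ k - b ^ p ^ k := by
  rcases subsingleton_or_nontrivial R with hR | hR
  · exact Subsingleton.elim _ _
  · haveI : CharP R p := (CharP.charP_iff_prime_eq_zero Fact.out).2 h
    exact sub_pow_char_pow a b k

/-- Restricting twice is restricting once. -/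
theorem res_res (Z : Scheme.{u}) {A B C : Z.Opens} (i : B ≤ A) (j : C ≤ B) (k : C ≤ A)
    (x : Γ(Z, A)) :
    Z.presheaf.map (homOfLE j).op (Z.presheaf.map (homOfLE i).op x) =
      Z.presheaf.map (homOfLE k).op x := by
  rw [← CommRingCat.comp_apply, ← Functor.map_comp]
  rfl

include hπ in
/-- Over a compact open of a quasi-separated scheme, every section of the perfection has a
`p`-power coming from the base. -/
theorem exists_app_eq_pow [QuasiSeparatedSpace X] (S : X.Opens) (hS : IsCompact (S : Set X))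
    (g : Γ(XP, π ⁻¹ᵁ S)) : ∃ (n : ℕ) (f : Γ(X, S)), π.app S f = g ^ p ^ n := by
  revert g
  refine compact_open_induction_on (P := fun S : X.Opens => ∀ g : Γ(XP, π ⁻¹ᵁ S),
    ∃ (n : ℕ) (f : Γ(X, S)), π.app S f = g ^ p ^ n) S hS ?_ ?_
  · intro g
    refine ⟨0, 0, ?_⟩
    haveI : Subsingleton Γ(XP, π ⁻¹ᵁ (⊥ : X.Opens)) :=
      CommRingCat.subsingleton_of_isTerminal (XP.sheaf.isTerminalOfEqEmpty rfl)
    exact Subsingleton.elim _ _
  · intro S hS U ih g
    obtain ⟨n₁, f₁, h₁⟩ := ih (XP.presheaf.map (homOfLE (π.preimage_mono le_sup_left)).op g)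
    obtain ⟨n₂, f₂, h₂⟩ := exists_app_eq_pow_of_isAffineOpen p π hπ U.2
      (XP.presheaf.map (homOfLE (π.preimage_mono le_sup_right)).op g)
    have hW : IsCompact ((S ⊓ U.1 : X.Opens) : Set X) :=
      QuasiSeparatedSpace.inter_isCompact S.1 U.1.1 S.2 hS U.1.2 U.2.isCompact
    -- the two candidate sections agree on the perfection over `S ⊓ U`
    have hd : π.app (S ⊓ U.1) (X.presheaf.map (homOfLE inf_le_left).op (f₁ ^ p ^ n₂) -
        X.presheaf.map (homOfLE inf_le_right).op (f₂ ^ p ^ n₁)) = 0 := by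
      rw [map_sub, app_res, app_res, sub_eq_zero]
      simp only [map_pow, h₁, h₂]
      rw [← pow_mul, ← pow_mul,
        res_res XP _ _ (π.preimage_mono (inf_le_left.trans le_sup_left)),
        res_res XP _ _ (π.preimage_mono (inf_le_left.trans le_sup_left)), mul_comm]
    obtain ⟨k, hk⟩ := isNilpotent_of_app_eq_zero p π hπ hW _ hd
    have hk' := pow_eq_zero_of_le (Nat.lt_pow_self (Fact.out : p.Prime).one_lt).le hk
    rw [sub_pow_p_pow p (natCast_eq_zero_app X p _), sub_eq_zero, ← map_pow, ← map_pow] at hk'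
    have e1 : X.presheaf.map (homOfLE le_sup_left).op ((X.sheaf.objSupIsoProdEqLocus S U.1).inv
        ⟨⟨(f₁ ^ p ^ n₂) ^ p ^ k, (f₂ ^ p ^ n₁) ^ p ^ k⟩, hk'⟩) = (f₁ ^ p ^ n₂) ^ p ^ k :=
      X.sheaf.objSupIsoProdEqLocus_inv_fst S U.1
        ⟨⟨(f₁ ^ p ^ n₂) ^ p ^ k, (f₂ ^ p ^ n₁) ^ p ^ k⟩, hk'⟩
    have e2 : X.presheaf.map (homOfLE le_sup_right).op ((X.sheaf.objSupIsoProdEqLocus S U.1).inv
        ⟨⟨(f₁ ^ p ^ n₂) ^ p ^ k, (f₂ ^ p ^ n₁) ^ p ^ k⟩, hk'⟩) = (f₂ ^ p ^ n₁) ^ p ^ k :=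
      X.sheaf.objSupIsoProdEqLocus_inv_snd S U.1
        ⟨⟨(f₁ ^ p ^ n₂) ^ p ^ k, (f₂ ^ p ^ n₁) ^ p ^ k⟩, hk'⟩
    refine ⟨n₁ + n₂ + k, (X.sheaf.objSupIsoProdEqLocus S U.1).inv
      ⟨⟨(f₁ ^ p ^ n₂) ^ p ^ k, (f₂ ^ p ^ n₁) ^ p ^ k⟩, hk'⟩, ?_⟩
    have g1 : XP.presheaf.map (homOfLE (π.preimage_mono (le_sup_left : S ≤ S ⊔ U.1))).op
        (π.app (S ⊔ U.1) ((X.sheaf.objSupIsoProdEqLocus S U.1).inv
          ⟨⟨(f₁ ^ p ^ n₂) ^ p ^ k, (f₂ ^ p ^ n₁) ^ p ^ k⟩, hk'⟩)) =
        XP.presheaf.map (homOfLE (π.preimage_mono (le_sup_left : S ≤ S ⊔ U.1))).op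
          (g ^ p ^ (n₁ + n₂ + k)) := by
      rw [← app_res π (le_sup_left : S ≤ S ⊔ U.1), e1]
      simp only [map_pow, h₁]
      rw [← pow_mul, ← pow_mul, ← pow_add, ← pow_add, add_assoc]
    have g2 : XP.presheaf.map (homOfLE (π.preimage_mono (le_sup_right : U.1 ≤ S ⊔ U.1))).op
        (π.app (S ⊔ U.1) ((X.sheaf.objSupIsoProdEqLocus S U.1).inv
          ⟨⟨(f₁ ^ p ^ n₂) ^ p ^ k, (f₂ ^ p ^ n₁) ^ p ^ k⟩, hk'⟩)) =
        XP.presheaf.map (homOfLE (π.preimage_mono (le_sup_right : U.1 ≤ S ⊔ U.1))).op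
          (g ^ p ^ (n₁ + n₂ + k)) := by
      rw [← app_res π (le_sup_right : U.1 ≤ S ⊔ U.1), e2]
      simp only [map_pow, h₂]
      rw [← pow_mul, ← pow_mul, ← pow_add, ← pow_add]
      congr 2
      omega
    exact XP.sheaf.eq_of_locally_eq₂ (homOfLE (π.preimage_mono le_sup_left))
      (homOfLE (π.preimage_mono le_sup_right)) (fun x hx => hx) _ _ g1 g2

end Sections

section Affine

variable {X XP : Scheme.{u}} [IsCharP X p] [IsCharP XP p] (π : XP ⟶ X) (hπ : IsPerfection π p)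

include hπ in
/-- The map on global sections of a perfection of a quasi-compact quasi-separated scheme is
`p`-radical. -/
theorem isPRadical_appTop [CompactSpace X] [QuasiSeparatedSpace X] :
    IsPRadical π.appTop.hom p where
  pow_mem' g := by
    obtain ⟨n, f, hf⟩ := exists_app_eq_pow p π hπ ⊤ isCompact_univ g
    exact ⟨n, f, hf⟩
  ker_le' := by
    intro d hd
    rw [pNilradical, if_pos (Fact.out : p.Prime).one_lt]
    exact isNilpotent_of_app_eq_zero p π hπ (S := ⊤) isCompact_univ d hd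

include hπ in
/-- If the perfection of a scheme of characteristic `p` is affine, then so is the scheme. -/
theorem isAffine_of_isAffine_perfection [IsAffine XP] : IsAffine X := by
  have hsurj := surjective_of_isPerfection p π hπ
  have hhomeo := isHomeomorph_of_isPerfection p π hπ
  haveI : CompactSpace X := hhomeo.homeomorph.compactSpace
  haveI : QuasiSeparatedSpace X :=
    QuasiSeparatedSpace.of_isOpenEmbedding hhomeo.homeomorph.symm.isOpenEmbedding
  have H : ∀ x : X, ∃ r : Γ(X, ⊤), IsAffineOpen (X.basicOpen r) ∧ x ∈ X.basicOpen r := by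
    intro x
    obtain ⟨x', rfl⟩ := hsurj.surj x
    obtain ⟨_, ⟨U, hU : IsAffineOpen U, rfl⟩, hxU, -⟩ :=
      X.isBasis_affineOpens.exists_subset_of_mem_open (Set.mem_univ (π x')) isOpen_univ
    obtain ⟨g, hgU, hxg⟩ := (isAffineOpen_top XP).exists_basicOpen_le (V := π ⁻¹ᵁ U)
      ⟨x', hxU⟩ trivial
    obtain ⟨n, f, hf⟩ := exists_app_eq_pow p π hπ ⊤ isCompact_univ g
    have hpre : π ⁻¹ᵁ X.basicOpen f = XP.basicOpen g := by
      rw [Scheme.preimage_basicOpen, hf]
      exact Scheme.basicOpen_pow _ _ (pow_pos (Fact.out : p.Prime).pos n)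
    have hle : X.basicOpen f ≤ U := by
      intro y hy
      obtain ⟨y', rfl⟩ := hsurj.surj y
      have : y' ∈ π ⁻¹ᵁ X.basicOpen f := hy
      rw [hpre] at this
      exact hgU this
    refine ⟨f, ?_, ?_⟩
    · have h1 := hU.basicOpen (X.presheaf.map (homOfLE le_top).op f)
      rwa [Scheme.basicOpen_res, inf_eq_right.mpr hle] at h1
    · have : x' ∈ π ⁻¹ᵁ X.basicOpen f := by rw [hpre]; exact hxg
      exact this
  haveI : X.IsQuasiAffine := Scheme.IsQuasiAffine.of_forall_exists_mem_basicOpen X H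
  haveI : IsPRadical π.appTop.hom p := isPRadical_appTop p π hπ
  have hs : Function.Surjective (Spec.map π.appTop) :=
    comap_surjective_of_isPRadical p π.appTop.hom
  have hs' : Function.Surjective X.toSpecΓ := by
    intro z
    obtain ⟨w, hw⟩ := hs z
    obtain ⟨w', rfl⟩ := (ConcreteCategory.bijective_of_isIso XP.toSpecΓ.base).2 w
    refine ⟨π w', ?_⟩
    rw [← hw, ← Scheme.Hom.comp_apply, ← Scheme.Hom.comp_apply, Scheme.toSpecΓ_naturality]
  have : IsIso X.toSpecΓ := by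
    apply isIso_of_isOpenImmersion_of_opensRange_eq_top
    rw [eq_top_iff]
    intro z _
    exact hs' z
  exact ⟨this⟩

end Affine

end Groth.Agent.H72.PerfAff
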