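import Groth.Agent.H72.Perfection
import Groth.Agent.S14255

set_option autoImplicit false
set_option linter.style.haveILetI false
set_option linter.unusedSectionVars false

universe u

open CategoryTheory CategoryTheory.Limits AlgebraicGeometry MorphismProperty

namespace Groth.Agent.H72.PerfFlat

open FrobSch Groth.Agent.H72.Perf

variable (p : ℕ) [Fact p.Prime]

/-- A property local at the source holds for every morphism with empty source. -/
theorem of_isEmpty_source (P : MorphismProperty Scheme.{u}) [IsZariskiLocalAtSource P]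
    {X Y : Scheme.{u}} [IsEmpty X] (f : X ⟶ Y) : P f := by
  refine IsZariskiLocalAtSource.of_iSup_eq_top (P := P) (fun i : PEmpty.{1} => i.elim) ?_
    (fun i : PEmpty.{1} => i.elim)
  rw [eq_top_iff]
  intro y
  exact (IsEmpty.false y).elim

set_option backward.isDefEq.respectTransparency.types false in
/-- affine–affine case -/
theorem flat_perfection_affine {X Y XP YP : Scheme.{u}}
    [IsCharP X p] [IsCharP Y p] [IsCharP XP p] [IsCharP YP p] [IsAffine X] [IsAffine Y]
    (πX : XP ⟶ X) (πY : YP ⟶ Y) (hX : IsPerfection πX p) (hY : IsPerfection πY p)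
    (f : X ⟶ Y) (fP : XP ⟶ YP) (w : fP ≫ πY = πX ≫ f) [Flat f] : Flat fP := by
  rcases isEmpty_or_nonempty X with hE | hN
  · haveI : IsEmpty XP := Function.isEmpty πX
    exact of_isEmpty_source @Flat fP
  · haveI : Nonempty Y := hN.map f
    haveI := charP_Γ p X
    haveI := charP_Γ p Y
    obtain ⟨eX, eY, h⟩ := exists_model p πX πY hX hY f fP w
    rw [h]
    have hφ : f.appTop.hom.Flat := (HasRingHomProperty.iff_of_isAffine (P := @Flat)).mp ‹_›
    haveI : IsPRadical (PerfectClosure.of Γ(X, ⊤) p) p := PerfectClosure.isPRadical _ p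
    haveI : IsPRadical (PerfectClosure.of Γ(Y, ⊤) p) p := PerfectClosure.isPRadical _ p
    have hφ' : (perfMap p f.appTop.hom).Flat :=
      Groth.Agent.S14255.result p f.appTop.hom hφ (PerfectClosure.of Γ(Y, ⊤) p)
        (PerfectClosure.of Γ(X, ⊤) p) (perfMap p f.appTop.hom) (perfMap_comp_of p _)
    haveI : Flat (Spec.map (CommRingCat.ofHom (perfMap p f.appTop.hom))) :=
      Flat.SpecMap_iff.mpr hφ'
    infer_instance

set_option backward.isDefEq.respectTransparency.types false in
/-- The perfection of a flat morphism is flat. -/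
theorem flat_perfection {X Y XP YP : Scheme.{u}}
    [IsCharP X p] [IsCharP Y p] [IsCharP XP p] [IsCharP YP p]
    (πX : XP ⟶ X) (πY : YP ⟶ Y) (hX : IsPerfection πX p) (hY : IsPerfection πY p)
    (f : X ⟶ Y) (fP : XP ⟶ YP) (w : fP ≫ πY = πX ≫ f) [Flat f] : Flat fP := by
  refine perfection_hom_induction p @Flat @Flat ?_ πX πY hX hY f fP w ‹_›
  intro X Y XP YP _ _ _ _ _ πX πY hX hY f fP w hf
  haveI : Flat f := hf
  rw [IsZariskiLocalAtSource.iff_of_openCover (P := @Flat) (X.affineCover.pullback₁ πX)]
  intro (i : X.affineCover.I₀)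
  show Flat (pullback.fst πX (X.affineCover.f i) ≫ fP)
  haveI : IsCharP (pullback πX (X.affineCover.f i)) p :=
    IsCharP.of_hom (pullback.fst πX (X.affineCover.f i)) p
  haveI : IsCharP (X.affineCover.X i) p := IsCharP.of_hom (X.affineCover.f i) p
  have hP := isPerfection_pullback_snd p hX (X.affineCover.f i)
  refine flat_perfection_affine p (pullback.snd πX (X.affineCover.f i)) πY hP hY
    (X.affineCover.f i ≫ f) _ ?_
  rw [Category.assoc, w, ← Category.assoc, pullback.condition, Category.assoc]

end Groth.Agent.H72.PerfFlat
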