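import Groth.Agent.H72.Perfection

/-!
# Universal homeomorphisms between perfect rings / schemes are isomorphisms (helper72)

Core algebra: an integral ring map `φ : A → B` of characteristic `p` rings with `A` perfect and
`B` reduced, which is injective on spectra and induces surjections on residue fields, is
surjective.
-/

set_option autoImplicit false
set_option linter.style.haveILetI false
set_option linter.unusedSectionVars false

universe u

open CategoryTheory CategoryTheory.Limits AlgebraicGeometry MorphismProperty Opposite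

namespace Groth.Agent.H72.PerfUH

open FrobSch Groth.Agent.H72.Perf

section Algebra

variable {A B : Type u} [CommRing A] [CommRing B] (p : ℕ) [Fact p.Prime] [CharP A p] [CharP B p]
  [PerfectRing A p] [IsReduced B] (φ : A →+* B)

/-- Every element of a perfect ring has a `p ^ k`-th root. -/
theorem exists_root (a : A) (k : ℕ) : ∃ a₁ : A, a₁ ^ p ^ k = a := by
  refine ⟨(iterateFrobeniusEquiv A p k).symm a, ?_⟩
  have := (iterateFrobeniusEquiv A p k).apply_symm_apply a
  rwa [iterateFrobeniusEquiv_apply, iterateFrobenius_def] at this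

/-- If a `p ^ k`-th power of `z` comes from the perfect ring `A`, so does `z`. -/
theorem mem_range_of_pow_mem (z : B) (k : ℕ) (hz : z ^ p ^ k ∈ φ.range) : z ∈ φ.range := by
  obtain ⟨a, ha⟩ := hz
  obtain ⟨a₁, rfl⟩ := exists_root p a k
  refine ⟨a₁, ?_⟩
  have h : (φ a₁ - z) ^ p ^ k = 0 := by
    rw [sub_pow_char_pow, ← map_pow, ha, sub_self]
  have := IsReduced.eq_zero _ ⟨_, h⟩
  exact sub_eq_zero.mp this

/-- The conductor-like ideal of `A`: elements multiplying all of `B` into the image of `A`. -/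
def cond : Ideal A where
  carrier := {a | ∀ y : B, φ a * y ∈ φ.range}
  add_mem' := by
    intro a b ha hb y
    rw [map_add, add_mul]
    exact φ.range.add_mem (ha y) (hb y)
  zero_mem' := by
    intro y
    rw [map_zero, zero_mul]
    exact φ.range.zero_mem
  smul_mem' := by
    intro c a ha y
    rw [smul_eq_mul, map_mul, mul_assoc]
    exact φ.range.mul_mem ⟨c, rfl⟩ (ha y)

theorem mem_cond {a : A} : a ∈ cond φ ↔ ∀ y : B, φ a * y ∈ φ.range := Iff.rfl

/-- The image of the conductor is an ideal of `B`. -/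
theorem cond_mul {a : A} (ha : a ∈ cond φ) (y : B) : ∃ c ∈ cond φ, φ c = φ a * y := by
  obtain ⟨c, hc⟩ := ha y
  refine ⟨c, ?_, hc⟩
  intro y'
  rw [hc, mul_assoc]
  exact ha _

/-- The image of the conductor, as an ideal of `B`. -/
def condB : Ideal B where
  carrier := {z | ∃ c ∈ cond φ, φ c = z}
  add_mem' := by
    rintro _ _ ⟨c, hc, rfl⟩ ⟨d, hd, rfl⟩
    exact ⟨c + d, (cond φ).add_mem hc hd, map_add _ _ _⟩
  zero_mem' := ⟨0, (cond φ).zero_mem, map_zero _⟩
  smul_mem' := by
    rintro y _ ⟨c, hc, rfl⟩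
    obtain ⟨d, hd, hd'⟩ := cond_mul φ hc y
    exact ⟨d, hd, by rw [hd', smul_eq_mul, mul_comm]⟩

theorem mem_condB {z : B} : z ∈ condB φ ↔ ∃ c ∈ cond φ, φ c = z := Iff.rfl

include p in
/-- The image of the conductor is a radical ideal of `B` (this uses that `A` is perfect and `B`
reduced). -/
theorem condB_radical (y : B) (m : ℕ) (hy : y ^ (m + 1) ∈ condB φ) : y ∈ condB φ := by
  -- pass to a `p`-power exponent
  have hm : m + 1 ≤ p ^ (m + 1) := (Nat.lt_pow_self (Fact.out : p.Prime).one_lt).le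
  have hy' : y ^ p ^ (m + 1) ∈ condB φ := by
    rw [← Nat.sub_add_cancel hm, pow_add]
    exact (condB φ).mul_mem_left _ hy
  obtain ⟨c', hc', hc'y⟩ := hy'
  obtain ⟨c₁, hc₁⟩ := mem_range_of_pow_mem p φ y (m + 1) ⟨c', hc'y⟩
  refine ⟨c₁, ?_, hc₁⟩
  intro y'
  apply mem_range_of_pow_mem p φ _ (m + 1)
  rw [mul_pow, hc₁, ← hc'y]
  exact hc' _

include p in
/-- Core statement, finite case. -/
theorem surjective_of_finite (hfin : φ.Finite)
    (hinj : ∀ (P P' : Ideal B) [P.IsPrime] [P'.IsPrime], P.comap φ = P'.comap φ → P = P')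
    (H : ∀ (P : Ideal B) [P.IsPrime] (b : B), ∃ a s : A, s ∉ P.comap φ ∧ φ s * b - φ a ∈ P) :
    Function.Surjective φ := by
  classical
  suffices h : cond φ = ⊤ by
    intro b
    have h1 : (1 : A) ∈ cond φ := h ▸ Submodule.mem_top
    simpa using h1 b
  by_contra hne
  obtain ⟨⟨q, hq⟩⟩ := Ideal.nonempty_minimalPrimes hne
  haveI hqp : q.IsPrime := hq.1.1
  have hcq : cond φ ≤ q := hq.1.2
  have hmin : ∀ q' : Ideal A, q'.IsPrime → cond φ ≤ q' → q' ≤ q → q ≤ q' :=
    fun q' h1 h2 h3 => hq.2 ⟨h1, h2⟩ h3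
  have hone : (1 : A) ∉ q := (Ideal.ne_top_iff_one q).mp hqp.ne_top
  letI := φ.toAlgebra
  haveI : Module.Finite A B := hfin
  haveI : Algebra.IsIntegral A B := inferInstance
  have hker : (⊥ : Ideal B).comap (algebraMap A B) ≤ q := by
    intro a ha
    apply hcq
    intro y
    have h0 : φ a = 0 := ha
    rw [h0, zero_mul]
    exact φ.range.zero_mem
  obtain ⟨P, -, hPp, hPq⟩ := Ideal.exists_ideal_over_prime_of_isIntegral q (⊥ : Ideal B) hker
  haveI := hPp
  have hPq' : P.comap φ = q := hPq
  -- key claim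
  have key : ∀ b : B, ∃ t : A, t ∉ q ∧ φ t * b ∈ φ.range := by
    intro b
    obtain ⟨a, s, hs, hx⟩ := H P b
    rw [hPq'] at hs
    set x := φ s * b - φ a with hxdef
    let T : Submonoid B :=
      { carrier := {z | ∃ s' : A, s' ∉ q ∧ ∃ m : ℕ, z = φ s' * x ^ m}
        one_mem' := ⟨1, hone, 0, by simp⟩
        mul_mem' := by
          rintro _ _ ⟨s₁, h₁, m₁, rfl⟩ ⟨s₂, h₂, m₂, rfl⟩
          refine ⟨s₁ * s₂, fun h => (hqp.mem_or_mem h).elim h₁ h₂, m₁ + m₂, ?_⟩
          rw [map_mul, pow_add]; ring }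
    have hnd : ¬ Disjoint ((condB φ : Ideal B) : Set B) (T : Set B) := by
      intro hd
      obtain ⟨P', hP'p, hP'le, hP'd⟩ := Ideal.exists_le_prime_disjoint (condB φ) T hd
      haveI := hP'p
      have h1 : cond φ ≤ P'.comap φ := fun c hc => hP'le ⟨c, hc, rfl⟩
      have h2 : P'.comap φ ≤ q := by
        intro s' hs'
        by_contra hs'q
        exact Set.disjoint_left.mp hP'd hs' ⟨s', hs'q, 0, by simp⟩
      have h3 : P'.comap φ = q := le_antisymm h2 (hmin _ inferInstance h1 h2)
      have h4 : P' = P := hinj P' P (h3.trans hPq'.symm)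
      exact Set.disjoint_left.mp hP'd (h4 ▸ hx) ⟨1, hone, 1, by simp⟩
    obtain ⟨z, hzJ, s', hs', m, rfl⟩ := Set.not_disjoint_iff.mp hnd
    have h5 : (φ s' * x) ^ (m + 1) ∈ condB φ := by
      have h6 : (φ s' * x) ^ (m + 1) = (φ s' ^ m * x) * (φ s' * x ^ m) := by ring
      rw [h6]
      exact (condB φ).mul_mem_left _ hzJ
    obtain ⟨c₁, hc₁, hc₁'⟩ := condB_radical p φ _ m h5
    refine ⟨s' * s, fun h => (hqp.mem_or_mem h).elim hs' hs, c₁ + s' * a, ?_⟩
    rw [map_add, hc₁', hxdef, map_mul, map_mul]; ring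
  choose t ht ht' using key
  -- finite generation
  obtain ⟨S, hS⟩ := (Module.Finite.fg_top : (⊤ : Submodule A B).FG)
  have htt : (∏ b ∈ S, t b) ∉ q := by
    intro h
    obtain ⟨b, -, hb⟩ := (hqp.prod_mem_iff).mp h
    exact ht b hb
  have hall : ∀ y : B, φ (∏ b ∈ S, t b) * y ∈ φ.range := by
    intro y
    have hy : y ∈ Submodule.span A (S : Set B) := hS ▸ Submodule.mem_top
    induction hy using Submodule.span_induction with
    | mem b hb =>
      have h7 : (∏ b' ∈ S, t b') = (∏ b' ∈ S.erase b, t b') * t b :=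
        (Finset.prod_erase_mul S t hb).symm
      rw [h7, map_mul, mul_assoc]
      exact φ.range.mul_mem ⟨_, rfl⟩ (ht' b)
    | zero => rw [mul_zero]; exact φ.range.zero_mem
    | add y₁ y₂ _ _ h₁ h₂ => rw [mul_add]; exact φ.range.add_mem h₁ h₂
    | smul a y _ h =>
      have h8 : a • y = φ a * y := Algebra.smul_def a y
      rw [h8, ← mul_assoc, mul_comm (φ _) (φ a), mul_assoc]
      exact φ.range.mul_mem ⟨a, rfl⟩ h
  exact htt (hcq hall)

include p in
/-- Core statement: an integral ring map from a perfect ring to a reduced ring of characteristic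
`p` which is injective on spectra and surjective on residue fields is surjective. -/
theorem surjective_of_isIntegral (hint : φ.IsIntegral)
    (hinj : ∀ (P P' : Ideal B) [P.IsPrime] [P'.IsPrime], P.comap φ = P'.comap φ → P = P')
    (H : ∀ (P : Ideal B) [P.IsPrime] (b : B), ∃ a s : A, s ∉ P.comap φ ∧ φ s * b - φ a ∈ P) :
    Function.Surjective φ := by
  intro b
  letI := φ.toAlgebra
  haveI : Algebra.IsIntegral A B := ⟨hint⟩
  let B₁ : Subalgebra A B := Algebra.adjoin A {b}
  have hb : b ∈ B₁ := Algebra.subset_adjoin (Set.mem_singleton b)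
  haveI : Module.Finite A B₁ := Algebra.finite_adjoin_simple_of_isIntegral (hint b)
  haveI : IsReduced B₁ := isReduced_of_injective B₁.val Subtype.val_injective
  haveI : CharP B₁ p := (B₁.val.toRingHom.charP_iff Subtype.val_injective p).2 inferInstance
  haveI : Algebra.IsIntegral B₁ B := Algebra.IsIntegral.tower_top (R := A)
  have hcomp : ∀ Q : Ideal B, (Q.comap (algebraMap B₁ B)).comap (algebraMap A B₁) = Q.comap φ :=
    fun Q => rfl
  have lift : ∀ (P₁ : Ideal B₁) [P₁.IsPrime], ∃ Q : Ideal B, Q.IsPrime ∧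
      Q.comap (algebraMap B₁ B) = P₁ := by
    intro P₁ _
    have hker : (⊥ : Ideal B).comap (algebraMap B₁ B) ≤ P₁ := by
      intro y hy
      have h0 : (y : B) = 0 := hy
      have h1 : y = 0 := Subtype.ext h0
      rw [h1]
      exact P₁.zero_mem
    obtain ⟨Q, -, hQp, hQ⟩ := Ideal.exists_ideal_over_prime_of_isIntegral P₁ (⊥ : Ideal B) hker
    exact ⟨Q, hQp, hQ⟩
  have h₁ := surjective_of_finite p (algebraMap A B₁) (inferInstanceAs (Module.Finite A B₁))
    (by
      intro P₁ P₁' _ _ h
      obtain ⟨Q, hQp, hQ⟩ := lift P₁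
      obtain ⟨Q', hQ'p, hQ'⟩ := lift P₁'
      have h2 : Q.comap φ = Q'.comap φ := by
        rw [← hcomp Q, ← hcomp Q', hQ, hQ', h]
      have h3 : Q = Q' := hinj Q Q' h2
      rw [← hQ, ← hQ', h3])
    (by
      intro P₁ _ b'
      obtain ⟨Q, hQp, hQ⟩ := lift P₁
      obtain ⟨a, s, hs, hx⟩ := H Q (b' : B)
      refine ⟨a, s, ?_, ?_⟩
      · rw [← hQ, hcomp Q]
        exact hs
      · rw [← hQ]
        exact hx)
  obtain ⟨a, ha⟩ := h₁ ⟨b, hb⟩
  exact ⟨a, congrArg Subtype.val ha⟩

end Algebra

section Bridge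

variable {A B : Type u} [CommRing A] [CommRing B] (p : ℕ) [Fact p.Prime] [CharP A p] [CharP B p]
  [PerfectRing A p] (φ : A →+* B)

/-- A universally injective `Spec.map φ` is injective on primes. -/
theorem comap_injective_of_ui [UniversallyInjective (Spec.map (CommRingCat.ofHom φ))]
    (P P' : Ideal B) [hP : P.IsPrime] [hP' : P'.IsPrime] (h : P.comap φ = P'.comap φ) :
    P = P' := by
  have hi := (Spec.map (CommRingCat.ofHom φ)).injective
  have h1 : (⟨P, hP⟩ : PrimeSpectrum B) = ⟨P', hP'⟩ :=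
    hi (PrimeSpectrum.ext (by exact h))
  exact congrArg PrimeSpectrum.asIdeal h1

include p in
/-- Residue fields: if `Spec.map φ` is universally injective and `A` is perfect, every element
of `B` is, modulo a prime `P`, a fraction of elements of `A`. -/
theorem exists_fraction_of_ui [UniversallyInjective (Spec.map (CommRingCat.ofHom φ))]
    (P : Ideal B) [hP : P.IsPrime] (b : B) :
    ∃ a s : A, s ∉ P.comap φ ∧ φ s * b - φ a ∈ P := by
  let R : CommRingCat.{u} := CommRingCat.of A
  let S : CommRingCat.{u} := CommRingCat.of B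
  let f : Spec S ⟶ Spec R := Spec.map (CommRingCat.ofHom φ)
  let x : Spec S := (⟨P, hP⟩ : PrimeSpectrum B)
  have hpi := residueFieldMap_isPurelyInseparable_of_universallyInjective f x
  -- characteristic `p` in the residue field
  have hp0 : (p : (Spec R).residueField (f x)) = 0 := by
    have h1 : (p : R) = 0 := CharP.cast_eq_zero A p
    rw [← map_natCast ((Scheme.ΓSpecIso R).inv ≫ (Spec R).Γevaluation (f x)).hom p, h1, map_zero]
  haveI : CharP ((Spec R).residueField (f x)) p :=
    (CharP.charP_iff_prime_eq_zero Fact.out).2 hp0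
  letI := (f.residueFieldMap x).hom.toAlgebra
  haveI : IsPurelyInseparable ((Spec R).residueField (f x)) ((Spec S).residueField x) := hpi
  obtain ⟨n, w, hw⟩ := (isPurelyInseparable_iff_pow_mem ((Spec R).residueField (f x)) p).mp
    inferInstance ((Spec S).Γevaluation x ((Scheme.ΓSpecIso S).inv b))
  obtain ⟨t, rfl⟩ := (Spec R).residue_surjective (f x) w
  obtain ⟨⟨a, s⟩, has⟩ := IsLocalization.surj (f x).asIdeal.primeCompl
    ((Spec.stalkIso R (f x)).hom t)
  -- evaluation maps as ring homs
  let ER : A →+* (Spec R).residueField (f x) :=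
    ((Scheme.ΓSpecIso R).inv ≫ (Spec R).Γevaluation (f x)).hom
  let ES : B →+* (Spec S).residueField x :=
    ((Scheme.ΓSpecIso S).inv ≫ (Spec S).Γevaluation x).hom
  have F1 : ∀ r : A, algebraMap ((Spec R).residueField (f x)) ((Spec S).residueField x) (ER r) =
      ES (φ r) := by
    intro r
    have h1 := Scheme.Γevaluation_naturality_apply f x ((Scheme.ΓSpecIso R).inv r)
    have h2 := ConcreteCategory.congr_hom (Scheme.ΓSpecIso_inv_naturality (CommRingCat.ofHom φ)) r
    change f.residueFieldMap x _ = _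
    rw [show ER r = (Spec R).Γevaluation (f x) ((Scheme.ΓSpecIso R).inv r) from rfl, h1]
    change _ = (Spec S).Γevaluation x ((Scheme.ΓSpecIso S).inv (φ r))
    exact congrArg _ h2.symm
  have F2 : (Spec R).residue (f x) t * ER s = ER a := by
    have h2 := congrArg (Spec.stalkIso R (f x)).inv has
    rw [map_mul] at h2
    have h3 := fun r : R =>
      ConcreteCategory.congr_hom (Spec.algebraMap_stalkIso_inv (R := R) (f x)) r
    simp only [CommRingCat.comp_apply, CommRingCat.hom_ofHom] at h3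
    have h4 : (Spec.stalkIso R (f x)).inv ((Spec.stalkIso R (f x)).hom t) = t := by
      rw [← CommRingCat.comp_apply, Iso.hom_inv_id]; rfl
    rw [h3, h3, h4] at h2
    have h5 := congrArg ((Spec R).residue (f x)) h2
    rw [map_mul] at h5
    exact h5
  have F3 : ∀ c : B, ES c = 0 → c ∈ P := by
    intro c hc
    have h1 : (Spec S).evaluation ⊤ x trivial ((Scheme.ΓSpecIso S).inv c) = 0 := hc
    rw [Scheme.evaluation_eq_zero_iff_notMem_basicOpen, basicOpen_eq_of_affine] at h1
    by_contra hcP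
    exact h1 hcP
  -- combine
  have h6 : ES (b ^ p ^ n * φ s - φ a) = 0 := by
    rw [map_sub, map_mul, map_pow, ← F1, ← F1, ← F2, map_mul, sub_eq_zero]
    congr 1
    exact hw.symm
  have h7 := F3 _ h6
  obtain ⟨s₁, hs₁⟩ := exists_root p (s : A) n
  obtain ⟨a₁, ha₁⟩ := exists_root p a n
  refine ⟨a₁, s₁, ?_, ?_⟩
  · intro hs₁P
    have : (s : A) ∈ (f x).asIdeal := by
      rw [← hs₁]
      exact Ideal.pow_mem_of_mem _ hs₁P _ (pow_pos (Fact.out : p.Prime).pos n)
    exact s.2 this
  · have h8 : (φ s₁ * b - φ a₁) ^ p ^ n = b ^ p ^ n * φ s - φ a := by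
      rw [sub_pow_char_pow, mul_pow, ← map_pow, ← map_pow, hs₁, ha₁, mul_comm]
    rw [← h8] at h7
    exact hP.mem_of_pow_mem _ h7

end Bridge

section Affine

/-- A perfect ring of characteristic `p` is reduced. -/
theorem isReduced_of_perfectRing (R : Type*) [CommRing R] (p : ℕ) [Fact p.Prime] [CharP R p]
    [PerfectRing R p] : IsReduced R := by
  constructor
  rintro x ⟨k, hk⟩
  have hk' : x ^ p ^ k = 0 :=
    pow_eq_zero_of_le (Nat.lt_pow_self (Fact.out : p.Prime).one_lt).le hk
  apply (bijective_iterateFrobenius R p k).1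
  rw [iterateFrobenius_def, hk', map_zero]

variable {A B : Type u} [CommRing A] [CommRing B] (p : ℕ) [Fact p.Prime] [CharP A p] [CharP B p]
  [PerfectRing A p] [PerfectRing B p] (φ : A →+* B)

include p in
/-- A ring map between perfect rings of characteristic `p` whose `Spec` is a universal
homeomorphism is bijective. -/
theorem bijective_of_isUnivHomeo (h : FlatMor.IsUnivHomeo (Spec.map (CommRingCat.ofHom φ))) :
    Function.Bijective φ := by
  obtain ⟨h1, h2, h3⟩ := (isUnivHomeo_iff _).mp h
  haveI := h1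
  haveI := h2
  haveI := h3
  haveI : IsReduced A := isReduced_of_perfectRing A p
  haveI : IsReduced B := isReduced_of_perfectRing B p
  have hint : IsIntegralHom (Spec.map (CommRingCat.ofHom φ)) :=
    IsIntegralHom.iff_universallyClosed_and_isAffineHom.mpr ⟨h2, inferInstance⟩
  rw [IsIntegralHom.SpecMap_iff] at hint
  refine ⟨?_, surjective_of_isIntegral p φ hint
    (fun P P' _ _ => comap_injective_of_ui φ P P')
    (fun P _ b => exists_fraction_of_ui p φ P b)⟩
  rw [injective_iff_map_eq_zero]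
  intro a ha
  apply IsReduced.eq_zero
  rw [nilpotent_iff_mem_prime]
  intro q hq
  obtain ⟨P, hP⟩ := h3.surj (⟨q, hq⟩ : PrimeSpectrum A)
  have h4 : q = (P : PrimeSpectrum B).asIdeal.comap φ := congrArg PrimeSpectrum.asIdeal hP.symm
  rw [h4]
  show φ a ∈ (P : PrimeSpectrum B).asIdeal
  rw [ha]
  exact Ideal.zero_mem _

end Affine

end Groth.Agent.H72.PerfUH
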