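import Groth.Prelude.Def_Frob
import Groth.Prelude.Def_Flat
import Mathlib

/-!
# Toolkit for perfections of schemes (helper72)

Basic facts about `FrobSch.IsPerfection` used by the `PerfSch.*` rows.
-/

set_option autoImplicit false
set_option linter.style.haveILetI false
set_option linter.unusedSectionVars false

universe u

open CategoryTheory CategoryTheory.Limits AlgebraicGeometry MorphismProperty

namespace Groth.Agent.H72.Perf

open FrobSch

variable (p : ℕ) [Fact p.Prime]

/-- The inverse of the absolute Frobenius of a perfect scheme fixes every point. -/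
theorem inv_frob_apply (X : Scheme.{u}) [IsCharP X p] [IsIso (frob X p)] (x : X) :
    (inv (frob X p)) x = x := by
  have h : (inv (frob X p) ≫ frob X p) x = x := by
    rw [IsIso.inv_hom_id]; rfl
  rw [Scheme.Hom.comp_apply, frob_apply] at h
  exact h

/-- An open subscheme of a perfect scheme is perfect. -/
theorem isPerfect_of_isOpenImmersion {U V : Scheme.{u}} [IsCharP U p] [IsCharP V p]
    (j : U ⟶ V) [IsOpenImmersion j] (hV : IsPerfect V p) : IsPerfect U p := by
  haveI : IsIso (frob V p) := hV
  have hrange : Set.range (j ≫ inv (frob V p)) ⊆ Set.range j := by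
    rintro _ ⟨x, rfl⟩
    refine ⟨x, ?_⟩
    rw [Scheme.Hom.comp_apply, inv_frob_apply]
  let g : U ⟶ U := IsOpenImmersion.lift j (j ≫ inv (frob V p)) hrange
  have hg : g ≫ j = j ≫ inv (frob V p) := IsOpenImmersion.lift_fac _ _ _
  refine ⟨g, ?_, ?_⟩
  · rw [← cancel_mono j, Category.assoc, hg, frob_comp_assoc, IsIso.hom_inv_id, Category.comp_id,
      Category.id_comp]
  · rw [← cancel_mono j, Category.assoc, frob_comp, ← Category.assoc, hg, Category.assoc,
      IsIso.inv_hom_id, Category.comp_id, Category.id_comp]

/-- Morphisms from a perfect scheme into a perfection are determined by their composite with `π`. -/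
theorem hom_ext_of_isPerfection {X XP T : Scheme.{u}} [IsCharP XP p] [IsCharP T p]
    {π : XP ⟶ X} (hπ : IsPerfection π p) (hT : IsPerfect T p) {a b : T ⟶ XP}
    (h : a ≫ π = b ≫ π) : a = b :=
  (hπ.2 T hT).injective h

/-- Lifting property of a perfection. -/
theorem exists_lift_of_isPerfection {X XP T : Scheme.{u}} [IsCharP XP p] [IsCharP T p]
    {π : XP ⟶ X} (hπ : IsPerfection π p) (hT : IsPerfect T p) (c : T ⟶ X) :
    ∃ d : T ⟶ XP, d ≫ π = c :=
  (hπ.2 T hT).surjective c

/-- Two perfections of the same scheme are uniquely isomorphic over it. -/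
theorem exists_iso_of_isPerfection {X P Q : Scheme.{u}} [IsCharP P p] [IsCharP Q p]
    {π : P ⟶ X} {ρ : Q ⟶ X} (hπ : IsPerfection π p) (hρ : IsPerfection ρ p) :
    ∃ e : P ≅ Q, e.hom ≫ ρ = π := by
  obtain ⟨e₁, he₁⟩ := exists_lift_of_isPerfection p hρ hπ.1 π
  obtain ⟨e₂, he₂⟩ := exists_lift_of_isPerfection p hπ hρ.1 ρ
  refine ⟨⟨e₁, e₂, ?_, ?_⟩, he₁⟩
  · apply hom_ext_of_isPerfection p hπ hπ.1
    rw [Category.assoc, he₂, he₁, Category.id_comp]
  · apply hom_ext_of_isPerfection p hρ hρ.1
    rw [Category.assoc, he₁, he₂, Category.id_comp]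

/-- Transport of a perfection along isomorphisms of source and target. -/
theorem isPerfection_of_iso {X X₂ P P₂ : Scheme.{u}} [IsCharP P p] [IsCharP P₂ p]
    {π : P ⟶ X} (hπ : IsPerfection π p) (e : P₂ ≅ P) (eX : X ≅ X₂) (π₂ : P₂ ⟶ X₂)
    (h : π₂ = e.hom ≫ π ≫ eX.hom) : IsPerfection π₂ p := by
  subst h
  constructor
  · -- `P₂` is perfect
    haveI : IsIso (frob P p) := hπ.1
    have : frob P₂ p = e.hom ≫ frob P p ≫ e.inv := by
      rw [← frob_comp_assoc, Iso.hom_inv_id, Category.comp_id]
    show IsIso (frob P₂ p)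
    rw [this]
    infer_instance
  · intro Y _ hY
    constructor
    · intro a b hab
      have h1 : (a ≫ e.hom) ≫ π = (b ≫ e.hom) ≫ π := by
        have := congrArg (· ≫ eX.inv) hab
        simpa [Category.assoc] using this
      have h2 := hom_ext_of_isPerfection p hπ hY h1
      exact (cancel_mono e.hom).1 h2
    · intro c
      obtain ⟨d, hd⟩ := exists_lift_of_isPerfection p hπ hY (c ≫ eX.inv)
      refine ⟨d ≫ e.inv, ?_⟩
      simp only [Category.assoc, Iso.inv_hom_id_assoc]
      rw [← Category.assoc, hd, Category.assoc, Iso.inv_hom_id, Category.comp_id]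

/-- The base change of a perfection `πY : YP ⟶ Y` along an open immersion `f : X ⟶ Y` is a
perfection of `X`. -/
theorem isPerfection_pullback_snd {X Y YP : Scheme.{u}} [IsCharP YP p]
    {πY : YP ⟶ Y} (hY : IsPerfection πY p) (f : X ⟶ Y) [IsOpenImmersion f] :
    @IsPerfection _ _ (pullback.snd πY f) p _ (IsCharP.of_hom (pullback.fst πY f) p) := by
  haveI : IsCharP (pullback πY f) p := IsCharP.of_hom (pullback.fst πY f) p
  refine ⟨isPerfect_of_isOpenImmersion p (pullback.fst πY f) hY.1, ?_⟩
  intro T _ hT
  constructor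
  · intro a b hab
    have hab' : a ≫ pullback.snd πY f = b ≫ pullback.snd πY f := hab
    apply pullback.hom_ext
    · apply hom_ext_of_isPerfection p hY hT
      rw [Category.assoc, Category.assoc, pullback.condition, ← Category.assoc, ← Category.assoc,
        hab']
    · exact hab'
  · intro c
    obtain ⟨d, hd⟩ := exists_lift_of_isPerfection p hY hT (c ≫ f)
    exact ⟨pullback.lift d c hd, pullback.lift_snd _ _ _⟩

/-- The perfection of an open immersion is an open immersion. -/
theorem isOpenImmersion_perfection {X Y XP YP : Scheme.{u}}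
    [IsCharP XP p] [IsCharP YP p]
    (πX : XP ⟶ X) (πY : YP ⟶ Y) (hX : IsPerfection πX p) (hY : IsPerfection πY p)
    (f : X ⟶ Y) (fP : XP ⟶ YP) (w : fP ≫ πY = πX ≫ f) [IsOpenImmersion f] :
    IsOpenImmersion fP := by
  haveI : IsCharP (pullback πY f) p := IsCharP.of_hom (pullback.fst πY f) p
  have hP := isPerfection_pullback_snd p hY f
  obtain ⟨e, he⟩ := exists_iso_of_isPerfection p hX hP
  have hfP : fP = e.hom ≫ pullback.fst πY f := by
    apply hom_ext_of_isPerfection p hY hX.1
    rw [w, Category.assoc, pullback.condition, ← Category.assoc, he]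
  rw [hfP]
  infer_instance

/-- `p = 0` in a ring whose spectrum has characteristic `p`. -/
theorem natCast_eq_zero_of_isCharP_Spec (R : CommRingCat.{u}) [IsCharP (Spec R) p] :
    (p : R) = 0 := by
  have h := IsCharP.natCast_eq_zero (X := Spec R) (p := p)
  have h2 := congrArg (Scheme.ΓSpecIso R).hom.hom h
  simpa using h2

/-- On `Spec B` the absolute Frobenius is `Spec` of the ring Frobenius. -/
theorem frob_Spec (B : CommRingCat.{u}) [CharP B p] :
    frob (Spec B) p = Spec.map (CommRingCat.ofHom (frobenius B p)) := by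
  apply ext_of_isAffine
  rw [← cancel_epi (Scheme.ΓSpecIso B).inv, ← Scheme.ΓSpecIso_inv_naturality]
  ext s
  simp only [CommRingCat.hom_comp, RingHom.coe_comp, Function.comp_apply, CommRingCat.hom_ofHom]
  rw [frob_appTop, frobenius_def, map_pow]
  rfl

/-- The spectrum of a perfect ring is a perfect scheme. -/
theorem isPerfect_Spec (B : CommRingCat.{u}) [CharP B p] [PerfectRing B p] :
    IsPerfect (Spec B) p := by
  show IsIso (frob (Spec B) p)
  rw [frob_Spec]
  haveI : IsIso (CommRingCat.ofHom (frobenius B p)) :=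
    (frobeniusEquiv B p).toCommRingCatIso.isIso_hom
  infer_instance


theorem charP_Γ (T : Scheme.{u}) [IsCharP T p] [Nonempty T] : CharP Γ(T, ⊤) p := by
  haveI : Nonempty (⊤ : T.Opens) := by
    obtain ⟨x⟩ := ‹Nonempty T›
    exact ⟨⟨x, trivial⟩⟩
  haveI : Nontrivial Γ(T, ⊤) := Scheme.component_nontrivial T ⊤
  exact (CharP.charP_iff_prime_eq_zero Fact.out).2 IsCharP.natCast_eq_zero

theorem perfectRing_Γ (T : Scheme.{u}) [IsCharP T p] [CharP Γ(T, ⊤) p] (hT : IsPerfect T p) :
    PerfectRing Γ(T, ⊤) p := by
  haveI : IsIso (frob T p) := hT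
  have h1 : (inv (frob T p)).appTop ≫ (frob T p).appTop = 𝟙 _ := by
    rw [← Scheme.Hom.comp_appTop, IsIso.hom_inv_id]; rfl
  have h2 : (frob T p).appTop ≫ (inv (frob T p)).appTop = 𝟙 _ := by
    rw [← Scheme.Hom.comp_appTop, IsIso.inv_hom_id]; rfl
  constructor
  refine Function.bijective_iff_has_inverse.mpr ⟨(inv (frob T p)).appTop.hom, ?_, ?_⟩
  · intro s
    have := congrArg (fun φ => φ.hom s) h2
    exact this
  · intro s
    have := congrArg (fun φ => φ.hom s) h1
    exact this

/-- Every morphism from an empty scheme is unique. -/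
theorem hom_ext_of_isEmpty {T X : Scheme.{u}} [IsEmpty T] (a b : T ⟶ X) : a = b :=
  (isInitialOfIsEmpty (X := T)).hom_ext a b

/-- If `i : A → B` is `p`-radical and `B` is a perfect ring of characteristic `p`, then
`Spec B ⟶ Spec A` is a perfection. -/
theorem isPerfection_Spec_of_isPRadical (A B : CommRingCat.{u}) [CharP A p] [CharP B p]
    [PerfectRing B p] (i : A ⟶ B) [IsPRadical i.hom p] :
    @IsPerfection _ _ (Spec.map i) p _ (isCharP_Spec' B p) := by
  refine ⟨isPerfect_Spec p B, ?_⟩
  intro T _ hT
  rcases isEmpty_or_nonempty T with hTe | hTne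
  · exact ⟨fun a b _ => hom_ext_of_isEmpty a b,
      fun c => ⟨(isInitialOfIsEmpty (X := T)).to _, hom_ext_of_isEmpty _ _⟩⟩
  haveI := charP_Γ p T
  haveI := perfectRing_Γ p T hT
  constructor
  · intro a b hab
    have hab' : a ≫ Spec.map i = b ≫ Spec.map i := hab
    apply ext_of_isAffine
    rw [← cancel_epi (Scheme.ΓSpecIso B).inv]
    have h1 := congrArg Scheme.Hom.appTop hab'
    rw [Scheme.Hom.comp_appTop, Scheme.Hom.comp_appTop] at h1
    have h2 : i ≫ (Scheme.ΓSpecIso B).inv ≫ a.appTop = i ≫ (Scheme.ΓSpecIso B).inv ≫ b.appTop := by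
      rw [Scheme.ΓSpecIso_inv_naturality_assoc, Scheme.ΓSpecIso_inv_naturality_assoc, h1]
    have h3 : ((Scheme.ΓSpecIso B).inv ≫ a.appTop).hom.comp i.hom =
        ((Scheme.ΓSpecIso B).inv ≫ b.appTop).hom.comp i.hom :=
      congrArg CommRingCat.Hom.hom h2
    have h4 := IsPRadical.injective_comp_of_perfect (M := Γ(T, ⊤)) i.hom p h3
    exact CommRingCat.hom_ext h4
  · intro c
    let γ : A →+* Γ(T, ⊤) := ((Scheme.ΓSpecIso A).inv ≫ c.appTop).hom
    let δ : B →+* Γ(T, ⊤) := PerfectRing.lift i.hom γ p
    have hδ : δ.comp i.hom = γ := PerfectRing.lift_comp i.hom γ p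
    refine ⟨T.toSpecΓ ≫ Spec.map (CommRingCat.ofHom δ), ?_⟩
    show (T.toSpecΓ ≫ Spec.map (CommRingCat.ofHom δ)) ≫ Spec.map i = c
    have h6 : i ≫ CommRingCat.ofHom δ = (Scheme.ΓSpecIso A).inv ≫ c.appTop :=
      CommRingCat.hom_ext hδ
    rw [Category.assoc, ← Spec.map_comp, h6, Spec.map_comp, ← Scheme.toSpecΓ_naturality_assoc,
      toSpecΓ_SpecMap_ΓSpecIso_inv, Category.comp_id]

/-- A perfection of a nonempty affine scheme is `Spec` of the perfect closure of its ring of
global sections. -/
theorem exists_iso_Spec_perfectClosure {X XP : Scheme.{u}} [IsCharP X p] [IsCharP XP p]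
    [IsAffine X] [Nonempty X] (π : XP ⟶ X) (hπ : IsPerfection π p) :
    haveI := charP_Γ p X
    ∃ e : XP ≅ Spec (CommRingCat.of (PerfectClosure Γ(X, ⊤) p)),
      π = e.hom ≫ Spec.map (CommRingCat.ofHom (PerfectClosure.of Γ(X, ⊤) p)) ≫ X.isoSpec.inv := by
  haveI := charP_Γ p X
  haveI : IsPRadical (CommRingCat.ofHom (PerfectClosure.of Γ(X, ⊤) p)).hom p :=
    PerfectClosure.isPRadical Γ(X, ⊤) p
  have hmodel := isPerfection_Spec_of_isPRadical p Γ(X, ⊤)
    (CommRingCat.of (PerfectClosure Γ(X, ⊤) p)) (CommRingCat.ofHom (PerfectClosure.of Γ(X, ⊤) p))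
  have hmodel' : IsPerfection
      (Spec.map (CommRingCat.ofHom (PerfectClosure.of Γ(X, ⊤) p)) ≫ X.isoSpec.inv) p :=
    isPerfection_of_iso p hmodel (Iso.refl _) X.isoSpec.symm _ (by simp)
  obtain ⟨e, he⟩ := exists_iso_of_isPerfection p hπ hmodel'
  exact ⟨e, he.symm⟩


/-- A property local at the target holds for every morphism with empty target. -/
theorem of_isEmpty_target (P : MorphismProperty Scheme.{u}) [IsZariskiLocalAtTarget P]
    {X Y : Scheme.{u}} [IsEmpty Y] (f : X ⟶ Y) : P f := by
  refine IsZariskiLocalAtTarget.of_iSup_eq_top (P := P) (fun i : PEmpty.{1} => i.elim) ?_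
    (fun i : PEmpty.{1} => i.elim)
  rw [eq_top_iff]
  intro y
  exact (IsEmpty.false y).elim

/-- Induction principle: a property local at the target that holds for `Spec` of the maps
`A → PerfectClosure A p` holds for every perfection. -/
theorem perfection_induction (P : MorphismProperty Scheme.{u}) [IsZariskiLocalAtTarget P]
    (hP : ∀ (A : CommRingCat.{u}) [CharP A p],
      P (Spec.map (CommRingCat.ofHom (PerfectClosure.of A p))))
    {X XP : Scheme.{u}} [IsCharP X p] [IsCharP XP p] (π : XP ⟶ X) (hπ : IsPerfection π p) :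
    P π := by
  rw [IsZariskiLocalAtTarget.iff_of_openCover (P := P) X.affineCover]
  intro x
  show P (pullback.snd π (X.affineCover.f x))
  haveI : IsCharP (pullback π (X.affineCover.f x)) p := IsCharP.of_hom (pullback.fst _ _) p
  haveI : IsCharP (X.affineCover.X x) p := IsCharP.of_hom (X.affineCover.f x) p
  have hperf : IsPerfection (pullback.snd π (X.affineCover.f x)) p :=
    isPerfection_pullback_snd p hπ (X.affineCover.f x)
  rcases isEmpty_or_nonempty (X.affineCover.X x) with hE | hN
  · exact of_isEmpty_target P _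
  · haveI : IsAffine (X.affineCover.X x) := inferInstance
    haveI := charP_Γ p (X.affineCover.X x)
    obtain ⟨e, he⟩ := exists_iso_Spec_perfectClosure p _ hperf
    rw [he, P.cancel_left_of_respectsIso, P.cancel_right_of_respectsIso]
    exact hP _

section Algebra

variable (p : ℕ) [Fact p.Prime] {A A' : Type u} [CommRing A] [CommRing A']

/-- A `p`-radical ring map is integral. -/
theorem isIntegral_of_isPRadical (i : A →+* A') [IsPRadical i p] : i.IsIntegral := by
  intro x
  obtain ⟨n, y, hy⟩ := IsPRadical.pow_mem i p x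
  letI := i.toAlgebra
  have h1 : IsIntegral A (x ^ p ^ n) := by
    rw [← hy]
    exact isIntegral_algebraMap (R := A) (A := A') (x := y)
  exact IsIntegral.of_pow (pow_pos (Fact.out : p.Prime).pos n) h1

/-- `Spec` of a `p`-radical map is surjective. -/
theorem comap_surjective_of_isPRadical (i : A →+* A') [IsPRadical i p] :
    Function.Surjective (PrimeSpectrum.comap i) := by
  intro q
  have hp : p.Prime := Fact.out
  have hi : i.IsIntegral := isIntegral_of_isPRadical p i
  letI := i.toAlgebra
  haveI : Algebra.IsIntegral A A' := ⟨hi⟩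
  haveI := q.isPrime
  have hker : (⊥ : Ideal A').comap (algebraMap A A') ≤ q.asIdeal := by
    rw [← RingHom.ker_eq_comap_bot]
    intro x hx
    have h1 := IsPRadical.ker_le i p hx
    rw [pNilradical_prime hp] at h1
    exact (nilradical_le_prime q.asIdeal) h1
  obtain ⟨Q, -, hQ, hQ'⟩ := Ideal.exists_ideal_over_prime_of_isIntegral q.asIdeal ⊥ hker
  exact ⟨⟨Q, hQ⟩, PrimeSpectrum.ext hQ'⟩

/-- `Spec` of a `p`-radical map is injective. -/
theorem comap_injective_of_isPRadical (i : A →+* A') [IsPRadical i p] :
    Function.Injective (PrimeSpectrum.comap i) := by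
  have key : ∀ q1 q2 : PrimeSpectrum A', PrimeSpectrum.comap i q1 = PrimeSpectrum.comap i q2 →
      q1.asIdeal ≤ q2.asIdeal := by
    intro q1 q2 h x hx
    obtain ⟨n, y, hy⟩ := IsPRadical.pow_mem i p x
    have h1 : y ∈ (PrimeSpectrum.comap i q1).asIdeal := by
      change i y ∈ q1.asIdeal
      rw [hy]; exact Ideal.pow_mem_of_mem _ hx _ (pow_pos (Fact.out : p.Prime).pos n)
    rw [h] at h1
    have h2 : i y ∈ q2.asIdeal := h1
    rw [hy] at h2
    exact q2.isPrime.mem_of_pow_mem _ h2
  intro q1 q2 h
  exact PrimeSpectrum.ext (le_antisymm (key q1 q2 h) (key q2 q1 h.symm))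

end Algebra

variable (p : ℕ) [Fact p.Prime]

section Structure

variable {X XP : Scheme.{u}} [IsCharP X p] [IsCharP XP p] (π : XP ⟶ X) (hπ : IsPerfection π p)
include hπ

set_option backward.isDefEq.respectTransparency.types false in
/-- A perfection is an integral morphism. -/
theorem isIntegralHom_of_isPerfection : IsIntegralHom π := by
  refine perfection_induction p @IsIntegralHom (fun A _ => ?_) π hπ
  rw [IsIntegralHom.SpecMap_iff]
  exact isIntegral_of_isPRadical p (PerfectClosure.of A p)

/-- A perfection is surjective. -/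
theorem surjective_of_isPerfection : Surjective π := by
  refine perfection_induction p @Surjective (fun A _ => ?_) π hπ
  constructor
  exact comap_surjective_of_isPRadical p (PerfectClosure.of A p)

/-- A perfection is injective on points. -/
theorem injective_of_isPerfection : Function.Injective π := by
  have : topologically (Function.Injective ·) π := by
    refine perfection_induction p (topologically (Function.Injective ·)) (fun A _ => ?_) π hπ
    exact comap_injective_of_isPRadical p (PerfectClosure.of A p)
  exact this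

end Structure


section UH

variable {X Y : Scheme.{u}} (f : X ⟶ Y)

theorem isHomeomorph_of_univ [UniversallyInjective f] [UniversallyClosed f] [Surjective f] :
    IsHomeomorph f :=
  isHomeomorph_iff_continuous_isClosedMap_bijective.mpr
    ⟨f.continuous, f.isClosedMap, f.injective, f.surjective⟩

theorem isUnivHomeo_of [UniversallyInjective f] [UniversallyClosed f] [Surjective f] :
    FlatMor.IsUnivHomeo f := by
  intro X' Y' i₁ i₂ f' h
  haveI : UniversallyInjective f' := MorphismProperty.of_isPullback h.flip ‹_›
  haveI : UniversallyClosed f' := MorphismProperty.of_isPullback h.flip ‹_›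
  haveI : Surjective f' := MorphismProperty.of_isPullback h.flip ‹_›
  exact isHomeomorph_of_univ f'

theorem isUnivHomeo_iff :
    FlatMor.IsUnivHomeo f ↔ UniversallyInjective f ∧ UniversallyClosed f ∧ Surjective f := by
  constructor
  · intro h
    refine ⟨?_, ?_, ?_⟩
    · rw [universallyInjective_eq]
      intro X' Y' i₁ i₂ f' hp
      exact (h i₁ i₂ f' hp : IsHomeomorph f').injective
    · rw [universallyClosed_eq]
      intro X' Y' i₁ i₂ f' hp
      exact (h i₁ i₂ f' hp : IsHomeomorph f').isClosedMap
    · have : IsHomeomorph f := h _ _ _ IsPullback.of_id_snd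
      exact ⟨this.surjective⟩
  · rintro ⟨h1, h2, h3⟩
    exact isUnivHomeo_of f

end UH

section Structure2

variable {X XP : Scheme.{u}} [IsCharP X p] [IsCharP XP p] (π : XP ⟶ X) (hπ : IsPerfection π p)
include hπ

/-- The diagonal of a perfection is a perfection. -/
theorem isPerfection_diagonal : IsPerfection (pullback.diagonal π) p := by
  refine ⟨hπ.1, ?_⟩
  intro T _ hT
  constructor
  · intro a b hab
    have hab' : a ≫ pullback.diagonal π = b ≫ pullback.diagonal π := hab
    have := congrArg (· ≫ pullback.fst π π) hab'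
    simpa using this
  · intro c
    have hab : (c ≫ pullback.fst π π) = (c ≫ pullback.snd π π) := by
      apply hom_ext_of_isPerfection p hπ hT
      rw [Category.assoc, Category.assoc, pullback.condition]
    refine ⟨c ≫ pullback.fst π π, ?_⟩
    show (c ≫ pullback.fst π π) ≫ pullback.diagonal π = c
    apply pullback.hom_ext
    · simp
    · simp [hab]

/-- A perfection is universally injective. -/
theorem universallyInjective_of_isPerfection : UniversallyInjective π := by
  rw [UniversallyInjective.iff_diagonal]
  haveI : IsCharP (pullback π π) p := IsCharP.of_hom (pullback.fst π π) p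
  exact surjective_of_isPerfection p _ (isPerfection_diagonal p π hπ)

/-- A perfection is a universal homeomorphism. -/
theorem isUnivHomeo_of_isPerfection : FlatMor.IsUnivHomeo π := by
  haveI := universallyInjective_of_isPerfection p π hπ
  haveI := isIntegralHom_of_isPerfection p π hπ
  haveI := surjective_of_isPerfection p π hπ
  exact isUnivHomeo_of π

/-- A perfection is a homeomorphism on underlying spaces. -/
theorem isHomeomorph_of_isPerfection : IsHomeomorph π := by
  haveI := universallyInjective_of_isPerfection p π hπ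
  haveI := isIntegralHom_of_isPerfection p π hπ
  haveI := surjective_of_isPerfection p π hπ
  exact isHomeomorph_of_univ π

end Structure2


section Cancel

variable {X Y Z : Scheme.{u}} (g : X ⟶ Y) (h : Y ⟶ Z)

/-- If `g ≫ h` is universally injective, so is `g`. -/
theorem universallyInjective_of_comp [UniversallyInjective (g ≫ h)] : UniversallyInjective g := by
  have h1 := ((tfae_universallyInjective (g ≫ h)).out 0 1).mp ‹_›
  refine ((tfae_universallyInjective g).out 0 1).mpr ?_
  intro K _ a b hab
  apply h1 K
  show a ≫ g ≫ h = b ≫ g ≫ h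
  have hab' : a ≫ g = b ≫ g := hab
  rw [← Category.assoc, hab', Category.assoc]

/-- If `g ≫ h` is universally injective and `g` is surjective, then `h` is universally
injective. -/
theorem universallyInjective_of_comp_surjective [Surjective g] [UniversallyInjective (g ≫ h)] :
    UniversallyInjective h := by
  rw [universallyInjective_eq]
  intro Y' Z' i₁ i₂ h' hp
  haveI : Surjective (pullback.fst i₁ g) := inferInstance
  have hpaste : IsPullback (pullback.fst i₁ g ≫ h') (pullback.snd i₁ g) i₂ (g ≫ h) :=
    (IsPullback.of_hasPullback i₁ g).paste_horiz hp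
  have hinj : Function.Injective (pullback.fst i₁ g ≫ h') :=
    (UniversallyInjective.universally_injective (f := g ≫ h)) _ _ _ hpaste
  intro a b hab
  obtain ⟨a', rfl⟩ := (pullback.fst i₁ g).surjective a
  obtain ⟨b', rfl⟩ := (pullback.fst i₁ g).surjective b
  have : a' = b' := hinj (by
    rw [Scheme.Hom.comp_apply, Scheme.Hom.comp_apply]; exact hab)
  rw [this]

end Cancel


section Sep

variable {X' X Y : Scheme.{u}} (g : X' ⟶ X) (f : X ⟶ Y)

/-- If `g` is surjective and universally closed and `g ≫ f` is separated, then `f` is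
separated. -/
theorem isSeparated_of_comp_surjective [Surjective g] [UniversallyClosed g]
    [IsSeparated (g ≫ f)] : IsSeparated f := by
  let M : pullback (g ≫ f) (g ≫ f) ⟶ pullback f f :=
    pullback.map (g ≫ f) (g ≫ f) f f g g (𝟙 _) ((Category.comp_id _).trans rfl)
      ((Category.comp_id _).trans rfl)
  haveI hM : UniversallyClosed M :=
    MorphismProperty.pullbackMap (P := @UniversallyClosed) ‹UniversallyClosed g›
      ‹UniversallyClosed g› rfl rfl
  have hcomm : pullback.diagonal (g ≫ f) ≫ M = g ≫ pullback.diagonal f := by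
    apply pullback.hom_ext
    · simp only [M, Category.assoc, pullback.lift_fst, pullback.diagonal_fst, Category.comp_id]
      rw [pullback.diagonal_fst_assoc]
    · simp only [M, Category.assoc, pullback.lift_snd, pullback.diagonal_snd, Category.comp_id]
      rw [pullback.diagonal_snd_assoc]
  have hrange : Set.range (pullback.diagonal f) = M '' Set.range (pullback.diagonal (g ≫ f)) := by
    rw [← Set.range_comp]
    have h1 : Set.range (pullback.diagonal f) = Set.range (g ≫ pullback.diagonal f) := by
      rw [Scheme.Hom.comp_base, TopCat.coe_comp, Set.range_comp, g.surjective.range_eq,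
        Set.image_univ]
    rw [h1, ← hcomm]
    rfl
  have hclosed : IsClosed (Set.range (pullback.diagonal f)) := by
    rw [hrange]
    exact M.isClosedMap _ (pullback.diagonal (g ≫ f)).isClosedMap.isClosed_range
  constructor
  exact IsClosedImmersion.of_isPreimmersion _ hclosed

end Sep


section QSep

variable {X' X Y : Scheme.{u}} (g : X' ⟶ X) (f : X ⟶ Y)

/-- If `g` is surjective and quasi-compact and `g ≫ f` is quasi-separated, then `f` is
quasi-separated. -/
theorem quasiSeparated_of_comp_surjective [Surjective g] [QuasiCompact g]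
    [QuasiSeparated (g ≫ f)] : QuasiSeparated f := by
  let M : pullback (g ≫ f) (g ≫ f) ⟶ pullback f f :=
    pullback.map (g ≫ f) (g ≫ f) f f g g (𝟙 _) ((Category.comp_id _).trans rfl)
      ((Category.comp_id _).trans rfl)
  haveI hM : QuasiCompact M :=
    MorphismProperty.pullbackMap (P := @QuasiCompact) ‹QuasiCompact g›
      ‹QuasiCompact g› rfl rfl
  have hcomm : pullback.diagonal (g ≫ f) ≫ M = g ≫ pullback.diagonal f := by
    apply pullback.hom_ext
    · simp only [M, Category.assoc, pullback.lift_fst, pullback.diagonal_fst, Category.comp_id]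
      rw [pullback.diagonal_fst_assoc]
    · simp only [M, Category.assoc, pullback.lift_snd, pullback.diagonal_snd, Category.comp_id]
      rw [pullback.diagonal_snd_assoc]
  refine ⟨⟨fun K hK hKc => ?_⟩⟩
  have h1 : IsCompact ((pullback.diagonal (g ≫ f) ≫ M) ⁻¹' K) :=
    QuasiCompact.isCompact_preimage (f := pullback.diagonal (g ≫ f) ≫ M) K hK hKc
  rw [hcomm] at h1
  have h2 : (pullback.diagonal f) ⁻¹' K = g '' ((g ≫ pullback.diagonal f) ⁻¹' K) := by
    ext x
    constructor
    · intro hx
      obtain ⟨x', rfl⟩ := g.surjective x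
      exact ⟨x', hx, rfl⟩
    · rintro ⟨x', hx', rfl⟩
      exact hx'
  rw [h2]
  exact h1.image g.continuous

end QSep


section Restrict

variable {X Y XP YP V : Scheme.{u}} [IsCharP XP p] [IsCharP YP p]
  (πX : XP ⟶ X) (πY : YP ⟶ Y) (hX : IsPerfection πX p) (hY : IsPerfection πY p)
  (f : X ⟶ Y) (fP : XP ⟶ YP) (w : fP ≫ πY = πX ≫ f) (j : V ⟶ Y) [IsOpenImmersion j]

/-- The restriction of the perfection `πX` over an open `V` of `Y`. -/
noncomputable def restrictπ (w : fP ≫ πY = πX ≫ f) :
    pullback fP (pullback.fst πY j) ⟶ pullback f j :=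
  pullback.lift (pullback.fst fP (pullback.fst πY j) ≫ πX)
    (pullback.snd fP (pullback.fst πY j) ≫ pullback.snd πY j) (by
      rw [Category.assoc, ← w, ← Category.assoc, pullback.condition, Category.assoc,
        Category.assoc, pullback.condition])

theorem restrictπ_fst :
    restrictπ πX πY f fP j w ≫ pullback.fst f j = pullback.fst fP (pullback.fst πY j) ≫ πX :=
  pullback.lift_fst _ _ _

theorem restrictπ_snd :
    restrictπ πX πY f fP j w ≫ pullback.snd f j =
      pullback.snd fP (pullback.fst πY j) ≫ pullback.snd πY j :=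
  pullback.lift_snd _ _ _

include hX hY in
theorem isPerfection_restrictπ :
    @IsPerfection _ _ (restrictπ πX πY f fP j w) p _
      (IsCharP.of_hom (pullback.fst fP (pullback.fst πY j)) p) := by
  haveI : IsCharP (pullback fP (pullback.fst πY j)) p :=
    IsCharP.of_hom (pullback.fst fP (pullback.fst πY j)) p
  haveI : IsCharP (pullback πY j) p := IsCharP.of_hom (pullback.fst πY j) p
  have hY' : IsPerfection (pullback.snd πY j) p := isPerfection_pullback_snd p hY j
  refine ⟨isPerfect_of_isOpenImmersion p (pullback.fst fP (pullback.fst πY j)) hX.1, ?_⟩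
  intro T _ hT
  constructor
  · intro a b hab
    have hab' : a ≫ restrictπ πX πY f fP j w = b ≫ restrictπ πX πY f fP j w := hab
    apply pullback.hom_ext
    · apply hom_ext_of_isPerfection p hX hT
      have := congrArg (· ≫ pullback.fst f j) hab'
      simpa only [Category.assoc, restrictπ_fst] using this
    · apply hom_ext_of_isPerfection p hY' hT
      have := congrArg (· ≫ pullback.snd f j) hab'
      simpa only [Category.assoc, restrictπ_snd] using this
  · intro c
    obtain ⟨d, hd⟩ := exists_lift_of_isPerfection p hX hT (c ≫ pullback.fst f j)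
    obtain ⟨e, he⟩ := exists_lift_of_isPerfection p hY' hT (c ≫ pullback.snd f j)
    have hde : d ≫ fP = e ≫ pullback.fst πY j := by
      apply hom_ext_of_isPerfection p hY hT
      calc (d ≫ fP) ≫ πY = (d ≫ πX) ≫ f := by rw [Category.assoc, w, Category.assoc]
        _ = c ≫ pullback.fst f j ≫ f := by rw [hd, Category.assoc]
        _ = (c ≫ pullback.snd f j) ≫ j := by rw [pullback.condition, Category.assoc]
        _ = e ≫ pullback.snd πY j ≫ j := by rw [← he, Category.assoc]
        _ = (e ≫ pullback.fst πY j) ≫ πY := by rw [← pullback.condition, Category.assoc]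
    refine ⟨pullback.lift d e hde, ?_⟩
    show pullback.lift d e hde ≫ restrictπ πX πY f fP j w = c
    apply pullback.hom_ext
    · rw [Category.assoc, restrictπ_fst, pullback.lift_fst_assoc, hd]
    · rw [Category.assoc, restrictπ_snd, pullback.lift_snd_assoc, he]

end Restrict

/-- Reduction to an affine target: to prove a target-local property `P` of the perfection `fP`
of a morphism `f` satisfying a base-change-stable property `Q`, one may assume that the
target of `f` is affine. -/
theorem perfection_hom_induction (P : MorphismProperty Scheme.{u}) [IsZariskiLocalAtTarget P]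
    (Q : MorphismProperty Scheme.{u}) [Q.IsStableUnderBaseChange]
    (haff : ∀ {X Y XP YP : Scheme.{u}} [IsCharP X p] [IsCharP Y p] [IsCharP XP p] [IsCharP YP p]
      [IsAffine Y] (πX : XP ⟶ X) (πY : YP ⟶ Y) (_ : IsPerfection πX p) (_ : IsPerfection πY p)
      (f : X ⟶ Y) (fP : XP ⟶ YP) (_ : fP ≫ πY = πX ≫ f), Q f → P fP)
    {X Y XP YP : Scheme.{u}} [IsCharP X p] [IsCharP Y p] [IsCharP XP p] [IsCharP YP p]
    (πX : XP ⟶ X) (πY : YP ⟶ Y) (hX : IsPerfection πX p) (hY : IsPerfection πY p)
    (f : X ⟶ Y) (fP : XP ⟶ YP) (w : fP ≫ πY = πX ≫ f) (hf : Q f) : P fP := by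
  rw [IsZariskiLocalAtTarget.iff_of_openCover (P := P) (Y.affineCover.pullback₁ πY)]
  intro (i : Y.affineCover.I₀)
  show P (pullback.snd fP (pullback.fst πY (Y.affineCover.f i)))
  haveI : IsCharP (pullback fP (pullback.fst πY (Y.affineCover.f i))) p :=
    IsCharP.of_hom (pullback.fst fP (pullback.fst πY (Y.affineCover.f i))) p
  haveI : IsCharP (pullback πY (Y.affineCover.f i)) p :=
    IsCharP.of_hom (pullback.fst πY (Y.affineCover.f i)) p
  haveI : IsCharP (pullback f (Y.affineCover.f i)) p :=
    IsCharP.of_hom (pullback.fst f (Y.affineCover.f i)) p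
  haveI : IsCharP (Y.affineCover.X i) p := IsCharP.of_hom (Y.affineCover.f i) p
  exact haff (restrictπ πX πY f fP (Y.affineCover.f i) w) (pullback.snd πY (Y.affineCover.f i))
    (isPerfection_restrictπ p πX πY hX hY f fP w (Y.affineCover.f i))
    (isPerfection_pullback_snd p hY (Y.affineCover.f i))
    (pullback.snd f (Y.affineCover.f i)) _
    (restrictπ_snd πX πY f fP w (Y.affineCover.f i)).symm
    (MorphismProperty.pullback_snd _ _ hf)


section PerfMap

variable {A B : Type u} [CommRing A] [CommRing B] [CharP A p] [CharP B p]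

/-- The map induced on perfect closures. -/
noncomputable def perfMap (φ : B →+* A) : PerfectClosure B p →+* PerfectClosure A p :=
  PerfectClosure.lift B p (PerfectClosure A p) ((PerfectClosure.of A p).comp φ)

theorem perfMap_comp_of (φ : B →+* A) :
    (perfMap p φ).comp (PerfectClosure.of B p) = (PerfectClosure.of A p).comp φ :=
  (PerfectClosure.lift B p (PerfectClosure A p)).symm_apply_apply _

theorem perfMap_of (φ : B →+* A) (b : B) :
    perfMap p φ (PerfectClosure.of B p b) = PerfectClosure.of A p (φ b) :=
  congrArg (fun ψ : B →+* PerfectClosure A p => ψ b) (perfMap_comp_of p φ)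

/-- A surjective ring map induces a surjective map on perfect closures. -/
theorem perfMap_surjective (φ : B →+* A) (hφ : Function.Surjective φ) :
    Function.Surjective (perfMap p φ) := by
  intro y
  obtain ⟨n, a, ha⟩ := IsPRadical.pow_mem (PerfectClosure.of A p) p y
  obtain ⟨b, rfl⟩ := hφ a
  let z : PerfectClosure B p := (iterateFrobeniusEquiv (PerfectClosure B p) p n).symm
    (PerfectClosure.of B p b)
  have hz : z ^ p ^ n = PerfectClosure.of B p b := by
    have := (iterateFrobeniusEquiv (PerfectClosure B p) p n).apply_symm_apply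
      (PerfectClosure.of B p b)
    rwa [iterateFrobeniusEquiv_apply, iterateFrobenius_def] at this
  refine ⟨z, ?_⟩
  apply iterateFrobenius_inj (PerfectClosure A p) p n
  rw [iterateFrobenius_def, iterateFrobenius_def, ← map_pow, hz, perfMap_of, ha]

end PerfMap

section Model

variable {X Y XP YP : Scheme.{u}} [IsCharP X p] [IsCharP Y p] [IsCharP XP p] [IsCharP YP p]
  [IsAffine X] [IsAffine Y] [Nonempty X] [Nonempty Y]
  (πX : XP ⟶ X) (πY : YP ⟶ Y) (hX : IsPerfection πX p) (hY : IsPerfection πY p)
  (f : X ⟶ Y) (fP : XP ⟶ YP) (w : fP ≫ πY = πX ≫ f)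

include hX hY w in
/-- Affine model of the perfection of a morphism between nonempty affine schemes. -/
theorem exists_model :
    haveI := charP_Γ p X
    haveI := charP_Γ p Y
    ∃ (eX : XP ≅ Spec (CommRingCat.of (PerfectClosure Γ(X, ⊤) p)))
      (eY : YP ≅ Spec (CommRingCat.of (PerfectClosure Γ(Y, ⊤) p))),
      fP = eX.hom ≫ Spec.map (CommRingCat.ofHom (perfMap p f.appTop.hom)) ≫ eY.inv := by
  haveI := charP_Γ p X
  haveI := charP_Γ p Y
  obtain ⟨eX, heX⟩ := exists_iso_Spec_perfectClosure p πX hX
  obtain ⟨eY, heY⟩ := exists_iso_Spec_perfectClosure p πY hY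
  refine ⟨eX, eY, ?_⟩
  apply hom_ext_of_isPerfection p hY hX.1
  rw [w]
  conv_lhs => rw [heX]
  conv_rhs => rw [heY]
  simp only [Category.assoc, Iso.inv_hom_id_assoc]
  congr 1
  rw [← Scheme.isoSpec_inv_naturality, ← Category.assoc, ← Category.assoc, ← Spec.map_comp,
    ← Spec.map_comp]
  congr 2

end Model

/-- The perfection of a closed immersion is a closed immersion. -/
theorem isClosedImmersion_perfection {X Y XP YP : Scheme.{u}}
    [IsCharP X p] [IsCharP Y p] [IsCharP XP p] [IsCharP YP p]
    (πX : XP ⟶ X) (πY : YP ⟶ Y) (hX : IsPerfection πX p) (hY : IsPerfection πY p)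
    (f : X ⟶ Y) (fP : XP ⟶ YP) (w : fP ≫ πY = πX ≫ f) [IsClosedImmersion f] :
    IsClosedImmersion fP := by
  refine perfection_hom_induction p @IsClosedImmersion @IsClosedImmersion ?_ πX πY hX hY f fP w ‹_›
  intro X Y XP YP _ _ _ _ _ πX πY hX hY f fP w hf
  haveI : IsClosedImmersion f := hf
  obtain ⟨hXaff, hsurj⟩ := IsClosedImmersion.isAffine_surjective_of_isAffine f
  rcases isEmpty_or_nonempty X with hE | hN
  · haveI : IsEmpty XP := Function.isEmpty πX
    infer_instance
  · haveI : Nonempty Y := hN.map f
    haveI := charP_Γ p X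
    haveI := charP_Γ p Y
    obtain ⟨eX, eY, h⟩ := exists_model p πX πY hX hY f fP w
    rw [h]
    haveI : IsClosedImmersion (Spec.map (CommRingCat.ofHom (perfMap p f.appTop.hom))) :=
      IsClosedImmersion.spec_of_surjective _ (perfMap_surjective p _ hsurj)
    infer_instance


/-- The perfection of an immersion is an immersion. -/
theorem isImmersion_perfection {X Y XP YP : Scheme.{u}}
    [IsCharP X p] [IsCharP Y p] [IsCharP XP p] [IsCharP YP p]
    (πX : XP ⟶ X) (πY : YP ⟶ Y) (hX : IsPerfection πX p) (hY : IsPerfection πY p)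
    (f : X ⟶ Y) (fP : XP ⟶ YP) (w : fP ≫ πY = πX ≫ f) [IsImmersion f] :
    IsImmersion fP := by
  obtain ⟨Z, g₁, g₂, hg₁, hg₂, hfg⟩ := IsImmersion.isImmersion_iff_exists.mp ‹IsImmersion f›
  haveI : IsCharP Z p := IsCharP.of_hom g₂ p
  haveI : IsCharP (pullback πY g₂) p := IsCharP.of_hom (pullback.fst πY g₂) p
  have hZ : IsPerfection (pullback.snd πY g₂) p := isPerfection_pullback_snd p hY g₂
  obtain ⟨gP₁, hgP₁⟩ := exists_lift_of_isPerfection p hZ hX.1 (πX ≫ g₁)
  haveI : IsClosedImmersion gP₁ :=
    isClosedImmersion_perfection p πX (pullback.snd πY g₂) hX hZ g₁ gP₁ hgP₁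
  have hfP : fP = gP₁ ≫ pullback.fst πY g₂ := by
    apply hom_ext_of_isPerfection p hY hX.1
    rw [w, Category.assoc, pullback.condition, ← Category.assoc, hgP₁, Category.assoc, hfg]
  rw [hfP]
  infer_instance


section FrobUI

variable (X : Scheme.{u}) [IsCharP X p]

/-- On residue fields, the absolute Frobenius is the `p`-th power map. -/
theorem residueFieldMap_frob (x : X) (y : X.residueField x) :
    (frob X p).residueFieldMap x y = y ^ p := by
  obtain ⟨t, rfl⟩ := X.residue_surjective x y
  obtain ⟨U, hxU, s, rfl⟩ := X.presheaf.exists_germ_eq (x := x) t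
  have h := Scheme.evaluation_naturality_apply (frob X p) (V := U) x hxU s
  rw [frob_app] at h
  change (frob X p).residueFieldMap x (X.evaluation U x hxU s) = (X.evaluation U x hxU s) ^ p
  rw [← map_pow]
  exact h

/-- The absolute Frobenius is universally injective. -/
theorem universallyInjective_frob : UniversallyInjective (frob X p) := by
  have htfae := (tfae_universallyInjective (frob X p)).out 0 2
  rw [htfae]
  refine ⟨fun a b h => h, fun x => ?_⟩
  letI := ((frob X p).residueFieldMap x).hom.toAlgebra
  show IsPurelyInseparable (X.residueField ((frob X p) x)) (X.residueField x)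
  have hp0 : (p : X.residueField x) = 0 := by
    have h1 : (p : Γ(X, ⊤)) = 0 := IsCharP.natCast_eq_zero
    have := congrArg (X.Γevaluation x).hom h1
    simpa using this
  haveI : CharP (X.residueField ((frob X p) x)) p :=
    (CharP.charP_iff_prime_eq_zero Fact.out).2 hp0
  rw [isPurelyInseparable_iff_pow_mem (X.residueField ((frob X p) x)) p]
  intro y
  refine ⟨1, y, ?_⟩
  rw [pow_one]
  exact residueFieldMap_frob p X x y

end FrobUI

section Et

/-- An étale universally injective morphism is an open immersion. -/
theorem isOpenImmersion_of_etale_of_universallyInjective {X Y : Scheme.{u}} (f : X ⟶ Y)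
    [Etale f] [UniversallyInjective f] : IsOpenImmersion f := by
  haveI : IsOpenImmersion (pullback.diagonal f) := inferInstance
  haveI : Surjective (pullback.diagonal f) := (UniversallyInjective.iff_diagonal f).mp ‹_›
  haveI : IsIso (pullback.diagonal f) :=
    (isIso_iff_isOpenImmersion_and_epi_base _).mpr
      ⟨inferInstance, (TopCat.epi_iff_surjective _).mpr (pullback.diagonal f).surjective⟩
  haveI : Mono f := (pullback.isIso_diagonal_iff f).mp ‹_›
  exact IsOpenImmersion.of_flat_of_mono f

/-- A scheme étale over a perfect scheme is perfect. -/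
theorem isPerfect_of_etale {P Y : Scheme.{u}} [IsCharP P p] [IsCharP Y p] (g : P ⟶ Y) [Etale g]
    (hY : IsPerfect Y p) : IsPerfect P p := by
  haveI : IsIso (frob Y p) := hY
  haveI : Etale (g ≫ inv (frob Y p)) := inferInstance
  have hcomp : frob P p ≫ (g ≫ inv (frob Y p)) = g := by
    rw [frob_comp_assoc, IsIso.hom_inv_id, Category.comp_id]
  haveI : Etale (frob P p ≫ (g ≫ inv (frob Y p))) := by rw [hcomp]; infer_instance
  haveI : Etale (frob P p) :=
    MorphismProperty.of_postcomp (W := @Etale) (W' := @Etale) (frob P p) (g ≫ inv (frob Y p))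
      inferInstance inferInstance
  haveI := universallyInjective_frob p P
  haveI : IsOpenImmersion (frob P p) := isOpenImmersion_of_etale_of_universallyInjective _
  show IsIso (frob P p)
  exact (isIso_iff_isOpenImmersion_and_epi_base _).mpr
    ⟨inferInstance, (TopCat.epi_iff_surjective _).mpr (fun x => ⟨x, rfl⟩)⟩

end Et

/-- If the base change of a perfection `πY` along `f : X ⟶ Y` is a perfect scheme, then it is a
perfection of `X`. -/
theorem isPerfection_pullback_snd_of_isPerfect {X Y YP : Scheme.{u}} [IsCharP YP p]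
    {πY : YP ⟶ Y} (hY : IsPerfection πY p) (f : X ⟶ Y)
    (hP : @IsPerfect (pullback πY f) p _ (IsCharP.of_hom (pullback.fst πY f) p)) :
    @IsPerfection _ _ (pullback.snd πY f) p _ (IsCharP.of_hom (pullback.fst πY f) p) := by
  haveI : IsCharP (pullback πY f) p := IsCharP.of_hom (pullback.fst πY f) p
  refine ⟨hP, ?_⟩
  intro T _ hT
  constructor
  · intro a b hab
    have hab' : a ≫ pullback.snd πY f = b ≫ pullback.snd πY f := hab
    apply pullback.hom_ext
    · apply hom_ext_of_isPerfection p hY hT
      rw [Category.assoc, Category.assoc, pullback.condition, ← Category.assoc, ← Category.assoc,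
        hab']
    · exact hab'
  · intro c
    obtain ⟨d, hd⟩ := exists_lift_of_isPerfection p hY hT (c ≫ f)
    exact ⟨pullback.lift d c hd, pullback.lift_snd _ _ _⟩

/-- The perfection of an étale morphism is its base change along the perfection of the target. -/
theorem isPullback_perfection_of_etale {X Y XP YP : Scheme.{u}}
    [IsCharP X p] [IsCharP Y p] [IsCharP XP p] [IsCharP YP p]
    (πX : XP ⟶ X) (πY : YP ⟶ Y) (hX : IsPerfection πX p) (hY : IsPerfection πY p)
    (f : X ⟶ Y) (fP : XP ⟶ YP) (w : fP ≫ πY = πX ≫ f) [Etale f] :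
    IsPullback fP πX πY f := by
  haveI : IsCharP (pullback πY f) p := IsCharP.of_hom (pullback.fst πY f) p
  have hPperf : IsPerfect (pullback πY f) p := isPerfect_of_etale p (pullback.fst πY f) hY.1
  have hP := isPerfection_pullback_snd_of_isPerfect p hY f hPperf
  obtain ⟨e, he⟩ := exists_iso_of_isPerfection p hX hP
  have hfP : e.hom ≫ pullback.fst πY f = fP := by
    apply hom_ext_of_isPerfection p hY hX.1
    rw [w, Category.assoc, pullback.condition, ← Category.assoc, he]
  exact IsPullback.of_iso_pullback ⟨w⟩ e hfP he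


section FrobInt

variable (X : Scheme.{u}) [IsCharP X p]

/-- The absolute Frobenius is affine. -/
instance isAffineHom_frob : IsAffineHom (frob X p) :=
  ⟨fun _ hU => hU⟩

/-- The absolute Frobenius is integral. -/
instance isIntegralHom_frob : IsIntegralHom (frob X p) := by
  rw [isIntegralHom_iff]
  refine ⟨inferInstance, fun U _ s => ?_⟩
  letI := ((frob X p).app U).hom.toAlgebra
  have h1 : IsIntegral Γ(X, U) (s ^ p) := by
    have : s ^ p = algebraMap Γ(X, U) Γ(X, (frob X p) ⁻¹ᵁ U) s := rfl
    rw [this]
    exact isIntegral_algebraMap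
  exact IsIntegral.of_pow (Fact.out : p.Prime).pos h1

instance surjective_frob : Surjective (frob X p) := ⟨fun x => ⟨x, rfl⟩⟩

/-- The absolute Frobenius is a universal homeomorphism. -/
theorem isUnivHomeo_frob : FlatMor.IsUnivHomeo (frob X p) := by
  haveI := universallyInjective_frob p X
  exact isUnivHomeo_of _

theorem residueFieldMap_isPurelyInseparable_of_universallyInjective {X Y : Scheme.{u}} (f : X ⟶ Y)
    [UniversallyInjective f] (x : X) : (f.residueFieldMap x).hom.IsPurelyInseparable := by
  have htfae := (tfae_universallyInjective f).out 0 2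
  exact (htfae.mp ‹_›).2 x

end FrobInt

section RelFrob

variable {X S : Scheme.{u}} [IsCharP S p] (f : X ⟶ S)

theorem relFrob_props :
    UniversallyInjective (relFrob f p) ∧ IsIntegralHom (relFrob f p) ∧ Surjective (relFrob f p) := by
  haveI : IsCharP X p := IsCharP.of_hom f p
  haveI := universallyInjective_frob p X
  haveI := universallyInjective_frob p S
  have hfst : relFrob f p ≫ pullback.fst f (frob S p) = frob X p := relFrob_fst f p
  haveI : UniversallyInjective (relFrob f p ≫ pullback.fst f (frob S p)) := by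
    rw [hfst]; infer_instance
  haveI : IsIntegralHom (relFrob f p ≫ pullback.fst f (frob S p)) := by
    rw [hfst]; infer_instance
  haveI : UniversallyInjective (pullback.fst f (frob S p)) :=
    UniversallyInjective.isStableUnderBaseChange.of_isPullback
      (IsPullback.of_hasPullback f (frob S p)).flip inferInstance
  refine ⟨universallyInjective_of_comp _ (pullback.fst f (frob S p)),
    IsIntegralHom.of_comp _ (pullback.fst f (frob S p)), ⟨fun y => ?_⟩⟩
  refine ⟨pullback.fst f (frob S p) y, ?_⟩
  apply (pullback.fst f (frob S p)).injective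
  rw [← Scheme.Hom.comp_apply, hfst]
  rfl

end RelFrob

end Groth.Agent.H72.Perf
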