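import Mathlib

/-!
# The polynomial grading on a ring presented as a polynomial ring (helper72)
-/

set_option autoImplicit false
universe u

open Polynomial

namespace Groth.Agent.H72.PolyProj

section Grading

variable {A B : Type u} [CommRing A] [CommRing B] (ι : A →+* B) (z : B)

/-- the additive map `a ↦ ι a * z ^ n` -/
def monoHom (n : ℕ) : A →+ B where
  toFun a := ι a * z ^ n
  map_zero' := by rw [map_zero, zero_mul]
  map_add' a b := by rw [map_add, add_mul]

/-- the degree `n` part: the elements `ι a * z ^ n` -/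
def polyDeg (n : ℕ) : AddSubgroup B := (monoHom ι z n).range

theorem mem_polyDeg {n : ℕ} {b : B} : b ∈ polyDeg ι z n ↔ ∃ a : A, ι a * z ^ n = b := Iff.rfl

theorem mul_pow_mem (a : A) (n : ℕ) : ι a * z ^ n ∈ polyDeg ι z n := ⟨a, rfl⟩

theorem map_mem_zero (a : A) : ι a ∈ polyDeg ι z 0 := ⟨a, by
  change ι a * z ^ 0 = ι a
  rw [pow_zero, mul_one]⟩

theorem z_mem_one : z ∈ polyDeg ι z 1 := ⟨1, by
  change ι 1 * z ^ 1 = z
  rw [map_one, one_mul, pow_one]⟩

instance gradedMonoid : SetLike.GradedMonoid (polyDeg ι z) where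
  one_mem := ⟨1, by
    change ι 1 * z ^ 0 = 1
    rw [map_one, one_mul, pow_zero]⟩
  mul_mem := by
    rintro m n _ _ ⟨a, rfl⟩ ⟨b, rfl⟩
    refine ⟨a * b, ?_⟩
    change ι (a * b) * z ^ (m + n) = (ι a * z ^ m) * (ι b * z ^ n)
    rw [map_mul, pow_add]
    ring

variable (hbij : Function.Bijective (Polynomial.eval₂RingHom ι z))

/-- the additive map `a ↦ ι a * z ^ n` into the degree `n` part -/
def monoHom' (n : ℕ) : A →+ polyDeg ι z n where
  toFun a := ⟨ι a * z ^ n, a, rfl⟩
  map_zero' := Subtype.ext (by
    change ι 0 * z ^ n = 0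
    rw [map_zero, zero_mul])
  map_add' a b := Subtype.ext (by
    change ι (a + b) * z ^ n = ι a * z ^ n + ι b * z ^ n
    rw [map_add, add_mul])

/-- decomposition of a polynomial -/
noncomputable def decPoly : A[X] →+ DirectSum ℕ (fun n => polyDeg ι z n) where
  toFun p := p.sum (fun n a => DirectSum.of (fun n => polyDeg ι z n) n (monoHom' ι z n a))
  map_zero' := Polynomial.sum_zero_index _
  map_add' p q := Polynomial.sum_add_index p q _ (fun n => by rw [map_zero, map_zero])
    (fun n a b => by rw [map_add, map_add])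

theorem decPoly_monomial (n : ℕ) (a : A) :
    decPoly ι z (Polynomial.monomial n a) =
      DirectSum.of (fun n => polyDeg ι z n) n ⟨ι a * z ^ n, a, rfl⟩ := by
  change (Polynomial.monomial n a).sum
    (fun n a => DirectSum.of (fun n => polyDeg ι z n) n (monoHom' ι z n a)) = _
  rw [Polynomial.sum_monomial_index a _ (by rw [map_zero, map_zero])]
  rfl

include hbij in
theorem eval_injective : Function.Injective (Polynomial.eval₂ ι z) := hbij.1

/-- the decomposition -/
noncomputable def decB : B →+ DirectSum ℕ (fun n => polyDeg ι z n) :=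
  (decPoly ι z).comp (RingEquiv.ofBijective _ hbij).symm.toAddEquiv.toAddMonoidHom

theorem decB_eval (p : A[X]) : decB ι z hbij (Polynomial.eval₂ ι z p) = decPoly ι z p := by
  unfold decB
  rw [AddMonoidHom.comp_apply]
  congr 1
  exact (RingEquiv.ofBijective _ hbij).symm_apply_apply p

theorem eval₂_monomial' (n : ℕ) (a : A) :
    Polynomial.eval₂ ι z (Polynomial.monomial n a) = ι a * z ^ n :=
  Polynomial.eval₂_monomial ι z

noncomputable def decomposition : DirectSum.Decomposition (polyDeg ι z) := by
  refine DirectSum.Decomposition.ofAddHom (polyDeg ι z) (decB ι z hbij) ?_ ?_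
  · -- left inverse
    have hsurj : Function.Surjective (Polynomial.eval₂RingHom ι z) := hbij.2
    ext b
    obtain ⟨p, rfl⟩ := hsurj b
    change (DirectSum.coeAddMonoidHom (polyDeg ι z)) (decB ι z hbij (Polynomial.eval₂ ι z p)) =
      Polynomial.eval₂ ι z p
    rw [decB_eval]
    induction p using Polynomial.induction_on' with
    | add p q hp hq => rw [map_add, map_add, hp, hq, Polynomial.eval₂_add]
    | monomial n a =>
      rw [decPoly_monomial, DirectSum.coeAddMonoidHom_of, eval₂_monomial']
  · -- right inverse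
    apply DirectSum.addHom_ext
    rintro n ⟨b, a, rfl⟩
    change decB ι z hbij ((DirectSum.coeAddMonoidHom (polyDeg ι z))
      (DirectSum.of (fun n => polyDeg ι z n) n ⟨monoHom ι z n a, a, rfl⟩)) =
      DirectSum.of (fun n => polyDeg ι z n) n ⟨monoHom ι z n a, a, rfl⟩
    rw [DirectSum.coeAddMonoidHom_of]
    change decB ι z hbij (ι a * z ^ n) = _
    rw [← eval₂_monomial', decB_eval, decPoly_monomial]
    rfl

/-- the polynomial grading is a ring grading -/
noncomputable def gradedRing : GradedRing (polyDeg ι z) :=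
  letI := decomposition ι z hbij
  { gradedMonoid ι z with }

include hbij in
/-- the ring is generated by the parts of degree `0` and `1` -/
theorem closure_eq_top :
    Subring.closure ((polyDeg ι z 0 : Set B) ∪ (polyDeg ι z 1 : Set B)) = ⊤ := by
  rw [eq_top_iff]
  intro b _
  obtain ⟨p, rfl⟩ := hbij.2 b
  change Polynomial.eval₂ ι z p ∈ _
  rw [Polynomial.eval₂_eq_sum_range]
  have hz : z ∈ Subring.closure ((polyDeg ι z 0 : Set B) ∪ (polyDeg ι z 1 : Set B)) :=
    Subring.subset_closure (Or.inr (z_mem_one ι z))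
  have ha : ∀ a : A, ι a ∈ Subring.closure ((polyDeg ι z 0 : Set B) ∪ (polyDeg ι z 1 : Set B)) :=
    fun a => Subring.subset_closure (Or.inl (map_mem_zero ι z a))
  refine sum_mem fun n _ => ?_
  exact mul_mem (ha _) (pow_mem hz n)

end Grading

section Sym

variable (R : Type u) [CommRing R]

/-- the symmetric algebra of the free module of rank one is the polynomial ring -/
theorem bijective_eval₂_symmetricAlgebra :
    Function.Bijective (Polynomial.eval₂RingHom (algebraMap R (SymmetricAlgebra R R))
      (SymmetricAlgebra.ι R R 1)) := by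
  let φ : R[X] →ₐ[R] SymmetricAlgebra R R := Polynomial.aeval (SymmetricAlgebra.ι R R 1)
  let ψ : SymmetricAlgebra R R →ₐ[R] R[X] :=
    SymmetricAlgebra.lift (LinearMap.toSpanSingleton R R[X] Polynomial.X)
  have h1 : ψ.comp φ = AlgHom.id R R[X] := by
    apply Polynomial.algHom_ext
    change ψ (Polynomial.aeval (SymmetricAlgebra.ι R R 1) Polynomial.X) = Polynomial.X
    rw [Polynomial.aeval_X]
    change SymmetricAlgebra.lift (LinearMap.toSpanSingleton R R[X] Polynomial.X)
      (SymmetricAlgebra.ι R R 1) = Polynomial.X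
    rw [SymmetricAlgebra.lift_ι_apply, LinearMap.toSpanSingleton_apply, one_smul]
  have h2 : φ.comp ψ = AlgHom.id R (SymmetricAlgebra R R) := by
    apply SymmetricAlgebra.algHom_ext
    ext
    change φ (SymmetricAlgebra.lift (LinearMap.toSpanSingleton R R[X] Polynomial.X)
      (SymmetricAlgebra.ι R R 1)) = SymmetricAlgebra.ι R R 1
    rw [SymmetricAlgebra.lift_ι_apply, LinearMap.toSpanSingleton_apply, one_smul]
    exact Polynomial.aeval_X _
  have hφ : (φ : R[X] → SymmetricAlgebra R R) =
      Polynomial.eval₂RingHom (algebraMap R (SymmetricAlgebra R R)) (SymmetricAlgebra.ι R R 1) := by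
    rfl
  rw [← hφ]
  refine ⟨fun p q hpq => ?_, fun s => ⟨ψ s, ?_⟩⟩
  · have := congrArg ψ hpq
    change (ψ.comp φ) p = (ψ.comp φ) q at this
    rwa [h1] at this
  · change (φ.comp ψ) s = s
    rw [h2]
    rfl

end Sym

end Groth.Agent.H72.PolyProj
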