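import Groth.Agent.H72.PolyProjA
import Groth.Agent.Lib.Helper18.SymQC5
import Groth.Agent.Lib.Helper45.RegularSections
import Groth.Prelude.Def_RelProj

/-!
# The polynomial algebra `f_* O_X [z]` as a quasi-coherent graded algebra (helper72)
-/

set_option autoImplicit false
set_option linter.style.haveILetI false
universe u

open AlgebraicGeometry CategoryTheory Limits TopologicalSpace Opposite Polynomial

namespace Groth.Agent.H72.PolyProj

open Groth.Agent.Lib.Helper18.SymQC Groth.Agent.Lib.Helper49 RelSpec

section General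

variable {R M : Type u} [CommRing R] [AddCommGroup M] [Module R M] (e : R ≃ₗ[R] M)

/-- the symmetric algebra of a free module of rank one is the polynomial ring -/
theorem bijective_eval₂_symmetricAlgebra' :
    Function.Bijective (Polynomial.eval₂RingHom (algebraMap R (SymmetricAlgebra R M))
      (SymmetricAlgebra.ι R M (e 1))) := by
  let φ : R[X] →ₐ[R] SymmetricAlgebra R M := Polynomial.aeval (SymmetricAlgebra.ι R M (e 1))
  let ψ : SymmetricAlgebra R M →ₐ[R] R[X] :=
    SymmetricAlgebra.lift ((LinearMap.toSpanSingleton R R[X] Polynomial.X).comp e.symm.toLinearMap)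
  have hψ : ∀ m : M, ψ (SymmetricAlgebra.ι R M m) = (e.symm m) • (Polynomial.X : R[X]) := by
    intro m
    change SymmetricAlgebra.lift
      ((LinearMap.toSpanSingleton R R[X] Polynomial.X).comp e.symm.toLinearMap)
      (SymmetricAlgebra.ι R M m) = _
    rw [SymmetricAlgebra.lift_ι_apply]
    rfl
  have h1 : ψ.comp φ = AlgHom.id R R[X] := by
    apply Polynomial.algHom_ext
    change ψ (Polynomial.aeval (SymmetricAlgebra.ι R M (e 1)) Polynomial.X) = Polynomial.X
    rw [Polynomial.aeval_X, hψ, LinearEquiv.symm_apply_apply, one_smul]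
  have h2 : φ.comp ψ = AlgHom.id R (SymmetricAlgebra R M) := by
    apply SymmetricAlgebra.algHom_ext
    refine LinearMap.ext fun m => ?_
    change φ (ψ (SymmetricAlgebra.ι R M m)) = SymmetricAlgebra.ι R M m
    rw [hψ, map_smul]
    change (e.symm m) • Polynomial.aeval (SymmetricAlgebra.ι R M (e 1)) Polynomial.X = _
    rw [Polynomial.aeval_X, ← map_smul, ← map_smul, smul_eq_mul, mul_one,
      LinearEquiv.apply_symm_apply]
  have hφ : (φ : R[X] → SymmetricAlgebra R M) =
      Polynomial.eval₂RingHom (algebraMap R (SymmetricAlgebra R M))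
        (SymmetricAlgebra.ι R M (e 1)) := by
    rfl
  rw [← hφ]
  refine ⟨fun p q hpq => ?_, fun s => ⟨ψ s, ?_⟩⟩
  · have := congrArg ψ hpq
    change (ψ.comp φ) p = (ψ.comp φ) q at this
    rwa [h1] at this
  · change (φ.comp ψ) s = s
    rw [h2]
    rfl

end General

section OnX

variable (X : Scheme.{u})

/-- the structure module -/
noncomputable abbrev EE : X.Modules := Coh.structureModule X

instance : (EE X).IsQuasicoherent := Groth.Agent.Lib.Helper45.isQuasicoherent_structureModule X

/-- sections of the structure module are functions -/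
noncomputable def eqv (W : X.Opens) : Γ(X, W) ≃ₗ[Γ(X, W)] Γ(EE X, W) where
  toFun r := r
  invFun m := m
  map_add' _ _ := rfl
  map_smul' _ _ := rfl
  left_inv _ := rfl
  right_inv _ := rfl

/-- the unit section -/
noncomputable def one (W : X.Opens) : Γ(EE X, W) := eqv X W 1

theorem res_one {W W' : X.Opens} (h : W' ≤ W) : ModGlue.res (EE X) h (one X W) = one X W' :=
  map_one (X.presheaf.map (homOfLE h).op).hom

/-- the variable, over the open `W` of `X` -/
noncomputable def zX (W : X.Opens) : Γ(VV (EE X), pp (EE X) ⁻¹ᵁ W) :=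
  toSec (symAlg (EE X)) W ((jHom (EE X)).app W (one X W))

theorem res_zX {W W' : X.Opens} (h : W' ≤ W) :
    ((VV (EE X)).presheaf.map (homOfLE ((pp (EE X)).preimage_mono h)).op).hom (zX X W) =
      zX X W' := by
  have h1 := toSec_res (symAlg (EE X)) h ((jHom (EE X)).app W (one X W))
  have h2 : ModGlue.res (symAlg (EE X)).toModule h ((jHom (EE X)).app W (one X W)) =
      (jHom (EE X)).app W' (ModGlue.res (EE X) h (one X W)) := by
    have := (jHom (EE X)).mapPresheaf.naturality (homOfLE h).op
    exact (congrArg (fun k => k.hom (one X W)) this).symm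
  rw [h2, res_one] at h1
  exact h1.symm

theorem gam_zX (W : X.Opens) (hW : IsAffineOpen W) :
    (gam (EE X) W hW).hom (zX X W) = SymmetricAlgebra.ι Γ(X, W) Γ(EE X, W) (one X W) := by
  unfold zX
  rw [jHom_app (EE X) W hW]
  change (inv (gam (EE X) W hW) ≫ gam (EE X) W hW).hom _ = _
  rw [IsIso.inv_hom_id]
  rfl

theorem hbijX (W : X.Opens) (hW : IsAffineOpen W) :
    Function.Bijective (Polynomial.eval₂RingHom ((pp (EE X)).app W).hom (zX X W)) := by
  have hg : Function.Bijective (gam (EE X) W hW).hom :=
    (ConcreteCategory.isIso_iff_bijective (gam (EE X) W hW)).mp inferInstance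
  have hcomp : ((gam (EE X) W hW).hom : _ →+* _).comp
      (Polynomial.eval₂RingHom ((pp (EE X)).app W).hom (zX X W)) =
      Polynomial.eval₂RingHom (algebraMap Γ(X, W) (SymmetricAlgebra Γ(X, W) Γ(EE X, W)))
        (SymmetricAlgebra.ι Γ(X, W) Γ(EE X, W) (one X W)) := by
    apply Polynomial.ringHom_ext
    · intro a
      rw [RingHom.comp_apply]
      change (gam (EE X) W hW).hom (Polynomial.eval₂ _ _ (Polynomial.C a)) =
        Polynomial.eval₂ _ _ (Polynomial.C a)
      rw [Polynomial.eval₂_C, Polynomial.eval₂_C]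
      exact congrArg (fun k => k.hom a) (pp_app_gam (EE X) W hW)
    · rw [RingHom.comp_apply]
      change (gam (EE X) W hW).hom (Polynomial.eval₂ _ _ Polynomial.X) =
        Polynomial.eval₂ _ _ Polynomial.X
      rw [Polynomial.eval₂_X, Polynomial.eval₂_X, gam_zX]
  have h2 := bijective_eval₂_symmetricAlgebra' (eqv X W)
  have h3 : Function.Bijective ((gam (EE X) W hW).hom ∘
      (Polynomial.eval₂RingHom ((pp (EE X)).app W).hom (zX X W))) := by
    have : ((gam (EE X) W hW).hom ∘
      (Polynomial.eval₂RingHom ((pp (EE X)).app W).hom (zX X W))) =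
      (((gam (EE X) W hW).hom : _ →+* _).comp
      (Polynomial.eval₂RingHom ((pp (EE X)).app W).hom (zX X W))) := rfl
    rw [this, hcomp]
    exact h2
  exact (Function.Bijective.of_comp_iff' hg _).mp h3

end OnX

end Groth.Agent.H72.PolyProj
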