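import Groth.Agent.H72.PolyProjB

/-!
# The polynomial algebra `f_* O_X [z]` as a quasi-coherent graded algebra on the base (helper72)
-/

set_option autoImplicit false
set_option linter.style.haveILetI false
universe u

open AlgebraicGeometry CategoryTheory Limits TopologicalSpace Opposite Polynomial

namespace Groth.Agent.H72.PolyProj

open Groth.Agent.Lib.Helper18.SymQC Groth.Agent.Lib.Helper49 RelSpec

section Alg

variable {R A B : Type u} [CommRing R] [CommRing A] [CommRing B] (φ : R →+* A) (hφ : φ.Finite)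
  (ι : A →+* B) (z : B)

include hφ in
theorem ft_aux : ∃ T : Finset B, (↑T : Set B) ⊆ (polyDeg ι z 1 : Set B) ∧
    ∀ x ∈ polyDeg ι z 1, ∃ c : B → R, x = ∑ t ∈ T, (ι.comp φ) (c t) * t := by
  classical
  letI : Algebra R A := φ.toAlgebra
  have hfin' : Module.Finite R A := hφ
  obtain ⟨G, hG⟩ := hfin'.fg_top
  refine ⟨G.image (fun a => ι a * z ^ 1), ?_, ?_⟩
  · intro t ht
    rw [Finset.coe_image] at ht
    obtain ⟨a, -, rfl⟩ := ht
    exact ⟨a, rfl⟩
  · rintro x ⟨a, rfl⟩
    change ∃ c : B → R, ι a * z ^ 1 = _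
    have ha : a ∈ Submodule.span R (G : Set A) := by rw [hG]; trivial
    let T : Finset B := G.image (fun a => ι a * z ^ 1)
    let P : A → Prop := fun a =>
      ∃ c : B → R, ι a * z ^ 1 = ∑ t ∈ T, (ι.comp φ) (c t) * t
    suffices h : P a from h
    refine Submodule.span_induction (p := fun a _ => P a) ?_ ?_ ?_ ?_ ha
    · intro g hg
      refine ⟨fun t => if t = ι g * z ^ 1 then 1 else 0, ?_⟩
      rw [Finset.sum_eq_single (ι g * z ^ 1)]
      · beta_reduce
        rw [if_pos rfl, map_one, one_mul]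
      · intro t _ ht
        beta_reduce
        rw [if_neg ht, map_zero, zero_mul]
      · intro hn
        exact absurd (Finset.mem_image_of_mem _ hg) hn
    · refine ⟨fun _ => 0, ?_⟩
      rw [map_zero, zero_mul]
      symm
      refine Finset.sum_eq_zero fun t _ => ?_
      rw [map_zero, zero_mul]
    · rintro a b _ _ ⟨c, hc⟩ ⟨c', hc'⟩
      refine ⟨fun t => c t + c' t, ?_⟩
      rw [map_add, add_mul, hc, hc', ← Finset.sum_add_distrib]
      refine Finset.sum_congr rfl fun t _ => ?_
      rw [map_add, add_mul]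
    · rintro r a _ ⟨c, hc⟩
      refine ⟨fun t => r * c t, ?_⟩
      have : r • a = φ r * a := rfl
      rw [this, map_mul, mul_assoc, hc, Finset.mul_sum]
      refine Finset.sum_congr rfl fun t _ => ?_
      rw [map_mul, mul_assoc]
      rfl

end Alg

variable {X Y : Scheme.{u}} (f : X ⟶ Y) [IsAffineHom f]

/-- the underlying quasi-coherent algebra `f_* (O_X[z])` -/
noncomputable abbrev A₀ : QCAlg Y := QCAlg.directImage (pp (EE X) ≫ f)

/-- the variable over the open `U` of `Y` -/
noncomputable def zY (U : Y.Opens) : (A₀ f).presheaf.obj (op U) := zX X (f ⁻¹ᵁ U)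

/-- the inclusion of the coefficients over the open `U` of `Y` -/
noncomputable def ιY (U : Y.Opens) : Γ(X, f ⁻¹ᵁ U) →+* (A₀ f).presheaf.obj (op U) :=
  ((pp (EE X)).app (f ⁻¹ᵁ U)).hom

theorem res_zY {U V : Y.Opens} (i : V ≤ U) :
    ((A₀ f).presheaf.map (homOfLE i).op).hom (zY f U) = zY f V :=
  res_zX X (f.preimage_mono i)

theorem res_ιY {U V : Y.Opens} (i : V ≤ U) (a : Γ(X, f ⁻¹ᵁ U)) :
    ((A₀ f).presheaf.map (homOfLE i).op).hom (ιY f U a) =
      ιY f V ((X.presheaf.map (homOfLE (f.preimage_mono i)).op).hom a) := by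
  have h := (pp (EE X)).naturality (homOfLE (f.preimage_mono i)).op
  exact (congrArg (fun k => k.hom a) h).symm

theorem hbijY (U : Y.Opens) (hU : IsAffineOpen U) :
    Function.Bijective (Polynomial.eval₂RingHom (ιY f U) (zY f U)) :=
  hbijX X (f ⁻¹ᵁ U) (hU.preimage f)

/-- the graded algebra `f_* O_X [z]` -/
noncomputable def Sh : RelProj.QCGrAlg Y where
  toQCAlg := A₀ f
  deg U _ n := polyDeg (ιY f U) (zY f U) n
  graded U hU := gradedRing (ιY f U) (zY f U) (hbijY f U hU)
  map_mem {U V} hU hV i {d} {x} hx := by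
    obtain ⟨a, rfl⟩ := hx
    refine ⟨(X.presheaf.map (homOfLE (f.preimage_mono i)).op).hom a, ?_⟩
    change ιY f V _ * zY f V ^ d = ((A₀ f).presheaf.map (homOfLE i).op).hom (ιY f U a * zY f U ^ d)
    rw [map_mul, map_pow, res_zY, res_ιY]
  str_mem U hU r := by
    refine ⟨(f.app U).hom r, ?_⟩
    change ιY f U _ * zY f U ^ 0 = _
    rw [pow_zero, mul_one]
    rfl

/-- the inclusion of the coefficients -/
noncomputable def ιHom : QCAlg.directImage f ⟶ (Sh f).toQCAlg where
  hom :=
    { app := fun U => (pp (EE X)).app (f ⁻¹ᵁ U.unop)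
      naturality := fun U V i => by
        have h := (pp (EE X)).naturality ((Opens.map f.base).map i.unop).op
        exact h }
  comm := by
    ext U : 2
    rfl

/-- the variable, as a global section -/
noncomputable def zTop : (Sh f).presheaf.obj (op ⊤) := zY f ⊤

theorem hι (U : Y.Opens) (hU : IsAffineOpen U) (a : (QCAlg.directImage f).presheaf.obj (op U)) :
    ((ιHom f).hom.app (op U)).hom a ∈ (Sh f).deg U hU 0 :=
  map_mem_zero (ιY f U) (zY f U) a

theorem hz (U : Y.Opens) (hU : IsAffineOpen U) :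
    ((Sh f).presheaf.map (homOfLE le_top).op).hom (zTop f) ∈ (Sh f).deg U hU 1 := by
  have h : ((Sh f).presheaf.map (homOfLE le_top).op).hom (zTop f) = zY f U := res_zY f le_top
  rw [h]
  exact z_mem_one (ιY f U) (zY f U)

theorem hpoly (U : Y.Opens) (hU : IsAffineOpen U) :
    Function.Bijective (Polynomial.eval₂RingHom ((ιHom f).hom.app (op U)).hom
      (((Sh f).presheaf.map (homOfLE le_top).op).hom (zTop f))) := by
  have h : ((Sh f).presheaf.map (homOfLE le_top).op).hom (zTop f) = zY f U := res_zY f le_top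
  rw [h]
  exact hbijY f U hU

theorem isGenDegOne : (Sh f).IsGenDegOne := fun U hU =>
  closure_eq_top (ιY f U) (zY f U) (hbijY f U hU)

theorem isFTDeg_one [IsFinite f] : (Sh f).IsFTDeg 1 := by
  intro U hU
  have hfin : (f.app U).hom.Finite := IsFinite.finite_app f U hU
  exact ft_aux (f.app U).hom hfin (ιY f U) (zY f U)

end Groth.Agent.H72.PolyProj
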