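import Groth.Agent.H72.PolyProjC
import Groth.Agent.Lib.Helper42.ProjPolyTriv
import Groth.Agent.Lib.Helper42.RelProjGlue
import Groth.Agent.Lib.Helper18.AffineCan

/-!
# A finite morphism is projective (helper72)
-/

set_option autoImplicit false
set_option linter.style.haveILetI false
universe u

open AlgebraicGeometry CategoryTheory Limits TopologicalSpace Opposite Polynomial

namespace Groth.Agent.H72.PolyProj

open RelSpec Groth.Agent.Lib.Helper42

theorem isProjective_of_isFinite {X Y : Scheme.{u}} (f : X ⟶ Y) [IsFinite f] :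
    RelProj.IsProjective f := by
  have hP := RelProjGlue.isRelProj (Sh f)
  have h := ProjPolyTriv.isPolyOver (ιHom f) (hι f) (zTop f) (hz f) (hpoly f)
  obtain ⟨i, hi, -⟩ := existsUnique_coneImm h hP
  have hiso : IsIso i :=
    ProjPolyTriv.isIso_of_isConeImm (ιHom f) (hι f) (zTop f) (hz f) (hpoly f) hP hi
  have hip := coneImm_comp_p h hP hi
  have hcan : IsIso (Groth.Agent.S9380.can f) := Groth.Agent.Lib.Helper18.AffineCan.isIso_can f
  refine ⟨Sh f, _, (RelProjGlue.gluingData (Sh f)).toBase, RelProjGlue.chart (Sh f),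
    asIso (Groth.Agent.S9380.can f ≫ i), isGenDegOne f, isFTDeg_one f, hP, ?_⟩
  rw [asIso_hom, Category.assoc, hip]
  exact Groth.Agent.S9380.can_π f

end Groth.Agent.H72.PolyProj
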