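import Mathlib
import Groth.Agent.Lib.Helper24.UnivOpenAt

/-!
# Base change of the dominant irreducible component (EGA IV 14.?, S4973)

Library of helper72.
-/

set_option autoImplicit false

namespace Groth.Agent.H72.PullbackComponent

open CategoryTheory AlgebraicGeometry Limits TopologicalSpace Topology

universe u

set_option backward.isDefEq.respectTransparency.types false in
theorem isIso_pullback_map {X₀ Y₀ Y X₁ : Scheme.{u}} [IsIntegral Y₀] [IsIntegral Y]
    (g : Y ⟶ Y₀) [IsDominant g] (f₀ : X₀ ⟶ Y₀)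
    (hirr : IsIrreducible (f₀.base ⁻¹' {genericPoint Y₀}))
    (ι : X₁ ⟶ X₀) [IsClosedImmersion ι]
    (hC : Set.range ι.base ∈ irreducibleComponents (X₀ : Type u))
    (hCη : (Set.range ι.base ∩ f₀.base ⁻¹' {genericPoint Y₀}).Nonempty) [IsIntegral (pullback f₀ g)]
    (e₁ : (ι ≫ f₀) ≫ 𝟙 Y₀ = ι ≫ f₀) (e₂ : g ≫ 𝟙 Y₀ = 𝟙 Y ≫ g) :
    IsIso (pullback.map (ι ≫ f₀) g f₀ g ι (𝟙 Y) (𝟙 Y₀) e₁ e₂) := by
  have hci : IsClosedImmersion (pullback.map (ι ≫ f₀) g f₀ g ι (𝟙 Y) (𝟙 Y₀) e₁ e₂) :=
    MorphismProperty.pullbackMap (P := @IsClosedImmersion) (f := ι ≫ f₀) (g := g) (f' := f₀)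
      (g' := g) (i₁ := ι) (i₂ := 𝟙 Y) inferInstance inferInstance rfl (Category.id_comp g).symm
  -- the square exhibiting the map as a base change of `ι`
  have hsq : IsPullback (pullback.map (ι ≫ f₀) g f₀ g ι (𝟙 Y) (𝟙 Y₀) e₁ e₂)
      (pullback.fst (ι ≫ f₀) g) (pullback.fst f₀ g) ι := by
    refine IsPullback.of_right ?_ ?_ (IsPullback.of_hasPullback f₀ g).flip
    · have : pullback.map (ι ≫ f₀) g f₀ g ι (𝟙 Y) (𝟙 Y₀) e₁ e₂ ≫ pullback.snd f₀ g =
          pullback.snd (ι ≫ f₀) g := by
        rw [pullback.lift_snd, Category.comp_id]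
      rw [this]
      exact (IsPullback.of_hasPullback (ι ≫ f₀) g).flip
    · rw [pullback.lift_fst]
  -- the generic point of `Y` maps to the generic point of `Y₀`
  have hgη : g.base (genericPoint Y) = genericPoint Y₀ := by
    have h1 : IsGenericPoint (g.base (genericPoint Y)) (closure (g.base '' Set.univ)) :=
      (genericPoint_spec Y).image g.continuous
    rw [Set.image_univ, g.denseRange.closure_range] at h1
    exact h1.eq (genericPoint_spec Y₀)
  -- a point of the pullback over the generic point of `Y`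
  obtain ⟨x₀, hx₀C, hx₀⟩ := hCη
  have hx₀' : f₀.base x₀ = genericPoint Y₀ := hx₀
  obtain ⟨p, -, hp2⟩ := Scheme.Pullback.exists_preimage_pullback (f := f₀) (g := g) x₀
    (genericPoint Y) (hx₀'.trans hgη.symm)
  -- the generic point of the pullback lies over the generic point of `Y`
  have hξp : genericPoint ↥(pullback f₀ g) ⤳ p :=
    (genericPoint_spec ↥(pullback f₀ g)).specializes (Set.mem_univ _)
  have hsnd : (pullback.snd f₀ g).base (genericPoint ↥(pullback f₀ g)) = genericPoint Y := by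
    have h1 := hξp.map (pullback.snd f₀ g).continuous
    rw [hp2] at h1
    have h2 : genericPoint Y ⤳ (pullback.snd f₀ g).base (genericPoint ↥(pullback f₀ g)) :=
      (genericPoint_spec Y).specializes (Set.mem_univ _)
    exact (h1.antisymm h2).eq
  have hfst : f₀.base ((pullback.fst f₀ g).base (genericPoint ↥(pullback f₀ g))) =
      genericPoint Y₀ := by
    rw [← Scheme.Hom.comp_apply, pullback.condition, Scheme.Hom.comp_apply, hsnd, hgη]
  -- the generic fibre is contained in the component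
  have hCcl : IsClosed (Set.range ι.base) := ι.isClosedEmbedding.isClosed_range
  obtain ⟨ξC, hξC⟩ := QuasiSober.sober hC.1 hCcl
  obtain ⟨p', hp'C, hp'η⟩ : (Set.range ι.base ∩ f₀.base ⁻¹' {genericPoint Y₀}).Nonempty :=
    ⟨x₀, hx₀C, hx₀⟩
  have hξCη : f₀.base ξC = genericPoint Y₀ := by
    have h1 : ξC ⤳ p' := by
      rw [specializes_iff_mem_closure, hξC.def]; exact hp'C
    have h2 := h1.map f₀.continuous
    have hp'η' : f₀.base p' = genericPoint Y₀ := hp'η
    rw [hp'η'] at h2
    have h3 : genericPoint Y₀ ⤳ f₀.base ξC :=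
      (genericPoint_spec Y₀).specializes (Set.mem_univ _)
    exact (h2.antisymm h3).eq
  have hFC : f₀.base ⁻¹' {genericPoint Y₀} ⊆ Set.range ι.base := by
    obtain ⟨ζ, hζ⟩ := QuasiSober.sober hirr.closure isClosed_closure
    have h1 : ξC ∈ closure (f₀.base ⁻¹' {genericPoint Y₀}) := subset_closure hξCη
    rw [← hζ.def] at h1
    have h2 : ζ ⤳ ξC := specializes_iff_mem_closure.mpr h1
    have h3 : closure ({ζ} : Set X₀) ⊆ Set.range ι.base := by
      have h4 : Set.range ι.base ⊆ closure ({ζ} : Set X₀) := by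
        rw [← hξC.def]
        exact specializes_iff_closure_subset.mp h2
      exact (hC.2 isIrreducible_singleton.closure h4)
    exact (subset_closure.trans hζ.def.ge).trans h3
  obtain ⟨x₁, hx₁⟩ := hFC hfst
  obtain ⟨q, hq, -⟩ := Groth.Agent.Lib.Helper24.exists_preimage_of_isPullback hsq
    (genericPoint ↥(pullback f₀ g)) x₁ hx₁.symm
  -- surjectivity
  have hsurj : Surjective (pullback.map (ι ≫ f₀) g f₀ g ι (𝟙 Y) (𝟙 Y₀) e₁ e₂) := by
    constructor
    intro w
    have hcl : IsClosed (Set.range (pullback.map (ι ≫ f₀) g f₀ g ι (𝟙 Y) (𝟙 Y₀) e₁ e₂).base) :=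
      (pullback.map (ι ≫ f₀) g f₀ g ι (𝟙 Y) (𝟙 Y₀) e₁ e₂).isClosedEmbedding.isClosed_range
    have h1 : genericPoint ↥(pullback f₀ g) ⤳ w :=
      (genericPoint_spec ↥(pullback f₀ g)).specializes (Set.mem_univ _)
    exact h1.mem_closed hcl ⟨q, hq⟩
  exact isIso_of_isClosedImmersion_of_surjective _

end Groth.Agent.H72.PullbackComponent
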