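import Mathlib

/-!
# Auxiliary lemmas for refinements of quasi-finite subtrusive morphisms (helper72)

* `mem_nhds_of_isConstructible`: a constructible subset of `Spec R` containing all generizations of
  a point is a neighbourhood of that point.
* `mem_nhds_of_isLocallyConstructible`: the same on a scheme, for locally constructible sets.
* `exists_finite_union`: finitely many opens of `W`, each finite over `U`, are dominated by a single
  scheme finite over `U`.
-/

set_option autoImplicit false
universe u

open CategoryTheory CategoryTheory.Limits AlgebraicGeometry Topology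

namespace Groth.Agent.H72.SubtrQF

/-- a constructible subset of a prime spectrum containing all generizations of `p` is a
neighbourhood of `p` -/
theorem mem_nhds_of_isConstructible {R : Type u} [CommRing R] {Z : Set (PrimeSpectrum R)}
    (hZ : IsConstructible Z) (p : PrimeSpectrum R) (hp : ∀ p' : PrimeSpectrum R, p' ⤳ p → p' ∈ Z) :
    Z ∈ nhds p := by
  obtain ⟨S, _, φ, hφ⟩ := PrimeSpectrum.exists_range_eq_of_isConstructible hZ.compl
  have key : ∃ s : R, s ∉ p.asIdeal ∧ φ s = 0 := by
    by_contra hcon
    push Not at hcon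
    have hdisj : Disjoint ((⊥ : Ideal S) : Set S)
        ((Submonoid.map φ p.asIdeal.primeCompl : Submonoid S) : Set S) := by
      rw [Set.disjoint_left]
      rintro a ha ⟨s, hs, rfl⟩
      have ha' : φ s = 0 := by simpa using ha
      exact hcon s hs ha'
    obtain ⟨q, hq, -, hqd⟩ := Ideal.exists_le_prime_disjoint (⊥ : Ideal S) _ hdisj
    have hle : (PrimeSpectrum.comap φ ⟨q, hq⟩) ⤳ p := by
      rw [← PrimeSpectrum.le_iff_specializes]
      intro r hr
      by_contra hrp
      exact Set.disjoint_left.mp hqd hr ⟨r, hrp, rfl⟩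
    have h1 : PrimeSpectrum.comap φ ⟨q, hq⟩ ∈ Zᶜ := by
      rw [← hφ]
      exact ⟨⟨q, hq⟩, rfl⟩
    exact h1 (hp _ hle)
  obtain ⟨s, hsp, hs0⟩ := key
  refine Filter.mem_of_superset ((PrimeSpectrum.basicOpen s).2.mem_nhds hsp) ?_
  intro q' hq'
  by_contra hq'Z
  have : q' ∈ Zᶜ := hq'Z
  rw [← hφ] at this
  obtain ⟨q, rfl⟩ := this
  apply hq'
  change φ s ∈ q.asIdeal
  rw [hs0]
  exact zero_mem _

/-- a locally constructible subset of a scheme containing all generizations of `u` is a
neighbourhood of `u` -/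
theorem mem_nhds_of_isLocallyConstructible {U : Scheme.{u}} {Z : Set U}
    (hZ : IsLocallyConstructible Z) (u : U) (hu : ∀ u' : U, u' ⤳ u → u' ∈ Z) :
    Z ∈ nhds u := by
  obtain ⟨R, j, _, p, hp⟩ : ∃ (R : CommRingCat.{u}) (j : Spec R ⟶ U), IsOpenImmersion j ∧
      ∃ p : Spec R, j p = u := by
    obtain ⟨p, hp⟩ := U.affineCover.covers u
    exact ⟨_, U.affineCover.f (U.affineCover.idx u), U.affineCover.map_prop _, p, hp⟩
  have hZ' : IsConstructible (j ⁻¹' Z) :=
    (hZ.preimage_of_isOpenEmbedding j.isOpenEmbedding).isConstructible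
  have h1 : j ⁻¹' Z ∈ nhds p := by
    refine mem_nhds_of_isConstructible hZ' p fun p' hp' => ?_
    change j p' ∈ Z
    apply hu
    rw [← hp]
    exact hp'.map j.continuous
  rw [← hp]
  have h2 := j.isOpenEmbedding.isOpenMap.image_mem_nhds h1
  refine Filter.mem_of_superset h2 ?_
  rintro _ ⟨a, ha, rfl⟩
  exact ha

set_option backward.isDefEq.respectTransparency.types false in
/-- finitely many opens of `W`, each finite over `U`, are dominated by a single scheme finite
over `U` -/
theorem exists_finite_union {W U : Scheme.{u}} (s : W ⟶ U) {K : Type*} [Finite K]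
    (V : K → W.Opens) (hV : ∀ k, IsFinite ((V k).ι ≫ s)) :
    ∃ (Q : Scheme.{u}) (r : Q ⟶ W), IsFinite (r ≫ s) ∧ ∀ k, (V k : Set W) ⊆ Set.range r := by
  classical
  haveI := Fintype.ofFinite K
  have key : ∀ F : Finset K, ∃ (Q : Scheme.{u}) (r : Q ⟶ W), IsFinite (r ≫ s) ∧
      ∀ k ∈ F, (V k : Set W) ⊆ Set.range r := by
    intro F
    induction F using Finset.induction_on with
    | empty =>
      refine ⟨∅, Scheme.emptyTo W, inferInstance, fun k hk => ?_⟩
      simp at hk
    | insert a F' _ ih =>
      obtain ⟨Q, r, hr, hsub⟩ := ih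
      haveI := hV a
      refine ⟨Q ⨿ (V a).toScheme, coprod.desc r (V a).ι, ?_, fun k hk => ?_⟩
      · have e : coprod.desc r (V a).ι ≫ s = coprod.desc (r ≫ s) ((V a).ι ≫ s) := by
          ext <;> simp
        rw [e]
        infer_instance
      · rcases Finset.mem_insert.mp hk with rfl | hk'
        · intro w hw
          refine ⟨(coprod.inr : (V k).toScheme ⟶ Q ⨿ (V k).toScheme) ⟨w, hw⟩, ?_⟩
          rw [← Scheme.Hom.comp_apply, coprod.inr_desc]
          rfl
        · intro w hw
          obtain ⟨z, rfl⟩ := hsub k hk' hw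
          refine ⟨(coprod.inl : Q ⟶ Q ⨿ (V a).toScheme) z, ?_⟩
          rw [← Scheme.Hom.comp_apply, coprod.inl_desc]
  obtain ⟨Q, r, hr, hsub⟩ := key Finset.univ
  exact ⟨Q, r, hr, fun k => hsub k (Finset.mem_univ k)⟩

end Groth.Agent.H72.SubtrQF
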