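import Mathlib
import Groth.Agent.H72.SubtrQFA

/-!
# Quasi-finite separated morphisms with finite fibres over a base of dimension `≤ 1`:
  the algebra (helper72)

`exists_basicOpen_inter_eq`: let `R → C` be a homomorphism of Noetherian rings, where chains of
primes of `R` have length at most one, and `E` an open subset of `Spec C` which is closed in every
fibre of `Spec C → Spec R` (in the pointwise form `hfib`).  Then every point `p ∉ E` has a basic
open neighbourhood `D(c)` with `E ∩ D(c)` again a basic open set of `Spec C`.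
-/

set_option autoImplicit false
universe u

open PrimeSpectrum Topology

namespace Groth.Agent.H72.QFAff

/-- a point in the closure of an open subset of a Noetherian spectrum has a generization in it -/
theorem exists_le_of_mem_closure {C : Type u} [CommRing C] [IsNoetherianRing C]
    {E : Set (PrimeSpectrum C)} (hE : IsOpen E)
    {b : PrimeSpectrum C} (hb : b ∈ closure E) : ∃ ξ ∈ E, ξ ≤ b := by
  by_contra hcon
  push Not at hcon
  have hc : IsConstructible Eᶜ :=
    isConstructible_compl.mpr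
      ((TopologicalSpace.NoetherianSpace.isCompact E).isConstructible hE)
  have h1 : Eᶜ ∈ nhds b :=
    Groth.Agent.H72.SubtrQF.mem_nhds_of_isConstructible hc b
      (fun p' hp' hp'E => hcon p' hp'E ((le_iff_specializes _ _).mpr hp'))
  obtain ⟨x, hx1, hx2⟩ := mem_closure_iff_nhds.mp hb _ h1
  exact hx1 hx2

/-- an open set which is relatively closed in a basic open `D(m)` meets it in a basic open -/
theorem exists_basicOpen_eq_of_closure_inter_subset {C : Type u} [CommRing C]
    {E : Set (PrimeSpectrum C)} (hE : IsOpen E) (m : C)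
    (h : closure E ∩ (basicOpen m : Set (PrimeSpectrum C)) ⊆ E) :
    ∃ c' : C, E ∩ (basicOpen m : Set (PrimeSpectrum C)) = basicOpen c' := by
  let L := Localization.Away m
  let emb : PrimeSpectrum L → PrimeSpectrum C := comap (algebraMap C L)
  have hemb : IsOpenEmbedding emb := localization_away_isOpenEmbedding L m
  have hrange : Set.range emb = (basicOpen m : Set (PrimeSpectrum C)) :=
    localization_away_comap_range L m
  have hclopen : IsClopen (emb ⁻¹' E) := by
    refine ⟨?_, hE.preimage hemb.continuous⟩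
    have : emb ⁻¹' E = emb ⁻¹' (closure E) := by
      ext x
      refine ⟨fun hx => subset_closure hx, fun hx => h ⟨hx, ?_⟩⟩
      rw [← hrange]
      exact ⟨x, rfl⟩
    rw [this]
    exact isClosed_closure.preimage hemb.continuous
  obtain ⟨e, -, he⟩ := PrimeSpectrum.isClopen_iff.mp hclopen
  obtain ⟨⟨a, ⟨_, k, rfl⟩⟩, hak⟩ := IsLocalization.surj (Submonoid.powers m) e
  have hak' : e * algebraMap C L (m ^ k) = algebraMap C L a := hak
  have hunit : IsUnit (algebraMap C L (m ^ k)) :=
    IsLocalization.map_units L (⟨m ^ k, k, rfl⟩ : Submonoid.powers m)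
  refine ⟨a * m, ?_⟩
  ext q
  simp only [Set.mem_inter_iff, SetLike.mem_coe, mem_basicOpen]
  constructor
  · rintro ⟨hqE, hqm⟩
    have hq' : q ∈ Set.range emb := by rw [hrange]; exact hqm
    obtain ⟨x, rfl⟩ := hq'
    have hx : x ∈ emb ⁻¹' E := hqE
    rw [he] at hx
    have hex : e ∉ x.asIdeal := hx
    intro ham
    rcases q_prime_mem_or (x := x) ham with h1 | h1
    · have : algebraMap C L a ∈ x.asIdeal := h1
      rw [← hak'] at this
      rcases x.2.mem_or_mem this with h2 | h2
      · exact hex h2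
      · exact x.2.ne_top (Ideal.eq_top_of_isUnit_mem _ h2 hunit)
    · exact hqm h1
  · intro ham
    have hqm : m ∉ q.asIdeal := fun hm => ham (Ideal.mul_mem_left _ _ hm)
    have hqa : a ∉ q.asIdeal := fun ha => ham (Ideal.mul_mem_right _ _ ha)
    refine ⟨?_, hqm⟩
    have hq' : q ∈ Set.range emb := by rw [hrange]; exact hqm
    obtain ⟨x, rfl⟩ := hq'
    change x ∈ emb ⁻¹' E
    rw [he]
    change e ∉ x.asIdeal
    intro hex
    apply hqa
    change algebraMap C L a ∈ x.asIdeal
    rw [← hak']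
    exact Ideal.mul_mem_right _ _ hex
where
  q_prime_mem_or {C : Type u} [CommRing C] {L : Type u} [CommRing L] [Algebra C L]
      {x : PrimeSpectrum L} {a m : C}
      (h : a * m ∈ (comap (algebraMap C L) x).asIdeal) :
      algebraMap C L a ∈ x.asIdeal ∨ m ∈ (comap (algebraMap C L) x).asIdeal := by
    have h' : algebraMap C L (a * m) ∈ x.asIdeal := h
    rw [map_mul] at h'
    exact x.2.mem_or_mem h'

/-- in a Noetherian ring whose chains of primes have length at most one, a non-minimal prime `s`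
is cut out, in a basic open neighbourhood `D(g)`, by a single equation `f` -/
theorem exists_isolating {R : Type u} [CommRing R] [IsNoetherianRing R]
    (hD1 : ∀ a b c : PrimeSpectrum R, a ≤ b → b ≤ c → a = b ∨ b = c)
    (s η : PrimeSpectrum R) (hη : η < s) :
    ∃ f g : R, f ∈ s.asIdeal ∧ g ∉ s.asIdeal ∧
      ∀ t : PrimeSpectrum R, f ∈ t.asIdeal → g ∉ t.asIdeal → t = s := by
  classical
  -- `f ∈ s` outside all minimal primes
  have hfin : (minimalPrimes R).Finite := minimalPrimes.finite_of_isNoetherianRing R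
  have hnot : ¬ ((s.asIdeal : Set R) ⊆ ⋃ P ∈ (↑hfin.toFinset : Set (Ideal R)), (id P : Ideal R)) := by
    intro hsub
    rw [Ideal.subset_union_prime (f := id) (⊥ : Ideal R) (⊥ : Ideal R)] at hsub
    · obtain ⟨P, hP, hsP⟩ := hsub
      rw [Set.Finite.mem_toFinset] at hP
      have hP' : P ∈ (⊥ : Ideal R).minimalPrimes := hP
      have hPs : P ≤ s.asIdeal := hP'.2 ⟨s.2, bot_le⟩ hsP
      have hPη : P ≤ η.asIdeal := hP'.2 ⟨η.2, bot_le⟩ (le_trans hη.le hsP)
      have : s ≤ η := fun x hx => hPη (hsP hx)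
      exact (lt_irrefl _ (lt_of_lt_of_le hη this))
    · intro P hP _ _
      rw [Set.Finite.mem_toFinset] at hP
      exact Ideal.minimalPrimes_isPrime hP
  rw [Set.not_subset] at hnot
  obtain ⟨f, hfs, hfmin⟩ := hnot
  have hfmin' : ∀ P ∈ minimalPrimes R, f ∉ P := by
    intro P hP hfP
    apply hfmin
    simp only [Set.mem_iUnion, Finset.mem_coe, Set.Finite.mem_toFinset]
    exact ⟨P, hP, hfP⟩
  -- primes containing `f` are maximal elements
  have hmax : ∀ t : PrimeSpectrum R, f ∈ t.asIdeal → ∀ c : PrimeSpectrum R, t ≤ c → t = c := by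
    intro t hft c htc
    obtain ⟨P, hP, hPt⟩ := Ideal.exists_minimalPrimes_le (I := ⊥) (J := t.asIdeal) bot_le
    have hPprime : P.IsPrime := Ideal.minimalPrimes_isPrime hP
    rcases hD1 ⟨P, hPprime⟩ t c hPt htc with h | h
    · exfalso
      apply hfmin' P hP
      have : P = t.asIdeal := congrArg PrimeSpectrum.asIdeal h
      rw [this]; exact hft
    · exact h
  have hfin2 : (Ideal.span {f}).minimalPrimes.Finite :=
    Ideal.finite_minimalPrimes_of_isNoetherianRing R _
  let F : Finset (Ideal R) := hfin2.toFinset.filter (fun Q => Q ≠ s.asIdeal)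
  have hF : ∀ Q ∈ F, ∃ g : R, g ∈ Q ∧ g ∉ s.asIdeal := by
    intro Q hQ
    rw [Finset.mem_filter, Set.Finite.mem_toFinset] at hQ
    obtain ⟨hQmin, hQs⟩ := hQ
    have hQprime : Q.IsPrime := hQmin.1.1
    have hfQ : f ∈ Q := hQmin.1.2 (Ideal.subset_span (Set.mem_singleton f))
    by_contra hcon
    push Not at hcon
    have hle : (⟨Q, hQprime⟩ : PrimeSpectrum R) ≤ s := fun x hx => hcon x hx
    have := hmax ⟨Q, hQprime⟩ hfQ s hle
    exact hQs (congrArg PrimeSpectrum.asIdeal this)
  choose! gQ hgQ using hF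
  refine ⟨f, ∏ Q ∈ F, gQ Q, hfs, ?_, ?_⟩
  · haveI := s.2
    rw [Ideal.IsPrime.prod_mem_iff]
    rintro ⟨Q, hQ, hg⟩
    exact (hgQ Q hQ).2 hg
  · intro t hft hgt
    have hle : Ideal.span {f} ≤ t.asIdeal := by
      rw [Ideal.span_le, Set.singleton_subset_iff]; exact hft
    obtain ⟨Q, hQmin, hQt⟩ := Ideal.exists_minimalPrimes_le (J := t.asIdeal) hle
    have hQprime : Q.IsPrime := hQmin.1.1
    have hfQ : f ∈ Q := hQmin.1.2 (Ideal.subset_span (Set.mem_singleton f))
    have hQeq : (⟨Q, hQprime⟩ : PrimeSpectrum R) = t := hmax ⟨Q, hQprime⟩ hfQ t hQt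
    by_cases hQs : Q = s.asIdeal
    · rw [← hQeq]
      exact PrimeSpectrum.ext hQs
    · exfalso
      apply hgt
      have hQF : Q ∈ F := by
        rw [Finset.mem_filter, Set.Finite.mem_toFinset]
        exact ⟨hQmin, hQs⟩
      have h1 : gQ Q ∈ t.asIdeal := by
        rw [← hQeq]; exact (hgQ Q hQF).1
      exact Ideal.mem_of_dvd _ (Finset.dvd_prod_of_mem gQ hQF) h1


/-- **Main algebraic lemma.**  `R → C` Noetherian rings, chains of primes of `R` of length at most
one, `E ⊆ Spec C` open and fibrewise closed: every `p ∉ E` has a basic open neighbourhood `D(c)`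
such that `E ∩ D(c)` is a basic open. -/
theorem exists_basicOpen_inter_eq {R C : Type u} [CommRing R] [CommRing C] [IsNoetherianRing R]
    [IsNoetherianRing C] (φ : R →+* C)
    (hD1 : ∀ a b c : PrimeSpectrum R, a ≤ b → b ≤ c → a = b ∨ b = c)
    (E : Set (PrimeSpectrum C)) (hE : IsOpen E)
    (hfib : ∀ p ∉ E, ∃ O : Set (PrimeSpectrum C), IsOpen O ∧ p ∈ O ∧
      ∀ q ∈ O, q ∈ E → comap φ q ≠ comap φ p)
    (p : PrimeSpectrum C) (hp : p ∉ E) :
    ∃ c c' : C, p ∈ (basicOpen c : Set (PrimeSpectrum C)) ∧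
      E ∩ (basicOpen c : Set (PrimeSpectrum C)) = basicOpen c' := by
  classical
  obtain ⟨O, hO, hpO, hOfib⟩ := hfib p hp
  obtain ⟨_, ⟨c₀, rfl⟩, hpc₀, hc₀O⟩ :=
    isTopologicalBasis_basic_opens.exists_subset_of_mem_open hpO hO
  have hpc₀' : c₀ ∉ p.asIdeal := hpc₀
  -- the boundary
  set B : Set (PrimeSpectrum C) := closure E ∩ Eᶜ with hB
  have hBclosed : IsClosed B := isClosed_closure.inter hE.isClosed_compl
  set I : Ideal C := vanishingIdeal B with hI
  have hBI : zeroLocus (I : Set C) = B := by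
    rw [hI, zeroLocus_vanishingIdeal_eq_closure, hBclosed.closure_eq]
  have hfinI : I.minimalPrimes.Finite := Ideal.finite_minimalPrimes_of_isNoetherianRing C I
  -- every point of `B` lies over a point which has a strict generization
  have hkey : ∀ b ∈ B, ∃ η : PrimeSpectrum R, η < comap φ b := by
    intro b hb
    obtain ⟨ξ, hξE, hξb⟩ := exists_le_of_mem_closure hE hb.1
    obtain ⟨Ob, hOb, hbOb, hObfib⟩ := hfib b hb.2
    have hξOb : ξ ∈ Ob := ((le_iff_specializes _ _).mp hξb).mem_open hOb hbOb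
    have hne := hObfib ξ hξOb hξE
    have hle : comap φ ξ ≤ comap φ b := fun x hx => hξb hx
    exact ⟨comap φ ξ, lt_of_le_of_ne hle hne⟩
  -- the minimal primes of `I` not contained in `p`
  let F : Finset (Ideal C) := hfinI.toFinset.filter (fun P => ¬ P ≤ p.asIdeal)
  have hF : ∀ P ∈ F, ∃ a : C, a ∈ P ∧ a ∉ p.asIdeal := by
    intro P hP
    rw [Finset.mem_filter] at hP
    exact Set.not_subset.mp hP.2
  choose! aP haP using hF
  set c₁ : C := c₀ * ∏ P ∈ F, aP P with hc₁
  have hpc₁ : c₁ ∉ p.asIdeal := by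
    haveI := p.2
    intro h
    rcases p.2.mem_or_mem h with h | h
    · exact hpc₀' h
    · rw [Ideal.IsPrime.prod_mem_iff] at h
      obtain ⟨P, hP, hPa⟩ := h
      exact (haP P hP).2 hPa
  -- points of `B ∩ D(c₁)` contain a minimal prime of `I` inside `p`
  have hBc₁ : ∀ q ∈ B, c₁ ∉ q.asIdeal → ∃ P ∈ I.minimalPrimes, P ≤ q.asIdeal ∧ P ≤ p.asIdeal := by
    intro q hq hqc₁
    have hIq : I ≤ q.asIdeal := by
      rw [← hBI] at hq
      exact (mem_zeroLocus _ _).mp hq
    obtain ⟨P, hPmin, hPq⟩ := Ideal.exists_minimalPrimes_le (J := q.asIdeal) hIq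
    refine ⟨P, hPmin, hPq, ?_⟩
    by_contra hPp
    have hPF : P ∈ F := by
      rw [Finset.mem_filter, Set.Finite.mem_toFinset]
      exact ⟨hPmin, hPp⟩
    apply hqc₁
    rw [hc₁]
    apply Ideal.mul_mem_left
    exact Ideal.mem_of_dvd _ (Finset.dvd_prod_of_mem aP hPF) (hPq (haP P hPF).1)
  have hDc₁O : ∀ q : PrimeSpectrum C, c₁ ∉ q.asIdeal → q ∈ O := by
    intro q hq
    apply hc₀O
    change c₀ ∉ q.asIdeal
    intro h
    exact hq (Ideal.mul_mem_right _ _ h)
  by_cases hcase : ∃ P ∈ I.minimalPrimes, P ≤ p.asIdeal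
  · -- there is a boundary component through `p`
    -- every such component lies over `s = comap φ p`
    have hover : ∀ P (hP : P ∈ I.minimalPrimes), P ≤ p.asIdeal →
        comap φ ⟨P, hP.1.1⟩ = comap φ p := by
      intro P hP hPp
      have hPB : (⟨P, hP.1.1⟩ : PrimeSpectrum C) ∈ B := by
        rw [← hBI]
        exact (mem_zeroLocus _ _).mpr hP.1.2
      obtain ⟨η, hη⟩ := hkey _ hPB
      have hle : comap φ ⟨P, hP.1.1⟩ ≤ comap φ p := fun x hx => hPp hx
      rcases hD1 η _ _ hη.le hle with h | h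
      · exact absurd h hη.ne
      · exact h
    obtain ⟨P₀, hP₀, hP₀p⟩ := hcase
    have hP₀B : (⟨P₀, hP₀.1.1⟩ : PrimeSpectrum C) ∈ B := by
      rw [← hBI]
      exact (mem_zeroLocus _ _).mpr hP₀.1.2
    obtain ⟨η, hη⟩ := hkey _ hP₀B
    rw [hover P₀ hP₀ hP₀p] at hη
    obtain ⟨f, g, hfs, hgs, hfg⟩ := exists_isolating hD1 (comap φ p) η hη
    have hφg : φ g ∉ p.asIdeal := hgs
    set m : C := c₁ * φ g * φ f with hm
    have hclos : closure E ∩ (basicOpen m : Set (PrimeSpectrum C)) ⊆ E := by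
      rintro q ⟨hq1, hq2⟩
      by_contra hqE
      have hqm : m ∉ q.asIdeal := hq2
      have hqc₁ : c₁ ∉ q.asIdeal := fun h => hqm (by
        rw [hm, mul_assoc]; exact Ideal.mul_mem_right _ _ h)
      obtain ⟨P, hPmin, hPq, hPp⟩ := hBc₁ q ⟨hq1, hqE⟩ hqc₁
      have h1 := hover P hPmin hPp
      have h2 : comap φ ⟨P, hPmin.1.1⟩ ≤ comap φ q := fun x hx => hPq hx
      rw [h1] at h2
      have h3 : φ f ∈ q.asIdeal := h2 hfs
      exact hqm (by rw [hm]; exact Ideal.mul_mem_left _ _ h3)
    obtain ⟨c', hc'⟩ := exists_basicOpen_eq_of_closure_inter_subset hE m hclos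
    refine ⟨c₁ * φ g, c', ?_, ?_⟩
    · change c₁ * φ g ∉ p.asIdeal
      intro h
      rcases p.2.mem_or_mem h with h | h
      · exact hpc₁ h
      · exact hφg h
    · rw [← hc']
      ext q
      simp only [Set.mem_inter_iff, SetLike.mem_coe, mem_basicOpen]
      constructor
      · rintro ⟨hqE, hqc⟩
        refine ⟨hqE, ?_⟩
        intro hqm
        rw [hm] at hqm
        rcases q.2.mem_or_mem hqm with h | h
        · exact hqc h
        · have hqc₁ : c₁ ∉ q.asIdeal := fun h' => hqc (Ideal.mul_mem_right _ _ h')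
          have hqg : φ g ∉ q.asIdeal := fun h' => hqc (Ideal.mul_mem_left _ _ h')
          have := hfg (comap φ q) h hqg
          exact hOfib q (hDc₁O q hqc₁) hqE this
      · rintro ⟨hqE, hqm⟩
        refine ⟨hqE, ?_⟩
        intro h
        apply hqm
        rw [hm]
        exact Ideal.mul_mem_right _ _ h
  · -- no boundary near `p`
    push Not at hcase
    have hclos : closure E ∩ (basicOpen c₁ : Set (PrimeSpectrum C)) ⊆ E := by
      rintro q ⟨hq1, hq2⟩
      by_contra hqE
      obtain ⟨P, hPmin, -, hPp⟩ := hBc₁ q ⟨hq1, hqE⟩ hq2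
      exact hcase P hPmin hPp
    obtain ⟨c', hc'⟩ := exists_basicOpen_eq_of_closure_inter_subset hE c₁ hclos
    exact ⟨c₁, c', hpc₁, hc'⟩

end Groth.Agent.H72.QFAff
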