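import Mathlib

/-!
# Fibrewise closedness of an open immersion from fibrewise properness (helper72)
-/

set_option autoImplicit false
universe u

open CategoryTheory CategoryTheory.Limits AlgebraicGeometry Topology

namespace Groth.Agent.H72.QFAff

section

variable {X₁ T V S K : Scheme.{u}} (j : X₁ ⟶ T) (π : T ⟶ V) (v : V ⟶ S) (g : K ⟶ S)

/-- the map induced by `j` on base changes along `g` -/
noncomputable abbrev bcTop : pullback (j ≫ π ≫ v) g ⟶ pullback (π ≫ v) g :=
  pullback.map (j ≫ π ≫ v) g (π ≫ v) g j (𝟙 _) (𝟙 _) (by simp) (by simp)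

/-- the map induced by `π` on base changes along `g` -/
noncomputable abbrev bcBot : pullback (π ≫ v) g ⟶ pullback v g :=
  pullback.map (π ≫ v) g v g π (𝟙 _) (𝟙 _) (by simp) (by simp)

theorem bcTop_eq : bcTop j π v g =
    (pullbackRightPullbackFstIso (π ≫ v) g j).inv ≫ pullback.snd j (pullback.fst (π ≫ v) g) := by
  apply pullback.hom_ext
  · rw [Category.assoc, pullbackRightPullbackFstIso_inv_snd_fst]; exact pullback.lift_fst _ _ _
  · rw [Category.assoc, pullbackRightPullbackFstIso_inv_snd_snd]; exact pullback.lift_snd _ _ _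

theorem bcBot_eq : bcBot π v g =
    (pullbackRightPullbackFstIso v g π).inv ≫ pullback.snd π (pullback.fst v g) := by
  apply pullback.hom_ext
  · rw [Category.assoc, pullbackRightPullbackFstIso_inv_snd_fst]; exact pullback.lift_fst _ _ _
  · rw [Category.assoc, pullbackRightPullbackFstIso_inv_snd_snd]; exact pullback.lift_snd _ _ _

theorem range_bcTop : Set.range (bcTop j π v g) = pullback.fst (π ≫ v) g ⁻¹' Set.range j := by
  rw [bcTop_eq, Scheme.Hom.comp_base, TopCat.coe_comp, Set.range_comp,
    Set.range_eq_univ.mpr (pullbackRightPullbackFstIso (π ≫ v) g j).inv.surjective, Set.image_univ,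
    Scheme.Pullback.range_snd]

/-- if `X₁ ⟶ V` becomes universally closed after the base change `g` and `π` is separated, then the
preimage of the image of `j` is closed in the base change of `T` -/
theorem isClosed_preimage_range [IsSeparated π]
    (hprop : UniversallyClosed (pullback.map (j ≫ π ≫ v) g v g (j ≫ π) (𝟙 _) (𝟙 _)
      (by simp) (by simp))) :
    IsClosed (pullback.fst (π ≫ v) g ⁻¹' Set.range j) := by
  haveI : IsSeparated (bcBot π v g) := by rw [bcBot_eq]; infer_instance
  have hab : bcTop j π v g ≫ bcBot π v g =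
      pullback.map (j ≫ π ≫ v) g v g (j ≫ π) (𝟙 _) (𝟙 _) (by simp) (by simp) := by
    apply pullback.hom_ext
    · rw [Category.assoc, pullback.lift_fst, pullback.lift_fst_assoc, pullback.lift_fst,
        Category.assoc]
    · simp only [Category.assoc, pullback.lift_snd, pullback.lift_snd_assoc, Category.comp_id]
  haveI : UniversallyClosed (bcTop j π v g ≫ bcBot π v g) := by rw [hab]; exact hprop
  haveI : UniversallyClosed (bcTop j π v g) :=
    UniversallyClosed.of_comp_of_isSeparated (bcTop j π v g) (bcBot π v g)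
  rw [← range_bcTop]
  exact (bcTop j π v g).isClosedMap.isClosed_range

end

/-- pointwise form over the residue field of a point `s` -/
theorem exists_open_of_universallyClosed {X₁ T V S : Scheme.{u}} (j : X₁ ⟶ T) (π : T ⟶ V)
    [IsSeparated π] (v : V ⟶ S) (s : S)
    (hprop : UniversallyClosed (pullback.map (j ≫ π ≫ v) (S.fromSpecResidueField s) v
      (S.fromSpecResidueField s) (j ≫ π) (𝟙 _) (𝟙 _) (by simp) (by simp)))
    (p : T) (hps : (π ≫ v) p = s) (hp : p ∉ Set.range j) :
    ∃ O : T.Opens, p ∈ O ∧ ∀ q ∈ O, q ∈ Set.range j → (π ≫ v) q ≠ s := by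
  have hcl := isClosed_preimage_range j π v (S.fromSpecResidueField s) hprop
  have hemb : IsEmbedding ((π ≫ v).fiberι s) := ((π ≫ v).fiberι s).isEmbedding
  have hcl' : IsClosed ((π ≫ v).fiberι s ⁻¹' Set.range j) := hcl
  obtain ⟨W, hW, hWeq⟩ := hemb.isInducing.isOpen_iff.mp hcl'.isOpen_compl
  have hrange : Set.range ((π ≫ v).fiberι s) = (π ≫ v) ⁻¹' {s} := (π ≫ v).range_fiberι s
  obtain ⟨p', hp'⟩ : p ∈ Set.range ((π ≫ v).fiberι s) := by rw [hrange]; exact hps
  refine ⟨⟨W, hW⟩, ?_, ?_⟩
  · change p ∈ W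
    rw [← hp']
    change p' ∈ (π ≫ v).fiberι s ⁻¹' W
    rw [hWeq]
    intro h
    apply hp
    rw [← hp']
    exact h
  · intro q hqW hqj hqs
    obtain ⟨q', hq'⟩ : q ∈ Set.range ((π ≫ v).fiberι s) := by rw [hrange]; exact hqs
    have h1 : q' ∈ (π ≫ v).fiberι s ⁻¹' W := by
      change (π ≫ v).fiberι s q' ∈ W
      rw [hq']; exact hqW
    rw [hWeq] at h1
    apply h1
    change (π ≫ v).fiberι s q' ∈ Set.range j
    rw [hq']; exact hqj

end Groth.Agent.H72.QFAff
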