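import Mathlib
import Groth.Agent.H72.QFAffAlg

/-!
# Open immersions which are fibrewise closed over a base of dimension `≤ 1` are affine (helper72)
-/

set_option autoImplicit false
universe u

open CategoryTheory CategoryTheory.Limits AlgebraicGeometry Topology

namespace Groth.Agent.H72.QFAff

/-- Let `S` be locally Noetherian in which every chain of specializations has length at most one,
`τ : T ⟶ S` locally of finite type and `j : X ⟶ T` an open immersion whose image is closed in every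
fibre of `τ` (pointwise form `hfib`).  Then `j` is affine. -/
theorem isAffineHom_of_fibrewise_closed {X T S : Scheme.{u}} [IsLocallyNoetherian S]
    (hD1 : ∀ a b c : S, a ⤳ b → b ⤳ c → a = b ∨ b = c)
    (τ : T ⟶ S) [LocallyOfFiniteType τ] (j : X ⟶ T) [IsOpenImmersion j]
    (hfib : ∀ p : T, p ∉ Set.range j → ∃ O : T.Opens, p ∈ O ∧
      ∀ q ∈ O, q ∈ Set.range j → τ q ≠ τ p) :
    IsAffineHom j := by
  haveI : IsLocallyNoetherian T := LocallyOfFiniteType.isLocallyNoetherian τ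
  apply isAffineHom_of_forall_exists_isAffineOpen
  intro p
  by_cases hp : p ∈ Set.range j
  · obtain ⟨_, ⟨N, hN, rfl⟩, hpN, hNj⟩ :=
      T.isBasis_affineOpens.exists_subset_of_mem_open
        (show p ∈ (j.opensRange : Set T) from hp) j.opensRange.2
    exact ⟨N, hpN, hN, IsAffineOpen.preimage_of_isOpenImmersion hN j hNj⟩
  · obtain ⟨_, ⟨S₀, hS₀, rfl⟩, hpS₀, -⟩ :=
      S.isBasis_affineOpens.exists_subset_of_mem_open (Set.mem_univ (τ p)) isOpen_univ
    obtain ⟨_, ⟨N₀, hN₀, rfl⟩, hpN₀, hN₀S₀⟩ :=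
      T.isBasis_affineOpens.exists_subset_of_mem_open
        (show p ∈ ((τ ⁻¹ᵁ S₀ : T.Opens) : Set T) from hpS₀) (τ ⁻¹ᵁ S₀).2
    have hle : N₀ ≤ τ ⁻¹ᵁ S₀ := hN₀S₀
    replace hS₀ : IsAffineOpen S₀ := hS₀
    replace hN₀ : IsAffineOpen N₀ := hN₀
    haveI : IsNoetherianRing Γ(S, S₀) := IsLocallyNoetherian.component_noetherian ⟨S₀, hS₀⟩
    haveI : IsNoetherianRing Γ(T, N₀) := IsLocallyNoetherian.component_noetherian ⟨N₀, hN₀⟩
    have hcomm : Spec.map (τ.appLE S₀ N₀ hle) ≫ hS₀.fromSpec = hN₀.fromSpec ≫ τ :=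
      IsAffineOpen.SpecMap_appLE_fromSpec τ hS₀ hN₀ hle
    have hcomm' : ∀ q : Spec Γ(T, N₀), hS₀.fromSpec (Spec.map (τ.appLE S₀ N₀ hle) q) =
        τ (hN₀.fromSpec q) := by
      intro q
      have e1 := congrArg (fun f : Spec Γ(T, N₀) ⟶ S => f q) hcomm
      simpa only [Scheme.Hom.comp_apply] using e1
    -- chains of primes of `Γ(S, S₀)`
    have hD1'' : ∀ a b c : Spec Γ(S, S₀), a ⤳ b → b ⤳ c → a = b ∨ b = c := by
      intro a b c hab hbc
      have h1 : hS₀.fromSpec a ⤳ hS₀.fromSpec b := hab.map hS₀.fromSpec.continuous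
      have h2 : hS₀.fromSpec b ⤳ hS₀.fromSpec c := hbc.map hS₀.fromSpec.continuous
      rcases hD1 _ _ _ h1 h2 with h | h
      · exact Or.inl ((Scheme.Hom.isOpenEmbedding hS₀.fromSpec).injective h)
      · exact Or.inr ((Scheme.Hom.isOpenEmbedding hS₀.fromSpec).injective h)
    have hD1' : ∀ a b c : PrimeSpectrum Γ(S, S₀), a ≤ b → b ≤ c → a = b ∨ b = c :=
      fun a b c hab hbc => hD1'' a b c ((PrimeSpectrum.le_iff_specializes a b).mp hab)
        ((PrimeSpectrum.le_iff_specializes b c).mp hbc)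
    -- the open set `E`
    set E : Set (Spec Γ(T, N₀)) := hN₀.fromSpec ⁻¹' (Set.range j) with hEdef
    have hE : IsOpen E := j.opensRange.2.preimage hN₀.fromSpec.continuous
    have hEfib' : ∀ p' : Spec Γ(T, N₀), p' ∉ E → ∃ O : Set (Spec Γ(T, N₀)), IsOpen O ∧ p' ∈ O ∧
        ∀ q ∈ O, q ∈ E → Spec.map (τ.appLE S₀ N₀ hle) q ≠ Spec.map (τ.appLE S₀ N₀ hle) p' := by
      intro p' hp'
      obtain ⟨O, hpO, hO⟩ := hfib (hN₀.fromSpec p') hp'
      refine ⟨hN₀.fromSpec ⁻¹' (O : Set T), O.2.preimage hN₀.fromSpec.continuous, hpO, ?_⟩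
      intro q hqO hqE heq
      apply hO (hN₀.fromSpec q) hqO hqE
      rw [← hcomm' q, ← hcomm' p', heq]
    have hEfib : ∀ p' ∉ (E : Set (PrimeSpectrum Γ(T, N₀))),
        ∃ O : Set (PrimeSpectrum Γ(T, N₀)), IsOpen O ∧ p' ∈ O ∧
        ∀ q ∈ O, q ∈ (E : Set (PrimeSpectrum Γ(T, N₀))) →
          PrimeSpectrum.comap (τ.appLE S₀ N₀ hle).hom q ≠
          PrimeSpectrum.comap (τ.appLE S₀ N₀ hle).hom p' := fun p' hp' => hEfib' p' hp'
    obtain ⟨p', hp'⟩ : ∃ p' : Spec Γ(T, N₀), hN₀.fromSpec p' = p := by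
      have : p ∈ Set.range hN₀.fromSpec := by rw [hN₀.range_fromSpec]; exact hpN₀
      exact this
    have hp'E : p' ∉ E := by
      intro h
      apply hp
      rw [← hp']
      exact h
    obtain ⟨c, c', hpc, hcc'⟩ := exists_basicOpen_inter_eq (τ.appLE S₀ N₀ hle).hom hD1' E hE hEfib
      p' hp'E
    refine ⟨T.basicOpen c, ?_, hN₀.basicOpen c, ?_⟩
    · rw [← hN₀.fromSpec_image_basicOpen, ← hp']
      exact ⟨p', hpc, rfl⟩
    · rw [← j.isAffineOpen_iff_of_isOpenImmersion, j.image_preimage_eq_opensRange_inf]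
      have : j.opensRange ⊓ T.basicOpen c = T.basicOpen c' := by
        apply TopologicalSpace.Opens.ext
        rw [← hN₀.fromSpec_image_basicOpen c', ← hN₀.fromSpec_image_basicOpen c]
        change Set.range j ∩ hN₀.fromSpec ''
            ((PrimeSpectrum.basicOpen c : TopologicalSpace.Opens (PrimeSpectrum Γ(T, N₀))) :
              Set (PrimeSpectrum Γ(T, N₀))) =
          hN₀.fromSpec '' ((PrimeSpectrum.basicOpen c' :
            TopologicalSpace.Opens (PrimeSpectrum Γ(T, N₀))) : Set (PrimeSpectrum Γ(T, N₀)))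
        rw [← hcc']
        ext y
        constructor
        · rintro ⟨hy1, z, hz, rfl⟩
          exact ⟨z, ⟨hy1, hz⟩, rfl⟩
        · rintro ⟨z, ⟨hz1, hz2⟩, rfl⟩
          exact ⟨hz1, z, hz2, rfl⟩
      rw [this]
      exact hN₀.basicOpen c'

end Groth.Agent.H72.QFAff
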