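import Mathlib
import Groth.Agent.H72.QFAffSch
import Groth.Agent.H72.QFAffFib

/-!
# Base change of fibre maps, chains of specializations in dimension `≤ 1` (helper72)
-/

set_option autoImplicit false
universe u

open CategoryTheory CategoryTheory.Limits AlgebraicGeometry Topology

namespace Groth.Agent.H72.QFAff

/-- in a `T₀` space of Krull dimension at most one, chains of specializations have length at most
one -/
theorem eq_or_eq_of_specializes_of_krullDim_le_one {S : Type*} [TopologicalSpace S] [T0Space S]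
    (h : topologicalKrullDim S ≤ 1) (a b c : S) (hab : a ⤳ b) (hbc : b ⤳ c) : a = b ∨ b = c := by
  by_contra hcon
  push Not at hcon
  obtain ⟨hab', hbc'⟩ := hcon
  let mk : S → TopologicalSpace.IrreducibleCloseds S := fun x =>
    ⟨closure {x}, isIrreducible_singleton.closure, isClosed_closure⟩
  have hlt : ∀ x y : S, x ⤳ y → x ≠ y → mk y < mk x := by
    intro x y hxy hne
    refine lt_of_le_of_ne ?_ ?_
    · change closure {y} ⊆ closure {x}
      exact specializes_iff_closure_subset.mp hxy
    · intro heq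
      have h1 : closure ({y} : Set S) = closure {x} := congrArg TopologicalSpace.IrreducibleCloseds.carrier heq
      have h2 : y ⤳ x := by
        rw [specializes_iff_closure_subset, h1]
      exact hne ((hxy.antisymm h2).eq)
  let p1 : LTSeries (TopologicalSpace.IrreducibleCloseds S) :=
    (RelSeries.singleton _ (mk c)).snoc (mk b) (hlt b c hbc hbc')
  have hp1 : p1.last = mk b := RelSeries.last_snoc _ _ _
  have hp1l : p1.length = 1 := rfl
  let p : LTSeries (TopologicalSpace.IrreducibleCloseds S) :=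
    p1.snoc (mk a) (by rw [hp1]; exact hlt a b hab hab')
  have h1 : (p.length : WithBot ℕ∞) ≤ topologicalKrullDim S := Order.LTSeries.length_le_krullDim p
  have h2 : p.length = 2 := rfl
  rw [h2] at h1
  have h3 := h1.trans h
  exact absurd h3 (by decide)

/-- **Base change of fibre maps.**  For a cartesian square `X₁ = X ×_Y V` of `S`-schemes and any
`g : K ⟶ S`, the map `X₁ ×_S K ⟶ V ×_S K` is a base change of `X ×_S K ⟶ Y ×_S K`. -/
theorem universallyClosed_of_isPullback {X₁ X V Y S K : Scheme.{u}} {i' : X₁ ⟶ X} {u₁ : X₁ ⟶ V}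
    {u : X ⟶ Y} {i : V ⟶ Y} (sq : IsPullback i' u₁ u i)
    (x₁ : X₁ ⟶ S) (x : X ⟶ S) (v : V ⟶ S) (y : Y ⟶ S)
    (hx : u ≫ y = x) (hv : i ≫ y = v) (hx₁ : u₁ ≫ v = x₁) (g : K ⟶ S)
    (m : pullback x g ⟶ pullback y g) (hm1 : m ≫ pullback.fst y g = pullback.fst x g ≫ u)
    (hm2 : m ≫ pullback.snd y g = pullback.snd x g)
    (m₁ : pullback x₁ g ⟶ pullback v g) (hm₁1 : m₁ ≫ pullback.fst v g = pullback.fst x₁ g ≫ u₁)
    (hm₁2 : m₁ ≫ pullback.snd v g = pullback.snd x₁ g) [UniversallyClosed m] :
    UniversallyClosed m₁ := by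
  subst hx hv hx₁
  -- the square over `u`
  have sqB : IsPullback (pullback.fst (u ≫ y) g) m u (pullback.fst y g) := by
    have s : IsPullback (m ≫ pullback.snd y g) (pullback.fst (u ≫ y) g) g (u ≫ y) := by
      rw [hm2]; exact (IsPullback.of_hasPullback (u ≫ y) g).flip
    exact (IsPullback.of_right s hm1 (IsPullback.of_hasPullback y g).flip).flip
  have sqA : IsPullback (pullback.fst (u₁ ≫ i ≫ y) g) m₁ u₁ (pullback.fst (i ≫ y) g) := by
    have s : IsPullback (m₁ ≫ pullback.snd (i ≫ y) g) (pullback.fst (u₁ ≫ i ≫ y) g) g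
        (u₁ ≫ i ≫ y) := by
      rw [hm₁2]; exact (IsPullback.of_hasPullback (u₁ ≫ i ≫ y) g).flip
    exact (IsPullback.of_right s hm₁1 (IsPullback.of_hasPullback (i ≫ y) g).flip).flip
  have sqC := sqA.paste_horiz sq
  let a : pullback (u₁ ≫ i ≫ y) g ⟶ pullback (u ≫ y) g :=
    pullback.lift (pullback.fst _ _ ≫ i') (pullback.snd _ _) (by
      rw [Category.assoc, ← Category.assoc i', sq.w, Category.assoc, pullback.condition])
  let b : pullback (i ≫ y) g ⟶ pullback y g :=
    pullback.lift (pullback.fst _ _ ≫ i) (pullback.snd _ _) (by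
      rw [Category.assoc, pullback.condition])
  have ha1 : a ≫ pullback.fst (u ≫ y) g = pullback.fst _ _ ≫ i' := pullback.lift_fst _ _ _
  have ha2 : a ≫ pullback.snd (u ≫ y) g = pullback.snd _ _ := pullback.lift_snd _ _ _
  have hb1 : b ≫ pullback.fst y g = pullback.fst _ _ ≫ i := pullback.lift_fst _ _ _
  have hb2 : b ≫ pullback.snd y g = pullback.snd _ _ := pullback.lift_snd _ _ _
  have hp : a ≫ m = m₁ ≫ b := by
    apply pullback.hom_ext
    · rw [Category.assoc, hm1, reassoc_of% ha1, sq.w, Category.assoc, hb1, reassoc_of% hm₁1]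
    · rw [Category.assoc, hm2, ha2, Category.assoc, hb2, hm₁2]
  have sqD : IsPullback a m₁ m b := by
    refine IsPullback.of_right ?_ hp sqB
    rw [ha1, hb1]
    exact sqC
  exact MorphismProperty.of_isPullback (P := @UniversallyClosed) sqD inferInstance

end Groth.Agent.H72.QFAff
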