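import Mathlib
import Groth.Agent.H72.QFAffMain
import Groth.Agent.H72.FinFact

/-!
# Quasi-finite separated morphisms with finite fibres over a base of dimension `≤ 1` are affine
(helper72; SGA 3 XVI-type lemma)
-/

set_option autoImplicit false
universe u

open CategoryTheory CategoryTheory.Limits AlgebraicGeometry Topology

namespace Groth.Agent.H72.QFAff

/-- ZMT in the finite form (as in S0385) -/
theorem exists_zmt {X S : Scheme.{u}} (f : X ⟶ S) [CompactSpace S] [QuasiSeparatedSpace S]
    [LocallyQuasiFinite f] [LocallyOfFiniteType f] [QuasiCompact f] [IsSeparated f] :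
    ∃ (T : Scheme.{u}) (j : X ⟶ T) (π : T ⟶ S), IsOpenImmersion j ∧ IsFinite π ∧ j ≫ π = f := by
  haveI : QuasiCompact (f.toNormalization ≫ f.fromNormalization) := by
    rw [Scheme.Hom.toNormalization_fromNormalization]; infer_instance
  haveI : QuasiCompact f.toNormalization :=
    QuasiCompact.of_comp f.toNormalization f.fromNormalization
  haveI : LocallyOfFiniteType (f.toNormalization ≫ f.fromNormalization) := by
    rw [Scheme.Hom.toNormalization_fromNormalization]; infer_instance
  obtain ⟨T, π, jT, h1, h2, h3⟩ :=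
    Groth.Agent.H72.FinFact.exists_finite_factorization f.fromNormalization f.toNormalization
  rw [Scheme.Hom.toNormalization_fromNormalization] at h3
  exact ⟨T, jT, π, h2, h1, h3⟩

set_option backward.isDefEq.respectTransparency.types false in
/-- **SGA 3, XVI-type lemma.**  `S` locally Noetherian of dimension `≤ 1`, `u : X ⟶ Y` a quasi-finite
separated morphism of `S`-schemes locally of finite type with all fibre maps `u_s` finite: then
`u` is affine. -/
theorem isAffineHom_of_fibres_finite (S : Scheme.{u}) [IsLocallyNoetherian S]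
    (hdim : topologicalKrullDim ↥S ≤ 1)
    (X Y : Over S) [LocallyOfFiniteType X.hom] [LocallyOfFiniteType Y.hom] (u : X ⟶ Y)
    [QuasiCompact u.left] [LocallyQuasiFinite u.left] [IsSeparated u.left]
    (hfin : ∀ s : S, IsFinite ((Over.pullback (S.fromSpecResidueField s)).map u).left) :
    IsAffineHom u.left := by
  have hD1 : ∀ a b c : S, a ⤳ b → b ⤳ c → a = b ∨ b = c :=
    eq_or_eq_of_specializes_of_krullDim_le_one hdim
  rw [IsZariskiLocalAtTarget.iff_of_iSup_eq_top (P := @IsAffineHom) _
    (iSup_affineOpens_eq_top Y.left)]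
  intro V
  haveI : IsAffine (V.1 : Scheme.{u}) := V.2
  haveI : LocallyOfFiniteType (u.left ≫ Y.hom) := by rw [Over.w u]; infer_instance
  haveI : LocallyOfFiniteType u.left := locallyOfFiniteType_of_comp u.left Y.hom
  obtain ⟨T, j, π, hj, hπ, hfac⟩ := exists_zmt (u.left ∣_ V.1)
  rw [← hfac]
  haveI : LocallyOfFiniteType (π ≫ V.1.ι ≫ Y.hom) := inferInstance
  haveI : IsAffineHom j := by
    refine isAffineHom_of_fibrewise_closed hD1 (π ≫ V.1.ι ≫ Y.hom) j ?_
    intro p hp
    have hprop : UniversallyClosed (pullback.map (j ≫ π ≫ V.1.ι ≫ Y.hom)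
        (S.fromSpecResidueField ((π ≫ V.1.ι ≫ Y.hom) p)) (V.1.ι ≫ Y.hom)
        (S.fromSpecResidueField ((π ≫ V.1.ι ≫ Y.hom) p)) (j ≫ π) (𝟙 _) (𝟙 _)
        (by simp) (by simp)) := by
      haveI : UniversallyClosed
          ((Over.pullback (S.fromSpecResidueField ((π ≫ V.1.ι ≫ Y.hom) p))).map u).left := by
        haveI := hfin ((π ≫ V.1.ι ≫ Y.hom) p)
        infer_instance
      refine universallyClosed_of_isPullback
        (i' := (u.left ⁻¹ᵁ V.1).ι) (u₁ := j ≫ π) (u := u.left) (i := V.1.ι)
        (by rw [hfac]; exact (isPullback_morphismRestrict u.left V.1).flip)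
        (j ≫ π ≫ V.1.ι ≫ Y.hom) X.hom (V.1.ι ≫ Y.hom) Y.hom (Over.w u) rfl (Category.assoc _ _ _)
        (S.fromSpecResidueField ((π ≫ V.1.ι ≫ Y.hom) p))
        ((Over.pullback (S.fromSpecResidueField ((π ≫ V.1.ι ≫ Y.hom) p))).map u).left
        (pullback.lift_fst _ _ _) (pullback.lift_snd _ _ _) _
        (pullback.lift_fst _ _ _) ?_
      rw [pullback.lift_snd, Category.comp_id]
    obtain ⟨O, hpO, hO⟩ := exists_open_of_universallyClosed j π
      (V.1.ι ≫ Y.hom) ((π ≫ V.1.ι ≫ Y.hom) p) hprop p rfl hp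
    exact ⟨O, hpO, fun q hq hqj => hO q hq hqj⟩
  infer_instance

end Groth.Agent.H72.QFAff
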