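import Groth.Agent.H72.QfhCover
import Groth.Agent.H8.BlowUpOffCenter

/-!
# An open subscheme of a blow-up that is an h-covering of the base is everything (helper72)
-/

set_option autoImplicit false
set_option linter.style.haveILetI false
universe u

open CategoryTheory CategoryTheory.Limits AlgebraicGeometry Topology TopologicalSpace

namespace Groth.Agent.H72.QfhBlowUp

open Groth.Agent.H72.UODvr Groth.Agent.H72.QfhCover

/-- every point has a generization outside the support of an effective Cartier ideal -/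
theorem exists_generization_notMem_support {X' : Scheme.{u}} (𝓔 : X'.IdealSheafData)
    (h𝓔 : BlowUp.IsEffCartierIdeal 𝓔) (x' : X') : ∃ ξ : X', ξ ⤳ x' ∧ ξ ∉ 𝓔.support := by
  obtain ⟨W, hxW, f, hf, hI⟩ := h𝓔 x'
  have hr : x' ∈ Set.range W.2.fromSpec.base := by rw [W.2.range_fromSpec]; exact hxW
  obtain ⟨𝔭, rfl⟩ := hr
  haveI : (PrimeSpectrum.asIdeal 𝔭).IsPrime := PrimeSpectrum.isPrime 𝔭
  obtain ⟨𝔮, h𝔮, h𝔮𝔭⟩ := Ideal.exists_minimalPrimes_le (bot_le : (⊥ : Ideal Γ(X', W.1)) ≤ 𝔭.asIdeal)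
  have h𝔮prime : 𝔮.IsPrime := h𝔮.1.1
  have hf𝔮 : f ∉ 𝔮 := fun hmem =>
    Set.disjoint_left.mp (Ideal.disjoint_nonZeroDivisors_of_mem_minimalPrimes h𝔮) hmem hf
  let q : PrimeSpectrum Γ(X', W.1) := ⟨𝔮, h𝔮prime⟩
  have hsp : q ⤳ 𝔭 := (PrimeSpectrum.le_iff_specializes q 𝔭).mp h𝔮𝔭
  refine ⟨W.2.fromSpec.base q, hsp.map W.2.fromSpec.continuous, ?_⟩
  have hqW : W.2.fromSpec.base q ∈ W.1 := by
    have : W.2.fromSpec.base q ∈ Set.range W.2.fromSpec.base := ⟨q, rfl⟩
    rwa [W.2.range_fromSpec] at this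
  rw [Scheme.IdealSheafData.mem_support_iff_of_mem hqW, hI, Scheme.zeroLocus_span,
    Scheme.mem_zeroLocus_iff]
  intro hall
  apply hall f rfl
  change q ∈ W.2.fromSpec ⁻¹ᵁ X'.basicOpen f
  rw [W.2.fromSpec_preimage_basicOpen]
  exact hf𝔮

variable {X X' : Scheme.{u}}

/-- morphisms into `X'` landing over the open `V` over which `b` is an isomorphism are
determined by their composite with `b` -/
theorem eq_of_comp_eq (b : X' ⟶ X) (V : X.Opens) [IsIso (b ∣_ V)] {T : Scheme.{u}}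
    (a₁ a₂ : T ⟶ X') (h₁ : ∀ p : T, b.base (a₁.base p) ∈ V) (h : a₁ ≫ b = a₂ ≫ b) :
    a₁ = a₂ := by
  have h₂ : ∀ p : T, b.base (a₂.base p) ∈ V := by
    intro p
    have := h₁ p
    rw [← Scheme.Hom.comp_apply, h, Scheme.Hom.comp_apply] at this
    exact this
  have hr₁ : Set.range a₁.base ⊆ Set.range (b ⁻¹ᵁ V).ι.base := by
    rintro _ ⟨p, rfl⟩
    rw [Scheme.Opens.range_ι]
    exact h₁ p
  have hr₂ : Set.range a₂.base ⊆ Set.range (b ⁻¹ᵁ V).ι.base := by
    rintro _ ⟨p, rfl⟩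
    rw [Scheme.Opens.range_ι]
    exact h₂ p
  have e₁ : IsOpenImmersion.lift (b ⁻¹ᵁ V).ι a₁ hr₁ ≫ (b ⁻¹ᵁ V).ι = a₁ :=
    IsOpenImmersion.lift_fac _ _ _
  have e₂ : IsOpenImmersion.lift (b ⁻¹ᵁ V).ι a₂ hr₂ ≫ (b ⁻¹ᵁ V).ι = a₂ :=
    IsOpenImmersion.lift_fac _ _ _
  have hι : (b ∣_ V) ≫ V.ι = (b ⁻¹ᵁ V).ι ≫ b := morphismRestrict_ι b V
  have hl : IsOpenImmersion.lift (b ⁻¹ᵁ V).ι a₁ hr₁ = IsOpenImmersion.lift (b ⁻¹ᵁ V).ι a₂ hr₂ := by
    rw [← cancel_mono (b ∣_ V), ← cancel_mono V.ι, Category.assoc, Category.assoc, hι,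
      reassoc_of% e₁, reassoc_of% e₂]
    exact h
  rw [← e₁, ← e₂, hl]

set_option backward.isDefEq.respectTransparency.types false in
theorem eq_top_of_univSubmersive [IsLocallyNoetherian X] (𝓘 : X.IdealSheafData) (b : X' ⟶ X)
    [LocallyOfFiniteType b] [IsSeparated b] (hb : BlowUp.IsBlowUp b 𝓘) (U : X'.Opens)
    (hU : SGA1.UnivSubmersive (U.ι ≫ b)) : U = ⊤ := by
  haveI : IsLocallyNoetherian X' := LocallyOfFiniteType.isLocallyNoetherian b
  obtain ⟨V, hV⟩ : ∃ V : X.Opens, V = 𝓘.support.compl := ⟨_, rfl⟩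
  haveI hiso : IsIso (b ∣_ V) := by
    rw [hV]
    exact Groth.Agent.H8.blowUp_isIso_off_center 𝓘 b hb
  rw [eq_top_iff]
  intro x' _
  obtain ⟨ξ, hξx, hξ⟩ := exists_generization_notMem_support (𝓘.comap b) hb.1 x'
  have hbξ : b.base ξ ∈ V := by
    rw [hV]
    intro hmem
    apply hξ
    rw [Scheme.IdealSheafData.support_comap]
    exact hmem
  by_cases hξeq : ξ = x'
  · subst hξeq
    obtain ⟨u, hu⟩ := surjective_of_univSubmersive _ hU (b.base ξ)
    have hu' : b.base (U.ι.base u) = b.base ξ := hu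
    -- both points lie over `V`, where `b` is injective
    have hinj : Function.Injective (b ∣_ V).base :=
      (b ∣_ V).isOpenEmbedding.injective
    have hι : (b ∣_ V) ≫ (V).ι =
        (b ⁻¹ᵁ V).ι ≫ b := morphismRestrict_ι b _
    have hmem₁ : U.ι.base u ∈ b ⁻¹ᵁ V := by
      change b.base (U.ι.base u) ∈ V
      rw [hu']
      exact hbξ
    have hpt : ∀ p : ↥(b ⁻¹ᵁ V),
        (V).ι.base ((b ∣_ V).base p) =
          b.base ((b ⁻¹ᵁ V).ι.base p) := by
      intro p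
      rw [← Scheme.Hom.comp_apply, hι, Scheme.Hom.comp_apply]
    have heq : (⟨U.ι.base u, hmem₁⟩ : ↥(b ⁻¹ᵁ V)) = ⟨ξ, hbξ⟩ := by
      apply hinj
      apply (V).ι.isOpenEmbedding.injective
      rw [hpt, hpt]
      exact hu'
    have : U.ι.base u = ξ := congrArg Subtype.val heq
    rw [← this]
    exact u.2
  · obtain ⟨R, _, _, _, hR, hRcl, hRgen⟩ := exists_dvr_hom ξ x' hξx (Ne.symm hξeq)
    obtain ⟨R', _, _, _, r, hcl', hgen'⟩ := exists_dvr_lift (U.ι ≫ b) hU R (hR ≫ b)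
    obtain ⟨α, hα⟩ : ∃ α : Spec (CommRingCat.of R') ⟶ X',
      α = r ≫ pullback.fst (U.ι ≫ b) (hR ≫ b) ≫ U.ι := ⟨_, rfl⟩
    obtain ⟨β, hβ⟩ : ∃ β : Spec (CommRingCat.of R') ⟶ X',
      β = r ≫ pullback.snd (U.ι ≫ b) (hR ≫ b) ≫ hR := ⟨_, rfl⟩
    have hαβ : α ≫ b = β ≫ b := by
      rw [hα, hβ]
      simp only [Category.assoc]
      rw [pullback.condition]
    -- agreement at the generic point
    let ι' : Spec (CommRingCat.of (FractionRing R')) ⟶ Spec (CommRingCat.of R') :=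
      Spec.map (CommRingCat.ofHom (algebraMap R' (FractionRing R')))
    have hι'pt : ∀ p, ι'.base p = genPt R' := by
      intro p
      apply PrimeSpectrum.ext
      change Ideal.comap (algebraMap R' (FractionRing R')) p.asIdeal = ⊥
      have hp : p.asIdeal = ⊥ := by
        have := p.isPrime
        exact (Ideal.eq_bot_or_top p.asIdeal).resolve_right this.ne_top
      rw [hp]
      exact (RingHom.injective_iff_ker_eq_bot _).mp (IsFractionRing.injective R' (FractionRing R'))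
    have hβgen : β.base (genPt R') = ξ := by
      rw [hβ]
      change hR.base ((r ≫ pullback.snd (U.ι ≫ b) (hR ≫ b)).base (genPt R')) = ξ
      rw [hgen', hRgen]
    have hgenagree : ι' ≫ β = ι' ≫ α := by
      apply eq_of_comp_eq b V
      · intro p
        rw [Scheme.Hom.comp_apply, hι'pt, hβgen]
        exact hbξ
      · rw [Category.assoc, Category.assoc, hαβ]
    -- uniqueness in the valuative criterion
    let Sq : ValuativeCommSq b :=
      { R := R'
        K := FractionRing R'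
        i₁ := ι' ≫ α
        i₂ := α ≫ b
        commSq := ⟨by rw [Category.assoc]⟩ }
    have hsub : Subsingleton Sq.commSq.LiftStruct := IsSeparated.valuativeCriterion b Sq
    let l₁ : Sq.commSq.LiftStruct := ⟨α, rfl, rfl⟩
    let l₂ : Sq.commSq.LiftStruct := ⟨β, hgenagree, hαβ.symm⟩
    have hl : l₁ = l₂ := Subsingleton.elim _ _
    have hαβeq : α = β := congrArg CommSq.LiftStruct.l hl
    have hx' : x' = α.base (IsLocalRing.closedPoint R') := by
      rw [hαβeq, hβ]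
      change x' = hR.base ((r ≫ pullback.snd (U.ι ≫ b) (hR ≫ b)).base (IsLocalRing.closedPoint R'))
      rw [hcl', hRcl]
    rw [hx', hα]
    exact ((r ≫ pullback.fst (U.ι ≫ b) (hR ≫ b)).base (IsLocalRing.closedPoint R')).2

end Groth.Agent.H72.QfhBlowUp
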