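import Groth.Agent.H72.RatDVR
import Groth.Agent.Lib.Helper78.QCSpecialize
import Groth.Agent.Lib.Helper78.DVRScheme

/-!
# Extending a section over a normal point: the DVR criterion without separatedness (helper72)
-/

set_option autoImplicit false
set_option linter.style.haveILetI false
universe u
open AlgebraicGeometry CategoryTheory CategoryTheory.Limits

namespace Groth.Agent.H72.RatDVR2

open Groth.Agent.H72.ZMTRat Groth.Agent.H72.GlueOpens Groth.Agent.H72.RatDVR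

/-- the discrete valuative criterion at `x` with prescribed centre `y₀` -/
def Crit {X Y : Scheme.{u}} (q : Y ⟶ X) (U : X.Opens) (h : (U : Scheme.{u}) ⟶ Y) (x : X)
    (y₀ : Y) : Prop :=
  ∀ (R : Type u) [CommRing R] [IsDomain R] [IsDiscreteValuationRing R]
    (u : Spec (CommRingCat.of R) ⟶ X), u (IsLocalRing.closedPoint R) = x →
    ∀ ub : Spec (CommRingCat.of (FractionRing R)) ⟶ (U : Scheme.{u}),
      ub ≫ U.ι = Spec.map (CommRingCat.ofHom (algebraMap R (FractionRing R))) ≫ u →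
      ∃ h₁ : Spec (CommRingCat.of R) ⟶ Y, h₁ ≫ q = u ∧ h₁ (IsLocalRing.closedPoint R) = y₀ ∧
        Spec.map (CommRingCat.ofHom (algebraMap R (FractionRing R))) ≫ h₁ = ub ≫ h

/-- the criterion for an arbitrary model of the fraction field -/
theorem Crit.general {X Y : Scheme.{u}} {q : Y ⟶ X} {U : X.Opens} {h : (U : Scheme.{u}) ⟶ Y}
    {x : X} {y₀ : Y} (hC : Crit q U h x y₀)
    (R : Type u) [CommRing R] [IsDomain R] [IsDiscreteValuationRing R]
    (K : Type u) [Field K] [Algebra R K] [IsFractionRing R K]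
    (u : Spec (CommRingCat.of R) ⟶ X) (hu : u (IsLocalRing.closedPoint R) = x)
    (r : Spec (CommRingCat.of K) ⟶ (U : Scheme.{u}))
    (hr : r ≫ U.ι = Spec.map (CommRingCat.ofHom (algebraMap R K)) ≫ u) :
    ∃ h₁ : Spec (CommRingCat.of R) ⟶ Y, h₁ ≫ q = u ∧ h₁ (IsLocalRing.closedPoint R) = y₀ ∧
      Spec.map (CommRingCat.ofHom (algebraMap R K)) ≫ h₁ = r ≫ h := by
  set e : FractionRing R ≃ₐ[R] K := FractionRing.algEquiv R K with he
  set eK : CommRingCat.of K ⟶ CommRingCat.of (FractionRing R) :=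
    CommRingCat.ofHom (e.symm : K →+* FractionRing R) with heK
  set eF : CommRingCat.of (FractionRing R) ⟶ CommRingCat.of K :=
    CommRingCat.ofHom (e : FractionRing R →+* K) with heF
  have h1 : CommRingCat.ofHom (algebraMap R K) ≫ eK =
      CommRingCat.ofHom (algebraMap R (FractionRing R)) := by
    ext a
    show e.symm (algebraMap R K a) = algebraMap R (FractionRing R) a
    exact e.symm.commutes a
  have h2 : CommRingCat.ofHom (algebraMap R (FractionRing R)) ≫ eF =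
      CommRingCat.ofHom (algebraMap R K) := by
    ext a
    show e (algebraMap R (FractionRing R) a) = algebraMap R K a
    exact e.commutes a
  have h3 : eK ≫ eF = 𝟙 _ := by
    ext a
    show e (e.symm a) = a
    exact e.apply_symm_apply a
  obtain ⟨h₁, hh₁, hcl, hgen⟩ := hC R u hu (Spec.map eK ≫ r) (by
    rw [Category.assoc, hr, ← Category.assoc, ← Spec.map_comp, h1])
  refine ⟨h₁, hh₁, hcl, ?_⟩
  rw [← h2, Spec.map_comp, Category.assoc, hgen, ← Category.assoc, ← Category.assoc,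
    ← Spec.map_comp, h3, Spec.map_id, Category.id_comp]

/-- Under the criterion, `h` maps every generization `d ∈ U` of `x` to a generization of `y₀`. -/
theorem Crit.specializes {X Y : Scheme.{u}} [IsLocallyNoetherian X] {q : Y ⟶ X} {U : X.Opens}
    {h : (U : Scheme.{u}) ⟶ Y}
    {x : X} {y₀ : Y} (hC : Crit q U h x y₀) (hxU : x ∉ U) (d : X) (hd : d ∈ U) (hdx : d ⤳ x) :
    h ⟨d, hd⟩ ⤳ y₀ := by
  have hne : x ≠ (𝟙 X : X ⟶ X) d := by
    rintro rfl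
    exact hxU hd
  obtain ⟨A, hA, hDVR, hAcl, hAgen⟩ :=
    Groth.Agent.Lib.Helper78.exists_dvr_specialization (𝟙 X) d x hdx hne
  haveI := hDVR
  rw [Category.comp_id] at hAgen
  have hrr : Set.range (X.fromSpecResidueField d) ⊆ Set.range U.ι := by
    rw [Scheme.range_fromSpecResidueField, Scheme.Opens.range_ι]
    exact Set.singleton_subset_iff.mpr hd
  set r : Spec (X.residueField d) ⟶ (U : Scheme.{u}) :=
    IsOpenImmersion.lift U.ι (X.fromSpecResidueField d) hrr with hr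
  have hrι : r ≫ U.ι = X.fromSpecResidueField d := IsOpenImmersion.lift_fac _ _ _
  obtain ⟨h₁, -, hcl, hgen⟩ := hC.general A (X.residueField d) hA hAcl r (by
    rw [hrι, ← hAgen]; rfl)
  obtain ⟨pt⟩ : Nonempty (Spec (X.residueField d)) := inferInstance
  have hrpt : r pt = ⟨d, hd⟩ := by
    apply U.ι.isOpenEmbedding.injective
    have h1 : (r ≫ U.ι) pt = d := by rw [hrι]; exact Scheme.fromSpecResidueField_apply d pt
    exact h1
  set g₀ := Spec.map (CommRingCat.ofHom (algebraMap A (X.residueField d))) pt with hg₀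
  have hsp : g₀ ⤳ IsLocalRing.closedPoint A := IsLocalRing.specializes_closedPoint g₀
  have hsp' : h₁ g₀ ⤳ y₀ := hcl ▸ hsp.map h₁.continuous
  have h2 : h₁ g₀ = h ⟨d, hd⟩ := by
    have h3 : (Spec.map (CommRingCat.ofHom (algebraMap A (X.residueField d))) ≫ h₁) pt =
        (r ≫ h) pt := by rw [hgen]
    rw [← hrpt]
    exact h3
  rw [← h2]
  exact hsp'

/-- points in the closure of a locally closed subset of a locally Noetherian scheme are
specializations of points of the subset -/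
theorem exists_specializes_of_mem_closure_diff {X : Scheme.{u}} [IsLocallyNoetherian X]
    (O O₁ : X.Opens) (x : X) (hx : x ∈ closure ((O : Set X) \ (O₁ : Set X))) :
    ∃ d ∈ O, d ∉ O₁ ∧ d ⤳ x := by
  set Zc : TopologicalSpace.Closeds (O : Scheme.{u}) :=
    ⟨((O.ι ⁻¹ᵁ O₁ : (O : Scheme.{u}).Opens) : Set (O : Scheme.{u}))ᶜ,
      (O.ι ⁻¹ᵁ O₁).isOpen.isClosed_compl⟩ with hZc
  set I := Scheme.IdealSheafData.vanishingIdeal Zc with hI
  set g : I.subscheme ⟶ X := I.subschemeι ≫ O.ι with hg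
  have hr : Set.range g = (O : Set X) \ (O₁ : Set X) := by
    rw [hg, Scheme.Hom.comp_base, TopCat.coe_comp, Set.range_comp,
      Scheme.IdealSheafData.range_subschemeι, Scheme.IdealSheafData.coe_support_vanishingIdeal]
    ext p
    constructor
    · rintro ⟨o, ho, rfl⟩
      exact ⟨o.2, ho⟩
    · rintro ⟨hpO, hpO₁⟩
      exact ⟨⟨p, hpO⟩, hpO₁, rfl⟩
  obtain ⟨z, hz⟩ := Groth.Agent.Lib.Helper78.exists_specializes_of_mem_closure_range g x
    (hr ▸ hx)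
  have hgz : g z ∈ (O : Set X) \ (O₁ : Set X) := hr ▸ ⟨z, rfl⟩
  exact ⟨g z, hgz.1, hgz.2, hz⟩

/-- gluing two morphisms agreeing on the intersection, over a base; both restrictions -/
theorem exists_glue_two' {X Y : Scheme.{u}} (q : Y ⟶ X) (U V : X.Opens)
    (h : (U : Scheme.{u}) ⟶ Y) (v : (V : Scheme.{u}) ⟶ Y) (hh : h ≫ q = U.ι) (hv : v ≫ q = V.ι)
    (hagree : X.homOfLE (inf_le_right : U ⊓ V ≤ V) ≫ v = X.homOfLE (inf_le_left : U ⊓ V ≤ U) ≫ h) :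
    ∃ (U' : X.Opens) (hUU' : U ≤ U') (hVU' : V ≤ U') (h' : (U' : Scheme.{u}) ⟶ Y),
      h' ≫ q = U'.ι ∧ X.homOfLE hUU' ≫ h' = h ∧ X.homOfLE hVU' ≫ h' = v := by
  let F : Bool → X.Opens := fun b => cond b U V
  let f : ∀ b : Bool, ((cond b U V : X.Opens) : Scheme.{u}) ⟶ Y := fun b =>
    match b with
    | false => v
    | true => h
  have hf : ∀ i j, X.homOfLE (inf_le_left : F i ⊓ F j ≤ F i) ≫ f i =
      X.homOfLE (inf_le_right : F i ⊓ F j ≤ F j) ≫ f j := by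
    intro i j
    cases i <;> cases j
    · rfl
    · show X.homOfLE (inf_le_left : V ⊓ U ≤ V) ≫ v = X.homOfLE (inf_le_right : V ⊓ U ≤ U) ≫ h
      have e : V ⊓ U ≤ U ⊓ V := le_of_eq (inf_comm V U)
      rw [← X.homOfLE_homOfLE e (inf_le_right : U ⊓ V ≤ V),
        ← X.homOfLE_homOfLE e (inf_le_left : U ⊓ V ≤ U), Category.assoc, Category.assoc, hagree]
    · exact hagree.symm
    · rfl
  obtain ⟨k, hk⟩ := exists_glue F f hf
  refine ⟨⨆ b, F b, le_iSup F true, le_iSup F false, k, ?_, hk true, hk false⟩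
  apply hom_ext_iSup F
  intro b
  rw [← Category.assoc, hk b, X.homOfLE_ι]
  cases b
  · exact hv
  · exact hh

/-- the `S = X` case of `extends_nhd''`, with global isolation -/
theorem extends_nhd_section {X Y : Scheme.{u}} (q : Y ⟶ X) [LocallyOfFiniteType q] [IsSeparated q]
    (x : X) (U : X.Opens) (hU : x ∈ closure (U : Set X)) (h : (U : Scheme.{u}) ⟶ Y)
    (hh : h ≫ q = U.ι)
    (hXx : ∃ W : X.Opens, x ∈ W ∧ IsIntegral (W : Scheme.{u}))
    (hx : IsIntegrallyClosed (X.presheaf.stalk x))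
    (y₀ : Y) (hqy₀ : q y₀ = x) (hy₀cl : y₀ ∈ closure (Set.range h))
    (hisoY : ∀ y₁ ∈ closure (Set.range h), q y₁ = x → y₁ = y₀) :
    ∃ (V : X.Opens) (v : (V : Scheme.{u}) ⟶ Y), x ∈ V ∧ v ≫ q = V.ι ∧
      (∀ hxV : x ∈ V, v ⟨x, hxV⟩ = y₀) ∧
      X.homOfLE (inf_le_right : U ⊓ V ≤ V) ≫ v = X.homOfLE (inf_le_left : U ⊓ V ≤ U) ≫ h := by
  have hh0 : U.ι ≫ 𝟙 X = h ≫ q := by rw [Category.comp_id, hh]
  set σ : Y ⟶ pullback (𝟙 X) q := pullback.lift q (𝟙 Y) (by simp) with hσ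
  have hσ1 : σ ≫ pullback.fst (𝟙 X) q = q := pullback.lift_fst _ _ _
  have hσ2 : σ ≫ pullback.snd (𝟙 X) q = 𝟙 Y := pullback.lift_snd _ _ _
  have hcond : pullback.fst (𝟙 X) q = pullback.snd (𝟙 X) q ≫ q := by
    have := pullback.condition (f := 𝟙 X) (g := q)
    rwa [Category.comp_id] at this
  have hσ3 : pullback.snd (𝟙 X) q ≫ σ = 𝟙 _ := by
    apply pullback.hom_ext
    · rw [Category.assoc, hσ1, Category.id_comp, hcond]
    · rw [Category.assoc, hσ2, Category.id_comp, Category.comp_id]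
  set j := pullback.lift U.ι h hh0 with hj
  have hjσ : j = h ≫ σ := by
    apply pullback.hom_ext
    · rw [hj, pullback.lift_fst, Category.assoc, hσ1, hh]
    · rw [hj, pullback.lift_snd, Category.assoc, hσ2, Category.comp_id]
  have hjsnd : j ≫ pullback.snd (𝟙 X) q = h := pullback.lift_snd _ _ _
  have hzcl : σ y₀ ∈ closure (Set.range j) := by
    have h1 : σ y₀ ∈ closure (σ '' Set.range h) :=
      image_closure_subset_closure_image σ.continuous ⟨y₀, hy₀cl, rfl⟩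
    have h2 : σ '' Set.range h = Set.range j := by
      rw [hjσ, ← Set.range_comp]; rfl
    rw [← h2]; exact h1
  have hzx : pullback.fst (𝟙 X) q (σ y₀) = x := by
    rw [← Scheme.Hom.comp_apply, hσ1]; exact hqy₀
  have hiso : ∃ O : (pullback (𝟙 X) q).Opens,
      (O : Set ↥(pullback (𝟙 X) q)) ∩ closure (Set.range j) ∩
      (pullback.fst (𝟙 X) q) ⁻¹' {x} = {σ y₀} := by
    refine ⟨⊤, ?_⟩
    ext p
    constructor
    · rintro ⟨⟨-, hpcl⟩, hpx⟩
      have hpx' : pullback.fst (𝟙 X) q p = x := hpx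
      have h1 : q (pullback.snd (𝟙 X) q p) = x := by
        rw [← Scheme.Hom.comp_apply, ← hcond, hpx']
      have h0 : pullback.snd (𝟙 X) q p ∈ closure (Set.range h) := by
        have h4 : pullback.snd (𝟙 X) q p ∈ closure ((pullback.snd (𝟙 X) q) '' Set.range j) :=
          image_closure_subset_closure_image (pullback.snd (𝟙 X) q).continuous ⟨p, hpcl, rfl⟩
        have h5 : (pullback.snd (𝟙 X) q) '' Set.range j = Set.range h := by
          rw [← hjsnd, ← Set.range_comp]; rfl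
        rw [← h5]; exact h4
      have h2 : pullback.snd (𝟙 X) q p = y₀ := hisoY _ h0 h1
      have h3 : σ (pullback.snd (𝟙 X) q p) = p := by
        rw [← Scheme.Hom.comp_apply, hσ3]; rfl
      rw [Set.mem_singleton_iff, ← h3, h2]
    · rintro rfl
      exact ⟨⟨trivial, hzcl⟩, hzx⟩
  obtain ⟨V, v, hxV, hvq, hvx, hagree⟩ :=
    extends_nhd'' (𝟙 X) q x U hU h hh0 hXx hx (σ y₀) hzx hzcl hiso
  rw [Category.comp_id] at hvq
  refine ⟨V, v, hxV, hvq, ?_, hagree⟩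
  intro hxV'
  rw [hvx hxV', ← Scheme.Hom.comp_apply, hσ2]
  rfl

/-- the easy direction: an extension satisfies the criterion -/
theorem crit_of_extends {X Y : Scheme.{u}} (q : Y ⟶ X) (U : X.Opens)
    (h : (U : Scheme.{u}) ⟶ Y) (x : X) (y₀ : Y)
    (U' : X.Opens) (hUU' : U ≤ U') (hxU' : x ∈ U') (h' : (U' : Scheme.{u}) ⟶ Y)
    (hh' : h' ≫ q = U'.ι) (hres : X.homOfLE hUU' ≫ h' = h) (hx' : h' ⟨x, hxU'⟩ = y₀) :
    Crit q U h x y₀ := by
  intro R _ _ _ u hu ub hub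
  have hur : Set.range u ⊆ Set.range U'.ι := by
    rintro _ ⟨p, rfl⟩
    rw [Scheme.Opens.range_ι]
    have hsp : p ⤳ IsLocalRing.closedPoint R := IsLocalRing.specializes_closedPoint p
    have hsp' : u p ⤳ x := hu ▸ hsp.map u.continuous
    exact hsp'.mem_open U'.isOpen hxU'
  set u' : Spec (CommRingCat.of R) ⟶ (U' : Scheme.{u}) := IsOpenImmersion.lift U'.ι u hur with hu'
  have hu'ι : u' ≫ U'.ι = u := IsOpenImmersion.lift_fac _ _ _
  refine ⟨u' ≫ h', ?_, ?_, ?_⟩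
  · rw [Category.assoc, hh', hu'ι]
  · have h1 : u' (IsLocalRing.closedPoint R) = ⟨x, hxU'⟩ := by
      apply U'.ι.isOpenEmbedding.injective
      have h2 : (u' ≫ U'.ι) (IsLocalRing.closedPoint R) = x := by rw [hu'ι]; exact hu
      exact h2
    show h' (u' (IsLocalRing.closedPoint R)) = y₀
    rw [h1, hx']
  · have h1 : Spec.map (CommRingCat.ofHom (algebraMap R (FractionRing R))) ≫ u' =
        ub ≫ X.homOfLE hUU' := by
      rw [← cancel_mono U'.ι, Category.assoc, Category.assoc, hu'ι, X.homOfLE_ι, hub]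
    rw [← hres, ← Category.assoc, ← Category.assoc, h1]

set_option backward.isDefEq.respectTransparency.types false in
/-- the hard direction -/
theorem extends_of_crit {X Y : Scheme.{u}} [IsLocallyNoetherian X] (q : Y ⟶ X)
    [LocallyOfFiniteType q] (U : X.Opens) (hU : Dense (U : Set ↥X)) (h : (U : Scheme.{u}) ⟶ Y)
    (hh : h ≫ q = U.ι) (x : ↥X) (hxU : x ∉ U) [IsDomain ↑(X.presheaf.stalk x)]
    (hx : IsIntegrallyClosed ↑(X.presheaf.stalk x)) (y₀ : ↥Y) (hy₀ : q y₀ = x)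
    (hC : Crit q U h x y₀) :
    ∃ (U' : X.Opens) (hUU' : U ≤ U') (hxU' : x ∈ U') (h' : (U' : Scheme.{u}) ⟶ Y),
        h' ≫ q = U'.ι ∧ X.homOfLE hUU' ≫ h' = h ∧ h' ⟨x, hxU'⟩ = y₀ := by
  obtain ⟨W, hxW, hWaff, hWint⟩ := exists_isIntegral_nhd x
  haveI := hWint
  -- an affine neighbourhood of `y₀`
  obtain ⟨Y₀, hY₀aff, hy₀Y₀⟩ : ∃ Y₀ : Y.Opens, IsAffineOpen Y₀ ∧ y₀ ∈ Y₀ := by
    obtain ⟨_, ⟨Y₀, hY₀ : IsAffineOpen Y₀, rfl⟩, hy, -⟩ :=
      Y.isBasis_affineOpens.exists_subset_of_mem_open (Set.mem_univ y₀) isOpen_univ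
    exact ⟨Y₀, hY₀, hy⟩
  haveI : IsAffine (Y₀ : Scheme.{u}) := hY₀aff
  set q₀ : (Y₀ : Scheme.{u}) ⟶ X := Y₀.ι ≫ q with hq₀
  have hD : ∀ d (hd : d ∈ U), d ⤳ x → h ⟨d, hd⟩ ∈ Y₀ := fun d hd hdx =>
    (hC.specializes hxU d hd hdx).mem_open Y₀.isOpen hy₀Y₀
  -- the open `U₁`
  set U₁ : X.Opens := (U.ι ''ᵁ (h ⁻¹ᵁ Y₀)) ⊓ W with hU₁
  have hU₁U : U₁ ≤ U := by
    rintro _ ⟨⟨p, -, rfl⟩, -⟩
    exact p.2
  have hU₁W : U₁ ≤ W := inf_le_right
  have hmemU₁ : ∀ p (hp : p ∈ U), h ⟨p, hp⟩ ∈ Y₀ → p ∈ W → p ∈ U₁ :=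
    fun p hp hpY hpW => ⟨⟨⟨p, hp⟩, hpY, rfl⟩, hpW⟩
  have hU₁Y₀ : ∀ p (hp : p ∈ U₁), h ⟨p, hU₁U hp⟩ ∈ Y₀ := by
    rintro _ ⟨⟨p, hp, rfl⟩, -⟩
    exact hp
  have hr₀ : Set.range (X.homOfLE hU₁U ≫ h) ⊆ Set.range Y₀.ι := by
    rintro _ ⟨⟨p, hp⟩, rfl⟩
    rw [Scheme.Opens.range_ι]
    have h1 : (X.homOfLE hU₁U ≫ h) ⟨p, hp⟩ = h ⟨p, hU₁U hp⟩ := by
      show h (X.homOfLE hU₁U ⟨p, hp⟩) = _
      rw [Scheme.homOfLE_apply']
    rw [h1]
    exact hU₁Y₀ p hp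
  set h₀ : (U₁ : Scheme.{u}) ⟶ (Y₀ : Scheme.{u}) :=
    IsOpenImmersion.lift Y₀.ι (X.homOfLE hU₁U ≫ h) hr₀ with hh₀def
  have hh₀ι : h₀ ≫ Y₀.ι = X.homOfLE hU₁U ≫ h := IsOpenImmersion.lift_fac _ _ _
  have hh₀ : h₀ ≫ q₀ = U₁.ι := by
    rw [hq₀, ← Category.assoc, hh₀ι, Category.assoc, hh, X.homOfLE_ι]
  -- the generic point
  set η : X := W.ι (genericPoint (W : Scheme.{u})) with hη
  have hηW : η ∈ W := (genericPoint (W : Scheme.{u})).2
  have hηU : η ∈ U := by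
    obtain ⟨y, hyW, hyU⟩ := hU.inter_open_nonempty W W.isOpen ⟨x, hxW⟩
    have : genericPoint (W : Scheme.{u}) ∈ (W.ι ⁻¹ᵁ U : (W : Scheme.{u}).Opens) :=
      ((genericPoint_spec (W : Scheme.{u})).mem_open_set_iff (W.ι ⁻¹ᵁ U).isOpen).mpr
        ⟨⟨y, hyW⟩, trivial, hyU⟩
    exact this
  have hηx : η ⤳ x := by
    have h1 : genericPoint (W : Scheme.{u}) ⤳ (⟨x, hxW⟩ : (W : Scheme.{u})) :=
      genericPoint_specializes _
    exact h1.map W.ι.continuous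
  have hηU₁ : η ∈ U₁ := hmemU₁ η hηU (hD η hηU hηx) hηW
  have hxcl : x ∈ closure (U₁ : Set X) :=
    closure_mono (Set.singleton_subset_iff.mpr hηU₁) (specializes_iff_mem_closure.mp hηx)
  set y₀' : (Y₀ : Scheme.{u}) := ⟨y₀, hy₀Y₀⟩ with hy₀'
  have hq₀y₀ : q₀ y₀' = x := hy₀
  have hy₀cl : y₀' ∈ closure (Set.range h₀) := by
    have h1 : Y₀.ι (h₀ ⟨η, hηU₁⟩) = h ⟨η, hηU⟩ := by
      have h2 : (h₀ ≫ Y₀.ι) ⟨η, hηU₁⟩ = (X.homOfLE hU₁U ≫ h) ⟨η, hηU₁⟩ := by rw [hh₀ι]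
      have h3 : (X.homOfLE hU₁U ≫ h) ⟨η, hηU₁⟩ = h ⟨η, hηU⟩ := by
        show h (X.homOfLE hU₁U ⟨η, hηU₁⟩) = _
        rw [Scheme.homOfLE_apply']
      exact h2.trans h3
    have h2 : h₀ ⟨η, hηU₁⟩ ⤳ y₀' := by
      rw [← Y₀.ι.isOpenEmbedding.isInducing.specializes_iff, h1]
      exact hC.specializes hxU η hηU hηx
    exact closure_mono (Set.singleton_subset_iff.mpr (Set.mem_range_self _))
      (specializes_iff_mem_closure.mp h2)
  -- isolation
  haveI : Nonempty (U₁ : Scheme.{u}) := ⟨⟨η, hηU₁⟩⟩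
  haveI : IsIntegral (U₁ : Scheme.{u}) := isIntegral_of_isOpenImmersion (X.homOfLE hU₁W)
  haveI : IsLocallyNoetherian (Y₀ : Scheme.{u}) := LocallyOfFiniteType.isLocallyNoetherian q₀
  haveI : LocallyOfFiniteType h₀ := by
    haveI : LocallyOfFiniteType (h₀ ≫ q₀) := by rw [hh₀]; infer_instance
    exact locallyOfFiniteType_of_comp h₀ q₀
  have hiso : ∀ y₁ ∈ closure (Set.range h₀), q₀ y₁ = x → y₁ = y₀' := by
    intro y₁ hy₁cl hy₁x
    set η₁ := genericPoint (U₁ : Scheme.{u}) with hη₁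
    have hsp : h₀ η₁ ⤳ y₁ := by
      rw [specializes_iff_mem_closure]
      refine closure_minimal ?_ isClosed_closure hy₁cl
      rintro _ ⟨p, rfl⟩
      exact specializes_iff_mem_closure.mp ((genericPoint_specializes p).map h₀.continuous)
    have hqη₁ : q₀ (h₀ η₁) = η₁.1 := by
      have h1 : (h₀ ≫ q₀) η₁ = U₁.ι η₁ := by rw [hh₀]
      exact h1
    have hne : y₁ ≠ h₀ η₁ := by
      intro heq
      apply hxU
      rw [← hy₁x, heq, hqη₁]
      exact hU₁U η₁.2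
    obtain ⟨A, hA, hDVR, hAcl, hAgen⟩ :=
      Groth.Agent.Lib.Helper78.exists_dvr_specialization h₀ η₁ y₁ hsp hne
    haveI := hDVR
    set K := (U₁ : Scheme.{u}).residueField η₁ with hK
    set r : Spec K ⟶ (U : Scheme.{u}) :=
      (U₁ : Scheme.{u}).fromSpecResidueField η₁ ≫ X.homOfLE hU₁U with hr
    have hu : (hA ≫ q₀) (IsLocalRing.closedPoint A) = x := by
      show q₀ (hA (IsLocalRing.closedPoint A)) = x
      rw [hAcl, hy₁x]
    obtain ⟨h₁, hh₁q, hh₁cl, hh₁gen⟩ := hC.general A K (hA ≫ q₀) hu r (by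
      rw [hr, Category.assoc, X.homOfLE_ι, ← hh₀, ← Category.assoc, ← hAgen, Category.assoc]
      rfl)
    have hr₁ : Set.range h₁ ⊆ Set.range Y₀.ι := by
      rintro _ ⟨p, rfl⟩
      rw [Scheme.Opens.range_ι]
      have hsp : p ⤳ IsLocalRing.closedPoint A := IsLocalRing.specializes_closedPoint p
      have hsp' : h₁ p ⤳ y₀ := hh₁cl ▸ hsp.map h₁.continuous
      exact hsp'.mem_open Y₀.isOpen hy₀Y₀
    set h₁' : Spec (CommRingCat.of A) ⟶ (Y₀ : Scheme.{u}) :=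
      IsOpenImmersion.lift Y₀.ι h₁ hr₁ with hh₁'def
    have hh₁' : h₁' ≫ Y₀.ι = h₁ := IsOpenImmersion.lift_fac _ _ _
    have hu1 : h₁' ≫ q₀ = hA ≫ q₀ := by rw [hq₀, ← Category.assoc, hh₁', hh₁q]
    have hu2 : Spec.map (CommRingCat.ofHom (algebraMap A K)) ≫ h₁' =
        Spec.map (CommRingCat.ofHom (algebraMap A K)) ≫ hA := by
      rw [← cancel_mono Y₀.ι, Category.assoc, hh₁', hh₁gen, hr, Category.assoc, ← hh₀ι,
        ← Category.assoc, ← hAgen, Category.assoc]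
      rfl
    have huniq := IsSeparated.valuativeCriterion q₀
    let S : ValuativeCommSq q₀ :=
      { R := A, K := K
        i₁ := Spec.map (CommRingCat.ofHom (algebraMap A K)) ≫ hA
        i₂ := hA ≫ q₀
        commSq := ⟨by rw [Category.assoc]⟩ }
    have hsub := huniq S
    let l₁ : S.commSq.LiftStruct := ⟨hA, rfl, rfl⟩
    let l₂ : S.commSq.LiftStruct := ⟨h₁', hu2, hu1⟩
    have heq : hA = h₁' := congrArg CommSq.LiftStruct.l (Subsingleton.elim l₁ l₂)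
    apply Y₀.ι.isOpenEmbedding.injective
    show Y₀.ι y₁ = y₀
    rw [← hAcl, ← hh₁cl, ← hh₁', heq]
    rfl
  -- the local extension
  obtain ⟨V, v, hxV, hvq, hvx, hagree⟩ :=
    extends_nhd_section q₀ x U₁ hxcl h₀ hh₀ ⟨W, hxW, hWint⟩ hx y₀' hq₀y₀ hy₀cl hiso
  -- shrink `V`
  have hxC : x ∉ closure (((U ⊓ V ⊓ W : X.Opens) : Set X) \ (U₁ : Set X)) := by
    intro hxC
    obtain ⟨d, hdO, hdU₁, hdx⟩ := exists_specializes_of_mem_closure_diff (U ⊓ V ⊓ W) U₁ x hxC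
    exact hdU₁ (hmemU₁ d hdO.1.1 (hD d hdO.1.1 hdx) hdO.2)
  set V' : X.Opens := V ⊓ W ⊓
    ⟨(closure (((U ⊓ V ⊓ W : X.Opens) : Set X) \ (U₁ : Set X)))ᶜ, isClosed_closure.isOpen_compl⟩
    with hV'
  have hxV' : x ∈ V' := ⟨⟨hxV, hxW⟩, hxC⟩
  have hV'V : V' ≤ V := inf_le_left.trans inf_le_left
  have hUV' : U ⊓ V' ≤ U₁ ⊓ V := by
    rintro p ⟨hpU, ⟨⟨hpV, hpW⟩, hpC⟩⟩
    refine ⟨?_, hpV⟩
    by_contra hpU₁
    exact hpC (subset_closure ⟨⟨⟨hpU, hpV⟩, hpW⟩, hpU₁⟩)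
  set v' : (V' : Scheme.{u}) ⟶ Y := X.homOfLE hV'V ≫ v ≫ Y₀.ι with hv'
  have hv'q : v' ≫ q = V'.ι := by
    rw [hv', Category.assoc, Category.assoc, ← hq₀, hvq, X.homOfLE_ι]
  have hagree' : X.homOfLE (inf_le_right : U ⊓ V' ≤ V') ≫ v' =
      X.homOfLE (inf_le_left : U ⊓ V' ≤ U) ≫ h := by
    calc X.homOfLE (inf_le_right : U ⊓ V' ≤ V') ≫ v'
        = X.homOfLE hUV' ≫ (X.homOfLE (inf_le_right : U₁ ⊓ V ≤ V) ≫ v) ≫ Y₀.ι := by
          rw [hv']
          simp only [Category.assoc, Scheme.homOfLE_homOfLE_assoc]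
      _ = X.homOfLE hUV' ≫ (X.homOfLE (inf_le_left : U₁ ⊓ V ≤ U₁) ≫ h₀) ≫ Y₀.ι := by
          rw [hagree]
      _ = X.homOfLE hUV' ≫ X.homOfLE (inf_le_left : U₁ ⊓ V ≤ U₁) ≫ X.homOfLE hU₁U ≫ h := by
          rw [Category.assoc, hh₀ι]
      _ = X.homOfLE (inf_le_left : U ⊓ V' ≤ U) ≫ h := by
          simp only [Scheme.homOfLE_homOfLE_assoc]
  obtain ⟨U', hUU', hV'U', h', hh', hres, hresV⟩ := exists_glue_two' q U V' h v' hh hv'q hagree'
  refine ⟨U', hUU', hV'U' hxV', h', hh', hres, ?_⟩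
  have h1 : (X.homOfLE hV'U' ≫ h') ⟨x, hxV'⟩ = v' ⟨x, hxV'⟩ := by rw [hresV]
  have h2 : (X.homOfLE hV'U' ≫ h') ⟨x, hxV'⟩ = h' ⟨x, hV'U' hxV'⟩ := by
    show h' (X.homOfLE hV'U' ⟨x, hxV'⟩) = _
    rw [Scheme.homOfLE_apply']
  have h3 : v' ⟨x, hxV'⟩ = Y₀.ι (v ⟨x, hxV⟩) := by
    show Y₀.ι (v (X.homOfLE hV'V ⟨x, hxV'⟩)) = _
    rw [Scheme.homOfLE_apply']
  rw [← h2, h1, h3, hvx hxV]
  rfl

/-- S3848 -/
theorem main {X Y : Scheme.{u}} [IsLocallyNoetherian X] (q : Y ⟶ X)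
    [LocallyOfFiniteType q] (U : X.Opens) (hU : Dense (U : Set ↥X)) (h : (U : Scheme.{u}) ⟶ Y)
    (hh : h ≫ q = U.ι) (x : ↥X) (hxU : x ∉ U) [IsDomain ↑(X.presheaf.stalk x)]
    (hx : IsIntegrallyClosed ↑(X.presheaf.stalk x)) (y₀ : ↥Y) (hy₀ : q y₀ = x) :
    (∃ (U' : X.Opens) (hUU' : U ≤ U') (hxU' : x ∈ U') (h' : (U' : Scheme.{u}) ⟶ Y),
        h' ≫ q = U'.ι ∧ X.homOfLE hUU' ≫ h' = h ∧ h' ⟨x, hxU'⟩ = y₀) ↔
      ∀ (R : Type u) [CommRing R] [IsDomain R] [IsDiscreteValuationRing R]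
        (u : Spec (CommRingCat.of R) ⟶ X), u (IsLocalRing.closedPoint R) = x →
        ∀ ub : Spec (CommRingCat.of (FractionRing R)) ⟶ (U : Scheme.{u}),
          ub ≫ U.ι = Spec.map (CommRingCat.ofHom (algebraMap R (FractionRing R))) ≫ u →
          ∃ h₁ : Spec (CommRingCat.of R) ⟶ Y, h₁ ≫ q = u ∧ h₁ (IsLocalRing.closedPoint R) = y₀ ∧
            Spec.map (CommRingCat.ofHom (algebraMap R (FractionRing R))) ≫ h₁ = ub ≫ h := by
  constructor
  · rintro ⟨U', hUU', hxU', h', hh', hres, hx'⟩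
    exact crit_of_extends q U h x y₀ U' hUU' hxU' h' hh' hres hx'
  · intro hC
    exact extends_of_crit q U hU h hh x hxU hx y₀ hy₀ hC

end Groth.Agent.H72.RatDVR2
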