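import Groth.Agent.H72.UnibranchUO
import Groth.Agent.H72.RatDVR2
import Groth.Prelude.Def_SGA1

/-!
# Universally submersive families of quasi-finite morphisms over a geometrically unibranch base
(helper72)
-/

set_option autoImplicit false
universe u

open CategoryTheory CategoryTheory.Limits AlgebraicGeometry Topology TopologicalSpace

namespace Groth.Agent.H72.QfhCover

open Groth.Agent.H72.UODvr

section General

variable {X Y Z : Scheme.{u}}

/-- a universally open surjective morphism is universally submersive -/
theorem univSubmersive_of_universallyOpen_surjective (g : X ⟶ Y) [UniversallyOpen g]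
    [Surjective g] : SGA1.UnivSubmersive g := by
  intro X' Y' i₁ i₂ g' hpb
  have h1 : UniversallyOpen g' := MorphismProperty.of_isPullback hpb.flip inferInstance
  have h2 : Surjective g' := MorphismProperty.of_isPullback hpb.flip inferInstance
  exact IsOpenMap.isQuotientMap g'.isOpenMap g'.continuous g'.surjective

/-- if a composite is universally submersive, so is the second morphism -/
theorem univSubmersive_of_comp (k : X ⟶ Y) (h : Y ⟶ Z) (H : SGA1.UnivSubmersive (k ≫ h)) :
    SGA1.UnivSubmersive h := by
  intro Y' Z' i₁ i₂ h' hpb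
  have hpb2 : IsPullback (pullback.snd k i₁) (pullback.fst k i₁) i₁ k :=
    (IsPullback.of_hasPullback k i₁).flip
  have hpb3 := hpb2.paste_horiz hpb
  have hq : IsQuotientMap (pullback.snd k i₁ ≫ h').base := H _ _ _ hpb3
  exact IsQuotientMap.of_comp (pullback.snd k i₁).continuous h'.continuous hq

/-- a universally submersive morphism is surjective -/
theorem surjective_of_univSubmersive (g : X ⟶ Y) (H : SGA1.UnivSubmersive g) :
    Function.Surjective g.base := by
  have hq : IsQuotientMap g.base := H (𝟙 _) (𝟙 _) g (IsPullback.id_vert g)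
  exact hq.surjective

end General

section DVR

/-- a discrete valuation ring through a specialization in a locally Noetherian scheme -/
theorem exists_dvr_hom {T : Scheme.{u}} [IsLocallyNoetherian T] (t' t : T) (hsp : t' ⤳ t)
    (hne : t ≠ t') :
    ∃ (A : Type u) (_ : CommRing A) (_ : IsDomain A) (_ : IsDiscreteValuationRing A)
      (h : Spec (CommRingCat.of A) ⟶ T),
      h.base (IsLocalRing.closedPoint A) = t ∧ h.base (genPt A) = t' := by
  obtain ⟨A, h, hA, hcl, hgen⟩ := Groth.Agent.Lib.Helper78.exists_dvr_specialization (𝟙 T) t' t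
    hsp hne
  refine ⟨A, inferInstance, inferInstance, hA, h, hcl, ?_⟩
  have h3 := congrArg (fun m : Spec (T.residueField t') ⟶ T =>
    m.base (IsLocalRing.closedPoint (T.residueField t'))) hgen
  change h.base ((Spec.map (CommRingCat.ofHom A.subtype)).base
    (IsLocalRing.closedPoint (T.residueField t'))) =
    (T.fromSpecResidueField t').base (IsLocalRing.closedPoint (T.residueField t')) at h3
  have h4 : (Spec.map (CommRingCat.ofHom A.subtype)).base
      (IsLocalRing.closedPoint (T.residueField t')) = genPt A := by
    apply PrimeSpectrum.ext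
    change Ideal.comap A.subtype (IsLocalRing.maximalIdeal (T.residueField t')) = ⊥
    rw [IsLocalRing.maximalIdeal_eq_bot]
    exact (RingHom.injective_iff_ker_eq_bot _).mp A.subtype_injective
  erw [h4] at h3
  rw [h3]
  exact Scheme.fromSpecResidueField_apply _ _

end DVR

section Lift

variable {S S' : Scheme.{u}}

set_option backward.isDefEq.respectTransparency.types false in
open Groth.Agent.H72.RatDVR2 in
/-- specializations over a discrete valuation ring lift through universally submersive morphisms -/
theorem exists_specializes_pullback (g : S' ⟶ S) [LocallyOfFiniteType g]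
    (hg : SGA1.UnivSubmersive g) (A : Type u) [CommRing A] [IsDomain A]
    [IsDiscreteValuationRing A] (t : Spec (CommRingCat.of A) ⟶ S) :
    ∃ d w : ↥(pullback g t), d ⤳ w ∧
      (pullback.snd g t).base d = genPt A ∧
      (pullback.snd g t).base w = IsLocalRing.closedPoint A := by
  have hq : IsQuotientMap (pullback.snd g t).base :=
    hg _ _ _ (IsPullback.of_hasPullback g t).flip
  haveI : IsLocallyNoetherian (pullback g t) :=
    LocallyOfFiniteType.isLocallyNoetherian (pullback.snd g t)
  let O : (Spec (CommRingCat.of A)).Opens := ⟨{IsLocalRing.closedPoint A}ᶜ,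
    (IsLocalRing.isClosed_singleton_closedPoint A).isOpen_compl⟩
  let G := (pullback.snd g t) ⁻¹ᵁ O
  have hnc : ¬ IsClosed (G : Set ↥(pullback g t)) := by
    intro hcl'
    have h1 : IsOpen ((pullback.snd g t).base ⁻¹' {IsLocalRing.closedPoint A}) := by
      have h2 : (pullback.snd g t).base ⁻¹' {IsLocalRing.closedPoint A} =
          (G : Set ↥(pullback g t))ᶜ := by
        ext p
        change (pullback.snd g t).base p = IsLocalRing.closedPoint A ↔
          ¬ ¬ ((pullback.snd g t).base p = IsLocalRing.closedPoint A)
        rw [not_not]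
      rw [h2]
      exact hcl'.isOpen_compl
    have hopen : IsOpen ({IsLocalRing.closedPoint A} : Set (PrimeSpectrum A)) :=
      hq.isOpen_preimage.mp h1
    have := (genPt_specializes A (IsLocalRing.closedPoint A)).mem_open hopen rfl
    exact genPt_ne_closedPoint A this
  obtain ⟨w, hwcl, hwG⟩ : ∃ w, w ∈ closure (G : Set ↥(pullback g t)) ∧
      w ∉ (G : Set ↥(pullback g t)) := by
    by_contra hcon
    push Not at hcon
    exact hnc (closure_subset_iff_isClosed.mp hcon)
  obtain ⟨d, hdG, -, hdw⟩ := exists_specializes_of_mem_closure_diff G ⊥ w (by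
    rw [TopologicalSpace.Opens.coe_bot, Set.diff_empty]
    exact hwcl)
  have hπw : (pullback.snd g t).base w = IsLocalRing.closedPoint A := by
    by_contra hne
    exact hwG hne
  have hπd : (pullback.snd g t).base d = genPt A :=
    eq_genPt_of_ne_closedPoint A _ hdG
  exact ⟨d, w, hdw, hπd, hπw⟩

/-- a discrete valuation ring over a given one lifts through a universally submersive morphism -/
theorem exists_dvr_lift (g : S' ⟶ S) [LocallyOfFiniteType g]
    (hg : SGA1.UnivSubmersive g) (A : Type u) [CommRing A] [IsDomain A]
    [IsDiscreteValuationRing A] (t : Spec (CommRingCat.of A) ⟶ S) :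
    ∃ (R : Type u) (_ : CommRing R) (_ : IsDomain R) (_ : IsDiscreteValuationRing R)
      (r : Spec (CommRingCat.of R) ⟶ pullback g t),
      (r ≫ pullback.snd g t).base (IsLocalRing.closedPoint R) = IsLocalRing.closedPoint A ∧
      (r ≫ pullback.snd g t).base (genPt R) = genPt A := by
  obtain ⟨d, w, hdw, hd, hw⟩ := exists_specializes_pullback g hg A t
  haveI : IsLocallyNoetherian (pullback g t) :=
    LocallyOfFiniteType.isLocallyNoetherian (pullback.snd g t)
  have hne : w ≠ d := by
    intro h
    rw [h, hd] at hw
    exact genPt_ne_closedPoint A hw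
  obtain ⟨R, _, _, _, r, hcl, hgen⟩ := exists_dvr_hom d w hdw hne
  refine ⟨R, inferInstance, inferInstance, inferInstance, r, ?_, ?_⟩
  · change (pullback.snd g t).base (r.base (IsLocalRing.closedPoint R)) = _
    rw [hcl, hw]
  · change (pullback.snd g t).base (r.base (genPt R)) = _
    rw [hgen, hd]

end Lift

section Main

variable {X : Scheme.{u}}

/-- a morphism whose image contains a point with dense closure is dominant -/
theorem isDominant_of_mem {U : Scheme.{u}} (f : U ⟶ X) (u : U) (hu : closure {f.base u} = Set.univ) :
    IsDominant f := by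
  constructor
  intro y
  have : y ∈ closure {f.base u} := by rw [hu]; trivial
  exact closure_mono (Set.singleton_subset_iff.mpr (Set.mem_range_self u)) this

/-- a dominant morphism from an irreducible scheme maps generic points to generic points -/
theorem closure_map_eq_univ {U : Scheme.{u}} (f : U ⟶ X) [IsDominant f] (u : U)
    (hu : closure {u} = Set.univ) : closure {f.base u} = Set.univ := by
  rw [Set.eq_univ_iff_forall]
  intro y
  have h1 : Set.range f.base ⊆ closure {f.base u} := by
    rintro _ ⟨v, rfl⟩
    have hv : v ∈ closure {u} := by rw [hu]; trivial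
    have := map_mem_closure f.continuous hv (t := {f.base u})
      (fun a ha => by rw [Set.mem_singleton_iff] at ha ⊢; rw [ha])
    exact this
  have h2 : closure (Set.range f.base) ⊆ closure {f.base u} :=
    closure_minimal h1 isClosed_closure
  exact h2 (f.denseRange y)

variable [IsNoetherian X] [IrreducibleSpace ↥X]

/-- a dominant quasi-finite morphism from an irreducible scheme to an irreducible geometrically
unibranch Noetherian scheme is universally open -/
theorem universallyOpen_of_isDominant (hX : ∀ x : X, CAlg2.IsGeomUnibranch (X.presheaf.stalk x))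
    {U : Scheme.{u}} (f : U ⟶ X) [LocallyOfFiniteType f] [LocallyQuasiFinite f]
    [IrreducibleSpace ↥U] [IsDominant f] : UniversallyOpen f := by
  refine Groth.Agent.H72.UnibranchUO.main f hX ?_
  intro Z hZ x hx
  rw [irreducibleComponents_eq_singleton, Set.mem_singleton_iff] at hZ
  subst hZ
  refine ⟨Set.univ, ?_, ?_⟩
  · rw [irreducibleComponents_eq_singleton]; rfl
  · exact closure_map_eq_univ f x hx

variable (E : PreZeroHypercover.{u} X)

/-- the condition that the dominant members cover -/
def Cover : Prop := ∀ x : X, ∃ (i : E.I₀) (u : E.X i), IsDominant (E.f i) ∧ (E.f i).base u = x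

theorem univSubmersive_dominant (hX : ∀ x : X, CAlg2.IsGeomUnibranch (X.presheaf.stalk x))
    [∀ i, LocallyOfFiniteType (E.f i)] [∀ i, LocallyQuasiFinite (E.f i)]
    [∀ i, IrreducibleSpace ↥(E.X i)] (hc : Cover E) :
    SGA1.UnivSubmersive (Sigma.desc fun j : {i : E.I₀ // IsDominant (E.f i)} => E.f j.1) := by
  have h1 : UniversallyOpen
      (Sigma.desc fun j : {i : E.I₀ // IsDominant (E.f i)} => E.f j.1) := by
    apply IsZariskiLocalAtSource.sigmaDesc
    intro j
    have : IsDominant (E.f j.1) := j.2
    exact universallyOpen_of_isDominant hX (E.f j.1)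
  have h2 : Surjective (Sigma.desc fun j : {i : E.I₀ // IsDominant (E.f i)} => E.f j.1) := by
    constructor
    intro x
    obtain ⟨i, u, hi, hu⟩ := hc x
    refine ⟨(Sigma.ι (fun j : {i : E.I₀ // IsDominant (E.f i)} => E.X j.1) ⟨i, hi⟩).base u, ?_⟩
    rw [← Scheme.Hom.comp_apply, Sigma.ι_desc]
    exact hu
  exact univSubmersive_of_universallyOpen_surjective _

theorem univSubmersive_all (hX : ∀ x : X, CAlg2.IsGeomUnibranch (X.presheaf.stalk x))
    [∀ i, LocallyOfFiniteType (E.f i)] [∀ i, LocallyQuasiFinite (E.f i)]
    [∀ i, IrreducibleSpace ↥(E.X i)] (hc : Cover E) :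
    SGA1.UnivSubmersive (Sigma.desc E.f) := by
  have h := univSubmersive_dominant E hX hc
  have hfac : Sigma.desc (fun j : {i : E.I₀ // IsDominant (E.f i)} => Sigma.ι E.X j.1) ≫
      Sigma.desc E.f = Sigma.desc fun j : {i : E.I₀ // IsDominant (E.f i)} => E.f j.1 := by
    apply Sigma.hom_ext
    intro j
    rw [Sigma.ι_desc_assoc, Sigma.ι_desc, Sigma.ι_desc]
  rw [← hfac] at h
  exact univSubmersive_of_comp _ _ h

set_option backward.isDefEq.respectTransparency.types false in
open Groth.Agent.H72.RatDVR2 in
theorem cover_of_univSubmersive [∀ i, LocallyOfFiniteType (E.f i)]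
    (H : SGA1.UnivSubmersive (Sigma.desc E.f)) : Cover E := by
  intro x
  have hσ : LocallyOfFiniteType (Sigma.desc E.f) :=
    IsZariskiLocalAtSource.sigmaDesc (fun i => inferInstance)
  have hη : closure {genericPoint X} = Set.univ := (genericPoint_spec (α := ↥X)).def
  -- key: a point over `x` with a generization over the generic point gives the result
  have key : ∀ w w' : ↥(∐ E.X), w' ⤳ w → (Sigma.desc E.f).base w = x →
      (Sigma.desc E.f).base w' = genericPoint X →
      ∃ (i : E.I₀) (u : E.X i), IsDominant (E.f i) ∧ (E.f i).base u = x := by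
    intro w w' hsp hw hw'
    obtain ⟨⟨i, u⟩, rfl⟩ := (sigmaMk E.X).surjective w
    rw [sigmaMk_mk] at hsp hw
    have hopen : IsOpen (Set.range (Sigma.ι E.X i).base) :=
      (Sigma.ι E.X i).isOpenEmbedding.isOpen_range
    obtain ⟨u', rfl⟩ := hsp.mem_open hopen ⟨u, rfl⟩
    refine ⟨i, u, isDominant_of_mem (E.f i) u' ?_, ?_⟩
    · rw [← Sigma.ι_desc E.f i, Scheme.Hom.comp_apply, hw', hη]
    · rw [← Sigma.ι_desc E.f i, Scheme.Hom.comp_apply]
      exact hw
  by_cases hx : x = genericPoint X
  · obtain ⟨w, hw⟩ := surjective_of_univSubmersive _ H x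
    exact key w w specializes_rfl hw (hw.trans hx)
  · obtain ⟨A, _, _, _, h, hcl, hgen⟩ :=
      exists_dvr_hom (genericPoint X) x (genericPoint_specializes x) hx
    obtain ⟨d, w, hdw, hπd, hπw⟩ := exists_specializes_pullback (Sigma.desc E.f) H A h
    refine key ((pullback.fst (Sigma.desc E.f) h).base w)
      ((pullback.fst (Sigma.desc E.f) h).base d)
      (hdw.map (pullback.fst (Sigma.desc E.f) h).continuous) ?_ ?_
    · rw [← Scheme.Hom.comp_apply, pullback.condition, Scheme.Hom.comp_apply]
      erw [hπw]
      exact hcl
    · rw [← Scheme.Hom.comp_apply, pullback.condition, Scheme.Hom.comp_apply]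
      erw [hπd]
      exact hgen

end Main

end Groth.Agent.H72.QfhCover
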