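import Groth.Agent.H72.QfhCover
import Groth.Agent.S2562
import Groth.Agent.Lib.Helper58.FpqcLocal

/-!
# Descent of flatness along universally submersive morphisms of finite type to reduced Noetherian
schemes (helper72)
-/

set_option autoImplicit false
set_option linter.style.haveILetI false
universe u

open CategoryTheory CategoryTheory.Limits AlgebraicGeometry Topology TopologicalSpace

namespace Groth.Agent.H72.QfhFlat

open Groth.Agent.H72.UODvr Groth.Agent.H72.QfhCover

theorem isPullback_lift_comp {X S T T' : Scheme.{u}} (f : X ⟶ S) (t : T ⟶ S) (ρ : T' ⟶ T) :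
    IsPullback (pullback.lift (pullback.fst f (ρ ≫ t)) (pullback.snd f (ρ ≫ t) ≫ ρ)
        (by rw [pullback.condition, Category.assoc]))
      (pullback.snd f (ρ ≫ t)) (pullback.snd f t) ρ := by
  have big : IsPullback (pullback.lift (pullback.fst f (ρ ≫ t)) (pullback.snd f (ρ ≫ t) ≫ ρ)
        (by rw [pullback.condition, Category.assoc]) ≫ pullback.fst f t)
      (pullback.snd f (ρ ≫ t)) f (ρ ≫ t) := by
    rw [pullback.lift_fst]
    exact IsPullback.of_hasPullback _ _
  exact IsPullback.of_right big (pullback.lift_snd _ _ _) (IsPullback.of_hasPullback f t)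

set_option backward.isDefEq.respectTransparency.types false in
/-- a morphism of spectra of discrete valuation rings respecting closed and generic points is
faithfully flat -/
theorem dvr_map_props (A R : Type u) [CommRing A] [IsDomain A] [IsDiscreteValuationRing A]
    [CommRing R] [IsDomain R] [IsDiscreteValuationRing R]
    (ρ : Spec (CommRingCat.of R) ⟶ Spec (CommRingCat.of A))
    (hcl : ρ.base (IsLocalRing.closedPoint R) = IsLocalRing.closedPoint A)
    (hgen : ρ.base (genPt R) = genPt A) :
    (@Surjective ⊓ @Flat ⊓ @QuasiCompact : MorphismProperty Scheme.{u}) ρ := by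
  refine ⟨⟨⟨?_⟩, ?_⟩, inferInstance⟩
  · intro p
    by_cases hp : p = IsLocalRing.closedPoint A
    · exact ⟨IsLocalRing.closedPoint R, hcl.trans hp.symm⟩
    · exact ⟨genPt R, hgen.trans (eq_genPt_of_ne_closedPoint A p hp).symm⟩
  · obtain ⟨ψ, rfl⟩ := Spec.map_surjective ρ
    rw [HasRingHomProperty.Spec_iff (P := @Flat)]
    algebraize [ψ.hom]
    have hinj : Function.Injective (algebraMap A R) := by
      rw [injective_iff_map_eq_zero]
      intro a ha
      have h1 : (genPt R).asIdeal.comap ψ.hom = (genPt A).asIdeal :=
        congrArg PrimeSpectrum.asIdeal hgen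
      have h2 : a ∈ (genPt R).asIdeal.comap ψ.hom := ha
      rw [h1] at h2
      exact h2
    haveI : FaithfulSMul A R := (faithfulSMul_iff_algebraMap_injective A R).mpr hinj
    have : Module.Flat A R := inferInstance
    exact RingHom.flat_algebraMap_iff.mpr this

variable {X S S' : Scheme.{u}}

set_option backward.isDefEq.respectTransparency.types false in
theorem flat_baseChange_dvr (f : X ⟶ S) (g : S' ⟶ S) [LocallyOfFiniteType g]
    (hg : SGA1.UnivSubmersive g) (hflat : Flat (pullback.snd f g))
    (A : Type u) [CommRing A] [IsDomain A] [IsDiscreteValuationRing A]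
    (t : Spec (CommRingCat.of A) ⟶ S) : Flat (pullback.snd f t) := by
  obtain ⟨R, _, _, _, r, hcl, hgen⟩ := exists_dvr_lift g hg A t
  have hρ := dvr_map_props A R (r ≫ pullback.snd g t) hcl hgen
  have hcomm : (r ≫ pullback.snd g t) ≫ t = (r ≫ pullback.fst g t) ≫ g := by
    rw [Category.assoc, Category.assoc, pullback.condition]
  have h1 : Flat (pullback.snd f ((r ≫ pullback.fst g t) ≫ g)) :=
    MorphismProperty.of_isPullback (isPullback_lift_comp f g (r ≫ pullback.fst g t)) hflat
  have h2 : ∀ m : Spec (CommRingCat.of R) ⟶ S, m = (r ≫ pullback.fst g t) ≫ g →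
      Flat (pullback.snd f m) := by
    rintro _ rfl
    exact h1
  have h3 : Flat (pullback.snd f ((r ≫ pullback.snd g t) ≫ t)) := h2 _ hcomm
  haveI := Groth.Agent.Lib.Helper58.FpqcLocal.flat_descendsAlong
  exact MorphismProperty.of_isPullback_of_descendsAlong (P := @Flat)
    (Q := @Surjective ⊓ @Flat ⊓ @QuasiCompact)
    (isPullback_lift_comp f t (r ≫ pullback.snd g t)).flip hρ h3

/-- flatness descends along universally submersive morphisms of finite type to reduced Noetherian
schemes -/
theorem flat_of_univSubmersive [IsLocallyNoetherian S] [IsReduced S] (f : X ⟶ S)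
    [LocallyOfFiniteType f] (g : S' ⟶ S) [LocallyOfFiniteType g]
    (hg : SGA1.UnivSubmersive g) (hflat : Flat (pullback.snd f g)) : Flat f := by
  haveI : LocallyOfFinitePresentation f :=
    LocallyOfFinitePresentation.iff_locallyOfFiniteType.mpr inferInstance
  rw [Flat.iff_flat_stalkMap f]
  intro x
  rw [Groth.Agent.S2562.result f x]
  intro A' _ _ _ φ _ x' _ _
  have hfl : Flat (pullback.snd f (Spec.map (CommRingCat.ofHom φ) ≫
      S.fromSpecStalk (f.base x))) := flat_baseChange_dvr f g hg hflat A' _
  exact (Flat.iff_flat_stalkMap _).mp hfl x'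

end Groth.Agent.H72.QfhFlat
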