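import Groth.Agent.H72.QhTransport
import Groth.Agent.H72.AffineContract
import Groth.Agent.Lib.Helper30.DQC.TildeFF

/-!
# `Hom_K(E,F) = Hom_D(E,F)` for `E` bounded above finite locally free and `F` with
quasi-coherent terms on an affine scheme (helper72)
-/

set_option autoImplicit false
universe u

namespace Groth.Agent.H72.QhAffine

open CategoryTheory CategoryTheory.Limits AlgebraicGeometry
open Groth.Agent.H72.QhTransport
attribute [local instance] HasDerivedCategory.standard

/-- the case of `Spec R` -/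
theorem qhBij_spec {R : CommRingCat.{u}}
    (E F : CochainComplex (Spec (CommRingCat.of R)).Modules ℤ) (b : ℤ)
    (hEb : ∀ i : ℤ, b < i → IsZero (E.X i))
    (hE : ∀ i : ℤ, FlatMod.IsFinLocFree (E.X i)) (hF : ∀ i : ℤ, (F.X i).IsQuasicoherent) :
    QhBij E F := by
  haveI := Groth.Agent.Lib.Helper49.preservesFiniteLimits_tilde R
  haveI := Groth.Agent.Lib.Helper49.preservesFiniteColimits_tilde R
  have hqc : ∀ i, (E.X i).IsQuasicoherent := fun i =>
    Groth.Agent.Lib.Helper49.isQuasicoherent_of_isFinLocFree (E.X i) (hE i)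
  let P := Groth.Agent.Lib.Helper28.BettiPC.ΓCx E
  let M := Groth.Agent.Lib.Helper28.BettiPC.ΓCx F
  let eE : ((tilde.functor R).mapHomologicalComplex (ComplexShape.up ℤ)).obj P ≅ E :=
    Groth.Agent.Lib.Helper28.BettiPC.tildeΓCxIso E hqc
  let eF : ((tilde.functor R).mapHomologicalComplex (ComplexShape.up ℤ)).obj M ≅ F :=
    Groth.Agent.Lib.Helper28.BettiPC.tildeΓCxIso F hF
  haveI : P.IsStrictlyLE b := by
    rw [CochainComplex.isStrictlyLE_iff]
    intro i hi
    exact Functor.map_isZero (moduleSpecΓFunctor (R := R)) (hEb i hi)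
  haveI : ∀ n : ℤ, Projective (P.X n) := by
    intro n
    have ei : tilde (P.X n) ≅ E.X n := (HomologicalComplex.eval _ _ n).mapIso eE
    have hfl : FlatMod.IsFinLocFree (tilde (P.X n)) :=
      Groth.Agent.Lib.Helper14.isFinLocFree_of_iso ei.symm (hE n)
    have hp := ((Groth.Agent.Lib.Helper49.isFinLocFree_tilde_iff (P.X n)).mp hfl).2
    exact (IsProjective.iff_projective (P.X n)).mp hp
  haveI : P.IsKProjective := CochainComplex.isKProjective_of_projective P b
  have h1 : QhBij P M := QhBij.of_isKProjective P M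
  obtain ⟨hfull, hfaith, -⟩ := Groth.Agent.Lib.Helper30.DQC.TildeFF.main R
  haveI : (tilde.functor R).mapDerivedCategory.Full := hfull
  haveI : (tilde.functor R).mapDerivedCategory.Faithful := hfaith
  have h2 := (QhBij.iff_map (tilde.functor R) P M).mp h1
  exact (QhBij.iff_of_iso eE eF).mp h2

/-- **Main theorem.** -/
theorem qhBij_of_isAffine {X : Scheme.{u}} [IsAffine X]
    (E F : CochainComplex X.Modules ℤ) (b : ℤ) (hEb : ∀ i : ℤ, b < i → IsZero (E.X i))
    (hE : ∀ i : ℤ, FlatMod.IsFinLocFree (E.X i)) (hF : ∀ i : ℤ, (F.X i).IsQuasicoherent) :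
    QhBij E F := by
  let ι : Spec (CommRingCat.of Γ(X, ⊤)) ⟶ X := X.isoSpec.inv
  let κ : X ⟶ Spec (CommRingCat.of Γ(X, ⊤)) := X.isoSpec.hom
  let rι := Scheme.Modules.restrictFunctor ι
  let rκ := Scheme.Modules.restrictFunctor κ
  have hκι : κ ≫ ι = 𝟙 X := X.isoSpec.hom_inv_id
  have hικ : ι ≫ κ = 𝟙 _ := X.isoSpec.inv_hom_id
  let α : rι ⋙ rκ ≅ 𝟭 X.Modules :=
    (Scheme.Modules.restrictFunctorComp κ ι).symm ≪≫
      Scheme.Modules.restrictFunctorCongr hκι ≪≫ Scheme.Modules.restrictFunctorId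
  let β : rκ ⋙ rι ≅ 𝟭 _ :=
    (Scheme.Modules.restrictFunctorComp ι κ).symm ≪≫
      Scheme.Modules.restrictFunctorCongr hικ ≪≫ Scheme.Modules.restrictFunctorId
  let e : X.Modules ≌ (Spec (CommRingCat.of Γ(X, ⊤))).Modules := CategoryTheory.Equivalence.mk rι rκ α.symm β
  haveI : rι.IsEquivalence := e.isEquivalence_functor
  haveI : IsIso e.toAdjunction.unit := by
    change IsIso e.unitIso.hom
    infer_instance
  obtain ⟨hfull, hfaith⟩ := full_faithful_mapDerivedCategory (L := rι) (R := rκ) e.toAdjunction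
  haveI : rι.mapDerivedCategory.Full := hfull
  haveI : rι.mapDerivedCategory.Faithful := hfaith
  rw [QhBij.iff_map rι E F]
  exact qhBij_spec (R := Γ(X, ⊤)) _ _ b
    (fun i hi => Functor.map_isZero rι (hEb i hi))
    (fun i => Groth.Agent.Lib.Helper30.PerfRestrict.isFinLocFree_restrict ι _ (hE i))
    (fun i => haveI := hF i; Scheme.Modules.isQuasicoherent_restrictFunctor ι (F.X i))

end Groth.Agent.H72.QhAffine
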