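import Mathlib
import Groth.Agent.Lib.Helper5.AdjDerived

/-!
# Transport of bijectivity of `Hom_K(E,F) → Hom_D(E,F)` along exact functors (helper72)
-/

set_option autoImplicit false
universe w₁ w₂ v₁ v₂ u₁ u₂

namespace Groth.Agent.H72.QhTransport

open CategoryTheory CategoryTheory.Limits

section One

variable {C : Type u₁} [Category.{v₁} C] [Abelian C] [HasDerivedCategory.{w₁} C]

/-- `Hom_K(X,Y) → Hom_D(X,Y)` is bijective -/
def QhBijH (X Y : HomotopyCategory C (ComplexShape.up ℤ)) : Prop :=
  Function.Bijective (fun φ : X ⟶ Y => (DerivedCategory.Qh (C := C)).map φ)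

lemma QhBijH.of_iso {X X' Y Y' : HomotopyCategory C (ComplexShape.up ℤ)} (e₁ : X ≅ X')
    (e₂ : Y ≅ Y') (h : QhBijH X Y) : QhBijH X' Y' := by
  have key : (fun φ : X' ⟶ Y' => (DerivedCategory.Qh (C := C)).map φ) =
      (Iso.homCongr ((DerivedCategory.Qh (C := C)).mapIso e₁)
        ((DerivedCategory.Qh (C := C)).mapIso e₂)) ∘
      (fun φ : X ⟶ Y => (DerivedCategory.Qh (C := C)).map φ) ∘
      (Iso.homCongr e₁ e₂).symm := by
    funext φ
    simp [Iso.homCongr]
  unfold QhBijH
  rw [key]
  exact (Equiv.bijective _).comp (h.comp (Equiv.bijective _))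

lemma QhBijH.iff_of_iso {X X' Y Y' : HomotopyCategory C (ComplexShape.up ℤ)} (e₁ : X ≅ X')
    (e₂ : Y ≅ Y') : QhBijH X Y ↔ QhBijH X' Y' :=
  ⟨fun h => h.of_iso e₁ e₂, fun h => h.of_iso e₁.symm e₂.symm⟩

/-- the version for complexes -/
def QhBij (E F : CochainComplex C ℤ) : Prop :=
  QhBijH ((HomotopyCategory.quotient C (ComplexShape.up ℤ)).obj E)
    ((HomotopyCategory.quotient C (ComplexShape.up ℤ)).obj F)

lemma QhBij.iff_of_iso {E E' F F' : CochainComplex C ℤ} (e₁ : E ≅ E') (e₂ : F ≅ F') :
    QhBij E F ↔ QhBij E' F' :=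
  QhBijH.iff_of_iso ((HomotopyCategory.quotient C (ComplexShape.up ℤ)).mapIso e₁)
    ((HomotopyCategory.quotient C (ComplexShape.up ℤ)).mapIso e₂)

lemma QhBij.of_isKProjective (E F : CochainComplex C ℤ) [E.IsKProjective] : QhBij E F :=
  CochainComplex.IsKProjective.Qh_map_bijective E _

end One

section Two

variable {C : Type u₁} [Category.{v₁} C] [Abelian C] [HasDerivedCategory.{w₁} C]
  {D : Type u₂} [Category.{v₂} D] [Abelian D] [HasDerivedCategory.{w₂} D]
  (Φ : C ⥤ D) [Φ.Additive] [PreservesFiniteLimits Φ] [PreservesFiniteColimits Φ]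

/-- the commutative square relating `Qh` on both sides of an exact functor -/
lemma QhBijH.iff_map [Φ.Full] [Φ.Faithful] [Φ.mapDerivedCategory.Full]
    [Φ.mapDerivedCategory.Faithful] (X Y : HomotopyCategory C (ComplexShape.up ℤ)) :
    QhBijH X Y ↔ QhBijH ((Φ.mapHomotopyCategory (ComplexShape.up ℤ)).obj X)
      ((Φ.mapHomotopyCategory (ComplexShape.up ℤ)).obj Y) := by
  let ΦK := Φ.mapHomotopyCategory (ComplexShape.up ℤ)
  let ΦD := Φ.mapDerivedCategory
  let fh := Φ.mapDerivedCategoryFactorsh
  have hb : Function.Bijective (fun φ : X ⟶ Y => ΦK.map φ) :=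
    (Functor.FullyFaithful.ofFullyFaithful ΦK).map_bijective X Y
  have hd : Function.Bijective (fun ψ : (DerivedCategory.Qh (C := C)).obj X ⟶
      (DerivedCategory.Qh (C := C)).obj Y => ΦD.map ψ) :=
    (Functor.FullyFaithful.ofFullyFaithful ΦD).map_bijective _ _
  have sq : (fun φ : ΦK.obj X ⟶ ΦK.obj Y => (DerivedCategory.Qh (C := D)).map φ) ∘
      (fun φ : X ⟶ Y => ΦK.map φ) =
      (Iso.homCongr (fh.app X) (fh.app Y)) ∘
      (fun ψ : (DerivedCategory.Qh (C := C)).obj X ⟶
        (DerivedCategory.Qh (C := C)).obj Y => ΦD.map ψ) ∘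
      (fun φ : X ⟶ Y => (DerivedCategory.Qh (C := C)).map φ) := by
    funext φ
    have := fh.hom.naturality φ
    simp only [Function.comp_apply, Iso.homCongr_apply, Iso.app_inv, Iso.app_hom]
    have h2 : fh.inv.app X ≫ fh.hom.app X = 𝟙 _ := Iso.inv_hom_id_app fh X
    have h3 : (DerivedCategory.Qh (C := D)).map (ΦK.map φ) =
        fh.inv.app X ≫ fh.hom.app X ≫ (DerivedCategory.Qh (C := D)).map (ΦK.map φ) := by
      rw [← Category.assoc, h2, Category.id_comp]
    rw [h3]
    congr 1
    exact this.symm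
  constructor
  · intro h
    have h1 : Function.Bijective ((fun φ : ΦK.obj X ⟶ ΦK.obj Y =>
        (DerivedCategory.Qh (C := D)).map φ) ∘ (fun φ : X ⟶ Y => ΦK.map φ)) := by
      rw [sq]
      exact (Equiv.bijective _).comp (hd.comp h)
    exact (Function.Bijective.of_comp_iff _ hb).mp h1
  · intro h
    have h1 : Function.Bijective ((Iso.homCongr (fh.app X) (fh.app Y)) ∘
      (fun ψ : (DerivedCategory.Qh (C := C)).obj X ⟶
        (DerivedCategory.Qh (C := C)).obj Y => ΦD.map ψ) ∘
      (fun φ : X ⟶ Y => (DerivedCategory.Qh (C := C)).map φ)) := by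
      rw [← sq]
      exact Function.Bijective.comp h hb
    have h2 := (Function.Bijective.of_comp_iff' (Equiv.bijective _) _).mp h1
    exact (Function.Bijective.of_comp_iff' hd _).mp h2

/-- the version for complexes -/
lemma QhBij.iff_map [Φ.Full] [Φ.Faithful] [Φ.mapDerivedCategory.Full]
    [Φ.mapDerivedCategory.Faithful] (E F : CochainComplex C ℤ) :
    QhBij E F ↔ QhBij ((Φ.mapHomologicalComplex (ComplexShape.up ℤ)).obj E)
      ((Φ.mapHomologicalComplex (ComplexShape.up ℤ)).obj F) := by
  unfold QhBij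
  rw [QhBijH.iff_map Φ]
  exact QhBijH.iff_of_iso ((Φ.mapHomotopyCategoryFactors (ComplexShape.up ℤ)).app E)
    ((Φ.mapHomotopyCategoryFactors (ComplexShape.up ℤ)).app F)

end Two

section Equiv

variable {A : Type u₁} [Category.{v₁} A] [Abelian A] [HasDerivedCategory.{w₁} A]
  {B : Type u₂} [Category.{v₂} B] [Abelian B] [HasDerivedCategory.{w₂} B]
  {L : B ⥤ A} {R : A ⥤ B} [L.Additive] [R.Additive]
  [PreservesFiniteLimits L] [PreservesFiniteColimits L]
  [PreservesFiniteLimits R] [PreservesFiniteColimits R] (adj : L ⊣ R)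

open Groth.Agent.Lib.Helper5 in
/-- if the unit of an adjunction of exact functors is an isomorphism, so is the unit of the
derived adjunction -/
lemma isIso_unit_mapDerivedCategoryAdj [IsIso adj.unit] :
    IsIso (mapDerivedCategoryAdj adj).unit := by
  haveI : ∀ X : DerivedCategory B, IsIso ((mapDerivedCategoryAdj adj).unit.app X) := by
    intro X
    obtain ⟨K, ⟨e⟩⟩ : ∃ K : CochainComplex B ℤ, Nonempty (DerivedCategory.Q.obj K ≅ X) :=
      ⟨_, ⟨DerivedCategory.Q.objObjPreimageIso X⟩⟩
    have hK : IsIso ((mapDerivedCategoryAdj adj).unit.app (DerivedCategory.Q.obj K)) := by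
      letI : CatCommSq (L.mapHomologicalComplex (ComplexShape.up ℤ)) DerivedCategory.Q
          DerivedCategory.Q L.mapDerivedCategory := ⟨L.mapDerivedCategoryFactors.symm⟩
      letI : CatCommSq (R.mapHomologicalComplex (ComplexShape.up ℤ)) DerivedCategory.Q
          DerivedCategory.Q R.mapDerivedCategory := ⟨R.mapDerivedCategoryFactors.symm⟩
      have h1 := Adjunction.localization_unit_app
        (mapHomologicalComplexAdj adj (ComplexShape.up ℤ)) DerivedCategory.Q
        (HomologicalComplex.quasiIso B (ComplexShape.up ℤ)) DerivedCategory.Q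
        (HomologicalComplex.quasiIso A (ComplexShape.up ℤ)) L.mapDerivedCategory
        R.mapDerivedCategory K
      haveI : ∀ i, IsIso (((mapHomologicalComplexAdj adj (ComplexShape.up ℤ)).unit.app K).f i) := by
        intro i
        change IsIso (adj.unit.app (K.X i))
        infer_instance
      haveI : IsIso ((mapHomologicalComplexAdj adj (ComplexShape.up ℤ)).unit.app K) :=
        HomologicalComplex.Hom.isIso_of_components _
      unfold mapDerivedCategoryAdj
      rw [h1]
      infer_instance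
    have hn := (mapDerivedCategoryAdj adj).unit.naturality e.hom
    have : (mapDerivedCategoryAdj adj).unit.app X =
        e.inv ≫ (mapDerivedCategoryAdj adj).unit.app (DerivedCategory.Q.obj K) ≫
          (L.mapDerivedCategory ⋙ R.mapDerivedCategory).map e.hom := by
      rw [← hn]
      simp
    rw [this]
    infer_instance
  exact NatIso.isIso_of_isIso_app _

open Groth.Agent.Lib.Helper5 in
lemma full_faithful_mapDerivedCategory [IsIso adj.unit] :
    L.mapDerivedCategory.Full ∧ L.mapDerivedCategory.Faithful := by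
  haveI := isIso_unit_mapDerivedCategoryAdj adj
  exact ⟨(mapDerivedCategoryAdj adj).fullyFaithfulLOfIsIsoUnit.full,
    (mapDerivedCategoryAdj adj).fullyFaithfulLOfIsIsoUnit.faithful⟩

end Equiv

end Groth.Agent.H72.QhTransport
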