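import Groth.Agent.H72.Chev45
import Groth.Agent.Lib.Helper55.ZeroLocusEquidim
import Groth.Agent.Lib.Helper13.AffSpaceQF
import Groth.Agent.H72.NormalBir3

/-!
# Quasi-finite quasi-sections of equidimensional morphisms (EGA IV 14.5.?, S4944)

Library of helper72.
-/

set_option autoImplicit false

namespace Groth.Agent.H72.QuasiSection

open CategoryTheory AlgebraicGeometry Limits EGA43 TopologicalSpace Topology
open Groth.Agent.Lib.Helper55

universe u

section drop

variable {X Y X₁ : Scheme.{u}} [IsLocallyNoetherian Y] (f : X ⟶ Y) [LocallyOfFiniteType f]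
  (i : X₁ ⟶ X) [IsClosedImmersion i]

/-- Local form of the drop of the fibre dimension: only the maximal points of the fibre
specializing to `i w` matter. -/
theorem fibreDimAt_comp_add_one_le' (w : X₁)
    (hmax : ∀ z : X, f.base z = f.base (i.base w) → z ⤳ i.base w →
      (∀ z' : X, f.base z' = f.base (i.base w) → z' ⤳ z → z' = z) → z ∉ Set.range i.base) :
    FlatMor.fibreDimAt (i ≫ f) w + 1 ≤ FlatMor.fibreDimAt f (i.base w) := by
  obtain ⟨z₁, hfz₁, hz₁w, -, n, hn, hFw, -, -⟩ := exists_maximal_point_fiber (i ≫ f) w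
  have hfz₁' : f.base (i.base z₁) = f.base (i.base w) := hfz₁
  have hnot : ¬ ∀ z' : X, f.base z' = f.base (i.base w) → z' ⤳ i.base z₁ → z' = i.base z₁ :=
    fun h => hmax (i.base z₁) hfz₁' (hz₁w.map i.continuous) h ⟨z₁, rfl⟩
  push Not at hnot
  obtain ⟨z', hfz', hz'z₁, hne⟩ := hnot
  obtain ⟨m, hm⟩ := exists_trdeg_residueField_eq_natCast f z'
  have hn' := (trdeg_residueField_preimmersion_comp i f z₁).symm.trans hn
  have hstrict := trdeg_add_one_le_of_specializes_of_fiber_eq f z' (i.base z₁) hz'z₁ hne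
    (hfz'.trans hfz₁'.symm) n m hn' hm
  have hche := trdeg_le_fibreDimAt_of_specializes f z' (i.base w)
    (hz'z₁.trans (hz₁w.map i.continuous)) m hm
  rw [hFw]
  refine le_trans ?_ hche
  exact_mod_cast hstrict

end drop

section closedPoint

variable {X Y : Scheme.{u}} (f : X ⟶ Y) [LocallyOfFiniteType f]

/-- A point which is both closed and maximal in its fibre has local fibre dimension `0`. -/
theorem fibreDimAt_eq_zero_of_closed_of_maximal (x : X)
    (hcl : ∀ x' : X, f.base x' = f.base x → x ⤳ x' → x' = x)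
    (hmax : ∀ z : X, f.base z = f.base x → z ⤳ x → z = x) :
    FlatMor.fibreDimAt f x = 0 := by
  obtain ⟨z, hfz, hzx, -, n, hn, hFx, -, -⟩ := exists_maximal_point_fiber f x
  have hzeq : z = x := hmax z hfz hzx
  subst hzeq
  obtain ⟨m, hm1, hm2⟩ := exists_dim_closure_inter_fibre_eq_trdeg f z
  have hset : closure ({z} : Set X) ∩ f.base ⁻¹' {f.base z} = {z} := by
    ext p
    constructor
    · rintro ⟨hp1, hp2⟩
      exact hcl p hp2 (specializes_iff_mem_closure.mpr hp1)
    · rintro rfl
      exact ⟨subset_closure rfl, rfl⟩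
  have h0 : topologicalKrullDim ↥(closure ({z} : Set X) ∩ f.base ⁻¹' {f.base z}) ≤ 0 := by
    rw [hset]
    haveI : Subsingleton ↥({z} : Set X) := (Set.subsingleton_singleton).coe_sort
    exact topologicalKrullDim_zero_of_discreteTopology _
  rw [hm1] at h0
  have hm0 : m = 0 := by
    have : m ≤ 0 := by exact_mod_cast h0
    omega
  have hnm : n = m := by
    have : ((n : ℕ) : Cardinal) = ((m : ℕ) : Cardinal) := by rw [← hn, ← hm2]
    exact_mod_cast this
  rw [hFx, hnm, hm0]
  rfl

end closedPoint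

section ring

/-- Prime avoidance against the minimal primes of an ideal. -/
theorem exists_mem_notMem_minimalPrimes {B : Type*} [CommRing B] [IsNoetherianRing B]
    (I P : Ideal B) [P.IsPrime] (hIP : I ≤ P) (hP : P ∉ I.minimalPrimes) :
    ∃ h ∈ P, ∀ Q ∈ I.minimalPrimes, h ∉ Q := by
  have hfin := I.finite_minimalPrimes_of_isNoetherianRing
  by_contra hcon
  push Not at hcon
  have hsub : (P : Set B) ⊆ ⋃ Q ∈ (↑hfin.toFinset : Set (Ideal B)), id Q := by
    intro h hh
    obtain ⟨Q, hQ, hhQ⟩ := hcon h hh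
    simp only [Set.mem_iUnion]
    exact ⟨Q, by simpa using hQ, hhQ⟩
  obtain ⟨Q, hQ, hPQ⟩ := (Ideal.subset_union_prime (⊥ : Ideal B) ⊥
    (fun Q hQ _ _ => (hfin.mem_toFinset.mp hQ).1.1)).mp hsub
  have hQ' : Q ∈ I.minimalPrimes := hfin.mem_toFinset.mp hQ
  have hQP : Q ≤ P := hQ'.2 ⟨inferInstance, hIP⟩ hPQ
  exact hP (le_antisymm hPQ hQP ▸ hQ')

end ring

section chart

variable {X Y : Scheme.{u}} (f : X ⟶ Y) {V : Y.Opens} {U : X.Opens} (hUV : U ≤ f ⁻¹ᵁ V)
  (hU : IsAffineOpen U) (hV : IsAffineOpen V)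

include hV in
/-- Two points of the chart have the same image iff their primes have the same contraction. -/
theorem map_eq_iff_comap_eq (x z : X) (hx : x ∈ U) (hz : z ∈ U) :
    f.base z = f.base x ↔
      (hU.primeIdealOf ⟨z, hz⟩).asIdeal.comap (f.appLE V U hUV).hom =
        (hU.primeIdealOf ⟨x, hx⟩).asIdeal.comap (f.appLE V U hUV).hom := by
  rw [← primeIdealOf_comap f hUV z hz hU hV, ← primeIdealOf_comap f hUV x hx hU hV]
  constructor
  · intro h
    have : (⟨f.base z, hUV hz⟩ : V) = ⟨f.base x, hUV hx⟩ := Subtype.ext h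
    rw [this]
  · intro h
    exact primeIdealOf_injective hV _ _ (hUV hz) (hUV hx) (PrimeSpectrum.ext h)

include hV in
/-- A maximal point of the fibre gives a minimal prime of the extended ideal. -/
theorem primeIdealOf_mem_minimalPrimes (x z : X) (hx : x ∈ U) (hz : z ∈ U)
    (hfz : f.base z = f.base x)
    (hmax : ∀ z' : X, f.base z' = f.base x → z' ⤳ z → z' = z) :
    (hU.primeIdealOf ⟨z, hz⟩).asIdeal ∈
      (((hU.primeIdealOf ⟨x, hx⟩).asIdeal.comap (f.appLE V U hUV).hom).map
        (f.appLE V U hUV).hom).minimalPrimes := by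
  have hc := (map_eq_iff_comap_eq f hUV hU hV x z hx hz).mp hfz
  refine ⟨⟨(hU.primeIdealOf ⟨z, hz⟩).2, ?_⟩, ?_⟩
  · rw [Ideal.map_le_iff_le_comap, hc]
  · rintro Q ⟨hQp, hIQ⟩ hQz
    obtain ⟨z', hz', hz'Q⟩ := exists_primeIdealOf_eq hU ⟨Q, hQp⟩
    have hQeq : (hU.primeIdealOf ⟨z', hz'⟩).asIdeal = Q := congrArg PrimeSpectrum.asIdeal hz'Q
    have hsp : z' ⤳ z := by
      rw [← primeIdealOf_le_iff_specializes hU z' z hz' hz, hQeq]
      exact hQz
    have hfz' : f.base z' = f.base x := by
      rw [map_eq_iff_comap_eq f hUV hU hV x z' hx hz', hQeq]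
      apply le_antisymm
      · rw [← hc]
        exact Ideal.comap_mono hQz
      · exact Ideal.map_le_iff_le_comap.mp hIQ
    have := hmax z' hfz' hsp
    subst this
    rw [hQeq]

include hV in
/-- If the prime of `x` is minimal over the extended ideal, `x` is a maximal point of its
fibre. -/
theorem maximal_of_mem_minimalPrimes (x : X) (hx : x ∈ U)
    (hmin : (hU.primeIdealOf ⟨x, hx⟩).asIdeal ∈
      (((hU.primeIdealOf ⟨x, hx⟩).asIdeal.comap (f.appLE V U hUV).hom).map
        (f.appLE V U hUV).hom).minimalPrimes)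
    (z : X) (hfz : f.base z = f.base x) (hzx : z ⤳ x) : z = x := by
  have hz : z ∈ U := hzx.mem_open U.2 hx
  have hc := (map_eq_iff_comap_eq f hUV hU hV x z hx hz).mp hfz
  have hle : (hU.primeIdealOf ⟨z, hz⟩).asIdeal ≤ (hU.primeIdealOf ⟨x, hx⟩).asIdeal :=
    (primeIdealOf_le_iff_specializes hU z x hz hx).mpr hzx
  have hI : ((hU.primeIdealOf ⟨x, hx⟩).asIdeal.comap (f.appLE V U hUV).hom).map
      (f.appLE V U hUV).hom ≤ (hU.primeIdealOf ⟨z, hz⟩).asIdeal := by
    rw [Ideal.map_le_iff_le_comap, hc]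
  have hge := hmin.2 ⟨(hU.primeIdealOf ⟨z, hz⟩).2, hI⟩ hle
  exact primeIdealOf_injective hU z x hz hx (PrimeSpectrum.ext (le_antisymm hle hge))

end chart

section step

variable {X Y : Scheme.{u}} [IrreducibleSpace Y] [IsLocallyNoetherian Y] (f : X ⟶ Y)
  [LocallyOfFiniteType f]

set_option backward.isDefEq.respectTransparency.types false in
/-- **Hypersurface step**: at a point closed in its fibre where `f` is equidimensional of positive
relative dimension, there is a closed subscheme through the point on which `f` is equidimensional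
of relative dimension one less. -/
theorem exists_hypersurface (x : X) (hE : EGA43.IsEquidimAt f x)
    (hcl : ∀ x' : X, f.base x' = f.base x → x ⤳ x' → x' = x) (e : ℕ)
    (hfd : FlatMor.fibreDimAt f x = ((e + 1 : ℕ) : WithBot ℕ∞)) :
    ∃ (X₁ : Scheme.{u}) (iX : X₁ ⟶ X) (_ : IsClosedImmersion iX) (w : X₁), iX.base w = x ∧
      EGA43.IsEquidimAt (iX ≫ f) w ∧ FlatMor.fibreDimAt (iX ≫ f) w = (e : WithBot ℕ∞) := by
  have hX : IsLocallyNoetherian X := LocallyOfFiniteType.isLocallyNoetherian f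
  obtain ⟨V, hV, hyV, -⟩ := exists_isAffineOpen_mem_and_subset (x := f.base x) (U := ⊤) trivial
  obtain ⟨U, hU, hxU, hUV⟩ := exists_isAffineOpen_mem_and_subset (x := x) (U := f ⁻¹ᵁ V) hyV
  have hN : IsNoetherianRing Γ(X, U) := IsLocallyNoetherian.component_noetherian ⟨U, hU⟩
  -- `x` is not a maximal point of its fibre
  have hnotmin : (hU.primeIdealOf ⟨x, hxU⟩).asIdeal ∉
      (((hU.primeIdealOf ⟨x, hxU⟩).asIdeal.comap (f.appLE V U hUV).hom).map
        (f.appLE V U hUV).hom).minimalPrimes := by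
    intro hmin
    have h0 := fibreDimAt_eq_zero_of_closed_of_maximal f x hcl
      (maximal_of_mem_minimalPrimes f hUV hU hV x hxU hmin)
    rw [h0] at hfd
    have : (0 : ℕ) = e + 1 := by exact_mod_cast hfd
    omega
  haveI : (hU.primeIdealOf ⟨x, hxU⟩).asIdeal.IsPrime := (hU.primeIdealOf ⟨x, hxU⟩).2
  obtain ⟨h, hhx, hhQ⟩ := exists_mem_notMem_minimalPrimes _ (hU.primeIdealOf ⟨x, hxU⟩).asIdeal
    Ideal.map_comap_le hnotmin
  -- the closed subset
  have hjemb : Topology.IsOpenEmbedding hU.fromSpec.base := hU.fromSpec.isOpenEmbedding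
  have hjp : ∀ (z : X) (hz : z ∈ U), hU.fromSpec.base (hU.primeIdealOf ⟨z, hz⟩) = z :=
    fun z hz => hU.fromSpec_primeIdealOf ⟨z, hz⟩
  obtain ⟨Z₀, hZ₀cl, hZ₀⟩ : ∃ Z₀ : Set ↥(Spec Γ(X, U)), IsClosed Z₀ ∧
      ∀ q : ↥(Spec Γ(X, U)), q ∈ Z₀ ↔ h ∈ q.asIdeal := by
    refine ⟨PrimeSpectrum.zeroLocus {h}, PrimeSpectrum.isClosed_zeroLocus _, fun q => ?_⟩
    exact (PrimeSpectrum.mem_zeroLocus q {h}).trans Set.singleton_subset_iff
  have hC : ∀ q : ↥(Spec Γ(X, U)),
      hU.fromSpec.base q ∈ closure (hU.fromSpec.base '' Z₀) → h ∈ q.asIdeal := by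
    intro q hq
    have h1 : q ∈ hU.fromSpec.base ⁻¹' closure (hU.fromSpec.base '' Z₀) := hq
    rw [← hjemb.toIsInducing.closure_eq_preimage_closure_image, hZ₀cl.closure_eq] at h1
    exact (hZ₀ q).mp h1
  obtain ⟨Zc, hZc⟩ : ∃ Zc : TopologicalSpace.Closeds X,
      (Zc : Set X) = closure (hU.fromSpec.base '' Z₀) :=
    ⟨⟨_, isClosed_closure⟩, rfl⟩
  have hrange : Set.range (Scheme.IdealSheafData.vanishingIdeal Zc).subschemeι.base =
      closure (hU.fromSpec.base '' Z₀) := by
    rw [Scheme.IdealSheafData.range_subschemeι, Scheme.IdealSheafData.coe_support_vanishingIdeal,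
      hZc]
  have hxC : x ∈ Set.range (Scheme.IdealSheafData.vanishingIdeal Zc).subschemeι.base := by
    rw [hrange]
    apply subset_closure
    exact ⟨hU.primeIdealOf ⟨x, hxU⟩, (hZ₀ _).mpr hhx, hjp x hxU⟩
  obtain ⟨w, hw⟩ := hxC
  refine ⟨_, (Scheme.IdealSheafData.vanishingIdeal Zc).subschemeι, inferInstance, w, hw, ?_⟩
  subst hw
  -- codimension
  have hcodim : ∀ ξ : ↥(Scheme.IdealSheafData.vanishingIdeal Zc).subscheme,
      (∀ ζ : ↥(Scheme.IdealSheafData.vanishingIdeal Zc).subscheme, ζ ⤳ ξ → ξ ⤳ ζ) → ξ ⤳ w →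
      ringKrullDim (X.presheaf.stalk
        ((Scheme.IdealSheafData.vanishingIdeal Zc).subschemeι.base ξ)) ≤ (1 : ℕ) := by
    intro ξ hξmax hξw
    have hsp := hξw.map (Scheme.IdealSheafData.vanishingIdeal Zc).subschemeι.continuous
    have hpU : (Scheme.IdealSheafData.vanishingIdeal Zc).subschemeι.base ξ ∈ U :=
      hsp.mem_open U.2 hxU
    rw [Groth.Agent.S4442.ringKrullDim_stalk_eq_height X hU _ hpU]
    have hpC : hU.fromSpec.base (hU.primeIdealOf ⟨_, hpU⟩) ∈
        closure (hU.fromSpec.base '' Z₀) := by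
      rw [hjp _ hpU, ← hrange]
      exact ⟨ξ, rfl⟩
    have hmin : (hU.primeIdealOf ⟨_, hpU⟩).asIdeal ∈ (Ideal.span {h}).minimalPrimes := by
      refine ⟨⟨(hU.primeIdealOf ⟨_, hpU⟩).2, ?_⟩, ?_⟩
      · rw [Ideal.span_le, Set.singleton_subset_iff]
        exact hC _ hpC
      · rintro Q ⟨hQp, hhQ'⟩ hQle
        have hQC : hU.fromSpec.base ⟨Q, hQp⟩ ∈
            Set.range (Scheme.IdealSheafData.vanishingIdeal Zc).subschemeι.base := by
          rw [hrange]
          apply subset_closure
          exact ⟨⟨Q, hQp⟩, (hZ₀ _).mpr (hhQ' (Ideal.subset_span (Set.mem_singleton h))), rfl⟩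
        obtain ⟨ζ, hζ⟩ := hQC
        have h1 : hU.fromSpec.base ⟨Q, hQp⟩ ⤳
            hU.fromSpec.base (hU.primeIdealOf ⟨_, hpU⟩) := by
          apply Specializes.map _ hU.fromSpec.continuous
          exact (PrimeSpectrum.le_iff_specializes _ _).mp hQle
        rw [hjp _ hpU, ← hζ] at h1
        have h2 : ζ ⤳ ξ :=
          (Scheme.IdealSheafData.vanishingIdeal Zc).subschemeι.isEmbedding.toIsInducing.specializes_iff.mp
            h1
        have h3 := (hξmax ζ h2).map
          (Scheme.IdealSheafData.vanishingIdeal Zc).subschemeι.continuous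
        rw [hζ, ← hjp _ hpU] at h3
        have h4 := hjemb.toIsInducing.specializes_iff.mp h3
        exact (PrimeSpectrum.le_iff_specializes _ _).mpr h4
    have := Ideal.height_le_one_of_isPrincipal_of_mem_minimalPrimes _ _ hmin
    exact_mod_cast this
  -- drop of the fibre dimension
  have hdim : FlatMor.fibreDimAt ((Scheme.IdealSheafData.vanishingIdeal Zc).subschemeι ≫ f) w +
      ((1 : ℕ) : WithBot ℕ∞) ≤
      FlatMor.fibreDimAt f ((Scheme.IdealSheafData.vanishingIdeal Zc).subschemeι.base w) := by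
    have := fibreDimAt_comp_add_one_le' f (Scheme.IdealSheafData.vanishingIdeal Zc).subschemeι w ?_
    · exact_mod_cast this
    intro z hfz hzx hzmax hzC
    have hzU : z ∈ U := hzx.mem_open U.2 hxU
    have hzmin := primeIdealOf_mem_minimalPrimes f hUV hU hV _ z hxU hzU hfz hzmax
    apply hhQ _ hzmin
    apply hC
    rw [hjp z hzU, ← hrange]
    exact hzC
  obtain ⟨-, r2, r3⟩ := equidim_sub' f (Scheme.IdealSheafData.vanishingIdeal Zc).subschemeι w hE 1
    hcodim hdim
  refine ⟨r3, ?_⟩
  rw [hfd] at r2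
  have h5 : FlatMor.fibreDimAt ((Scheme.IdealSheafData.vanishingIdeal Zc).subschemeι ≫ f) w +
      ((1 : ℕ) : WithBot ℕ∞) = (e : WithBot ℕ∞) + ((1 : ℕ) : WithBot ℕ∞) := by
    rw [r2]; push_cast; rfl
  exact withBot_enat_add_right_cancel 1 h5

end step

section base

variable {X Y : Scheme.{u}} [IrreducibleSpace Y] [IsLocallyNoetherian Y] (f : X ⟶ Y)
  [LocallyOfFiniteType f]

/-- The conclusion of S4944: a quasi-finite dominant quasi-section through `x`. -/
def HasQuasiSection {X Y : Scheme.{u}} (f : X ⟶ Y) (x : X) : Prop :=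
  ∃ (T : Scheme.{u}) (i : T ⟶ X), IsImmersion i ∧ IrreducibleSpace ↥T ∧ IsReduced T ∧
    x ∈ Set.range i.base ∧ LocallyOfFiniteType (i ≫ f) ∧ LocallyQuasiFinite (i ≫ f) ∧
    QuasiCompact (i ≫ f) ∧ IsDominant (i ≫ f)

set_option backward.isDefEq.respectTransparency.types false in
/-- Base case: relative dimension `0`. -/
theorem hasQuasiSection_of_fibreDimAt_eq_zero (x : X) (hE : EGA43.IsEquidimAt f x)
    (hfd : FlatMor.fibreDimAt f x = 0) : HasQuasiSection f x := by
  -- an irreducible component through `x`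
  have hXj : irreducibleComponent x ∈ irreducibleComponents (X : Type u) :=
    irreducibleComponent_mem_irreducibleComponents x
  have hx : x ∈ irreducibleComponent x := mem_irreducibleComponent
  obtain ⟨e', H⟩ := components_of_isEquidimAt f x hE
  obtain ⟨hdom, -, -⟩ := H _ hXj hx
  rw [irreducibleComponents_eq_singleton, Set.mem_singleton_iff] at hdom
  obtain ⟨Zc, hZc⟩ : ∃ Zc : TopologicalSpace.Closeds X, (Zc : Set X) = irreducibleComponent x :=
    ⟨⟨_, isClosed_irreducibleComponent⟩, rfl⟩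
  have hrange : Set.range (Scheme.IdealSheafData.vanishingIdeal Zc).subschemeι.base =
      irreducibleComponent x := by
    rw [Scheme.IdealSheafData.range_subschemeι, Scheme.IdealSheafData.coe_support_vanishingIdeal,
      hZc]
  haveI : IrreducibleSpace ↥(Scheme.IdealSheafData.vanishingIdeal Zc).subscheme :=
    Groth.Agent.H72.NormalBir.irreducibleSpace_vanishingIdeal_subscheme Zc
      (by rw [hZc]; exact isIrreducible_irreducibleComponent)
  obtain ⟨w, hw⟩ : x ∈ Set.range (Scheme.IdealSheafData.vanishingIdeal Zc).subschemeι.base := by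
    rw [hrange]; exact hx
  -- fibre dimension of the component
  have hfd' : FlatMor.fibreDimAt ((Scheme.IdealSheafData.vanishingIdeal Zc).subschemeι ≫ f) w =
      ((0 : ℕ) : WithBot ℕ∞) := by
    apply le_antisymm
    · have := fibreDimAt_preimmersion_comp_le f
        (Scheme.IdealSheafData.vanishingIdeal Zc).subschemeι w
      rw [hw, hfd] at this
      exact_mod_cast this
    · exact_mod_cast localDim_nonneg _
  obtain ⟨V, hV, hyV, -⟩ := exists_isAffineOpen_mem_and_subset
    (x := ((Scheme.IdealSheafData.vanishingIdeal Zc).subschemeι ≫ f).base w) (U := ⊤) trivial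
  obtain ⟨U, hU, hwU, g, π, hg, hπ, hqf, hlft⟩ :=
    Groth.Agent.Lib.Helper13.AffSpaceNorm.exists_quasiFinite_toAffineSpace
      ((Scheme.IdealSheafData.vanishingIdeal Zc).subschemeι ≫ f) w V hV hyV 0 hfd'
  have hcomp : (U.ι ≫ (Scheme.IdealSheafData.vanishingIdeal Zc).subschemeι) ≫ f =
      (π ≫ (𝔸(ULift.{u} (Fin 0); (V : Scheme.{u})) ↘ (V : Scheme.{u}))) ≫ V.ι := by
    rw [hπ, hg, Category.assoc]
  haveI : IsAffine (U : Scheme.{u}) := hU
  haveI : IrreducibleSpace ↥(U : Scheme.{u}) := by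
    apply irreducibleSpace_of_isEmbedding U.ι.base U.ι.isEmbedding
    rw [Scheme.Opens.range_ι]
    exact ⟨⟨w, hwU⟩, (IrreducibleSpace.isIrreducible_univ _).isPreirreducible.open_subset U.2
      (Set.subset_univ _)⟩
  refine ⟨U, U.ι ≫ (Scheme.IdealSheafData.vanishingIdeal Zc).subschemeι, inferInstance,
    inferInstance, inferInstance, ⟨⟨w, hwU⟩, hw⟩, ?_, ?_, ?_, ?_⟩
  · rw [Category.assoc]; infer_instance
  · rw [hcomp]; infer_instance
  · infer_instance
  · -- dominance
    constructor
    have hgp : IsGenericPoint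
        (((U.ι ≫ (Scheme.IdealSheafData.vanishingIdeal Zc).subschemeι) ≫ f).base
          (genericPoint ↥(U : Scheme.{u})))
        (closure (((U.ι ≫ (Scheme.IdealSheafData.vanishingIdeal Zc).subschemeι) ≫ f).base ''
          Set.univ)) :=
      (genericPoint_spec _).image
        ((U.ι ≫ (Scheme.IdealSheafData.vanishingIdeal Zc).subschemeι) ≫ f).continuous
    -- the generic point of `U` maps to the generic point of the component
    have h1 : IsGenericPoint
        ((U.ι ≫ (Scheme.IdealSheafData.vanishingIdeal Zc).subschemeι).base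
          (genericPoint ↥(U : Scheme.{u}))) (irreducibleComponent x) := by
      have h2 : IsGenericPoint (U.ι.base (genericPoint ↥(U : Scheme.{u})))
          (Set.univ : Set ↥(Scheme.IdealSheafData.vanishingIdeal Zc).subscheme) := by
        have h3 : IsGenericPoint (U.ι.base (genericPoint ↥(U : Scheme.{u})))
            (closure (U.ι.base '' Set.univ)) := (genericPoint_spec _).image U.ι.continuous
        rw [Set.image_univ, Scheme.Opens.range_ι] at h3
        have h4 : closure (U : Set ↥(Scheme.IdealSheafData.vanishingIdeal Zc).subscheme) =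
            Set.univ := by
          have hd : Dense (U : Set ↥(Scheme.IdealSheafData.vanishingIdeal Zc).subscheme) :=
            U.2.dense ⟨w, hwU⟩
          exact hd.closure_eq
        rwa [h4] at h3
      have h5 := h2.image (Scheme.IdealSheafData.vanishingIdeal Zc).subschemeι.continuous
      rw [Set.image_univ, hrange, isClosed_irreducibleComponent.closure_eq] at h5
      rw [Scheme.Hom.comp_apply]
      exact h5
    have h6 := h1.image f.continuous
    rw [hdom] at h6
    rw [DenseRange, dense_iff_closure_eq]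
    apply Set.eq_univ_of_univ_subset
    rw [← h6.def]
    apply closure_mono
    rintro _ rfl
    exact ⟨genericPoint ↥(U : Scheme.{u}), by rw [Scheme.Hom.comp_apply]⟩

end base

section main

variable {Y : Scheme.{u}} [IrreducibleSpace Y] [IsLocallyNoetherian Y]

set_option backward.isDefEq.respectTransparency.types false in
/-- Induction on the relative dimension. -/
theorem hasQuasiSection_aux (e : ℕ) : ∀ {X : Scheme.{u}} (f : X ⟶ Y) [LocallyOfFiniteType f]
    (x : X), EGA43.IsEquidimAt f x →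
    (∀ x' : X, f.base x' = f.base x → x ⤳ x' → x' = x) →
    FlatMor.fibreDimAt f x = (e : WithBot ℕ∞) → HasQuasiSection f x := by
  induction e with
  | zero =>
    intro X f _ x hE _ hfd
    exact hasQuasiSection_of_fibreDimAt_eq_zero f x hE (by exact_mod_cast hfd)
  | succ e ih =>
    intro X f _ x hE hcl hfd
    obtain ⟨X₁, iX, hiX, w, hw, hE₁, hfd₁⟩ := exists_hypersurface f x hE hcl e hfd
    subst hw
    have hcl₁ : ∀ w' : X₁, (iX ≫ f).base w' = (iX ≫ f).base w → w ⤳ w' → w' = w := by
      intro w' hfw' hsp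
      apply iX.isEmbedding.injective
      apply hcl
      · rw [Scheme.Hom.comp_apply, Scheme.Hom.comp_apply] at hfw'
        exact hfw'
      · exact hsp.map iX.continuous
    obtain ⟨T, i, h1, h2, h3, ⟨t, ht⟩, h5, h6, h7, h8⟩ := ih (iX ≫ f) w hE₁ hcl₁ hfd₁
    refine ⟨T, i ≫ iX, inferInstance, h2, h3, ⟨t, ?_⟩, ?_, ?_, ?_, ?_⟩
    · rw [Scheme.Hom.comp_apply, ht]
    · rw [Category.assoc]; exact h5
    · rw [Category.assoc]; exact h6
    · rw [Category.assoc]; exact h7
    · rw [Category.assoc]; exact h8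

/-- **EGA IV 14.5.? (S4944)**: quasi-finite dominant quasi-sections through a point closed in its
fibre at which the morphism is equidimensional. -/
theorem hasQuasiSection {X : Scheme.{u}} (f : X ⟶ Y) [LocallyOfFiniteType f] (x : X)
    (hE : EGA43.IsEquidimAt f x)
    (hcl : ∀ x' : X, f.base x' = f.base x → x ⤳ x' → x' = x) : HasQuasiSection f x := by
  obtain ⟨e, U, hxU, h1, h2⟩ := hE
  have hfd : FlatMor.fibreDimAt f x = e := fibreDimAt_eq_of_isEquidimAt f x h2 hxU
  exact hasQuasiSection_aux e f x ⟨e, U, hxU, h1, h2⟩ hcl hfd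

end main

end Groth.Agent.H72.QuasiSection
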