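import Groth.Agent.H72.QuasiSection
import Groth.Agent.Lib.Helper85.RegularLocal

/-!
# Quasi-sections inside irreducible components over a regular base of dimension one
(EGA IV 14.5.?, S4946)

Library of helper72.
-/

set_option autoImplicit false

namespace Groth.Agent.H72.QuasiSectionDim1

open CategoryTheory AlgebraicGeometry Limits EGA43 TopologicalSpace Topology
open Groth.Agent.Lib.Helper55

universe u

/-- Over a point whose local ring is a domain of dimension at most one, the only generizations are
the point itself and maximal points. -/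
theorem eq_or_maximal_of_specializes {Y : Scheme.{u}} (y y' : Y) (hy' : y' ⤳ y)
    [IsDomain (Y.presheaf.stalk y)] (hdim : ringKrullDim (Y.presheaf.stalk y) ≤ 1) :
    y' = y ∨ ∀ v : Y, v ⤳ y' → y' ⤳ v := by
  obtain ⟨p, rfl⟩ := exists_stalkPoint_eq y y' hy'
  haveI : Ring.KrullDimLE 1 (Y.presheaf.stalk y) := Ring.krullDimLE_iff.mpr hdim
  by_cases hp : p.asIdeal = ⊥
  · right
    apply stalkPoint_maximal_of_mem_minimalPrimes y p
    rw [hp]
    exact ⟨⟨Ideal.isPrime_bot, le_rfl⟩, fun q _ _ => bot_le⟩
  · left
    have hmax : p.asIdeal.IsMaximal := Ideal.IsPrime.isMaximal_of_ne_bot p.2 hp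
    have h1 : p.asIdeal = IsLocalRing.maximalIdeal (Y.presheaf.stalk y) :=
      IsLocalRing.eq_maximalIdeal hmax
    have h2 : p = IsLocalRing.closedPoint (Y.presheaf.stalk y) := PrimeSpectrum.ext h1
    rw [h2]
    exact Scheme.fromSpecStalk_closedPoint

set_option backward.isDefEq.respectTransparency.types false in
/-- An irreducible scheme dominating a regular irreducible base of dimension at most one has
quasi-finite quasi-sections through every point closed in its fibre. -/
theorem hasQuasiSection_of_irreducible {X₁ Y : Scheme.{u}} [IrreducibleSpace X₁]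
    [IrreducibleSpace Y] [IsLocallyNoetherian Y]
    (hY : ∀ y : Y, IsRegularLocalRing (Y.presheaf.stalk y) ∧
      ringKrullDim (Y.presheaf.stalk y) ≤ 1)
    (g : X₁ ⟶ Y) [LocallyOfFiniteType g] (hgen : g.base (genericPoint X₁) = genericPoint Y)
    (x₁ : X₁) (hcl : ∀ x' : X₁, g.base x' = g.base x₁ → x₁ ⤳ x' → x' = x₁) :
    Groth.Agent.H72.QuasiSection.HasQuasiSection g x₁ := by
  have hopen : ∀ z : X₁, IsOpenAt g.base z := by
    intro z
    have hfp : LocallyOfFinitePresentation g := inferInstance
    apply ((Groth.Agent.S3404.result g z).2 hfp).mpr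
    intro y' hy'
    haveI := (hY (g.base z)).1
    haveI : IsDomain (Y.presheaf.stalk (g.base z)) :=
      Groth.Agent.Lib.Helper85.isDomain_of_isRegularLocalRing _
    rcases eq_or_maximal_of_specializes (g.base z) y' hy' (hY _).2 with h | h
    · exact ⟨z, specializes_rfl, h.symm⟩
    · refine ⟨genericPoint X₁, Groth.Agent.Lib.Helper55.genericPoint_specializes z, ?_⟩
      rw [hgen]
      exact (eq_genericPoint_of_maximal y' h).symm
  obtain ⟨d, hd⟩ := exists_trdeg_residueField_eq_natCast g (genericPoint X₁)
  have hE : IsEquidimAt g x₁ := by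
    apply Groth.Agent.H72.OpenUO.isEquidimAt_of_irreducible g x₁ d hgen hd
    obtain ⟨z, hfz, hzx, hzmax, n, hn, hFx, hFz, -⟩ := exists_maximal_point_fiber g x₁
    obtain ⟨ξ, d', hξmax, hξz, hfξ, htrξ, htrz, hfd⟩ :=
      exists_dominant_maximal_point_of_isOpenAt g z (hopen z)
        (fun w hw hwz => hzmax w (hw.trans hfz) hwz)
    have hξeq : ξ = genericPoint X₁ := eq_genericPoint_of_maximal ξ hξmax
    subst hξeq
    have h1 : d' = d := by
      have : ((d' : ℕ) : Cardinal) = ((d : ℕ) : Cardinal) := by rw [← htrξ, ← hd]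
      exact_mod_cast this
    have h2 : n = d' := by
      have : ((n : ℕ) : Cardinal) = ((d' : ℕ) : Cardinal) := by rw [← hn, ← htrz]
      exact_mod_cast this
    rw [hFx, h2, h1]
  exact Groth.Agent.H72.QuasiSection.hasQuasiSection g x₁ hE hcl

end Groth.Agent.H72.QuasiSectionDim1
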