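import Groth.Agent.H72.ZMTRat2
import Groth.Agent.H72.GlueOpens
import Groth.Agent.Lib.Helper78.DVRDominate

/-!
# Extending a section over a normal point: the DVR criterion (helper72)
-/

set_option autoImplicit false
set_option linter.style.haveILetI false
universe u
open AlgebraicGeometry CategoryTheory CategoryTheory.Limits

namespace Groth.Agent.H72.RatDVR

open Groth.Agent.H72.ZMTRat Groth.Agent.H72.GlueOpens

/-- a point at which a finite type morphism is quasi-finite is isolated in its fibre -/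
theorem exists_isolating_open {N W : Scheme.{u}} (g : N ⟶ W) [LocallyOfFiniteType g] (z : N)
    (hq : g.QuasiFiniteAt z) : ∃ O : N.Opens, z ∈ O ∧ ∀ n ∈ O, g n = g z → n = z := by
  rw [Scheme.Hom.quasiFiniteAt_iff_isOpen_singleton_asFiber,
    ← (g.fiberHomeo (g z)).isOpen_image] at hq
  simp only [Set.image_singleton, Scheme.Hom.asFiber, Homeomorph.apply_symm_apply] at hq
  obtain ⟨O, hO, hOeq⟩ := isOpen_induced_iff.mp hq
  refine ⟨⟨O, hO⟩, ?_, ?_⟩
  · have : (⟨z, rfl⟩ : g ⁻¹' {g z}) ∈ Subtype.val ⁻¹' O := by rw [hOeq]; rfl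
    exact this
  · intro n hn hgn
    have : (⟨n, hgn⟩ : g ⁻¹' {g z}) ∈ Subtype.val ⁻¹' O := hn
    rw [hOeq] at this
    exact congrArg Subtype.val this

/-- gluing two morphisms agreeing on the intersection, over a base -/
theorem exists_glue_two {X Y : Scheme.{u}} (q : Y ⟶ X) (U V : X.Opens)
    (h : (U : Scheme.{u}) ⟶ Y) (v : (V : Scheme.{u}) ⟶ Y) (hh : h ≫ q = U.ι) (hv : v ≫ q = V.ι)
    (hagree : X.homOfLE (inf_le_right : U ⊓ V ≤ V) ≫ v = X.homOfLE (inf_le_left : U ⊓ V ≤ U) ≫ h) :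
    ∃ (U' : X.Opens) (hUU' : U ≤ U') (_ : V ≤ U') (h' : (U' : Scheme.{u}) ⟶ Y),
      h' ≫ q = U'.ι ∧ X.homOfLE hUU' ≫ h' = h := by
  let F : Bool → X.Opens := fun b => cond b U V
  let f : ∀ b : Bool, ((cond b U V : X.Opens) : Scheme.{u}) ⟶ Y := fun b =>
    match b with
    | false => v
    | true => h
  have hf : ∀ i j, X.homOfLE (inf_le_left : F i ⊓ F j ≤ F i) ≫ f i =
      X.homOfLE (inf_le_right : F i ⊓ F j ≤ F j) ≫ f j := by
    intro i j
    cases i <;> cases j
    · rfl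
    · show X.homOfLE (inf_le_left : V ⊓ U ≤ V) ≫ v = X.homOfLE (inf_le_right : V ⊓ U ≤ U) ≫ h
      have e : V ⊓ U ≤ U ⊓ V := le_of_eq (inf_comm V U)
      rw [← X.homOfLE_homOfLE e (inf_le_right : U ⊓ V ≤ V),
        ← X.homOfLE_homOfLE e (inf_le_left : U ⊓ V ≤ U), Category.assoc, Category.assoc, hagree]
    · exact hagree.symm
    · rfl
  obtain ⟨k, hk⟩ := exists_glue F f hf
  refine ⟨⨆ b, F b, le_iSup F true, le_iSup F false, k, ?_, hk true⟩
  apply hom_ext_iSup F
  intro b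
  rw [← Category.assoc, hk b, X.homOfLE_ι]
  cases b
  · exact hv
  · exact hh


theorem extends_of_dvr {X Y : Scheme.{u}} [IsLocallyNoetherian X] (q : Y ⟶ X)
    [LocallyOfFiniteType q] [IsSeparated q] [LocallyQuasiFinite q] (U : X.Opens)
    (hU : Dense (U : Set ↥X))
    (h : (U : Scheme.{u}) ⟶ Y) (hh : h ≫ q = U.ι) (x : ↥X) [IsDomain ↑(X.presheaf.stalk x)]
    (hx : IsIntegrallyClosed ↑(X.presheaf.stalk x))
    (R : Type u) [CommRing R] [IsDomain R] [IsDiscreteValuationRing R]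
    (u : Spec (CommRingCat.of R) ⟶ X) (ub : Spec (CommRingCat.of (FractionRing R)) ⟶ (U : Scheme.{u}))
    (h₁ : Spec (CommRingCat.of R) ⟶ Y)
    (hu : u (IsLocalRing.closedPoint R) = x)
    (hub : ub ≫ U.ι = Spec.map (CommRingCat.ofHom (algebraMap R (FractionRing R))) ≫ u)
    (hh₁ : h₁ ≫ q = u)
    (hgen : Spec.map (CommRingCat.ofHom (algebraMap R (FractionRing R))) ≫ h₁ = ub ≫ h) :
    ∃ (U' : X.Opens) (hUU' : U ≤ U') (h' : (U' : Scheme.{u}) ⟶ Y),
        x ∈ U' ∧ h' ≫ q = U'.ι ∧ X.homOfLE hUU' ≫ h' = h := by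
  have hh0 : U.ι ≫ 𝟙 X = h ≫ q := by rw [Category.comp_id, hh]
  set σ : Y ⟶ pullback (𝟙 X) q := pullback.lift q (𝟙 Y) (by simp) with hσ
  have hσ1 : σ ≫ pullback.fst (𝟙 X) q = q := pullback.lift_fst _ _ _
  have hσ2 : σ ≫ pullback.snd (𝟙 X) q = 𝟙 Y := pullback.lift_snd _ _ _
  have hcond : pullback.fst (𝟙 X) q = pullback.snd (𝟙 X) q ≫ q := by
    have := pullback.condition (f := 𝟙 X) (g := q)
    rwa [Category.comp_id] at this
  have hσ3 : pullback.snd (𝟙 X) q ≫ σ = 𝟙 _ := by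
    apply pullback.hom_ext
    · rw [Category.assoc, hσ1, Category.id_comp, hcond]
    · rw [Category.assoc, hσ2, Category.id_comp, Category.comp_id]
  set y₀ : Y := h₁ (IsLocalRing.closedPoint R) with hy₀
  have hqy₀ : q y₀ = x := by
    have h1 : (h₁ ≫ q) (IsLocalRing.closedPoint R) = x := by rw [hh₁]; exact hu
    exact h1
  set j := pullback.lift U.ι h hh0 with hj
  have hjσ : j = h ≫ σ := by
    apply pullback.hom_ext
    · rw [hj, pullback.lift_fst, Category.assoc, hσ1, hh]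
    · rw [hj, pullback.lift_snd, Category.assoc, hσ2, Category.comp_id]
  -- y₀ lies in the closure of the range of h
  have hy₀cl : y₀ ∈ closure (Set.range h) := by
    obtain ⟨pt⟩ : Nonempty (Spec (CommRingCat.of (FractionRing R))) := inferInstance
    set g₀ := Spec.map (CommRingCat.ofHom (algebraMap R (FractionRing R))) pt with hg₀
    have hsp : g₀ ⤳ IsLocalRing.closedPoint R := IsLocalRing.specializes_closedPoint g₀
    have hsp' : h₁ g₀ ⤳ y₀ := hsp.map h₁.continuous
    have hmem : h₁ g₀ ∈ Set.range h := by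
      refine ⟨ub pt, ?_⟩
      have h1 : (ub ≫ h) pt =
          (Spec.map (CommRingCat.ofHom (algebraMap R (FractionRing R))) ≫ h₁) pt := by rw [hgen]
      exact h1
    exact closure_mono (Set.singleton_subset_iff.mpr hmem) (specializes_iff_mem_closure.mp hsp')
  have hzcl : σ y₀ ∈ closure (Set.range j) := by
    have h1 : σ y₀ ∈ closure (σ '' Set.range h) :=
      image_closure_subset_closure_image σ.continuous ⟨y₀, hy₀cl, rfl⟩
    have h2 : σ '' Set.range h = Set.range j := by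
      rw [hjσ, ← Set.range_comp]; rfl
    rw [← h2]; exact h1
  have hzx : pullback.fst (𝟙 X) q (σ y₀) = x := by
    rw [← Scheme.Hom.comp_apply, hσ1]; exact hqy₀
  -- isolation
  obtain ⟨OY, hy₀O, hOY⟩ := exists_isolating_open q y₀ (q.quasiFiniteAt y₀)
  have hiso : ∃ O : (pullback (𝟙 X) q).Opens,
      (O : Set ↥(pullback (𝟙 X) q)) ∩ closure (Set.range j) ∩
      (pullback.fst (𝟙 X) q) ⁻¹' {x} = {σ y₀} := by
    refine ⟨(pullback.snd (𝟙 X) q) ⁻¹ᵁ OY, ?_⟩
    ext p
    constructor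
    · rintro ⟨⟨hpO, -⟩, hpx⟩
      have hpx' : pullback.fst (𝟙 X) q p = x := hpx
      have h1 : q (pullback.snd (𝟙 X) q p) = q y₀ := by
        rw [← Scheme.Hom.comp_apply, ← hcond, hpx', hqy₀]
      have h2 : pullback.snd (𝟙 X) q p = y₀ := hOY _ hpO h1
      have h3 : σ (pullback.snd (𝟙 X) q p) = p := by
        rw [← Scheme.Hom.comp_apply, hσ3]; rfl
      rw [Set.mem_singleton_iff, ← h3, h2]
    · rintro rfl
      refine ⟨⟨?_, hzcl⟩, hzx⟩
      show pullback.snd (𝟙 X) q (σ y₀) ∈ OY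
      rw [← Scheme.Hom.comp_apply, hσ2]
      exact hy₀O
  obtain ⟨W, hxW, -, hWint⟩ := exists_isIntegral_nhd x
  obtain ⟨V, v, hxV, hvq, hagree⟩ := extends_nhd' (𝟙 X) q U hU h hh0 x ⟨W, hxW, hWint⟩ hx (σ y₀) hzx
    hzcl hiso
  rw [Category.comp_id] at hvq
  obtain ⟨U', hUU', hVU', h', hh', hres⟩ := exists_glue_two q U V h v hh hvq hagree
  exact ⟨U', hUU', h', hVU' hxV, hh', hres⟩


/-- the generic point of `Spec 𝒪_{X,x}` lands in every dense open when `x` has an irreducible open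
neighbourhood -/
theorem fromSpecStalk_bot_mem {X : Scheme.{u}} (x : X) [IsDomain (X.presheaf.stalk x)]
    (W : X.Opens) (hxW : x ∈ W) [IsIntegral (W : Scheme.{u})]
    (U : X.Opens) (hU : Dense (U : Set X)) :
    X.fromSpecStalk x ⟨⊥, Ideal.isPrime_bot⟩ ∈ U := by
  set η : X := W.ι (genericPoint (W : Scheme.{u})) with hη
  have hηU : η ∈ U := by
    obtain ⟨y, hyW, hyU⟩ := hU.inter_open_nonempty W W.isOpen ⟨x, hxW⟩
    have : genericPoint (W : Scheme.{u}) ∈ (W.ι ⁻¹ᵁ U : (W : Scheme.{u}).Opens) :=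
      ((genericPoint_spec (W : Scheme.{u})).mem_open_set_iff (W.ι ⁻¹ᵁ U).isOpen).mpr
        ⟨⟨y, hyW⟩, trivial, hyU⟩
    exact this
  have hηx : η ⤳ x := by
    have h1 : genericPoint (W : Scheme.{u}) ⤳ (⟨x, hxW⟩ : (W : Scheme.{u})) :=
      genericPoint_specializes _
    exact h1.map W.ι.continuous
  obtain ⟨ξ, hξ⟩ : η ∈ Set.range (X.fromSpecStalk x) := by
    rw [Scheme.range_fromSpecStalk]; exact hηx
  have hsp : (⟨⊥, Ideal.isPrime_bot⟩ : PrimeSpectrum (X.presheaf.stalk x)) ⤳ ξ :=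
    (PrimeSpectrum.le_iff_specializes _ _).mp bot_le
  have hsp' : X.fromSpecStalk x ⟨⊥, Ideal.isPrime_bot⟩ ⤳ η := by
    rw [← hξ]; exact hsp.map (X.fromSpecStalk x).continuous
  exact hsp'.mem_open U.isOpen hηU


theorem exists_dvr_of_extends {X Y : Scheme.{u}} [IsLocallyNoetherian X] (q : Y ⟶ X)
    (U : X.Opens) (hU : Dense (U : Set ↥X))
    (h : (U : Scheme.{u}) ⟶ Y) (x : ↥X) (hxU : x ∉ U) [IsDomain ↑(X.presheaf.stalk x)]
    (U' : X.Opens) (hUU' : U ≤ U') (h' : (U' : Scheme.{u}) ⟶ Y)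
    (hxU' : x ∈ U') (hh' : h' ≫ q = U'.ι) (hres : X.homOfLE hUU' ≫ h' = h) :
    ∃ (R : Type u) (_ : CommRing R) (_ : IsDomain R) (_ : IsDiscreteValuationRing R)
        (u : Spec (CommRingCat.of R) ⟶ X) (ub : Spec (CommRingCat.of (FractionRing R)) ⟶ (U : Scheme.{u}))
        (h₁ : Spec (CommRingCat.of R) ⟶ Y),
        u (IsLocalRing.closedPoint R) = x ∧
          ub ≫ U.ι = Spec.map (CommRingCat.ofHom (algebraMap R (FractionRing R))) ≫ u ∧
          h₁ ≫ q = u ∧ Spec.map (CommRingCat.ofHom (algebraMap R (FractionRing R))) ≫ h₁ = ub ≫ h := by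
  obtain ⟨W, hxW, -, hWint⟩ := exists_isIntegral_nhd x
  haveI := hWint
  have hbotU := fromSpecStalk_bot_mem x W hxW U hU
  set A := X.presheaf.stalk x with hA
  -- A is not a field
  have hAf : ¬ IsField A := by
    intro hf
    have hmax : IsLocalRing.maximalIdeal A = ⊥ := IsLocalRing.isField_iff_maximalIdeal_eq.mp hf
    have hcl : IsLocalRing.closedPoint A = ⟨⊥, Ideal.isPrime_bot⟩ := PrimeSpectrum.ext hmax
    apply hxU
    have := Scheme.fromSpecStalk_closedPoint (X := X) (x := x)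
    rw [← this, hcl]
    exact hbotU
  set K := FractionRing A with hK
  have hfg : (⊤ : IntermediateField K K).FG := by
    refine ⟨∅, ?_⟩
    rw [Finset.coe_empty, IntermediateField.adjoin_empty]
    apply le_antisymm bot_le
    intro y _
    exact IntermediateField.mem_bot.mpr ⟨y, rfl⟩
  obtain ⟨Rv, hDVR, hmem, hlt⟩ := Groth.Agent.Lib.Helper78.exists_dvr_dominating A hAf K K hfg
  haveI := hDVR
  set ψ : A →+* Rv := (algebraMap A K).codRestrict Rv.toSubring hmem with hψ
  have hψinj : Function.Injective ψ := by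
    intro a b hab
    have : algebraMap A K a = algebraMap A K b := congrArg Subtype.val hab
    exact IsFractionRing.injective A K this
  haveI hloc : IsLocalHom ψ := by
    refine ((IsLocalRing.local_hom_TFAE ψ).out 3 0).mp ?_
    intro a ha
    exact (Rv.valuation_lt_one_iff (ψ a)).mpr (hlt a ha)
  set u : Spec (CommRingCat.of Rv) ⟶ X := Spec.map (CommRingCat.ofHom ψ) ≫ X.fromSpecStalk x with hu
  have hucl : u (IsLocalRing.closedPoint Rv) = x := by
    have h1 : Spec.map (CommRingCat.ofHom ψ) (IsLocalRing.closedPoint Rv) =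
        IsLocalRing.closedPoint A := IsLocalRing.comap_closedPoint ψ
    have h2 : u (IsLocalRing.closedPoint Rv) =
        X.fromSpecStalk x (Spec.map (CommRingCat.ofHom ψ) (IsLocalRing.closedPoint Rv)) := rfl
    rw [h2, h1]
    exact Scheme.fromSpecStalk_closedPoint
  -- all points of Spec R map into U'
  have hur : Set.range u ⊆ Set.range U'.ι := by
    rintro _ ⟨p, rfl⟩
    rw [Scheme.Opens.range_ι]
    have hsp : p ⤳ IsLocalRing.closedPoint Rv := IsLocalRing.specializes_closedPoint p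
    have hsp' : u p ⤳ x := hucl ▸ hsp.map u.continuous
    exact hsp'.mem_open U'.isOpen hxU'
  set u' : Spec (CommRingCat.of Rv) ⟶ (U' : Scheme.{u}) := IsOpenImmersion.lift U'.ι u hur with hu'
  have hu'ι : u' ≫ U'.ι = u := IsOpenImmersion.lift_fac _ _ _
  -- the generic point maps into U
  set alg := Spec.map (CommRingCat.ofHom (algebraMap Rv (FractionRing Rv))) with halg
  have hubr : Set.range (alg ≫ u) ⊆ Set.range U.ι := by
    rintro _ ⟨p, rfl⟩
    rw [Scheme.Opens.range_ι]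
    have h1 : (alg ≫ u) p = X.fromSpecStalk x ⟨⊥, Ideal.isPrime_bot⟩ := by
      show X.fromSpecStalk x (Spec.map (CommRingCat.ofHom ψ) (alg p)) = _
      congr 1
      apply PrimeSpectrum.ext
      show Ideal.comap ψ (Ideal.comap (algebraMap Rv (FractionRing Rv)) p.asIdeal) = ⊥
      have hp : p.asIdeal = ⊥ := by
        have := p.2
        exact ((Ideal.eq_bot_or_top p.asIdeal).resolve_right this.ne_top)
      rw [hp, Ideal.comap_comap, ← RingHom.ker_eq_comap_bot]
      rw [RingHom.ker_eq_bot_iff_eq_zero]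
      intro a ha
      have h2 : algebraMap Rv (FractionRing Rv) (ψ a) = 0 := ha
      have h3 : ψ a = 0 := IsFractionRing.injective Rv (FractionRing Rv) (by rw [h2, map_zero])
      exact hψinj (by rw [h3, map_zero])
    rw [h1]
    exact hbotU
  set ub : Spec (CommRingCat.of (FractionRing Rv)) ⟶ (U : Scheme.{u}) :=
    IsOpenImmersion.lift U.ι (alg ≫ u) hubr with hub
  have hubι : ub ≫ U.ι = alg ≫ u := IsOpenImmersion.lift_fac _ _ _
  refine ⟨Rv, inferInstance, inferInstance, hDVR, u, ub, u' ≫ h', hucl, hubι, ?_, ?_⟩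
  · rw [Category.assoc, hh', hu'ι]
  · have h1 : alg ≫ u' = ub ≫ X.homOfLE hUU' := by
      rw [← cancel_mono U'.ι, Category.assoc, Category.assoc, hu'ι, X.homOfLE_ι, hubι]
    rw [← hres, ← Category.assoc, ← Category.assoc, h1]

end Groth.Agent.H72.RatDVR
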