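import Groth.Agent.H72.ZMTRat2

/-!
# Rational maps from a normal scheme and universally open covers (helper72)
-/

set_option autoImplicit false
set_option linter.style.haveILetI false
universe u
open AlgebraicGeometry CategoryTheory CategoryTheory.Limits

namespace Groth.Agent.H72.RatUO

open Groth.Agent.H72.ZMTRat

set_option backward.isDefEq.respectTransparency.types false in
/-- if the pullback of a rational map `X ⇢ Y` (with `X` normal) along a universally open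
`f : X' ⟶ X` extends to all of `X'`, then the rational map is defined at each point of `f(X')` -/
theorem extends_of_universallyOpen_global {X X' Y S : Scheme.{u}} (pX : X ⟶ S) (pY : Y ⟶ S)
    [LocallyOfFiniteType pY] [IsSeparated pY]
    (hX : ∀ y : ↥X, ∃ W : X.Opens, y ∈ W ∧ IsIntegral (W : Scheme.{u}))
    (U : X.Opens) (hU : Dense (U : Set ↥X)) (h : (U : Scheme.{u}) ⟶ Y) (hh : h ≫ pY = U.ι ≫ pX)
    (f : X' ⟶ X) [UniversallyOpen f] (x' : ↥X')
    (hx : IsIntegrallyClosed (X.presheaf.stalk (f x')))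
    (v' : X' ⟶ Y) (hv'S : v' ≫ pY = f ≫ pX)
    (hv' : (f ⁻¹ᵁ U).ι ≫ v' = (f ∣_ U) ≫ h) :
    ∃ (V : X.Opens) (v : (V : Scheme.{u}) ⟶ Y), f x' ∈ V ∧ v ≫ pY = V.ι ≫ pX ∧
      X.homOfLE (inf_le_right : U ⊓ V ≤ V) ≫ v = X.homOfLE (inf_le_left : U ⊓ V ≤ U) ≫ h := by
  have hh' : U.ι ≫ pX = h ≫ pY := hh.symm
  set j : (U : Scheme.{u}) ⟶ pullback pX pY := pullback.lift U.ι h hh' with hj
  have hj1 : j ≫ pullback.fst pX pY = U.ι := pullback.lift_fst _ _ _
  have hj2 : j ≫ pullback.snd pX pY = h := pullback.lift_snd _ _ _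
  set F : pullback (f ≫ pX) pY ⟶ pullback pX pY :=
    pullback.map (f ≫ pX) pY pX pY f (𝟙 Y) (𝟙 S) (by simp) (by simp) with hF
  have hF1 : F ≫ pullback.fst pX pY = pullback.fst (f ≫ pX) pY ≫ f := pullback.lift_fst _ _ _
  have hF2 : F ≫ pullback.snd pX pY = pullback.snd (f ≫ pX) pY :=
    (pullback.lift_snd _ _ _).trans (Category.comp_id _)
  have hFe : F = (pullbackRightPullbackFstIso pX pY f).inv ≫
      pullback.snd f (pullback.fst pX pY) := by
    apply pullback.hom_ext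
    · rw [hF1, Category.assoc, pullbackRightPullbackFstIso_inv_snd_fst]
    · rw [hF2, Category.assoc, pullbackRightPullbackFstIso_inv_snd_snd]
  have hFopen : IsOpenMap F := by
    rw [hFe]
    exact Scheme.Hom.isOpenMap _
  set g : X' ⟶ pullback (f ≫ pX) pY :=
    pullback.lift (𝟙 X') v' (by rw [Category.id_comp, hv'S]) with hg
  have hg1 : g ≫ pullback.fst (f ≫ pX) pY = 𝟙 X' := pullback.lift_fst _ _ _
  have hg2 : g ≫ pullback.snd (f ≫ pX) pY = v' := pullback.lift_snd _ _ _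
  haveI : IsClosedImmersion (g ≫ pullback.fst (f ≫ pX) pY) := by rw [hg1]; infer_instance
  haveI : IsClosedImmersion g := IsClosedImmersion.of_comp g (pullback.fst (f ≫ pX) pY)
  have hgcl : IsClosed (Set.range g) := g.isClosedEmbedding.isClosed_range
  -- the key inclusion
  have hkey : F ⁻¹' (Set.range j) ⊆ Set.range g := by
    rw [← Scheme.Pullback.range_snd j F]
    set t₁ := pullback.fst j F with ht₁
    set t₂ := pullback.snd j F with ht₂
    have hcond : t₁ ≫ j = t₂ ≫ F := pullback.condition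
    have hfU : t₂ ≫ pullback.fst (f ≫ pX) pY ≫ f = t₁ ≫ U.ι := by
      rw [← hF1, ← Category.assoc, ← hcond, Category.assoc, hj1]
    have hτr : Set.range (t₂ ≫ pullback.fst (f ≫ pX) pY) ⊆ Set.range (f ⁻¹ᵁ U).ι := by
      rintro _ ⟨p, rfl⟩
      rw [Scheme.Opens.range_ι]
      show f ((t₂ ≫ pullback.fst (f ≫ pX) pY) p) ∈ U
      have h1 : f ((t₂ ≫ pullback.fst (f ≫ pX) pY) p) = (t₁ ≫ U.ι) p := by
        rw [← hfU]; rfl
      rw [h1]
      exact (t₁ p).2
    set τ := IsOpenImmersion.lift (f ⁻¹ᵁ U).ι (t₂ ≫ pullback.fst (f ≫ pX) pY) hτr with hτdef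
    have hτ : τ ≫ (f ⁻¹ᵁ U).ι = t₂ ≫ pullback.fst (f ≫ pX) pY := IsOpenImmersion.lift_fac _ _ _
    have hτ1 : τ ≫ (f ∣_ U) = t₁ := by
      rw [← cancel_mono U.ι, Category.assoc, morphismRestrict_ι, ← Category.assoc, hτ,
        Category.assoc, hfU]
    have ht₂' : t₂ = (t₂ ≫ pullback.fst (f ≫ pX) pY) ≫ g := by
      apply pullback.hom_ext
      · rw [Category.assoc, hg1, Category.comp_id]
      · rw [Category.assoc, hg2, ← hτ, Category.assoc, hv', ← Category.assoc, hτ1, ← hj2,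
          ← Category.assoc, hcond, Category.assoc, hF2]
    rintro _ ⟨p, rfl⟩
    rw [ht₂']
    exact ⟨_, rfl⟩
  -- the point `z`
  set z : ↥(pullback pX pY) := F (g x') with hz
  have hzx : pullback.fst pX pY z = f x' := by
    have h1 : (g ≫ F ≫ pullback.fst pX pY) x' = f x' := by
      rw [hF1, ← Category.assoc, hg1, Category.id_comp]
    exact h1
  have hzcl : z ∈ closure (Set.range j) := by
    have hd : Dense ((f ⁻¹ᵁ U : X'.Opens) : Set X') := hU.preimage f.isOpenMap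
    have hx'cl : x' ∈ closure ((f ⁻¹ᵁ U : X'.Opens) : Set X') := hd x'
    have heq : (f ⁻¹ᵁ U).ι ≫ g ≫ F = (f ∣_ U) ≫ j := by
      apply pullback.hom_ext
      · rw [Category.assoc, Category.assoc, hF1, ← Category.assoc g, hg1, Category.id_comp,
          Category.assoc, hj1, morphismRestrict_ι]
      · rw [Category.assoc, Category.assoc, hF2, hg2, Category.assoc, hj2, hv']
    have himg : (g ≫ F) '' ((f ⁻¹ᵁ U : X'.Opens) : Set X') ⊆ Set.range j := by
      rintro _ ⟨a, ha, rfl⟩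
      refine ⟨(f ∣_ U) ⟨a, ha⟩, ?_⟩
      have h1 : ((f ∣_ U) ≫ j) ⟨a, ha⟩ = ((f ⁻¹ᵁ U).ι ≫ g ≫ F) ⟨a, ha⟩ := by rw [heq]
      exact h1
    exact closure_mono himg
      (image_closure_subset_closure_image (g ≫ F).continuous ⟨x', hx'cl, rfl⟩)
  -- isolation
  have hiso : ∃ W : (pullback pX pY).Opens,
      (W : Set ↥(pullback pX pY)) ∩ closure (Set.range j) ∩
        (pullback.fst pX pY) ⁻¹' {f x'} = {z} := by
    refine ⟨⊤, ?_⟩
    ext z₁
    constructor
    · rintro ⟨⟨-, hz₁cl⟩, hz₁x⟩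
      have hz₁x' : pullback.fst pX pY z₁ = f x' := hz₁x
      obtain ⟨c, hc1, hc2⟩ := Scheme.Pullback.exists_preimage_pullback
        (f := f) (g := pullback.fst pX pY) x' z₁ hz₁x'.symm
      set w := (pullbackRightPullbackFstIso pX pY f).hom c with hw
      have hw1 : pullback.fst (f ≫ pX) pY w = x' := by
        rw [← hc1]
        have h1 : ((pullbackRightPullbackFstIso pX pY f).hom ≫ pullback.fst (f ≫ pX) pY) c =
            pullback.fst f (pullback.fst pX pY) c := by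
          rw [pullbackRightPullbackFstIso_hom_fst]
        exact h1
      have hw2 : F w = z₁ := by
        rw [← hc2]
        have h1 : ((pullbackRightPullbackFstIso pX pY f).hom ≫ F) c =
            pullback.snd f (pullback.fst pX pY) c := by
          rw [hFe, Iso.hom_inv_id_assoc]
        exact h1
      have hwcl : w ∈ closure (F ⁻¹' Set.range j) :=
        hFopen.preimage_closure_subset_closure_preimage (by rw [Set.mem_preimage, hw2]; exact hz₁cl)
      have hwg : w ∈ Set.range g := closure_minimal hkey hgcl hwcl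
      obtain ⟨a, ha⟩ := hwg
      have hax : a = x' := by
        have h1 : (g ≫ pullback.fst (f ≫ pX) pY) a = x' := by
          show pullback.fst (f ≫ pX) pY (g a) = x'
          rw [ha]; exact hw1
        rwa [hg1] at h1
      rw [Set.mem_singleton_iff, ← hw2, ← ha, hax]
    · rintro rfl
      exact ⟨⟨trivial, hzcl⟩, hzx⟩
  exact extends_nhd pX pY hX U hU h hh' (f x') hx z hzx hzcl hiso

set_option backward.isDefEq.respectTransparency.types false in
/-- S3837 -/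
theorem main {X X' Y S : Scheme.{u}} (pX : X ⟶ S) (pY : Y ⟶ S)
    [LocallyOfFiniteType pY] [IsSeparated pY]
    (hX : ∀ y : ↥X, ∃ W : X.Opens, y ∈ W ∧ IsIntegral (W : Scheme.{u}))
    (hXn : ∀ y : ↥X, IsIntegrallyClosed (X.presheaf.stalk y))
    (U : X.Opens) (hU : Dense (U : Set ↥X)) (h : (U : Scheme.{u}) ⟶ Y) (hh : h ≫ pY = U.ι ≫ pX)
    (f : X' ⟶ X) [UniversallyOpen f] (x' : ↥X') :
    (∃ (V : X.Opens) (v : (V : Scheme.{u}) ⟶ Y), f x' ∈ V ∧ v ≫ pY = V.ι ≫ pX ∧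
        X.homOfLE (inf_le_right : U ⊓ V ≤ V) ≫ v = X.homOfLE (inf_le_left : U ⊓ V ≤ U) ≫ h) ↔
      ∃ (V' : X'.Opens) (v' : (V' : Scheme.{u}) ⟶ Y), x' ∈ V' ∧ v' ≫ pY = V'.ι ≫ f ≫ pX ∧
        X'.homOfLE (inf_le_right : f ⁻¹ᵁ U ⊓ V' ≤ V') ≫ v' =
          X'.homOfLE (inf_le_left : f ⁻¹ᵁ U ⊓ V' ≤ f ⁻¹ᵁ U) ≫ (f ∣_ U) ≫ h := by
  constructor
  · rintro ⟨V, v, hxV, hv, hagree⟩
    refine ⟨f ⁻¹ᵁ V, (f ∣_ V) ≫ v, hxV, ?_, ?_⟩
    · rw [Category.assoc, hv, ← Category.assoc, morphismRestrict_ι, Category.assoc]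
    · have hρr : Set.range ((f ⁻¹ᵁ U ⊓ f ⁻¹ᵁ V).ι ≫ f) ⊆ Set.range (U ⊓ V).ι := by
        rintro _ ⟨p, rfl⟩
        rw [Scheme.Opens.range_ι]
        exact p.2
      set ρ := IsOpenImmersion.lift (U ⊓ V).ι ((f ⁻¹ᵁ U ⊓ f ⁻¹ᵁ V).ι ≫ f) hρr with hρdef
      have hρ : ρ ≫ (U ⊓ V).ι = (f ⁻¹ᵁ U ⊓ f ⁻¹ᵁ V).ι ≫ f := IsOpenImmersion.lift_fac _ _ _
      have h1 : X'.homOfLE (inf_le_right : f ⁻¹ᵁ U ⊓ f ⁻¹ᵁ V ≤ f ⁻¹ᵁ V) ≫ (f ∣_ V) =
          ρ ≫ X.homOfLE (inf_le_right : U ⊓ V ≤ V) := by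
        rw [← cancel_mono V.ι, Category.assoc, Category.assoc, morphismRestrict_ι, X.homOfLE_ι,
          ← Category.assoc, X'.homOfLE_ι, hρ]
      have h2 : X'.homOfLE (inf_le_left : f ⁻¹ᵁ U ⊓ f ⁻¹ᵁ V ≤ f ⁻¹ᵁ U) ≫ (f ∣_ U) =
          ρ ≫ X.homOfLE (inf_le_left : U ⊓ V ≤ U) := by
        rw [← cancel_mono U.ι, Category.assoc, Category.assoc, morphismRestrict_ι, X.homOfLE_ι,
          ← Category.assoc, X'.homOfLE_ι, hρ]
      rw [← Category.assoc, h1, Category.assoc, hagree, ← Category.assoc, ← h2, Category.assoc]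
  · rintro ⟨V', v', hx'V', hv'S, hv'⟩
    set f' : (V' : Scheme.{u}) ⟶ X := V'.ι ≫ f with hf'
    set O : (V' : Scheme.{u}).Opens := f' ⁻¹ᵁ U with hO
    have hκr : Set.range (O.ι ≫ V'.ι) ⊆ Set.range (f ⁻¹ᵁ U ⊓ V').ι := by
      rintro _ ⟨p, rfl⟩
      rw [Scheme.Opens.range_ι]
      exact ⟨p.2, (O.ι p).2⟩
    set κ := IsOpenImmersion.lift (f ⁻¹ᵁ U ⊓ V').ι (O.ι ≫ V'.ι) hκr with hκdef
    have hκ : κ ≫ (f ⁻¹ᵁ U ⊓ V').ι = O.ι ≫ V'.ι := IsOpenImmersion.lift_fac _ _ _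
    have h1 : O.ι = κ ≫ X'.homOfLE (inf_le_right : f ⁻¹ᵁ U ⊓ V' ≤ V') := by
      rw [← cancel_mono V'.ι, Category.assoc, X'.homOfLE_ι, hκ]
    have h2 : (f' ∣_ U) = κ ≫ X'.homOfLE (inf_le_left : f ⁻¹ᵁ U ⊓ V' ≤ f ⁻¹ᵁ U) ≫ (f ∣_ U) := by
      rw [← cancel_mono U.ι, morphismRestrict_ι, Category.assoc, Category.assoc,
        morphismRestrict_ι, ← Category.assoc (X'.homOfLE _), X'.homOfLE_ι, ← Category.assoc κ,
        hκ]
      exact (Category.assoc _ _ _).symm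
    have hv'' : O.ι ≫ v' = (f' ∣_ U) ≫ h := by
      rw [h1, Category.assoc, hv', h2]
      simp only [Category.assoc]
    have := extends_of_universallyOpen_global pX pY hX U hU h hh f' ⟨x', hx'V'⟩ (hXn _) v'
      (by rw [hv'S, hf', Category.assoc]) hv''
    exact this

end Groth.Agent.H72.RatUO
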