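import Mathlib
import Groth.Prelude.Def_CAlgX
import Groth.Agent.Lib.Helper85.RegularSeq
import Groth.Agent.Lib.Helper59.H1RegOfRegular
import Groth.Agent.Lib.Helper47.H1RegularQuasiRegular

/-!
# The order valuation of a regular local ring (helper72)

For a regular local ring `A` (not a field) we construct the discrete valuation ring of the
`𝔪`-adic order function inside the fraction field and show that its residue field is purely
transcendental over the residue field of `A`.
-/

set_option autoImplicit false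
universe u
open IsLocalRing MvPolynomial

namespace Groth.Agent.H72.RegDVR

section Params

theorem isH1Regular_of_list {A : Type u} [CommRing A] {d : ℕ} (x : Fin d → A) (l : List A)
    (hl : l.length = d) (hx : ∀ i : Fin l.length, l[i.val] = x (Fin.cast hl i))
    (h : CAlgX.IsH1Regular (fun i : Fin l.length => l[i.val])) : CAlgX.IsH1Regular x := by
  subst hl
  have : (fun i : Fin l.length => l[i.val]) = x := by
    funext i
    simpa using hx i
  rwa [this] at h

theorem exists_params_aux (A : Type u) [CommRing A] [IsRegularLocalRing A] (hA : ¬ IsField A) :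
    ∃ (d : ℕ) (x : Fin d → A), d ≠ 0 ∧ Ideal.span (Set.range x) = maximalIdeal A ∧
      CAlgX.IsQuasiRegular x := by
  have hfg : (maximalIdeal A).FG := IsNoetherian.noetherian _
  obtain ⟨s, hcard, hspan⟩ := Submodule.FG.exists_span_finset_card_eq_spanFinrank hfg
  have hdim : ringKrullDim A = ((maximalIdeal A).spanFinrank : ℕ) :=
    (IsRegularLocalRing.spanFinrank_maximalIdeal (R := A)).symm
  have hd0 : (maximalIdeal A).spanFinrank ≠ 0 := by
    intro h0
    have : maximalIdeal A = ⊥ := (Submodule.spanFinrank_eq_zero_iff_eq_bot hfg).mp h0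
    exact hA (IsLocalRing.isField_iff_maximalIdeal_eq.mpr this)
  let e : Fin (maximalIdeal A).spanFinrank ≃ s := (Finset.equivFinOfCardEq hcard).symm
  let x : Fin (maximalIdeal A).spanFinrank → A := fun i => (e i : A)
  have hrange : Set.range x = (s : Set A) := by
    ext a
    constructor
    · rintro ⟨i, rfl⟩
      exact (e i).2
    · intro ha
      exact ⟨e.symm ⟨a, ha⟩, by simp [x]⟩
  have hx : Ideal.span (Set.range x) = maximalIdeal A := by
    rw [hrange]; exact hspan
  have hreg := Groth.Agent.Lib.Helper85.isRegular_ofFn_of_span_eq_maximalIdeal _ hdim x hx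
  have hH1 := Groth.Agent.Lib.Helper59.H1RegOfRegular.isH1Regular_of_isWeaklyRegular
    (List.ofFn x) hreg.toIsWeaklyRegular
  have hH1' : CAlgX.IsH1Regular x :=
    isH1Regular_of_list x (List.ofFn x) (List.length_ofFn) (fun i => by simp; rfl) hH1
  exact ⟨_, x, hd0, hx, Groth.Agent.Lib.Helper47.isQuasiRegular_of_isH1Regular x hH1'⟩

theorem exists_params (A : Type u) [CommRing A] [IsRegularLocalRing A] (hA : ¬ IsField A) :
    ∃ (n : ℕ) (x : Fin (n + 1) → A), Ideal.span (Set.range x) = maximalIdeal A ∧
      CAlgX.IsQuasiRegular x := by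
  obtain ⟨d, x, hd0, hx, hq⟩ := exists_params_aux A hA
  cases d with
  | zero => exact absurd rfl hd0
  | succ n => exact ⟨n, x, hx, hq⟩

end Params

section Ord

variable {A : Type u} [CommRing A] [IsLocalRing A] [IsNoetherianRing A] {n : ℕ}
  (x : Fin (n + 1) → A) (hx : Ideal.span (Set.range x) = maximalIdeal A)
  (hq : CAlgX.IsQuasiRegular x)

include hx in
/-- coefficients in `𝔪` and homogeneous of degree `p` implies value in `𝔪^(p+1)` -/
theorem eval_mem_pow_succ {p : ℕ} {P : MvPolynomial (Fin (n + 1)) A} (hP : P.IsHomogeneous p)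
    (hc : ∀ d, P.coeff d ∈ maximalIdeal A) : eval x P ∈ maximalIdeal A ^ (p + 1) := by
  rw [Groth.Agent.Lib.Helper47.eval_eq_sum_expos x hP]
  refine Ideal.sum_mem _ fun d _ => ?_
  rw [pow_succ']
  refine Ideal.mul_mem_mul (hc d) ?_
  have := Groth.Agent.Lib.Helper47.mon_mem_pow x p d
  rwa [hx] at this

include hx hq in
/-- the associated graded ring is a domain -/
theorem mul_notMem_pow {a b : A} {p q : ℕ} (ha : a ∈ maximalIdeal A ^ p)
    (ha' : a ∉ maximalIdeal A ^ (p + 1)) (hb : b ∈ maximalIdeal A ^ q)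
    (hb' : b ∉ maximalIdeal A ^ (q + 1)) : a * b ∉ maximalIdeal A ^ (p + q + 1) := by
  rw [← hx] at ha hb
  obtain ⟨P, hP, rfl⟩ := (Ideal.mem_span_pow_iff_exists_isHomogeneous x a).mp ha
  obtain ⟨Q, hQ, rfl⟩ := (Ideal.mem_span_pow_iff_exists_isHomogeneous x b).mp hb
  intro hab
  have key : ∀ {r : ℕ} {F : MvPolynomial (Fin (n + 1)) A}, F.IsHomogeneous r →
      eval x F ∉ maximalIdeal A ^ (r + 1) → MvPolynomial.map (residue A) F ≠ 0 := by
    intro r F hF hF' h0
    apply hF'
    apply eval_mem_pow_succ x hx hF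
    intro d
    have h1 : (MvPolynomial.map (residue A) F).coeff d = 0 := by rw [h0]; simp
    rw [MvPolynomial.coeff_map] at h1
    exact (residue_eq_zero_iff _).mp h1
  have hPQ : MvPolynomial.map (residue A) (P * Q) ≠ 0 := by
    rw [map_mul]; exact mul_ne_zero (key hP ha') (key hQ hb')
  apply hPQ
  ext d
  rw [MvPolynomial.coeff_map, MvPolynomial.coeff_zero, residue_eq_zero_iff]
  have := hq (p + q) (P * Q) (hP.mul hQ) (by rw [map_mul, hx]; exact hab) d
  rwa [hx] at this

/-- the `𝔪`-adic order -/
noncomputable def ord (a : A) : ℕ := by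
  classical
  exact if h : ∃ k, a ∉ maximalIdeal A ^ (k + 1) then Nat.find h else 0

theorem exists_notMem_pow {a : A} (ha : a ≠ 0) : ∃ k, a ∉ maximalIdeal A ^ (k + 1) := by
  by_contra h
  push_neg at h
  apply ha
  have hbot : ⨅ i, maximalIdeal A ^ i = ⊥ :=
    Ideal.iInf_pow_eq_bot_of_isLocalRing _ (maximalIdeal.isMaximal A).ne_top
  have hmem : a ∈ ⨅ i, maximalIdeal A ^ i := by
    rw [Ideal.mem_iInf]
    intro i
    cases i with
    | zero => simp
    | succ k => exact h k
  rw [hbot] at hmem
  exact hmem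

theorem ord_spec {a : A} (ha : a ≠ 0) :
    a ∈ maximalIdeal A ^ ord a ∧ a ∉ maximalIdeal A ^ (ord a + 1) := by
  classical
  have h := exists_notMem_pow ha
  have hord : ord a = Nat.find h := by simp [ord, h]
  rw [hord]
  refine ⟨?_, Nat.find_spec h⟩
  cases hk : Nat.find h with
  | zero => simp
  | succ k =>
    have := Nat.find_min h (show k < Nat.find h by omega)
    push_neg at this
    exact this

theorem ord_eq {a : A} {p : ℕ} (h1 : a ∈ maximalIdeal A ^ p)
    (h2 : a ∉ maximalIdeal A ^ (p + 1)) : ord a = p := by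
  have ha : a ≠ 0 := by rintro rfl; exact h2 (zero_mem _)
  obtain ⟨h3, h4⟩ := ord_spec ha
  by_contra hne
  rcases Nat.lt_or_gt_of_ne hne with h | h
  · exact h4 (Ideal.pow_le_pow_right h h1)
  · exact h2 (Ideal.pow_le_pow_right h h3)

theorem mem_pow_iff_le_ord {a : A} (ha : a ≠ 0) {k : ℕ} :
    a ∈ maximalIdeal A ^ k ↔ k ≤ ord a := by
  obtain ⟨h3, h4⟩ := ord_spec ha
  constructor
  · intro h
    by_contra hlt
    push_neg at hlt
    exact h4 (Ideal.pow_le_pow_right hlt h)
  · intro h
    exact Ideal.pow_le_pow_right h h3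

include hx hq in
theorem ord_mul {a b : A} (ha : a ≠ 0) (hb : b ≠ 0) : ord (a * b) = ord a + ord b := by
  obtain ⟨h1, h2⟩ := ord_spec ha
  obtain ⟨h3, h4⟩ := ord_spec hb
  apply ord_eq
  · rw [pow_add]; exact Ideal.mul_mem_mul h1 h3
  · exact mul_notMem_pow x hx hq h1 h2 h3 h4

theorem ord_one : ord (1 : A) = 0 := by
  apply ord_eq
  · simp
  · rw [zero_add, pow_one]
    exact (Ideal.ne_top_iff_one _).mp (maximalIdeal.isMaximal A).ne_top

theorem ord_eq_zero_iff {a : A} (ha : a ≠ 0) : ord a = 0 ↔ IsUnit a := by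
  constructor
  · intro h
    by_contra hu
    have h1 : a ∈ maximalIdeal A ^ 1 := by rw [pow_one]; exact (mem_maximalIdeal a).mpr hu
    have := (mem_pow_iff_le_ord ha).mp h1
    omega
  · intro hu
    apply ord_eq
    · simp
    · rw [zero_add, pow_one]
      intro h
      exact (mem_maximalIdeal a).mp h hu

end Ord

section Subalg

variable {A : Type u} [CommRing A] [IsDomain A] [IsLocalRing A] [IsNoetherianRing A] {n : ℕ}
  (x : Fin (n + 1) → A) (hx : Ideal.span (Set.range x) = maximalIdeal A)
  (hq : CAlgX.IsQuasiRegular x)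
  (K : Type u) [Field K] [Algebra A K] [IsFractionRing A K]

/-- the ring of the order valuation -/
noncomputable def ordSubalgebra : Subalgebra A K where
  carrier := {z | ∃ a b : A, b ≠ 0 ∧ a ∈ maximalIdeal A ^ ord b ∧
    z * algebraMap A K b = algebraMap A K a}
  mul_mem' := by
    rintro z z' ⟨a, b, hb, ha, hz⟩ ⟨a', b', hb', ha', hz'⟩
    refine ⟨a * a', b * b', mul_ne_zero hb hb', ?_, ?_⟩
    · rw [ord_mul x hx hq hb hb', pow_add]; exact Ideal.mul_mem_mul ha ha'
    · rw [map_mul, map_mul, ← hz, ← hz']; ring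
  add_mem' := by
    rintro z z' ⟨a, b, hb, ha, hz⟩ ⟨a', b', hb', ha', hz'⟩
    refine ⟨a * b' + a' * b, b * b', mul_ne_zero hb hb', ?_, ?_⟩
    · rw [ord_mul x hx hq hb hb', pow_add]
      refine add_mem (Ideal.mul_mem_mul ha (ord_spec hb').1) ?_
      rw [mul_comm (maximalIdeal A ^ ord b)]
      exact Ideal.mul_mem_mul ha' (ord_spec hb).1
    · simp only [map_add, map_mul]; rw [← hz, ← hz']; ring
  algebraMap_mem' := by
    intro r
    exact ⟨r, 1, one_ne_zero, by rw [ord_one]; simp, by simp⟩

theorem mem_ordSubalgebra {z : K} : z ∈ ordSubalgebra x hx hq K ↔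
    ∃ a b : A, b ≠ 0 ∧ a ∈ maximalIdeal A ^ ord b ∧ z * algebraMap A K b = algebraMap A K a :=
  Iff.rfl

/-- elements of positive order -/
def InM (A : Type u) [CommRing A] [IsLocalRing A] (K : Type u) [Field K] [Algebra A K]
    (z : K) : Prop := ∃ a b : A, b ≠ 0 ∧ a ∈ maximalIdeal A ^ (ord b + 1) ∧
    z * algebraMap A K b = algebraMap A K a

variable {K}

include hx hq in
/-- a balanced representation excludes positive order -/
theorem not_inM_of_balanced {z : K} {a b : A} (ha : a ≠ 0) (hb : b ≠ 0) (hab : ord a = ord b)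
    (hz : z * algebraMap A K b = algebraMap A K a) : ¬ InM A K z := by
  rintro ⟨a', b', hb', ha', hz'⟩
  have hinj := IsFractionRing.injective A K
  have hz0 : z ≠ 0 := by
    rintro rfl
    rw [zero_mul] at hz
    exact ha (hinj (by rw [← hz, map_zero]))
  have ha'0 : a' ≠ 0 := by
    rintro rfl
    rw [map_zero] at hz'
    rcases mul_eq_zero.mp hz' with h | h
    · exact hz0 h
    · exact hb' (hinj (by rw [h, map_zero]))
  have hcross : a * b' = a' * b := by
    apply hinj
    rw [map_mul, map_mul, ← hz, ← hz']; ring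
  have h1 := ord_mul x hx hq ha hb'
  have h2 := ord_mul x hx hq ha'0 hb
  rw [hcross, h2] at h1
  have h3 := (mem_pow_iff_le_ord ha'0).mp ha'
  omega

include hx hq in
theorem inv_mem_of_not_inM {z : K} (hz : z ∈ ordSubalgebra x hx hq K) (hM : ¬ InM A K z) :
    z⁻¹ ∈ ordSubalgebra x hx hq K := by
  obtain ⟨a, b, hb, ha, hzb⟩ := hz
  have ha' : a ∉ maximalIdeal A ^ (ord b + 1) := fun h => hM ⟨a, b, hb, h, hzb⟩
  have ha0 : a ≠ 0 := by rintro rfl; exact ha' (zero_mem _)
  have hord : ord a = ord b := ord_eq ha ha'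
  have hinj := IsFractionRing.injective A K
  have hz0 : z ≠ 0 := by
    rintro rfl
    rw [zero_mul] at hzb
    exact ha0 (hinj (by rw [← hzb, map_zero]))
  refine ⟨b, a, ha0, ?_, ?_⟩
  · rw [hord]; exact (ord_spec hb).1
  · rw [← hzb]; field_simp

include hx hq in
theorem not_isUnit_of_inM {z : ordSubalgebra x hx hq K} (hM : InM A K (z : K)) : ¬ IsUnit z := by
  rintro ⟨u, rfl⟩
  obtain ⟨a, b, hb, ha, hz⟩ := hM
  obtain ⟨a', b', hb', ha', hz'⟩ := (u⁻¹ : (ordSubalgebra x hx hq K)ˣ).1.2
  have hinj := IsFractionRing.injective A K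
  have h1 : ((u : ordSubalgebra x hx hq K) : K) * ((u⁻¹ : (ordSubalgebra x hx hq K)ˣ) :
      ordSubalgebra x hx hq K) = 1 := by
    rw [← Subalgebra.coe_mul, ← Units.val_mul, mul_inv_cancel]; rfl
  have hcross : b * b' = a * a' := by
    apply hinj
    rw [map_mul, map_mul, ← hz, ← hz']
    calc algebraMap A K b * algebraMap A K b'
        = (((u : ordSubalgebra x hx hq K) : K) * ((u⁻¹ : (ordSubalgebra x hx hq K)ˣ) :
            ordSubalgebra x hx hq K)) * (algebraMap A K b * algebraMap A K b') := by
          rw [h1, one_mul]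
      _ = _ := by ring
  have h2 : a * a' ∈ maximalIdeal A ^ (ord b + ord b' + 1) := by
    have : ord b + ord b' + 1 = (ord b + 1) + ord b' := by ring
    rw [this, pow_add]
    exact Ideal.mul_mem_mul ha ha'
  rw [← hcross] at h2
  have h3 := (mem_pow_iff_le_ord (mul_ne_zero hb hb')).mp h2
  rw [ord_mul x hx hq hb hb'] at h3
  omega

include hx hq in
theorem isUnit_iff_not_inM {z : ordSubalgebra x hx hq K} : IsUnit z ↔ ¬ InM A K (z : K) := by
  constructor
  · intro hu hM
    exact not_isUnit_of_inM x hx hq hM hu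
  · intro hM
    have hinv := inv_mem_of_not_inM x hx hq z.2 hM
    have hz0 : (z : K) ≠ 0 := by
      intro h0
      apply hM
      exact ⟨0, 1, one_ne_zero, zero_mem _, by rw [h0]; simp⟩
    refine ⟨⟨z, ⟨(z : K)⁻¹, hinv⟩, ?_, ?_⟩, rfl⟩
    · apply Subtype.ext
      show (z : K) * (z : K)⁻¹ = 1
      exact mul_inv_cancel₀ hz0
    · apply Subtype.ext
      show (z : K)⁻¹ * (z : K) = 1
      exact inv_mul_cancel₀ hz0

include hq hx in
theorem ord_x0 : ord (x 0) = 1 := by
  apply ord_eq
  · rw [pow_one, ← hx]
    exact Ideal.subset_span ⟨0, rfl⟩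
  · intro h
    have h1 : MvPolynomial.eval x (MvPolynomial.X 0 : MvPolynomial (Fin (n + 1)) A) ∈
        Ideal.span (Set.range x) ^ (1 + 1) := by
      rw [MvPolynomial.eval_X, hx]; exact h
    have h2 := hq 1 (MvPolynomial.X 0) (MvPolynomial.isHomogeneous_X A 0) h1
      (Finsupp.single 0 1)
    have h3 : (1 : A) ∈ maximalIdeal A := by simpa [hx] using h2
    exact (Ideal.ne_top_iff_one _).mp (maximalIdeal.isMaximal A).ne_top h3

end Subalg

section DVR

variable {A : Type u} [CommRing A] [IsDomain A] [IsLocalRing A] [IsNoetherianRing A] {n : ℕ}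
  (x : Fin (n + 1) → A) (hx : Ideal.span (Set.range x) = maximalIdeal A)
  (hq : CAlgX.IsQuasiRegular x)
  (K : Type u) [Field K] [Algebra A K] [IsFractionRing A K]

include hx hq in
theorem x0_ne_zero : x 0 ≠ 0 := by
  intro h
  have h1 := ord_x0 x hx hq
  rw [h] at h1
  have h2 : ord (0 : A) = 0 := by
    classical
    have : ¬ ∃ k, (0 : A) ∉ maximalIdeal A ^ (k + 1) := by
      rintro ⟨k, hk⟩; exact hk (zero_mem _)
    simp [ord, this]
  omega

include hx hq in
theorem ord_x0_pow (k : ℕ) : ord (x 0 ^ k) = k := by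
  induction k with
  | zero => rw [pow_zero]; exact ord_one
  | succ k ih =>
    rw [pow_succ, ord_mul x hx hq (pow_ne_zero k (x0_ne_zero x hx hq)) (x0_ne_zero x hx hq), ih,
      ord_x0 x hx hq]

theorem coe_algebraMap_ordSubalgebra (a : A) :
    ((algebraMap A (ordSubalgebra x hx hq K) a : ordSubalgebra x hx hq K) : K) =
      algebraMap A K a := rfl

include hx hq in
theorem inM_algebraMap_iff (a : A) :
    InM A K (algebraMap A K a) ↔ a ∈ maximalIdeal A := by
  constructor
  · intro hM
    by_contra ha
    have hu : IsUnit a := by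
      by_contra hu
      exact ha ((mem_maximalIdeal a).mpr hu)
    have hu' : IsUnit (algebraMap A (ordSubalgebra x hx hq K) a) := hu.map _
    exact not_isUnit_of_inM x hx hq (z := algebraMap A (ordSubalgebra x hx hq K) a) hM hu'
  · intro ha
    exact ⟨a, 1, one_ne_zero, by rw [ord_one, zero_add, pow_one]; exact ha, by simp⟩

theorem hasFactorization :
    IsDiscreteValuationRing.HasUnitMulPowIrreducibleFactorization (ordSubalgebra x hx hq K) := by
  have hinj := IsFractionRing.injective A K
  have hx0 := x0_ne_zero x hx hq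
  have hx0K : algebraMap A K (x 0) ≠ 0 := fun h => hx0 (hinj (by rw [h, map_zero]))
  refine ⟨algebraMap A (ordSubalgebra x hx hq K) (x 0), ?_, ?_⟩
  · rw [irreducible_iff]
    constructor
    · apply not_isUnit_of_inM x hx hq
      rw [coe_algebraMap_ordSubalgebra, inM_algebraMap_iff x hx hq K, ← hx]
      exact Ideal.subset_span ⟨0, rfl⟩
    · intro y z hyz
      by_contra hcon
      push_neg at hcon
      obtain ⟨hy, hz⟩ := hcon
      rw [isUnit_iff_not_inM x hx hq, not_not] at hy hz
      obtain ⟨a, b, hb, ha, hyb⟩ := hy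
      obtain ⟨a', b', hb', ha', hzb'⟩ := hz
      have hyzK : algebraMap A K (x 0) = (y : K) * (z : K) := by
        have := congrArg (fun w : ordSubalgebra x hx hq K => (w : K)) hyz
        exact this
      have hy0 : (y : K) ≠ 0 := fun h => hx0K (by rw [hyzK, h, zero_mul])
      have hz0 : (z : K) ≠ 0 := fun h => hx0K (by rw [hyzK, h, mul_zero])
      have hbK : algebraMap A K b ≠ 0 := fun h => hb (hinj (by rw [h, map_zero]))
      have hb'K : algebraMap A K b' ≠ 0 := fun h => hb' (hinj (by rw [h, map_zero]))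
      have ha0 : a ≠ 0 := by
        rintro rfl
        rw [map_zero] at hyb
        exact (mul_ne_zero hy0 hbK) hyb
      have ha'0 : a' ≠ 0 := by
        rintro rfl
        rw [map_zero] at hzb'
        exact (mul_ne_zero hz0 hb'K) hzb'
      have hcross : x 0 * (b * b') = a * a' := by
        apply hinj
        simp only [map_mul]
        rw [← hyb, ← hzb', hyzK]; ring
      have h1 := congrArg ord hcross
      rw [ord_mul x hx hq hx0 (mul_ne_zero hb hb'), ord_mul x hx hq hb hb',
        ord_mul x hx hq ha0 ha'0, ord_x0 x hx hq] at h1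
      have h2 := (mem_pow_iff_le_ord ha0).mp ha
      have h3 := (mem_pow_iff_le_ord ha'0).mp ha'
      omega
  · intro z hz
    obtain ⟨a, b, hb, ha, hzb⟩ := z.2
    have hz0 : (z : K) ≠ 0 := fun h => hz (Subtype.ext h)
    have hbK : algebraMap A K b ≠ 0 := fun h => hb (hinj (by rw [h, map_zero]))
    have ha0 : a ≠ 0 := by
      rintro rfl
      rw [map_zero] at hzb
      exact (mul_ne_zero hz0 hbK) hzb
    have hle := (mem_pow_iff_le_ord ha0).mp ha
    set k := ord a - ord b with hk
    have hordk : ord (b * x 0 ^ k) = ord a := by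
      rw [ord_mul x hx hq hb (pow_ne_zero k hx0), ord_x0_pow x hx hq]; omega
    have hbk0 : b * x 0 ^ k ≠ 0 := mul_ne_zero hb (pow_ne_zero k hx0)
    have hrep : ((z : K) * (algebraMap A K (x 0) ^ k)⁻¹) * algebraMap A K (b * x 0 ^ k) =
        algebraMap A K a := by
      rw [map_mul, map_pow, ← hzb]
      field_simp
    have humem : (z : K) * (algebraMap A K (x 0) ^ k)⁻¹ ∈ ordSubalgebra x hx hq K :=
      ⟨a, b * x 0 ^ k, hbk0, by rw [hordk]; exact (ord_spec ha0).1, hrep⟩
    have hunit : IsUnit (⟨_, humem⟩ : ordSubalgebra x hx hq K) := by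
      rw [isUnit_iff_not_inM x hx hq]
      exact not_inM_of_balanced x hx hq ha0 hbk0 hordk.symm hrep
    refine ⟨k, hunit.unit, ?_⟩
    apply Subtype.ext
    show (algebraMap A K (x 0)) ^ k * ((z : K) * (algebraMap A K (x 0) ^ k)⁻¹) = (z : K)
    field_simp

noncomputable instance : IsDiscreteValuationRing (ordSubalgebra x hx hq K) :=
  IsDiscreteValuationRing.ofHasUnitMulPowIrreducibleFactorization (hasFactorization x hx hq K)

theorem isFractionRing_ordSubalgebra : IsFractionRing (ordSubalgebra x hx hq K) K := by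
  apply IsFractionRing.of_field
  intro z
  obtain ⟨a, b, -, rfl⟩ := IsFractionRing.div_surjective (A := A) z
  exact ⟨algebraMap A _ a, algebraMap A _ b, rfl⟩

theorem mem_maximalIdeal_ordSubalgebra (z : ordSubalgebra x hx hq K) :
    z ∈ maximalIdeal (ordSubalgebra x hx hq K) ↔ InM A K (z : K) := by
  rw [mem_maximalIdeal, mem_nonunits_iff, isUnit_iff_not_inM x hx hq, not_not]

theorem comap_maximalIdeal_ordSubalgebra :
    (maximalIdeal (ordSubalgebra x hx hq K)).comap (algebraMap A (ordSubalgebra x hx hq K)) =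
      maximalIdeal A := by
  ext a
  rw [Ideal.mem_comap, mem_maximalIdeal_ordSubalgebra, coe_algebraMap_ordSubalgebra,
    inM_algebraMap_iff x hx hq K]

end DVR

section Residue

variable {A : Type u} [CommRing A] [IsDomain A] [IsLocalRing A] [IsNoetherianRing A] {n : ℕ}
  (x : Fin (n + 1) → A) (hx : Ideal.span (Set.range x) = maximalIdeal A)
  (hq : CAlgX.IsQuasiRegular x)
  (K : Type u) [Field K] [Algebra A K] [IsFractionRing A K]

instance isLocalHom_algebraMap_ordSubalgebra :
    IsLocalHom (algebraMap A (ordSubalgebra x hx hq K)) :=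
  ((IsLocalRing.local_hom_TFAE _).out 0 4).mpr (comap_maximalIdeal_ordSubalgebra x hx hq K)

/-- the map on residue fields -/
noncomputable abbrev resMap : ResidueField A →+* ResidueField (ordSubalgebra x hx hq K) :=
  IsLocalRing.ResidueField.map (algebraMap A (ordSubalgebra x hx hq K))

include hx hq in
theorem x0K_ne_zero : algebraMap A K (x 0) ≠ 0 := fun h =>
  x0_ne_zero x hx hq (IsFractionRing.injective A K (by rw [h, map_zero]))

/-- the elements `x_{i+1}/x_0` -/
noncomputable def tau (i : Fin n) : ordSubalgebra x hx hq K :=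
  ⟨algebraMap A K (x i.succ) / algebraMap A K (x 0), ⟨x i.succ, x 0, x0_ne_zero x hx hq, by
    rw [ord_x0 x hx hq, pow_one, ← hx]; exact Ideal.subset_span ⟨_, rfl⟩, by
    have := x0K_ne_zero x hx hq K
    field_simp⟩⟩

/-- `1, x_1/x_0, …, x_n/x_0` -/
noncomputable def cvec : Fin (n + 1) → ordSubalgebra x hx hq K :=
  Fin.cons 1 (tau x hx hq K)

theorem algebraMap_x (i : Fin (n + 1)) :
    algebraMap A K (x i) = algebraMap A K (x 0) * ((cvec x hx hq K i : ordSubalgebra x hx hq K) : K) := by
  have h0 := x0K_ne_zero x hx hq K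
  refine Fin.cases ?_ (fun j => ?_) i
  · simp [cvec]
  · simp only [cvec, Fin.cons_succ, tau]
    field_simp

/-- dehomogenization -/
noncomputable def dh (P : MvPolynomial (Fin (n + 1)) A) : ordSubalgebra x hx hq K :=
  ∑ d ∈ P.support, algebraMap A (ordSubalgebra x hx hq K) (P.coeff d) *
    ∏ i, cvec x hx hq K i ^ d i

theorem coe_dh (P : MvPolynomial (Fin (n + 1)) A) :
    ((dh x hx hq K P : ordSubalgebra x hx hq K) : K) =
      ∑ d ∈ P.support, algebraMap A K (P.coeff d) *
        ∏ i, ((cvec x hx hq K i : ordSubalgebra x hx hq K) : K) ^ d i := by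
  have := map_sum (ordSubalgebra x hx hq K).val (fun d => algebraMap A (ordSubalgebra x hx hq K)
    (P.coeff d) * ∏ i, cvec x hx hq K i ^ d i) P.support
  simp only [map_mul, map_prod, map_pow, Subalgebra.coe_val] at this
  exact this

theorem algebraMap_eval_eq {p : ℕ} {P : MvPolynomial (Fin (n + 1)) A} (hP : P.IsHomogeneous p) :
    algebraMap A K (eval x P) =
      algebraMap A K (x 0) ^ p * ((dh x hx hq K P : ordSubalgebra x hx hq K) : K) := by
  rw [coe_dh, MvPolynomial.eval_eq', map_sum, Finset.mul_sum]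
  refine Finset.sum_congr rfl fun d hd => ?_
  have hdeg : ∑ i, d i = p := by
    rw [← Finsupp.degree_eq_sum]
    by_contra h
    exact (MvPolynomial.mem_support_iff.mp hd) (hP.coeff_eq_zero h)
  rw [map_mul, map_prod]
  simp only [map_pow]
  have : ∀ i, algebraMap A K (x i) ^ d i = algebraMap A K (x 0) ^ d i *
      ((cvec x hx hq K i : ordSubalgebra x hx hq K) : K) ^ d i := by
    intro i
    rw [algebraMap_x x hx hq K i, mul_pow]
  simp only [this]
  rw [Finset.prod_mul_distrib, Finset.prod_pow_eq_pow_sum, hdeg]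
  ring

theorem residue_algebraMap (a : A) :
    residue (ordSubalgebra x hx hq K) (algebraMap A (ordSubalgebra x hx hq K) a) =
      resMap x hx hq K (residue A a) := rfl

/-- the generators of the residue field -/
noncomputable def tgen (i : Fin n) : ResidueField (ordSubalgebra x hx hq K) :=
  residue _ (tau x hx hq K i)

theorem residue_dh_mem (P : MvPolynomial (Fin (n + 1)) A) :
    letI := (resMap x hx hq K).toAlgebra
    residue (ordSubalgebra x hx hq K) (dh x hx hq K P) ∈
      IntermediateField.adjoin (ResidueField A) (Set.range (tgen x hx hq K)) := by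
  letI := (resMap x hx hq K).toAlgebra
  rw [dh, map_sum]
  refine sum_mem fun d _ => ?_
  rw [map_mul, map_prod]
  refine mul_mem ?_ (prod_mem fun i _ => ?_)
  · rw [residue_algebraMap]
    exact IntermediateField.algebraMap_mem _ _
  · rw [map_pow]
    refine pow_mem ?_ _
    refine Fin.cases ?_ (fun j => ?_) i
    · simp only [cvec, Fin.cons_zero, map_one]
      exact one_mem _
    · simp only [cvec, Fin.cons_succ]
      exact IntermediateField.subset_adjoin _ _ ⟨j, rfl⟩

theorem adjoin_tgen_eq_top :
    letI := (resMap x hx hq K).toAlgebra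
    IntermediateField.adjoin (ResidueField A) (Set.range (tgen x hx hq K)) = ⊤ := by
  letI := (resMap x hx hq K).toAlgebra
  rw [eq_top_iff]
  intro y _
  obtain ⟨z, rfl⟩ := residue_surjective y
  by_cases hz : IsUnit z
  · rw [isUnit_iff_not_inM x hx hq] at hz
    obtain ⟨a, b, hb, ha, hzb⟩ := z.2
    have ha' : a ∉ maximalIdeal A ^ (ord b + 1) := fun h => hz ⟨a, b, hb, h, hzb⟩
    have hbmem := (ord_spec hb).1
    rw [← hx] at ha hbmem
    obtain ⟨P, hP, hPa⟩ := (Ideal.mem_span_pow_iff_exists_isHomogeneous x a).mp ha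
    obtain ⟨Q, hQ, hQb⟩ := (Ideal.mem_span_pow_iff_exists_isHomogeneous x b).mp hbmem
    have h0 := x0K_ne_zero x hx hq K
    have h0p : algebraMap A K (x 0) ^ ord b ≠ 0 := pow_ne_zero _ h0
    have hPK := algebraMap_eval_eq x hx hq K hP
    have hQK := algebraMap_eval_eq x hx hq K hQ
    rw [hPa] at hPK
    rw [hQb] at hQK
    -- z * dh Q = dh P
    have hmul : z * dh x hx hq K Q = dh x hx hq K P := by
      apply Subtype.ext
      show (z : K) * ((dh x hx hq K Q : ordSubalgebra x hx hq K) : K) =
        ((dh x hx hq K P : ordSubalgebra x hx hq K) : K)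
      apply mul_left_cancel₀ h0p
      rw [← hPK, ← hzb, hQK]; ring
    -- dh Q is a unit
    have hQunit : IsUnit (dh x hx hq K Q) := by
      rw [isUnit_iff_not_inM x hx hq]
      refine not_inM_of_balanced x hx hq (a := b) (b := x 0 ^ ord b) hb
        (pow_ne_zero _ (x0_ne_zero x hx hq)) (ord_x0_pow x hx hq _).symm ?_
      rw [map_pow, hQK]; ring
    have hQres : residue _ (dh x hx hq K Q) ≠ 0 := by
      intro h
      rw [residue_eq_zero_iff] at h
      exact (mem_maximalIdeal _).mp h hQunit
    have hres : residue _ z = residue _ (dh x hx hq K P) / residue _ (dh x hx hq K Q) := by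
      rw [eq_div_iff hQres, ← map_mul, hmul]
    rw [hres]
    exact div_mem (residue_dh_mem x hx hq K P) (residue_dh_mem x hx hq K Q)
  · have : residue _ z = 0 := (residue_eq_zero_iff _).mpr ((mem_maximalIdeal _).mpr hz)
    rw [this]
    exact zero_mem _

theorem algebraicIndependent_tgen :
    letI := (resMap x hx hq K).toAlgebra
    AlgebraicIndependent (ResidueField A) (tgen x hx hq K) := by
  letI := (resMap x hx hq K).toAlgebra
  classical
  rw [algebraicIndependent_iff]
  intro G hG
  by_contra hG0
  have hinj := IsFractionRing.injective A K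
  have h0 := x0K_ne_zero x hx hq K
  have hx0 := x0_ne_zero x hx hq
  -- lifts of the coefficients
  set lift : ResidueField A → A := Function.surjInv (residue_surjective (R := A)) with hlift
  have hl : ∀ c, residue A (lift c) = c := Function.surjInv_eq _
  set N := G.totalDegree with hN
  have hdegle : ∀ α ∈ G.support, ∑ i, α i ≤ N := by
    intro α hα
    have := MvPolynomial.le_totalDegree hα
    rwa [Finsupp.sum_fintype _ _ (fun _ => rfl)] at this
  -- the element `z`
  set z : ordSubalgebra x hx hq K := ∑ α ∈ G.support,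
    algebraMap A (ordSubalgebra x hx hq K) (lift (G.coeff α)) * ∏ i, tau x hx hq K i ^ α i with hz
  have hzres : residue _ z = 0 := by
    rw [← hG, MvPolynomial.aeval_def, MvPolynomial.eval₂_eq', hz, map_sum]
    refine Finset.sum_congr rfl fun α _ => ?_
    rw [map_mul, map_prod, residue_algebraMap, hl]
    simp only [map_pow]
    rfl
  have hzM : InM A K (z : K) := by
    rw [← mem_maximalIdeal_ordSubalgebra, ← residue_eq_zero_iff]
    exact hzres
  obtain ⟨a', b', hb', ha', hzb'⟩ := hzM
  -- the homogenization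
  set P : MvPolynomial (Fin (n + 1)) A := ∑ α ∈ G.support,
    MvPolynomial.monomial (Finsupp.cons (N - ∑ i, α i) α) (lift (G.coeff α)) with hP
  have hPhom : P.IsHomogeneous N := by
    refine MvPolynomial.IsHomogeneous.sum _ _ _ fun α hα => ?_
    refine MvPolynomial.isHomogeneous_monomial _ ?_
    rw [Finsupp.degree_eq_sum, Fin.sum_univ_succ]
    simp only [Finsupp.cons_zero, Finsupp.cons_succ]
    have := hdegle α hα
    omega
  have hzK : ((z : ordSubalgebra x hx hq K) : K) = ∑ α ∈ G.support,
      algebraMap A K (lift (G.coeff α)) *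
        ∏ i, ((tau x hx hq K i : ordSubalgebra x hx hq K) : K) ^ α i := by
    have := map_sum (ordSubalgebra x hx hq K).val (fun α => algebraMap A (ordSubalgebra x hx hq K)
      (lift (G.coeff α)) * ∏ i, tau x hx hq K i ^ α i) G.support
    simp only [map_mul, map_prod, map_pow, Subalgebra.coe_val] at this
    exact this
  have hPK : algebraMap A K (eval x P) = algebraMap A K (x 0) ^ N * (z : K) := by
    rw [hzK, hP, map_sum, map_sum, Finset.mul_sum]
    refine Finset.sum_congr rfl fun α hα => ?_
    rw [MvPolynomial.eval_monomial, Finsupp.prod_fintype _ _ (fun _ => pow_zero _),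
      Fin.prod_univ_succ]
    simp only [Finsupp.cons_zero, Finsupp.cons_succ, map_mul, map_prod, map_pow]
    have hτ : ∀ i : Fin n, algebraMap A K (x i.succ) ^ α i = algebraMap A K (x 0) ^ α i *
        ((tau x hx hq K i : ordSubalgebra x hx hq K) : K) ^ α i := by
      intro i
      have := algebraMap_x x hx hq K i.succ
      simp only [cvec, Fin.cons_succ] at this
      rw [this, mul_pow]
    simp only [hτ]
    rw [Finset.prod_mul_distrib, Finset.prod_pow_eq_pow_sum]
    have hle := hdegle α hα
    have : algebraMap A K (x 0) ^ N = algebraMap A K (x 0) ^ (N - ∑ i, α i) *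
        algebraMap A K (x 0) ^ (∑ i, α i) := by
      rw [← pow_add]; congr 1; omega
    rw [this]; ring
  -- the value of `P` has order `> N`
  have hPmem : eval x P ∈ maximalIdeal A ^ (N + 1) := by
    have hcross : eval x P * b' = x 0 ^ N * a' := by
      apply hinj
      simp only [map_mul, map_pow]
      rw [hPK, ← hzb']; ring
    by_cases ha'0 : a' = 0
    · rw [ha'0, mul_zero] at hcross
      rcases mul_eq_zero.mp hcross with h | h
      · rw [h]; exact zero_mem _
      · exact absurd h hb'
    · have hP0 : eval x P ≠ 0 := by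
        intro h
        rw [h, zero_mul] at hcross
        exact (mul_ne_zero (pow_ne_zero N hx0) ha'0) hcross.symm
      have h1 := congrArg ord hcross
      rw [ord_mul x hx hq hP0 hb', ord_mul x hx hq (pow_ne_zero N hx0) ha'0,
        ord_x0_pow x hx hq] at h1
      have h2 := (mem_pow_iff_le_ord ha'0).mp ha'
      rw [mem_pow_iff_le_ord hP0]
      omega
  have hcoeff := hq N P hPhom (by rw [hx]; exact hPmem)
  -- all coefficients of `G` vanish
  apply hG0
  rw [← MvPolynomial.support_eq_empty, Finset.eq_empty_iff_forall_notMem]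
  intro α hα
  have h1 := hcoeff (Finsupp.cons (N - ∑ i, α i) α)
  rw [hx, hP, MvPolynomial.coeff_sum] at h1
  rw [Finset.sum_eq_single α] at h1
  · rw [MvPolynomial.coeff_monomial, if_pos rfl] at h1
    have h2 : residue A (lift (G.coeff α)) = 0 := (residue_eq_zero_iff _).mpr h1
    rw [hl] at h2
    exact (MvPolynomial.mem_support_iff.mp hα) h2
  · intro β _ hβα
    rw [MvPolynomial.coeff_monomial, if_neg]
    intro h
    apply hβα
    have := congrArg Finsupp.tail h
    rwa [Finsupp.tail_cons, Finsupp.tail_cons] at this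
  · intro h
    exact absurd hα h

end Residue

/-- S4947 -/
theorem main (A : Type u) [CommRing A] [IsRegularLocalRing A] (hA : ¬ IsField A) :
    ∃ (V : Subalgebra A (FractionRing A)) (_ : IsDomain V) (_ : IsDiscreteValuationRing V),
      IsFractionRing V (FractionRing A) ∧
      (IsLocalRing.maximalIdeal V).comap (algebraMap A V) = IsLocalRing.maximalIdeal A ∧
      ∃ (φ : IsLocalRing.ResidueField A →+* IsLocalRing.ResidueField V),
        φ.comp (IsLocalRing.residue A) = (IsLocalRing.residue V).comp (algebraMap A V) ∧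
        letI := φ.toAlgebra
        ∃ (ι : Type u) (t : ι → IsLocalRing.ResidueField V),
          AlgebraicIndependent (IsLocalRing.ResidueField A) t ∧
          IntermediateField.adjoin (IsLocalRing.ResidueField A) (Set.range t) = ⊤ := by
  haveI : IsDomain A := Groth.Agent.Lib.Helper85.isDomain_of_isRegularLocalRing A
  obtain ⟨n, x, hx, hq⟩ := exists_params A hA
  refine ⟨ordSubalgebra x hx hq (FractionRing A), inferInstance, inferInstance,
    isFractionRing_ordSubalgebra x hx hq _, comap_maximalIdeal_ordSubalgebra x hx hq _,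
    resMap x hx hq _, rfl, ?_⟩
  refine ⟨ULift.{u} (Fin n), fun i => tgen x hx hq _ i.down, ?_, ?_⟩
  · letI := (resMap x hx hq (FractionRing A)).toAlgebra
    exact (algebraicIndependent_tgen x hx hq (FractionRing A)).comp _ ULift.down_injective
  · have hr : Set.range (fun i : ULift.{u} (Fin n) => tgen x hx hq (FractionRing A) i.down) =
        Set.range (tgen x hx hq (FractionRing A)) := by
      show Set.range (tgen x hx hq (FractionRing A) ∘ ULift.down) = _
      exact ULift.down_surjective.range_comp _
    rw [hr]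
    exact adjoin_tgen_eq_top x hx hq (FractionRing A)

end Groth.Agent.H72.RegDVR
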