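import Mathlib

/-!
# Schematic density of an open whose complement has depth ≥ 1 (helper72)
-/

set_option autoImplicit false
set_option linter.style.haveILetI false
universe u

namespace Groth.Agent.H72.SchDense

section Alg

variable {R A : Type*} [CommRing R] [CommRing A] [Algebra R A]

/-- The annihilator ideal of an element. -/
def annIdeal (a : R) : Ideal R := LinearMap.ker (LinearMap.mulRight R a)

theorem mem_annIdeal {a r : R} : r ∈ annIdeal a ↔ r * a = 0 := by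
  simp [annIdeal, LinearMap.mem_ker]

theorem annIdeal_ne_top {a : R} (ha : a ≠ 0) : annIdeal a ≠ ⊤ := by
  intro h
  have : (1 : R) ∈ annIdeal a := h ▸ Submodule.mem_top
  rw [mem_annIdeal, one_mul] at this
  exact ha this

theorem algebraMap_ne_zero (𝔭 : Ideal R) [𝔭.IsPrime] [IsLocalization.AtPrime A 𝔭] (a : R)
    (h𝔭 : 𝔭 ∈ (annIdeal a).minimalPrimes) : algebraMap R A a ≠ 0 := by
  intro h0
  obtain ⟨s, hs⟩ := (IsLocalization.map_eq_zero_iff 𝔭.primeCompl A a).mp h0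
  have : (s : R) ∈ annIdeal a := mem_annIdeal.mpr hs
  exact s.2 (h𝔭.1.2 this)

theorem false_of_regular (𝔭 : Ideal R) [𝔭.IsPrime] [IsLocalization.AtPrime A 𝔭] (a : R)
    (h𝔭 : 𝔭 ∈ (annIdeal a).minimalPrimes) [IsLocalRing A] (t : A)
    (ht : t ∈ IsLocalRing.maximalIdeal A) (hreg : IsSMulRegular A t) : False := by
  have hrad := IsLocalization.AtPrime.radical_map_of_mem_minimalPrimes (A := A) 𝔭 (annIdeal a) h𝔭
  rw [IsLocalization.AtPrime.map_eq_maximalIdeal 𝔭 A] at hrad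
  rw [← hrad] at ht
  obtain ⟨n, hn⟩ := ht
  have hle : (annIdeal a).map (algebraMap R A) ≤ annIdeal (algebraMap R A a) := by
    rw [Ideal.map_le_iff_le_comap]
    intro r hr
    rw [Ideal.mem_comap, mem_annIdeal, ← map_mul, mem_annIdeal.mp hr, map_zero]
  have h1 := mem_annIdeal.mp (hle hn)
  have h2 : algebraMap R A a = 0 := by
    apply (hreg.pow n)
    show t ^ n • (algebraMap R A a) = t ^ n • (0 : A)
    rw [smul_eq_mul, smul_zero, h1]
  exact algebraMap_ne_zero 𝔭 a h𝔭 h2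

end Alg

end Groth.Agent.H72.SchDense

namespace Groth.Agent.H72.SchDense

open AlgebraicGeometry CategoryTheory CategoryTheory.Limits

theorem section_eq_zero (X : Scheme.{u}) (U : X.Opens)
    (hZ : ∀ z : X, z ∉ U → ∃ a ∈ IsLocalRing.maximalIdeal (X.presheaf.stalk z),
      IsSMulRegular (X.presheaf.stalk z) a)
    (V : X.Opens) (hV : IsAffineOpen V) (a : Γ(X, V)) (ha : U.ι.app V a = 0) : a = 0 := by
  by_contra hne
  obtain ⟨⟨𝔭, h𝔭⟩⟩ := Ideal.nonempty_minimalPrimes (annIdeal_ne_top hne)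
  haveI : 𝔭.IsPrime := h𝔭.1.1
  let y : PrimeSpectrum Γ(X, V) := ⟨𝔭, inferInstance⟩
  have hz : hV.fromSpec y ∈ V := by
    have := hV.range_fromSpec
    rw [← SetLike.mem_coe, ← this]
    exact ⟨y, rfl⟩
  letI := TopCat.Presheaf.algebra_section_stalk X.presheaf ⟨hV.fromSpec y, hz⟩
  haveI : IsLocalization.AtPrime (X.presheaf.stalk (hV.fromSpec y)) 𝔭 :=
    hV.isLocalization_stalk' y hz
  by_cases hzU : hV.fromSpec y ∈ U
  · apply algebraMap_ne_zero (A := X.presheaf.stalk (hV.fromSpec y)) 𝔭 a h𝔭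
    show X.presheaf.germ V (hV.fromSpec y) hz a = 0
    rw [Scheme.Opens.ι_app] at ha
    have hzW : hV.fromSpec y ∈ U.ι ''ᵁ U.ι ⁻¹ᵁ V := ⟨⟨hV.fromSpec y, hzU⟩, hz, rfl⟩
    have := TopCat.Presheaf.germ_res_apply X.presheaf
      (homOfLE (show U.ι ''ᵁ U.ι ⁻¹ᵁ V ≤ V from by
        rintro _ ⟨x, hx, rfl⟩; exact hx)) (hV.fromSpec y) hzW a
    rw [← this]
    erw [ha]
    exact map_zero _
  · obtain ⟨t, ht, hreg⟩ := hZ _ hzU
    exact false_of_regular 𝔭 a h𝔭 t ht hreg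

end Groth.Agent.H72.SchDense

namespace Groth.Agent.H72.SchDense

open AlgebraicGeometry CategoryTheory CategoryTheory.Limits

theorem ker_ι_eq_bot (X : Scheme.{u}) (U : X.Opens)
    (hZ : ∀ z : X, z ∉ U → ∃ a ∈ IsLocalRing.maximalIdeal (X.presheaf.stalk z),
      IsSMulRegular (X.presheaf.stalk z) a) : U.ι.ker = ⊥ := by
  rw [eq_bot_iff]
  intro V a ha
  have := Scheme.Hom.ideal_ker_le U.ι V ha
  rw [RingHom.mem_ker] at this
  have h0 := section_eq_zero X U hZ V V.2 a this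
  rw [h0]
  exact Submodule.zero_mem _

theorem ext_of_ker_eq_bot {X Y W : Scheme.{u}} (f : Y ⟶ X) [IsSeparated f] (s₁ s₂ : X ⟶ Y)
    (h : s₁ ≫ f = s₂ ≫ f) (ι : W ⟶ X) (hι : ι.ker = ⊥) (hU : ι ≫ s₁ = ι ≫ s₂) : s₁ = s₂ := by
  let X' : Over X := Over.mk (s₁ ≫ f)
  let Y' : Over X := Over.mk f
  let U' : Over X := Over.mk (ι ≫ s₁ ≫ f)
  let f' : X' ⟶ Y' := Over.homMk s₁
  let g' : X' ⟶ Y' := Over.homMk s₂ h.symm
  let ι' : U' ⟶ X' := Over.homMk ι
  have : IsSeparated Y'.hom := ‹_›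
  have hlift : (equalizer.lift (f := f') (g := g') ι' (by ext1; exact hU)).left ≫
      (equalizer.ι f' g').left = ι := by
    rw [← Over.comp_left, equalizer.lift_ι]
    rfl
  have hker : (equalizer.ι f' g').left.ker = ⊥ := by
    rw [eq_bot_iff, ← hι, ← hlift]
    exact Scheme.Hom.le_ker_comp _ _
  have : IsIso (equalizer.ι f' g').left := IsClosedImmersion.isIso_iff_ker_eq_bot.mpr hker
  rw [← cancel_epi (equalizer.ι f' g').left]
  exact congr($(equalizer.condition f' g').left)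

end Groth.Agent.H72.SchDense
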