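import Mathlib

/-!
# Spreading out a residue-field point of a finitely presented algebra (helper72)

`spread`: `φ : A → B` finitely presented, `ev : A → k` a map to a field all of whose elements are
fractions of elements of `A`, `g : B → k` with `g ∘ φ = ev`.  Then there are `f ∈ A` with
`ev f ≠ 0`, a finitely generated ideal `I ≤ ker ev` and a ring map `ψ : B → A_f / I A_f` of
`A`-algebras.
-/

universe u

namespace Groth.Agent.H72.SpreadSection

open MvPolynomial

theorem exists_common_denominator {A k : Type*} [CommRing A] [Field k] (ev : A →+* k)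
    (hk : ∀ c : k, ∃ a s : A, ev s ≠ 0 ∧ c * ev s = ev a) {ι : Type*} (c : ι → k)
    (t : Finset ι) : ∃ s : A, ev s ≠ 0 ∧ ∀ i ∈ t, ∃ a : A, c i * ev s = ev a := by
  classical
  induction t using Finset.induction_on with
  | empty => exact ⟨1, by simp, by simp⟩
  | insert j t hj ih =>
    obtain ⟨s, hs, h⟩ := ih
    obtain ⟨aj, sj, hsj, hj'⟩ := hk (c j)
    refine ⟨s * sj, by simp [hs, hsj], ?_⟩
    intro i hi
    rcases Finset.mem_insert.mp hi with rfl | hi
    · exact ⟨aj * s, by rw [map_mul, map_mul, ← hj']; ring⟩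
    · obtain ⟨a, ha⟩ := h i hi
      exact ⟨a * sj, by rw [map_mul, map_mul, ← ha]; ring⟩

theorem spread {A B k : Type u} [CommRing A] [CommRing B] [Field k] (φ : A →+* B)
    (hφ : φ.FinitePresentation) (ev : A →+* k) (g : B →+* k) (hg : g.comp φ = ev)
    (hk : ∀ c : k, ∃ a s : A, ev s ≠ 0 ∧ c * ev s = ev a) :
    ∃ (f : A) (I : Ideal A), ev f ≠ 0 ∧ I.FG ∧ I ≤ RingHom.ker ev ∧
      ∃ ψ : B →+* (Localization.Away f ⧸ I.map (algebraMap A (Localization.Away f))),
        ψ.comp φ = algebraMap A _ := by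
  classical
  algebraize [φ, ev]
  have hgc : ∀ a : A, g (algebraMap A B a) = algebraMap A k a := fun a => by
    change g (φ a) = ev a
    rw [← hg]; rfl
  let g' : B →ₐ[A] k := { g with commutes' := hgc }
  obtain ⟨n, π, hπ, hker⟩ := Algebra.FinitePresentation.out (R := A) (A := B)
  obtain ⟨f, hf, hden⟩ := exists_common_denominator ev hk (fun i : Fin n => g (π (X i))) Finset.univ
  choose a ha using fun i => hden i (Finset.mem_univ i)
  refine ⟨f, ?_⟩
  let L := Localization.Away f
  have hfu : IsUnit ((Algebra.ofId A k) f) := (isUnit_iff_ne_zero.mpr hf)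
  let ρ : L →ₐ[A] k := IsLocalization.liftAlgHom (M := Submonoid.powers f) (f := Algebra.ofId A k)
    (by
      rintro ⟨_, m, rfl⟩
      simpa using hfu.pow m)
  have hρ : ∀ a : A, ρ (algebraMap A L a) = ev a := fun a => ρ.commutes a
  let θ : MvPolynomial (Fin n) A →ₐ[A] L :=
    aeval (fun i => algebraMap A L (a i) * IsLocalization.Away.invSelf f)
  have hinv : ρ (IsLocalization.Away.invSelf (S := L) f) * ev f = 1 := by
    rw [← hρ f, ← map_mul, mul_comm, IsLocalization.Away.mul_invSelf, map_one]
  have hcomp : ρ.comp θ = g'.comp π := by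
    apply MvPolynomial.algHom_ext
    intro i
    simp only [AlgHom.comp_apply, θ, aeval_X, map_mul, hρ]
    change _ = g (π (X i))
    have h1 := ha i
    rw [← h1]
    linear_combination (g (π (X i))) * hinv
  have hsurj : ∀ h : MvPolynomial (Fin n) A, ∃ (c : A) (N : ℕ),
      θ h * algebraMap A L f ^ N = algebraMap A L c := fun h => by
    obtain ⟨N, c, hc⟩ := IsLocalization.Away.surj f (θ h)
    exact ⟨c, N, hc⟩
  choose c N hc using hsurj
  obtain ⟨T, hT⟩ := hker
  let I : Ideal A := Ideal.span (c '' (T : Set (MvPolynomial (Fin n) A)))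
  have hcker : ∀ h ∈ T, ev (c h) = 0 := by
    intro h hh
    have h0 : π h = 0 := by
      have : h ∈ RingHom.ker π.toRingHom := by
        rw [← hT]; exact Ideal.subset_span hh
      exact this
    rw [← hρ, ← hc, map_mul]
    have : ρ (θ h) = g' (π h) := congrArg (fun F => F h) hcomp
    rw [this, h0, map_zero, zero_mul]
  refine ⟨I, hf, ?_, ?_, ?_⟩
  · exact Submodule.fg_span ((T.finite_toSet).image c)
  · rw [Ideal.span_le]
    rintro _ ⟨h, hh, rfl⟩
    exact hcker h hh
  · let χ : MvPolynomial (Fin n) A →ₐ[A] (L ⧸ I.map (algebraMap A L)) :=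
      (Ideal.Quotient.mkₐ A (I.map (algebraMap A L))).comp θ
    have hχ : ∀ h ∈ RingHom.ker π.toRingHom, χ h = 0 := by
      intro h hh
      rw [← hT] at hh
      have : Ideal.span (T : Set (MvPolynomial (Fin n) A)) ≤ RingHom.ker χ.toRingHom := by
        rw [Ideal.span_le]
        intro h hh
        change χ h = 0
        change Ideal.Quotient.mk _ (θ h) = 0
        rw [Ideal.Quotient.eq_zero_iff_mem]
        have e1 : θ h = algebraMap A L (c h) * IsLocalization.Away.invSelf f ^ N h := by
          rw [← hc, mul_assoc, ← mul_pow, IsLocalization.Away.mul_invSelf, one_pow, mul_one]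
        rw [e1]
        exact Ideal.mul_mem_right _ _ (Ideal.mem_map_of_mem _ (Ideal.subset_span ⟨h, hh, rfl⟩))
      exact this hh
    let ψ₀ : (MvPolynomial (Fin n) A ⧸ RingHom.ker π.toRingHom) →ₐ[A] (L ⧸ I.map (algebraMap A L)) :=
      Ideal.Quotient.liftₐ _ χ hχ
    let e := Ideal.quotientKerAlgEquivOfSurjective hπ
    let ψ : B →ₐ[A] (L ⧸ I.map (algebraMap A L)) := ψ₀.comp e.symm.toAlgHom
    refine ⟨ψ.toRingHom, ?_⟩
    ext a
    exact ψ.commutes a

end Groth.Agent.H72.SpreadSection
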