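import Mathlib
import Groth.Agent.H72.SpreadSection

/-!
# Spreading out a completely decomposed point to a section over a f.p. immersion (helper72)
-/

universe u

open AlgebraicGeometry CategoryTheory Limits

namespace Groth.Agent.H72.SpreadSectionSch

set_option backward.isDefEq.respectTransparency.types false in
theorem fraction_residueField {X Y : Scheme.{u}} (f : X ⟶ Y) (x : X)
    (hbij : Function.Bijective (f.residueFieldMap x)) {U : Y.Opens} (hU : IsAffineOpen U)
    (hyU : f x ∈ U) (c : X.residueField x) :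
    ∃ a s : Γ(Y, U), (Y.evaluation U (f x) hyU ≫ f.residueFieldMap x).hom s ≠ 0 ∧
      c * (Y.evaluation U (f x) hyU ≫ f.residueFieldMap x).hom s =
        (Y.evaluation U (f x) hyU ≫ f.residueFieldMap x).hom a := by
  obtain ⟨c', rfl⟩ := hbij.2 c
  obtain ⟨τ, rfl⟩ : ∃ τ, Y.residue (f x) τ = c' := IsLocalRing.residue_surjective c'
  letI := Y.presheaf.algebra_section_stalk ⟨f x, hyU⟩
  haveI := hU.isLocalization_stalk ⟨f x, hyU⟩
  obtain ⟨⟨a, s⟩, has⟩ := IsLocalization.surj (hU.primeIdealOf ⟨f x, hyU⟩).asIdeal.primeCompl τ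
  have hsu : IsUnit (Y.presheaf.germ U (f x) hyU s.1) :=
    IsLocalization.map_units (M := (hU.primeIdealOf ⟨f x, hyU⟩).asIdeal.primeCompl)
      (Y.presheaf.stalk (f x)) s
  refine ⟨a, s.1, ?_, ?_⟩
  · have : IsUnit ((Y.evaluation U (f x) hyU ≫ f.residueFieldMap x).hom s.1) := by
      have := (hsu.map (Y.residue (f x)).hom).map (f.residueFieldMap x).hom
      exact this
    exact this.ne_zero
  · have has' : τ * Y.presheaf.germ U (f x) hyU s.1 = Y.presheaf.germ U (f x) hyU a := has
    have := congrArg (fun w => (f.residueFieldMap x).hom ((Y.residue (f x)).hom w)) has'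
    simp only [map_mul] at this
    exact this

set_option backward.isDefEq.respectTransparency.types false in
theorem local_claim {X Y : Scheme.{u}} (f : X ⟶ Y) [LocallyOfFinitePresentation f]
    [QuasiSeparatedSpace ↑Y] (x : X)
    (hbij : Function.Bijective (f.residueFieldMap x)) {U : Y.Opens} (hU : IsAffineOpen U)
    {V : X.Opens} (hV : IsAffineOpen V) (hyU : f x ∈ U) (hxV : x ∈ V) (hVU : V ≤ f ⁻¹ᵁ U) :
    ∃ (Z : Scheme.{u}) (z : Z ⟶ Y), f x ∈ Set.range ⇑z ∧ IsImmersion z ∧
      LocallyOfFinitePresentation z ∧ QuasiCompact z ∧ QuasiSeparated z ∧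
      ∃ s : Z ⟶ pullback f z, s ≫ pullback.snd f z = 𝟙 Z := by
  have hφ : (f.appLE U V hVU).hom.FinitePresentation :=
    HasRingHomProperty.appLE (P := @LocallyOfFinitePresentation) f inferInstance ⟨U, hU⟩ ⟨V, hV⟩ hVU
  have hcomp0 : f.appLE U V hVU ≫ X.evaluation V x hxV =
      Y.evaluation U (f x) hyU ≫ f.residueFieldMap x := by
    rw [Scheme.evaluation_naturality, Scheme.Hom.appLE, Category.assoc]
    congr 1
    rw [← Scheme.germ_residue, ← Scheme.germ_residue, ← Category.assoc, TopCat.Presheaf.germ_res]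
  have hcomp : ((X.evaluation V x hxV).hom).comp (f.appLE U V hVU).hom =
      (Y.evaluation U (f x) hyU ≫ f.residueFieldMap x).hom := by
    rw [← hcomp0]; rfl
  obtain ⟨f₀, I, hf₀, hI, hIk, ψ, hψ⟩ := Groth.Agent.H72.SpreadSection.spread
    (f.appLE U V hVU).hom hφ (Y.evaluation U (f x) hyU ≫ f.residueFieldMap x).hom
    (X.evaluation V x hxV).hom hcomp (fraction_residueField f x hbij hU hyU)
  obtain ⟨α, hα⟩ : ∃ α : Γ(Y, U) ⟶ CommRingCat.of (Localization.Away f₀),
    α = CommRingCat.ofHom (algebraMap Γ(Y, U) (Localization.Away f₀)) := ⟨_, rfl⟩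
  obtain ⟨β, hβ⟩ : ∃ β : CommRingCat.of (Localization.Away f₀) ⟶
      CommRingCat.of (Localization.Away f₀ ⧸ I.map (algebraMap Γ(Y, U) (Localization.Away f₀))),
    β = CommRingCat.ofHom (Ideal.Quotient.mk _) := ⟨_, rfl⟩
  have hψ' : f.appLE U V hVU ≫ CommRingCat.ofHom ψ = α ≫ β := by
    ext a
    have := congrArg (fun F => F a) hψ
    rw [hα, hβ]
    exact this
  have hopen : IsOpenImmersion (Spec.map α) := by rw [hα]; infer_instance
  have hclosed : IsClosedImmersion (Spec.map β) := by
    rw [hβ]; exact IsClosedImmersion.spec_of_surjective _ Ideal.Quotient.mk_surjective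
  have hβfp : LocallyOfFinitePresentation (Spec.map β) := by
    rw [HasRingHomProperty.Spec_iff (P := @LocallyOfFinitePresentation), hβ]
    refine RingHom.FinitePresentation.of_surjective _ Ideal.Quotient.mk_surjective ?_
    rw [CommRingCat.hom_ofHom, Ideal.mk_ker]
    exact hI.map _
  refine ⟨Spec (CommRingCat.of
      (Localization.Away f₀ ⧸ I.map (algebraMap Γ(Y, U) (Localization.Away f₀)))),
    Spec.map β ≫ Spec.map α ≫ hU.fromSpec, ?_, inferInstance, inferInstance, inferInstance,
    inferInstance, ?_⟩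
  · -- the point
    have hu : IsUnit ((Y.evaluation U (f x) hyU ≫ f.residueFieldMap x).hom f₀) :=
      isUnit_iff_ne_zero.mpr hf₀
    obtain ⟨ρ, hρ⟩ : ∃ ρ : Localization.Away f₀ →+* X.residueField x,
        ∀ a, ρ (algebraMap Γ(Y, U) (Localization.Away f₀) a) =
          (Y.evaluation U (f x) hyU ≫ f.residueFieldMap x).hom a :=
      ⟨IsLocalization.Away.lift (S := Localization.Away f₀) f₀ hu,
        fun a => IsLocalization.Away.lift_eq f₀ hu a⟩
    have hJ : ∀ a ∈ I.map (algebraMap Γ(Y, U) (Localization.Away f₀)), ρ a = 0 := by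
      intro a ha
      have : I.map (algebraMap Γ(Y, U) (Localization.Away f₀)) ≤ RingHom.ker ρ := by
        rw [Ideal.map_le_iff_le_comap]
        intro b hb
        have hb' := hIk hb
        rw [Ideal.mem_comap, RingHom.mem_ker, hρ]
        exact hb'
      exact this ha
    let γ : CommRingCat.of (Localization.Away f₀ ⧸ I.map (algebraMap Γ(Y, U) (Localization.Away f₀)))
        ⟶ X.residueField x :=
      CommRingCat.ofHom (Ideal.Quotient.lift _ ρ hJ)
    have hγ : α ≫ β ≫ γ = Y.evaluation U (f x) hyU ≫ f.residueFieldMap x := by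
      ext a
      rw [hα, hβ]
      change Ideal.Quotient.lift _ ρ hJ
        (Ideal.Quotient.mk _ (algebraMap _ _ a)) = _
      rw [Ideal.Quotient.lift_mk, hρ]
    refine ⟨Spec.map γ (IsLocalRing.closedPoint (X.residueField x)), ?_⟩
    rw [← Scheme.Hom.comp_apply]
    have : Spec.map γ ≫ Spec.map β ≫ Spec.map α ≫ hU.fromSpec =
        Spec.map (f.residueFieldMap x) ≫ Y.fromSpecResidueField (f x) := by
      calc Spec.map γ ≫ Spec.map β ≫ Spec.map α ≫ hU.fromSpec
          = Spec.map (α ≫ β ≫ γ) ≫ hU.fromSpec := by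
            simp only [Spec.map_comp, Category.assoc]
        _ = _ := by
            rw [hγ, Spec.map_comp, Category.assoc, ← Scheme.germ_residue, Spec.map_comp,
              Category.assoc, Scheme.fromSpecResidueField,
              ← hU.fromSpecStalk_eq_fromSpecStalk hyU, IsAffineOpen.fromSpecStalk]
    rw [this, Scheme.Hom.comp_apply, Scheme.fromSpecResidueField_apply]
  · refine ⟨pullback.lift (Spec.map (CommRingCat.ofHom ψ) ≫ hV.fromSpec) (𝟙 _) ?_,
      pullback.lift_snd _ _ _⟩
    rw [Category.assoc, ← IsAffineOpen.SpecMap_appLE_fromSpec f hU hV hVU, ← Spec.map_comp_assoc,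
      hψ', Spec.map_comp, Category.assoc, Category.id_comp]

end Groth.Agent.H72.SpreadSectionSch
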