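import Mathlib
import Groth.Prelude.Def_W4c2submetdescSubtr
import Groth.Agent.H72.SubtrQFA
import Groth.Agent.H72.FppfFin
import Groth.Agent.S1482

/-!
# Étale-local finite covers for quasi-finite universally S-subtrusive morphisms (helper72)

* `exists_local_cover`: for `f : X ⟶ Y` quasi-finite, quasi-compact, locally of finite
  presentation and universally S-subtrusive, every point of `Y` has an étale neighbourhood `U`
  over which there is a finite surjective `Q ⟶ U` lifting to `X`.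
* `hasCover_of_etale_local`: the `HasCover` property over an affine scheme is étale local.
-/

set_option autoImplicit false
universe u

open CategoryTheory CategoryTheory.Limits AlgebraicGeometry Topology

namespace Groth.Agent.H72.SubtrQF

open Groth.Agent.Lib.Helper22.PhCover

set_option backward.isDefEq.respectTransparency.types false in
theorem exists_local_cover {X Y : Scheme.{u}} (f : X ⟶ Y) [LocallyOfFinitePresentation f]
    [QuasiCompact f] [LocallyQuasiFinite f] (hf : Subtr.UnivSSubtrusive f) (y : Y) :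
    ∃ (U : Scheme.{u}) (g : U ⟶ Y) (u : U) (Q : Scheme.{u}) (q : Q ⟶ U) (r : Q ⟶ X),
      Etale g ∧ g u = y ∧ IsFinite q ∧ Surjective q ∧ r ≫ f = q ≫ g := by
  classical
  have hfin : (f ⁻¹' {y}).Finite := f.finite_preimage_singleton y
  obtain ⟨n, x, hxinj, hxrange⟩ : ∃ (n : ℕ) (x : Fin n → X), Function.Injective x ∧
      Set.range x = f ⁻¹' {y} := by
    obtain ⟨e, he⟩ : ∃ e : ↥hfin.toFinset ≃ Fin hfin.toFinset.card, e = hfin.toFinset.equivFin :=
      ⟨_, rfl⟩
    refine ⟨_, fun i => (e.symm i).1, ?_, ?_⟩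
    · intro i j hij
      exact e.symm.injective (Subtype.ext hij)
    · ext z
      constructor
      · rintro ⟨i, rfl⟩
        exact hfin.mem_toFinset.mp (e.symm i).2
      · intro hz
        exact ⟨e ⟨z, hfin.mem_toFinset.mpr hz⟩, by simp⟩
  have hs : ∀ i, f (x i) = y := fun i => by
    have : x i ∈ f ⁻¹' {y} := hxrange ▸ Set.mem_range_self i
    exact this
  obtain ⟨U, g, u, hg, hgu, J, hJ, V, v, hV, -, hall⟩ :=
    Groth.Agent.S1482.result f y x hxinj hs (fun i => f.quasiFiniteAt (x i))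
  haveI := hJ
  have hsub : Subtr.IsSSubtrusive (pullback.snd f g) :=
    hf _ _ _ (IsPullback.of_hasPullback f g).flip
  obtain ⟨Q₀, r₀, hfin₀, hQ₀⟩ := exists_finite_union (pullback.snd f g) (K := Σ i, J i)
    (fun k => V k.1 k.2) (fun k => (hV k.1 k.2).2.1)
  obtain ⟨Z, hZ⟩ : ∃ Z : Set U, Z = ⋃ k : Σ i, J i,
      Set.range ((V k.1 k.2).ι ≫ pullback.snd f g) := ⟨_, rfl⟩
  have hZc : IsLocallyConstructible Z := by
    rw [hZ]
    refine IsLocallyConstructible.iUnion fun k => ?_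
    haveI := (hV k.1 k.2).2.1
    rw [← Set.image_univ]
    exact ((V k.1 k.2).ι ≫ pullback.snd f g).isLocallyConstructible_image
      IsLocallyConstructible.univ
  have hZgen : ∀ u' : U, u' ⤳ u → u' ∈ Z := by
    intro u' hu'
    obtain ⟨w, w', hww, hw, hw'⟩ := hsub hu'
    have h1 : f (pullback.fst f g w) = y := by
      rw [← Scheme.Hom.comp_apply, pullback.condition, Scheme.Hom.comp_apply, hw, hgu]
    obtain ⟨i, hi⟩ : ∃ i, x i = pullback.fst f g w := by
      have : pullback.fst f g w ∈ Set.range x := by rw [hxrange]; exact h1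
      exact this
    obtain ⟨j, hj⟩ := hall w i hw hi.symm
    have hwV : w ∈ V i j := hj ▸ (hV i j).1
    have hw'V : w' ∈ V i j := hww.mem_open (V i j).2 hwV
    rw [hZ]
    refine Set.mem_iUnion.mpr ⟨⟨i, j⟩, ⟨⟨w', hw'V⟩, ?_⟩⟩
    rw [Scheme.Hom.comp_apply]
    exact hw'
  have hnhds := mem_nhds_of_isLocallyConstructible hZc u hZgen
  obtain ⟨N₀, hN₀Z, hN₀open, huN₀⟩ := mem_nhds_iff.mp hnhds
  obtain ⟨N, hN⟩ : ∃ N : U.Opens, (N : Set U) = N₀ := ⟨⟨N₀, hN₀open⟩, rfl⟩
  haveI := hfin₀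
  refine ⟨N.toScheme, N.ι ≫ g, ⟨u, by rw [← SetLike.mem_coe, hN]; exact huN₀⟩,
    pullback (r₀ ≫ pullback.snd f g) N.ι, pullback.snd _ _,
    pullback.fst _ _ ≫ r₀ ≫ pullback.fst f g, inferInstance, ?_, inferInstance, ⟨?_⟩, ?_⟩
  · rw [Scheme.Hom.comp_apply]
    exact hgu
  · intro t
    have ht : N.ι t ∈ Z := hN₀Z (by rw [← hN]; exact t.2)
    rw [hZ] at ht
    obtain ⟨k, ⟨w, hw⟩⟩ := Set.mem_iUnion.mp ht
    obtain ⟨z, hz⟩ := hQ₀ k w.2
    have h2 : (r₀ ≫ pullback.snd f g) z = N.ι t := by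
      rw [Scheme.Hom.comp_apply, hz, ← hw, Scheme.Hom.comp_apply]
      rfl
    obtain ⟨t', -, ht'⟩ := Scheme.Pullback.exists_preimage_pullback
      (f := r₀ ≫ pullback.snd f g) (g := N.ι) z t h2
    exact ⟨t', ht'⟩
  · simp only [Category.assoc]
    rw [pullback.condition (f := f) (g := g)]
    rw [← pullback.condition_assoc (f := r₀ ≫ pullback.snd f g) (g := N.ι)]
    simp only [Category.assoc]

set_option backward.isDefEq.respectTransparency.types false in
/-- the `HasCover` property over an affine scheme is étale local -/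
theorem hasCover_of_etale_local {B : Scheme.{u}} {P : ∀ ⦃O : Scheme.{u}⦄, (O ⟶ B) → Prop}
    (hP : ∀ ⦃O O' : Scheme.{u}⦄ (k : O' ⟶ O) (h : O ⟶ B), P h → P (k ≫ h))
    {V : Scheme.{u}} [IsAffine V] (v : V ⟶ B)
    (h : ∀ y : V, ∃ (U : Scheme.{u}) (g : U ⟶ V) (u : U), Etale g ∧ g u = y ∧
      HasCover P (g ≫ v)) : HasCover P v := by
  refine HasCover.of_open_cover hP v fun y => ?_
  obtain ⟨U, g, u, hg, hgu, hc⟩ := h y
  have hopen : IsOpen (Set.range g) := g.isOpenMap.isOpen_range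
  obtain ⟨_, ⟨_, ⟨a, rfl⟩, rfl⟩, hya, haN⟩ :=
    (isBasis_basicOpen V).exists_subset_of_mem_open (show y ∈ Set.range g from ⟨u, hgu⟩) hopen
  obtain ⟨N, hN⟩ : ∃ N : V.Opens, N = V.basicOpen a := ⟨_, rfl⟩
  rw [← hN] at hya haN
  refine ⟨N, hya, ?_⟩
  haveI : IsAffine N.toScheme := by rw [hN]; exact (isAffineOpen_top V).basicOpen a
  haveI : Surjective (g ∣_ N) := ⟨fun t => by
    obtain ⟨z, hz⟩ := haN t.2
    refine ⟨⟨z, by change g z ∈ N; rw [hz]; exact t.2⟩, Subtype.ext ?_⟩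
    rw [morphismRestrict_base_coe]
    exact hz⟩
  obtain ⟨S', π, hπs, hπf, hπp, hlift⟩ :=
    Groth.Agent.H72.FppfFin.exists_finite_fp_surjective (g ∣_ N)
  haveI : IsAffine S' := isAffine_of_isAffineHom π
  have h1 : HasCover P (π ≫ N.ι ≫ v) := by
    refine HasCover.of_open_cover hP _ fun y' => ?_
    obtain ⟨V', h', hy', hh'⟩ := hlift y'
    refine ⟨V', hy', ?_⟩
    have h2 := hc.precomp hP (h' ≫ (g ⁻¹ᵁ N).ι)
    have e : (h' ≫ (g ⁻¹ᵁ N).ι) ≫ g ≫ v = V'.ι ≫ π ≫ N.ι ≫ v := by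
      rw [Category.assoc, ← morphismRestrict_ι_assoc, reassoc_of% hh']
    rwa [e] at h2
  exact HasCover.comp π h1

end Groth.Agent.H72.SubtrQF
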