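import Mathlib
import Groth.Prelude.Def_W4c2submetdescSubtr
import Groth.Agent.H72.SubtrQFB

/-!
# Quasi-finite universally S-subtrusive morphisms are refined by an open covering followed by a
finite surjective morphism of finite presentation (helper72)
-/

set_option autoImplicit false
universe u

open CategoryTheory CategoryTheory.Limits AlgebraicGeometry Topology

namespace Groth.Agent.H72.SubtrQF

open Groth.Agent.Lib.Helper22.PhCover Groth.Agent.Lib.Helper18 Groth.Agent.H72.FppfFin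

set_option backward.isDefEq.respectTransparency.types false in
theorem exists_refinement {X Y : Scheme.{u}} (f : X ⟶ Y) [CompactSpace Y] [QuasiSeparatedSpace Y]
    [LocallyOfFinitePresentation f] [QuasiCompact f] [LocallyQuasiFinite f]
    (hf : Subtr.UnivSSubtrusive f) :
    ∃ (X' Y' : Scheme.{u}) (h : X' ⟶ X) (p : X' ⟶ Y') (q : Y' ⟶ Y), h ≫ f = p ≫ q ∧
      Surjective p ∧ QuasiCompact p ∧ QuasiSeparated p ∧
      (∀ x : X', ∃ U : X'.Opens, x ∈ U ∧ IsOpenImmersion (U.ι ≫ p)) ∧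
      IsFinite q ∧ Surjective q ∧ LocallyOfFinitePresentation q := by
  classical
  obtain ⟨P, hPdef⟩ : ∃ P : ∀ ⦃O : Scheme.{u}⦄, (O ⟶ Y) → Prop,
      ∀ ⦃O : Scheme.{u}⦄ (o : O ⟶ Y), P o ↔ ∃ r : O ⟶ X, r ≫ f = o :=
    ⟨fun O o => ∃ r : O ⟶ X, r ≫ f = o, fun _ _ => Iff.rfl⟩
  have hP : ∀ ⦃O O' : Scheme.{u}⦄ (k : O' ⟶ O) (h : O ⟶ Y), P h → P (k ≫ h) := by
    intro O O' k h hh
    obtain ⟨r, hr⟩ := (hPdef h).mp hh
    exact (hPdef _).mpr ⟨k ≫ r, by rw [Category.assoc, hr]⟩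
  haveI : (Subtr.UnivSSubtrusive.{u}).IsStableUnderBaseChange := by
    unfold Subtr.UnivSSubtrusive
    infer_instance
  have hA : ∀ (V : Scheme.{u}) [IsAffine V] (v : V ⟶ Y), HasCover P v := by
    intro V _ v
    refine hasCover_of_etale_local hP v fun y => ?_
    have hf' : Subtr.UnivSSubtrusive (pullback.snd f v) := MorphismProperty.pullback_snd _ _ hf
    obtain ⟨U, g, u, Q, q, r, hg, hgu, hq, hqs, hr⟩ :=
      exists_local_cover (pullback.snd f v) hf' y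
    refine ⟨U, g, u, hg, hgu, Q, q, hq, hqs, fun z _ =>
      ⟨Q, 𝟙 Q, inferInstance, ⟨z, rfl⟩, (hPdef _).mpr ⟨r ≫ pullback.fst f v, ?_⟩⟩⟩
    rw [Category.assoc, pullback.condition, reassoc_of% hr, Category.id_comp]
  obtain ⟨C, hC⟩ := FTApprox.exists_finite_affine_cover Y
  have hglob : HasCover P (𝟙 Y) := by
    refine hasCover_of_finset_cover hP (C.image (fun V => V.1)) ?_ ?_ ?_
    · intro V hV
      obtain ⟨V', _, rfl⟩ := Finset.mem_image.mp hV
      exact V'.2.isCompact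
    · intro s
      have hs : s ∈ (⨆ V : ↥C, (V.1 : Y.affineOpens).1) := by rw [hC]; trivial
      obtain ⟨V, hsV⟩ := TopologicalSpace.Opens.mem_iSup.mp hs
      exact ⟨V.1.1, Finset.mem_image_of_mem _ V.2, hsV⟩
    · intro V hV
      obtain ⟨V', _, rfl⟩ := Finset.mem_image.mp hV
      haveI : IsAffine V'.1.toScheme := V'.2
      exact hA _ V'.1.ι
  obtain ⟨Q, q, hq1, hq2, charts⟩ := hglob
  have hlift : ∀ y : Q, ∃ (O : Q.Opens) (r : O.toScheme ⟶ X), y ∈ O ∧ r ≫ f = O.ι ≫ q := by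
    intro y
    obtain ⟨O, o, ho, ⟨y₀, hy₀⟩, hPo⟩ := charts y trivial
    obtain ⟨r, hr⟩ := (hPdef _).mp hPo
    obtain ⟨e, he⟩ : ∃ e : O ≅ o.opensRange.toScheme, e.hom ≫ o.opensRange.ι = o :=
      ⟨IsOpenImmersion.isoOfRangeEq o o.opensRange.ι (by simp),
        IsOpenImmersion.isoOfRangeEq_hom_fac _ _ _⟩
    refine ⟨o.opensRange, e.inv ≫ r, ⟨y₀, hy₀⟩, ?_⟩
    rw [Category.assoc, hr, Category.comp_id, ← Category.assoc]
    congr 1
    rw [Iso.inv_comp_eq]
    exact he.symm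
  obtain ⟨T, π, c, hπ1, hπ2, hcπ, hT⟩ := exists_fp_approx q f hlift
  have hπs : Surjective π := by
    refine ⟨fun s => ?_⟩
    obtain ⟨z, hz⟩ := q.surjective s
    exact ⟨c z, by rw [← Scheme.Hom.comp_apply, hcπ, hz]⟩
  haveI : CompactSpace T := QuasiCompact.compactSpace_of_compactSpace π
  haveI : QuasiSeparatedSpace T := quasiSeparatedSpace_of_quasiSeparated π
  choose Vt rt htV hrt using hT
  have hA' : ∀ t : T, ∃ A : T.Opens, IsAffineOpen A ∧ t ∈ A ∧ A ≤ Vt t := by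
    intro t
    obtain ⟨_, ⟨A, hA, rfl⟩, htA, hAV⟩ :=
      T.isBasis_affineOpens.exists_subset_of_mem_open (htV t) (Vt t).2
    exact ⟨A, hA, htA, hAV⟩
  choose A hAaff htA hAV using hA'
  obtain ⟨F, hF⟩ := isCompact_univ.elim_nhds_subcover (fun t => (A t : Set T))
    (fun t _ => (A t).2.mem_nhds (htA t))
  haveI : ∀ t : F, IsAffine ((A t.1).toScheme) := fun t => hAaff t.1
  obtain ⟨g, hg⟩ : ∃ g : F → Scheme.{u}, g = fun t : F => (A t.1).toScheme := ⟨_, rfl⟩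
  refine ⟨∐ fun t : F => (A t.1).toScheme, T,
    Sigma.desc fun t : F => T.homOfLE (hAV t.1) ≫ rt t.1,
    Sigma.desc fun t : F => (A t.1).ι, π, ?_, ⟨?_⟩, inferInstance, inferInstance, ?_,
    hπ1, hπs, hπ2⟩
  · refine Sigma.hom_ext _ _ fun t => ?_
    rw [Sigma.ι_desc_assoc, Sigma.ι_desc_assoc, Category.assoc, hrt, Scheme.homOfLE_ι_assoc]
  · intro t
    obtain ⟨s, hs, hts⟩ := Set.mem_iUnion₂.mp (hF.2 (Set.mem_univ t))
    refine ⟨Sigma.ι (fun t : F => (A t.1).toScheme) ⟨s, hs⟩ ⟨t, hts⟩, ?_⟩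
    rw [← Scheme.Hom.comp_apply, Sigma.ι_desc]
    rfl
  · intro x
    obtain ⟨⟨t, z⟩, rfl⟩ := (sigmaMk (fun t : F => (A t.1).toScheme)).surjective x
    rw [sigmaMk_mk]
    refine ⟨(Sigma.ι (fun t : F => (A t.1).toScheme) t).opensRange, ⟨z, rfl⟩, ?_⟩
    have e : (Sigma.ι (fun t : F => (A t.1).toScheme) t).opensRange.ι =
        (Sigma.ι (fun t : F => (A t.1).toScheme) t).isoOpensRange.inv ≫
          Sigma.ι (fun t : F => (A t.1).toScheme) t := by
      rw [Iso.eq_inv_comp]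
      exact Scheme.Hom.isoOpensRange_hom_ι _
    rw [e, Category.assoc, Sigma.ι_desc]
    infer_instance

end Groth.Agent.H72.SubtrQF
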