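import Mathlib
import Groth.Prelude.Def_W4c2submetdescSubtr
import Groth.Agent.H72.SubtrQFB

/-!
# Finite surjective covers with Zariski-local lifts, for quasi-finite universally S-subtrusive
morphisms and finite families of such (helper72)
-/

set_option autoImplicit false
universe u

open CategoryTheory CategoryTheory.Limits AlgebraicGeometry Topology

namespace Groth.Agent.H72.SubtrQF

open Groth.Agent.Lib.Helper22.PhCover Groth.Agent.Lib.Helper18 Groth.Agent.H72.FppfFin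

set_option backward.isDefEq.respectTransparency.types false in
/-- a quasi-finite, quasi-compact, finitely presented universally S-subtrusive morphism to a qcqs
scheme is dominated, Zariski locally on the source, by a finite surjective morphism -/
theorem exists_finite_cover_lifts {X Y : Scheme.{u}} (f : X ⟶ Y) [CompactSpace Y]
    [QuasiSeparatedSpace Y]
    [LocallyOfFinitePresentation f] [QuasiCompact f] [LocallyQuasiFinite f]
    (hf : Subtr.UnivSSubtrusive f) :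
    ∃ (Q : Scheme.{u}) (q : Q ⟶ Y), IsFinite q ∧ Surjective q ∧
      ∀ y : Q, ∃ (O : Q.Opens) (r : O.toScheme ⟶ X), y ∈ O ∧ r ≫ f = O.ι ≫ q := by
  classical
  obtain ⟨P, hPdef⟩ : ∃ P : ∀ ⦃O : Scheme.{u}⦄, (O ⟶ Y) → Prop,
      ∀ ⦃O : Scheme.{u}⦄ (o : O ⟶ Y), P o ↔ ∃ r : O ⟶ X, r ≫ f = o :=
    ⟨fun O o => ∃ r : O ⟶ X, r ≫ f = o, fun _ _ => Iff.rfl⟩
  have hP : ∀ ⦃O O' : Scheme.{u}⦄ (k : O' ⟶ O) (h : O ⟶ Y), P h → P (k ≫ h) := by
    intro O O' k h hh
    obtain ⟨r, hr⟩ := (hPdef h).mp hh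
    exact (hPdef _).mpr ⟨k ≫ r, by rw [Category.assoc, hr]⟩
  haveI : (Subtr.UnivSSubtrusive.{u}).IsStableUnderBaseChange := by
    unfold Subtr.UnivSSubtrusive
    infer_instance
  have hA : ∀ (V : Scheme.{u}) [IsAffine V] (v : V ⟶ Y), HasCover P v := by
    intro V _ v
    refine hasCover_of_etale_local hP v fun y => ?_
    have hf' : Subtr.UnivSSubtrusive (pullback.snd f v) := MorphismProperty.pullback_snd _ _ hf
    obtain ⟨U, g, u, Q, q, r, hg, hgu, hq, hqs, hr⟩ :=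
      exists_local_cover (pullback.snd f v) hf' y
    refine ⟨U, g, u, hg, hgu, Q, q, hq, hqs, fun z _ =>
      ⟨Q, 𝟙 Q, inferInstance, ⟨z, rfl⟩, (hPdef _).mpr ⟨r ≫ pullback.fst f v, ?_⟩⟩⟩
    rw [Category.assoc, pullback.condition, reassoc_of% hr, Category.id_comp]
  obtain ⟨C, hC⟩ := FTApprox.exists_finite_affine_cover Y
  have hglob : HasCover P (𝟙 Y) := by
    refine hasCover_of_finset_cover hP (C.image (fun V => V.1)) ?_ ?_ ?_
    · intro V hV
      obtain ⟨V', _, rfl⟩ := Finset.mem_image.mp hV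
      exact V'.2.isCompact
    · intro s
      have hs : s ∈ (⨆ V : ↥C, (V.1 : Y.affineOpens).1) := by rw [hC]; trivial
      obtain ⟨V, hsV⟩ := TopologicalSpace.Opens.mem_iSup.mp hs
      exact ⟨V.1.1, Finset.mem_image_of_mem _ V.2, hsV⟩
    · intro V hV
      obtain ⟨V', _, rfl⟩ := Finset.mem_image.mp hV
      haveI : IsAffine V'.1.toScheme := V'.2
      exact hA _ V'.1.ι
  obtain ⟨Q, q, hq1, hq2, charts⟩ := hglob
  refine ⟨Q, q, hq1, hq2, fun y => ?_⟩
  obtain ⟨O, o, ho, ⟨y₀, hy₀⟩, hPo⟩ := charts y trivial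
  obtain ⟨r, hr⟩ := (hPdef _).mp hPo
  obtain ⟨e, he⟩ : ∃ e : O ≅ o.opensRange.toScheme, e.hom ≫ o.opensRange.ι = o :=
    ⟨IsOpenImmersion.isoOfRangeEq o o.opensRange.ι (by simp),
      IsOpenImmersion.isoOfRangeEq_hom_fac _ _ _⟩
  refine ⟨o.opensRange, e.inv ≫ r, ⟨y₀, hy₀⟩, ?_⟩
  rw [Category.assoc, hr, Category.comp_id, ← Category.assoc]
  congr 1
  rw [Iso.inv_comp_eq]
  exact he.symm

/-- The morphism out of a finite coproduct of quasi-compact morphisms is quasi-compact.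
(copied from helper's `Groth.Agent.S8977.quasiCompact_sigmaDesc` to keep imports light) -/
theorem quasiCompact_sigmaDesc {X : Scheme.{u}} (E : PreZeroHypercover.{u} X) [Finite E.I₀]
    [∀ i, QuasiCompact (E.f i)] : QuasiCompact (Sigma.desc E.f) := by
  rw [quasiCompact_iff_forall_isAffineOpen]
  intro U hU
  have hcov : ((Sigma.desc E.f) ⁻¹ᵁ U : Set ↑(∐ E.X)) =
      ⋃ i, (Sigma.ι E.X i) '' ((E.f i) ⁻¹ᵁ U : Set (E.X i)) := by
    ext x
    simp only [Set.mem_iUnion, Set.mem_image]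
    constructor
    · intro hx
      obtain ⟨⟨i, y⟩, rfl⟩ := (sigmaMk E.X).surjective x
      refine ⟨i, y, ?_, (sigmaMk_mk E.X i y).symm⟩
      have : (Sigma.desc E.f) ((Sigma.ι E.X i) y) ∈ U := by
        rw [← sigmaMk_mk E.X i y]; exact hx
      rw [← Scheme.Hom.comp_apply, Sigma.ι_desc] at this
      exact this
    · rintro ⟨i, y, hy, rfl⟩
      show (Sigma.desc E.f) ((Sigma.ι E.X i) y) ∈ U
      rw [← Scheme.Hom.comp_apply, Sigma.ι_desc]
      exact hy
  rw [hcov]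
  apply isCompact_iUnion
  intro i
  exact (QuasiCompact.isCompact_preimage (f := E.f i) _ U.2 hU.isCompact).image
    (Sigma.ι E.X i).continuous

set_option backward.isDefEq.respectTransparency.types false in
/-- a finite family of quasi-finite, quasi-compact, finitely presented morphisms to a qcqs scheme
which is jointly universally S-subtrusive is refined by a finite surjective morphism followed by
a finite Zariski covering -/
theorem exists_finite_cover_family {Y : Scheme.{u}} [CompactSpace Y] [QuasiSeparatedSpace Y]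
    (E : PreZeroHypercover.{u} Y) [Finite E.I₀] [∀ j, LocallyOfFinitePresentation (E.f j)]
    [∀ j, QuasiCompact (E.f j)] [∀ j, LocallyQuasiFinite (E.f j)]
    (hE : Subtr.UnivSSubtrusive (Sigma.desc E.f)) :
    ∃ (Y' : Scheme.{u}) (p : Y' ⟶ Y) (n : ℕ) (V : Fin n → Y'.Opens), IsFinite p ∧ Surjective p ∧
      ⨆ i, V i = ⊤ ∧ ∀ i, ∃ (j : E.I₀) (h : (↑(V i) : Scheme.{u}) ⟶ E.X j),
        h ≫ E.f j = (V i).ι ≫ p := by
  classical
  haveI : LocallyOfFinitePresentation (Sigma.desc E.f) :=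
    IsZariskiLocalAtSource.sigmaDesc (fun j => inferInstanceAs (LocallyOfFinitePresentation (E.f j)))
  haveI : LocallyQuasiFinite (Sigma.desc E.f) :=
    IsZariskiLocalAtSource.sigmaDesc (fun j => inferInstanceAs (LocallyQuasiFinite (E.f j)))
  haveI : QuasiCompact (Sigma.desc E.f) := quasiCompact_sigmaDesc E
  obtain ⟨Q, q, hq1, hq2, hlift⟩ := exists_finite_cover_lifts (Sigma.desc E.f) hE
  haveI : CompactSpace Q := QuasiCompact.compactSpace_of_compactSpace q
  -- refine the charts so that they map into a single member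
  have hchart : ∀ z : Q, ∃ (O' : Q.Opens) (j : E.I₀) (h : O'.toScheme ⟶ E.X j), z ∈ O' ∧
      h ≫ E.f j = O'.ι ≫ q := by
    intro z
    obtain ⟨O, r, hz, hr⟩ := hlift z
    obtain ⟨⟨j, a⟩, ha⟩ := (sigmaMk E.X).surjective (r ⟨z, hz⟩)
    rw [sigmaMk_mk] at ha
    obtain ⟨W, hW⟩ : ∃ W : O.toScheme.Opens, W = r ⁻¹ᵁ (Sigma.ι E.X j).opensRange := ⟨_, rfl⟩
    have hzW : (⟨z, hz⟩ : O.toScheme) ∈ W := by
      rw [hW]
      exact ⟨a, ha⟩
    have hrange : Set.range (W.ι ≫ r) ⊆ Set.range (Sigma.ι E.X j) := by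
      rintro _ ⟨w, rfl⟩
      rw [Scheme.Hom.comp_apply]
      have h0 : w.1 ∈ r ⁻¹ᵁ (Sigma.ι E.X j).opensRange := hW ▸ w.2
      exact h0
    refine ⟨O.ι ''ᵁ W, j, (O.ι.isoImage W).inv ≫
      IsOpenImmersion.lift (Sigma.ι E.X j) (W.ι ≫ r) hrange, ⟨⟨z, hz⟩, hzW, rfl⟩, ?_⟩
    have h1 : E.f j = Sigma.ι E.X j ≫ Sigma.desc E.f := (Sigma.ι_desc _ _).symm
    rw [h1, Category.assoc, IsOpenImmersion.lift_fac_assoc, Category.assoc, hr,
      ← Scheme.Hom.isoImage_inv_ι_assoc]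
  choose O' j h hzO hh using hchart
  obtain ⟨F, hF⟩ := isCompact_univ.elim_nhds_subcover (fun z => (O' z : Set Q))
    (fun z _ => (O' z).2.mem_nhds (hzO z))
  obtain ⟨e, -⟩ : ∃ e : ↥F ≃ Fin F.card, e = F.equivFin := ⟨_, rfl⟩
  refine ⟨Q, q, F.card, fun i => O' (e.symm i).1, hq1, hq2, ?_, fun i =>
    ⟨j (e.symm i).1, h (e.symm i).1, hh (e.symm i).1⟩⟩
  rw [eq_top_iff]
  intro z _
  obtain ⟨s, hs, hzs⟩ := Set.mem_iUnion₂.mp (hF.2 (Set.mem_univ z))
  refine TopologicalSpace.Opens.mem_iSup.mpr ⟨e ⟨s, hs⟩, ?_⟩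
  change z ∈ O' (e.symm (e ⟨s, hs⟩)).1
  rw [Equiv.symm_apply_apply]
  exact hzs

end Groth.Agent.H72.SubtrQF
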