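import Groth.Prelude.Def_Flat
import Groth.Agent.S14254

/-!
# Stacks 0CND: universal homeomorphisms that are isomorphisms away from `p` (helper72)
-/

set_option autoImplicit false
set_option linter.style.haveILetI false
universe u

namespace Groth.Agent.H72.UH0CND


open AlgebraicGeometry CategoryTheory CategoryTheory.Limits

variable {A B : Type u} [CommRing A] [CommRing B] (φ : A →+* B) (p : ℕ)

/-- Two maps to a field agreeing on `A` agree on `B`. -/
theorem field_hom_ext (hp : p.Prime)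
    (hpow : ∀ b : B, ∃ n : ℕ, (p ^ n : B) * b ∈ φ.range ∧ b ^ (p ^ n) ∈ φ.range)
    {K : Type u} [Field K] (g₁ g₂ : B →+* K) (h : g₁.comp φ = g₂.comp φ) : g₁ = g₂ := by
  haveI : Fact p.Prime := ⟨hp⟩
  ext b
  obtain ⟨n, ⟨a', ha'⟩, ⟨a, ha⟩⟩ := hpow b
  have e1 : g₁ b ^ p ^ n = g₂ b ^ p ^ n := by
    rw [← map_pow, ← map_pow, ← ha]
    exact congrArg (fun f => f a) h
  have e2 : (p ^ n : K) * g₁ b = (p ^ n : K) * g₂ b := by
    have h1 : g₁ ((p ^ n : B) * b) = g₂ ((p ^ n : B) * b) := by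
      rw [← ha']
      exact congrArg (fun f => f a') h
    simpa using h1
  by_cases hpK : (p : K) = 0
  · haveI : CharP K p := (CharP.charP_iff_prime_eq_zero hp).2 hpK
    exact iterateFrobenius_inj K p n e1
  · exact mul_left_cancel₀ (pow_ne_zero n hpK) e2

theorem isIntegral_of_cond (hp : p.Prime)
    (hpow : ∀ b : B, ∃ n : ℕ, (p ^ n : B) * b ∈ φ.range ∧ b ^ (p ^ n) ∈ φ.range) :
    φ.IsIntegral := by
  intro b
  obtain ⟨n, -, a, ha⟩ := hpow b
  letI := φ.toAlgebra
  have h1 : IsIntegral A (b ^ p ^ n) := by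
    rw [← ha]
    exact isIntegral_algebraMap (R := A) (A := B) (x := a)
  exact IsIntegral.of_pow (pow_pos hp.pos n) h1

theorem isUnivHomeo_of_cond (hp : p.Prime) (hker : ∀ a ∈ RingHom.ker φ, IsNilpotent a)
    (hpow : ∀ b : B, ∃ n : ℕ, (p ^ n : B) * b ∈ φ.range ∧ b ^ (p ^ n) ∈ φ.range) :
    FlatMor.IsUnivHomeo (Spec.map (CommRingCat.ofHom φ)) := by
  have hint : φ.IsIntegral := isIntegral_of_cond φ p hp hpow
  haveI : IsIntegralHom (Spec.map (CommRingCat.ofHom φ)) := IsIntegralHom.SpecMap_iff.mpr hint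
  haveI : Surjective (Spec.map (CommRingCat.ofHom φ)) := by
    constructor
    intro q
    letI := φ.toAlgebra
    haveI : Algebra.IsIntegral A B := ⟨hint⟩
    haveI := q.isPrime
    have hk : (⊥ : Ideal B).comap (algebraMap A B) ≤ q.asIdeal := by
      rw [← RingHom.ker_eq_comap_bot]
      intro x hx
      exact (nilradical_le_prime q.asIdeal) (mem_nilradical.mpr (hker x hx))
    obtain ⟨Q, -, hQ, hQ'⟩ := Ideal.exists_ideal_over_prime_of_isIntegral q.asIdeal ⊥ hk
    exact ⟨⟨Q, hQ⟩, PrimeSpectrum.ext hQ'⟩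
  haveI : UniversallyInjective (Spec.map (CommRingCat.ofHom φ)) := by
    apply ((tfae_universallyInjective (Spec.map (CommRingCat.ofHom φ))).out 1 0).mp
    intro K _ g₁ g₂ hg
    have hg' : g₁ ≫ Spec.map (CommRingCat.ofHom φ) = g₂ ≫ Spec.map (CommRingCat.ofHom φ) := hg
    rw [← Spec.map_preimage g₁, ← Spec.map_preimage g₂, ← Spec.map_comp, ← Spec.map_comp] at hg'
    have h2 := Spec.map_injective hg'
    have h3 : (Spec.preimage g₁).hom.comp φ = (Spec.preimage g₂).hom.comp φ :=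
      congrArg CommRingCat.Hom.hom h2
    have h4 := field_hom_ext φ p hp hpow _ _ h3
    rw [← Spec.map_preimage g₁, ← Spec.map_preimage g₂]
    congr 1
    exact CommRingCat.hom_ext h4
  exact Groth.Agent.H72.Perf.isUnivHomeo_of _




theorem ker_nil_of_surjective (h : Surjective (Spec.map (CommRingCat.ofHom φ))) :
    ∀ a ∈ RingHom.ker φ, IsNilpotent a := by
  intro a ha
  rw [nilpotent_iff_mem_prime]
  intro J hJ
  obtain ⟨Q, hQ⟩ := h.surj (⟨J, hJ⟩ : PrimeSpectrum A)
  have : J = Q.asIdeal.comap φ := congrArg PrimeSpectrum.asIdeal hQ.symm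
  rw [this, Ideal.mem_comap, RingHom.mem_ker.mp ha]
  exact Q.asIdeal.zero_mem

theorem field_hom_ext_of_ui [UniversallyInjective (Spec.map (CommRingCat.ofHom φ))]
    {K : Type u} [Field K] (g₁ g₂ : B →+* K) (h : g₁.comp φ = g₂.comp φ) : g₁ = g₂ := by
  have h0 : UniversallyInjective (Spec.map (CommRingCat.ofHom φ)) := ‹_›
  have h1' := ((tfae_universallyInjective (Spec.map (CommRingCat.ofHom φ))).out 0 1).mp h0
  have h1 := h1' K
  have h2 : Spec.map (CommRingCat.ofHom g₁) ≫ Spec.map (CommRingCat.ofHom φ) =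
      Spec.map (CommRingCat.ofHom g₂) ≫ Spec.map (CommRingCat.ofHom φ) := by
    rw [← Spec.map_comp, ← Spec.map_comp, ← CommRingCat.ofHom_comp, ← CommRingCat.ofHom_comp, h]
  have h3 := Spec.map_injective (h1 h2)
  exact congrArg CommRingCat.Hom.hom h3

/-- the map induced on quotients by `p` -/
def quotMap : A ⧸ Ideal.span {(p : A)} →+* B ⧸ Ideal.span {(p : B)} :=
  Ideal.quotientMap _ φ (by
    rw [Ideal.span_le]
    intro x hx
    rw [Set.mem_singleton_iff] at hx
    subst hx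
    show φ (p : A) ∈ Ideal.span {(p : B)}
    rw [map_natCast]
    exact Ideal.subset_span rfl)

theorem quotMap_mk (a : A) : quotMap φ p (Ideal.Quotient.mk _ a) = Ideal.Quotient.mk _ (φ a) := rfl

theorem isUnivHomeo_quotMap (h : FlatMor.IsUnivHomeo (Spec.map (CommRingCat.ofHom φ))) :
    FlatMor.IsUnivHomeo (Spec.map (CommRingCat.ofHom (quotMap φ p))) := by
  obtain ⟨h1, h2, h3⟩ := (Groth.Agent.H72.Perf.isUnivHomeo_iff _).mp h
  haveI := h1
  haveI := h2
  haveI := h3
  haveI : IsIntegralHom (Spec.map (CommRingCat.ofHom φ)) :=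
    IsIntegralHom.iff_universallyClosed_and_isAffineHom.mpr ⟨h2, inferInstance⟩
  have hint : φ.IsIntegral := IsIntegralHom.SpecMap_iff.mp ‹_›
  have hcomp : (quotMap φ p).comp (Ideal.Quotient.mk _) = (Ideal.Quotient.mk _).comp φ := rfl
  have hintψ : (quotMap φ p).IsIntegral := by
    apply RingHom.IsIntegral.tower_top (Ideal.Quotient.mk (Ideal.span {(p : A)}))
    rw [hcomp]
    exact hint.trans _ _ (RingHom.isIntegral_of_surjective _ Ideal.Quotient.mk_surjective)
  haveI : IsIntegralHom (Spec.map (CommRingCat.ofHom (quotMap φ p))) :=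
    IsIntegralHom.SpecMap_iff.mpr hintψ
  haveI : UniversallyInjective (Spec.map (CommRingCat.ofHom (quotMap φ p))) := by
    apply ((tfae_universallyInjective (Spec.map (CommRingCat.ofHom (quotMap φ p)))).out 1 0).mp
    intro K _ g₁ g₂ hg
    have hg' : g₁ ≫ Spec.map (CommRingCat.ofHom (quotMap φ p)) =
        g₂ ≫ Spec.map (CommRingCat.ofHom (quotMap φ p)) := hg
    rw [← Spec.map_preimage g₁, ← Spec.map_preimage g₂, ← Spec.map_comp, ← Spec.map_comp] at hg'
    have e2 := Spec.map_injective hg'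
    have e3 : (Spec.preimage g₁).hom.comp (quotMap φ p) = (Spec.preimage g₂).hom.comp (quotMap φ p) :=
      congrArg CommRingCat.Hom.hom e2
    have e4 : ((Spec.preimage g₁).hom.comp (Ideal.Quotient.mk _)).comp φ =
        ((Spec.preimage g₂).hom.comp (Ideal.Quotient.mk _)).comp φ := by
      rw [RingHom.comp_assoc, RingHom.comp_assoc, ← hcomp, ← RingHom.comp_assoc,
        ← RingHom.comp_assoc, e3]
    have e5 := field_hom_ext_of_ui φ _ _ e4
    have e6 : (Spec.preimage g₁).hom = (Spec.preimage g₂).hom :=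
      RingHom.cancel_right Ideal.Quotient.mk_surjective |>.mp e5
    rw [← Spec.map_preimage g₁, ← Spec.map_preimage g₂]
    congr 1
    exact CommRingCat.hom_ext e6
  haveI : Surjective (Spec.map (CommRingCat.ofHom (quotMap φ p))) := by
    constructor
    intro q
    letI := (quotMap φ p).toAlgebra
    haveI : Algebra.IsIntegral (A ⧸ Ideal.span {(p : A)}) (B ⧸ Ideal.span {(p : B)}) := ⟨hintψ⟩
    haveI := q.isPrime
    have hk : (⊥ : Ideal (B ⧸ Ideal.span {(p : B)})).comap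
        (algebraMap (A ⧸ Ideal.span {(p : A)}) (B ⧸ Ideal.span {(p : B)})) ≤ q.asIdeal := by
      intro x hx
      obtain ⟨a, rfl⟩ := Ideal.Quotient.mk_surjective x
      have hx' : Ideal.Quotient.mk (Ideal.span {(p : B)}) (φ a) = 0 := by
        rw [Ideal.mem_comap, Ideal.mem_bot] at hx
        exact hx
      rw [Ideal.Quotient.eq_zero_iff_mem] at hx'
      -- the prime of `A` under `q`
      obtain ⟨Q, hQ⟩ := h3.surj ((PrimeSpectrum.comap (Ideal.Quotient.mk (Ideal.span {(p : A)}))) q)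
      have hQ' : Q.asIdeal.comap φ = q.asIdeal.comap (Ideal.Quotient.mk _) :=
        congrArg PrimeSpectrum.asIdeal hQ
      have hpq : (p : A) ∈ q.asIdeal.comap (Ideal.Quotient.mk (Ideal.span {(p : A)})) := by
        rw [Ideal.mem_comap]
        have : Ideal.Quotient.mk (Ideal.span {(p : A)}) (p : A) = 0 :=
          Ideal.Quotient.eq_zero_iff_mem.mpr (Ideal.subset_span rfl)
        rw [this]
        exact q.asIdeal.zero_mem
      have hpQ : (p : B) ∈ Q.asIdeal := by
        rw [← hQ', Ideal.mem_comap, map_natCast] at hpq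
        exact hpq
      have : φ a ∈ Q.asIdeal := by
        have hle : Ideal.span {(p : B)} ≤ Q.asIdeal := by
          rw [Ideal.span_le]
          intro y hy
          rw [Set.mem_singleton_iff] at hy
          subst hy
          exact hpQ
        exact hle hx'
      have : a ∈ q.asIdeal.comap (Ideal.Quotient.mk _) := by
        rw [← hQ']
        exact this
      exact this
    obtain ⟨Q, -, hQ, hQ'⟩ := Ideal.exists_ideal_over_prime_of_isIntegral q.asIdeal ⊥ hk
    exact ⟨⟨Q, hQ⟩, PrimeSpectrum.ext hQ'⟩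
  exact Groth.Agent.H72.Perf.isUnivHomeo_of _



theorem exists_pow_mem_range_charP (p : ℕ) [Fact p.Prime] {A₁ B₁ : Type u} [CommRing A₁]
    [CommRing B₁] [CharP A₁ p] [CharP B₁ p] (ψ : A₁ →+* B₁)
    (h : FlatMor.IsUnivHomeo (Spec.map (CommRingCat.ofHom ψ))) (b : B₁) :
    ∃ n : ℕ, b ^ p ^ n ∈ ψ.range := by
  let i := PerfectClosure.of A₁ p
  let j := PerfectClosure.of B₁ p
  haveI : IsPerfectClosure i p := PerfectClosure.isPRadical A₁ p
  haveI : IsPerfectClosure j p := PerfectClosure.isPRadical B₁ p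
  let φ' : PerfectClosure A₁ p →+* PerfectClosure B₁ p := PerfectRing.lift i (j.comp ψ) p
  have hφ : φ'.comp i = j.comp ψ := PerfectRing.lift_comp i (j.comp ψ) p
  have hbij := (Groth.Agent.S14254.result p ψ i j φ' hφ).mp h
  obtain ⟨a', ha'⟩ := hbij.2 (j b)
  obtain ⟨n, a₁, ha₁⟩ := IsPRadical.pow_mem i p a'
  have e1 : j (b ^ p ^ n) = j (ψ a₁) := by
    rw [map_pow, ← ha', ← map_pow, ← ha₁]
    exact congrArg (fun f => f a₁) hφ
  have e2 : b ^ p ^ n - ψ a₁ ∈ RingHom.ker j := by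
    rw [RingHom.mem_ker, map_sub, e1, sub_self]
  have e3 := IsPRadical.ker_le j p e2
  rw [sub_mem_pNilradical_iff_pow_expChar_pow_eq] at e3
  obtain ⟨m, hm⟩ := e3
  refine ⟨n + m, a₁ ^ p ^ m, ?_⟩
  rw [map_pow, ← hm, ← pow_mul, ← pow_add]




theorem exists_mul_mem_range (h : Function.Surjective (Localization.awayMap φ (p : A))) (b : B) :
    ∃ n : ℕ, (p ^ n : B) * b ∈ φ.range := by
  obtain ⟨a, m, ha⟩ := Localization.awayMap_surjective_iff.mp h b
  exact ⟨m, a, by rw [ha, map_natCast]⟩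

theorem exists_uniform (hint : φ.IsIntegral)
    (hmul : ∀ b : B, ∃ n : ℕ, (p ^ n : B) * b ∈ φ.range) (b₁ : B) :
    letI := φ.toAlgebra
    ∃ K : ℕ, ∀ c ∈ Algebra.adjoin A {b₁}, (p ^ K : B) * c ∈ φ.range := by
  letI := φ.toAlgebra
  have hfg : (Algebra.adjoin A {b₁}).toSubmodule.FG := IsIntegral.fg_adjoin_singleton (hint b₁)
  obtain ⟨S, hS⟩ := hfg
  choose k hk using hmul
  refine ⟨S.sup k, fun c hc => ?_⟩
  have hc' : c ∈ Submodule.span A (S : Set B) := by
    rw [hS]; exact hc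
  refine Submodule.span_induction (p := fun c _ => (p ^ S.sup k : B) * c ∈ φ.range)
    ?_ ?_ ?_ ?_ hc'
  · intro s hs
    obtain ⟨a, ha⟩ := hk s
    have hle : k s ≤ S.sup k := Finset.le_sup hs
    refine ⟨(p : A) ^ (S.sup k - k s) * a, ?_⟩
    rw [map_mul, ha, map_pow, map_natCast, ← mul_assoc, ← pow_add, Nat.sub_add_cancel hle]
  · rw [mul_zero]; exact φ.range.zero_mem
  · intro x y _ _ hx hy
    rw [mul_add]; exact φ.range.add_mem hx hy
  · intro a x _ hx
    rw [Algebra.smul_def, ← mul_assoc, mul_comm _ (algebraMap A B a), mul_assoc]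
    exact φ.range.mul_mem ⟨a, rfl⟩ hx

theorem pow_mem_range_of_eq_add (hint : φ.IsIntegral)
    (hmul : ∀ b : B, ∃ n : ℕ, (p ^ n : B) * b ∈ φ.range) (x : B) (a : A) (b₁ : B)
    (hx : x = φ a + p * b₁) : ∃ K : ℕ, x ^ p ^ K ∈ φ.range := by
  obtain ⟨K, hK⟩ := exists_uniform φ p hint hmul b₁
  letI := φ.toAlgebra
  let C := Algebra.adjoin A {b₁}
  let β : C := ⟨b₁, Algebra.subset_adjoin rfl⟩
  let y' : C := algebraMap A C a
  let x' : C := y' + p * β
  have hx' : (x' : B) = x := by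
    rw [hx]
    simp [x', y', β]
    rfl
  have hdiv : (p : C) ∣ x' - y' := ⟨β, by simp [x']⟩
  obtain ⟨c, hc⟩ := dvd_sub_pow_of_dvd_sub hdiv K
  obtain ⟨a₂, ha₂⟩ := hK c c.2
  refine ⟨K, a ^ p ^ K + p * a₂, ?_⟩
  have hc' := congrArg (fun z : C => (z : B)) hc
  have hpC : (((p : ℕ) : C) : B) = (p : B) := by simp
  simp only [Subalgebra.coe_sub, Subalgebra.coe_pow, Subalgebra.coe_mul] at hc'
  rw [hx', hpC] at hc'
  have hy' : (y' : B) = φ a := rfl
  rw [hy'] at hc'
  rw [map_add, map_mul, map_pow, map_natCast, ha₂, ← mul_assoc, ← pow_succ', ← hc']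
  ring

theorem exists_pow_eq_add (hp : p.Prime)
    (h : FlatMor.IsUnivHomeo (Spec.map (CommRingCat.ofHom φ))) (b : B) :
    ∃ (n : ℕ) (a : A) (b₁ : B), b ^ p ^ n = φ a + p * b₁ := by
  haveI : Fact p.Prime := ⟨hp⟩
  by_cases htriv : Nontrivial (B ⧸ Ideal.span {(p : B)})
  · haveI := htriv
    haveI : Nontrivial (A ⧸ Ideal.span {(p : A)}) := (quotMap φ p).domain_nontrivial
    haveI : CharP (B ⧸ Ideal.span {(p : B)}) p := by
      refine (CharP.charP_iff_prime_eq_zero hp).2 ?_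
      have : Ideal.Quotient.mk (Ideal.span {(p : B)}) (p : B) = 0 :=
        Ideal.Quotient.eq_zero_iff_mem.mpr (Ideal.subset_span rfl)
      rwa [map_natCast] at this
    haveI : CharP (A ⧸ Ideal.span {(p : A)}) p := by
      refine (CharP.charP_iff_prime_eq_zero hp).2 ?_
      have : Ideal.Quotient.mk (Ideal.span {(p : A)}) (p : A) = 0 :=
        Ideal.Quotient.eq_zero_iff_mem.mpr (Ideal.subset_span rfl)
      rwa [map_natCast] at this
    obtain ⟨n, abar, habar⟩ := exists_pow_mem_range_charP p (quotMap φ p)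
      (isUnivHomeo_quotMap φ p h) (Ideal.Quotient.mk _ b)
    obtain ⟨a, rfl⟩ := Ideal.Quotient.mk_surjective abar
    have h0 : Ideal.Quotient.mk (Ideal.span {(p : B)}) (b ^ p ^ n - φ a) = 0 := by
      rw [map_sub, map_pow, ← habar, quotMap_mk, sub_self]
    rw [Ideal.Quotient.eq_zero_iff_mem, Ideal.mem_span_singleton'] at h0
    obtain ⟨c, hc⟩ := h0
    exact ⟨n, a, c, by rw [mul_comm, hc]; ring⟩
  · rw [not_nontrivial_iff_subsingleton] at htriv
    have h1 : (1 : B) ∈ Ideal.span {(p : B)} := by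
      rw [← Ideal.Quotient.eq_zero_iff_mem]
      exact Subsingleton.elim _ _
    obtain ⟨c, hc⟩ := Ideal.mem_span_singleton'.mp h1
    exact ⟨0, 0, c * b, by rw [pow_zero, pow_one, map_zero, zero_add, ← mul_assoc, mul_comm _ c, hc,
      one_mul]⟩

theorem cond_of_isUnivHomeo (hp : p.Prime)
    (hloc : Function.Bijective (Localization.awayMap φ (p : A)))
    (h : FlatMor.IsUnivHomeo (Spec.map (CommRingCat.ofHom φ))) :
    (∀ a ∈ RingHom.ker φ, IsNilpotent a) ∧
      ∀ b : B, ∃ n : ℕ, (p ^ n : B) * b ∈ φ.range ∧ b ^ (p ^ n) ∈ φ.range := by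
  obtain ⟨h1, h2, h3⟩ := (Groth.Agent.H72.Perf.isUnivHomeo_iff _).mp h
  haveI := h1
  haveI := h2
  haveI := h3
  haveI : IsIntegralHom (Spec.map (CommRingCat.ofHom φ)) :=
    IsIntegralHom.iff_universallyClosed_and_isAffineHom.mpr ⟨h2, inferInstance⟩
  have hint : φ.IsIntegral := IsIntegralHom.SpecMap_iff.mp ‹_›
  have hmul := exists_mul_mem_range φ p hloc.2
  refine ⟨ker_nil_of_surjective φ h3, fun b => ?_⟩
  obtain ⟨n₁, a₁, ha₁⟩ := hmul b
  obtain ⟨n₂, a, b₁, hb⟩ := exists_pow_eq_add φ p hp h b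
  obtain ⟨K, a₃, ha₃⟩ := pow_mem_range_of_eq_add φ p hint hmul (b ^ p ^ n₂) a b₁ hb
  refine ⟨n₁ + (n₂ + K), ⟨(p : A) ^ (n₂ + K) * a₁, ?_⟩, ⟨a₃ ^ p ^ n₁, ?_⟩⟩
  · rw [map_mul, ha₁, map_pow, map_natCast, ← mul_assoc, ← pow_add, add_comm]
  · rw [map_pow, ha₃, ← pow_mul, ← pow_mul, ← pow_add, ← pow_add]
    congr 2
    ring

end Groth.Agent.H72.UH0CND
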