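import Groth.Agent.H72.UOLimit
import Groth.Agent.Lib.Helper78.DVRScheme

/-!
# Universal openness: discrete valuation ring criteria (EGA IV 14.5)

Library of helper72.
-/

set_option autoImplicit false

namespace Groth.Agent.H72.UODvr

open CategoryTheory AlgebraicGeometry Limits EGA43 PrimeSpectrum TopologicalSpace Topology
open Groth.Agent.H72.OpenAt Groth.Agent.H72.UOLimit

universe u

section DVRPoints

variable (A : Type u) [CommRing A] [IsDomain A]

/-- The generic point of the spectrum of a domain. -/
def genPt : PrimeSpectrum A := ⟨⊥, Ideal.isPrime_bot⟩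

theorem genPt_specializes (p : PrimeSpectrum A) : genPt A ⤳ p :=
  (le_iff_specializes _ _).mp (bot_le (a := p.asIdeal))

theorem eq_genPt_of_specializes (p : PrimeSpectrum A) (h : p ⤳ genPt A) : p = genPt A := by
  apply PrimeSpectrum.ext
  exact le_bot_iff.mp ((le_iff_specializes _ _).mpr h)

variable [IsDiscreteValuationRing A]

theorem genPt_ne_closedPoint : genPt A ≠ IsLocalRing.closedPoint A := by
  intro h
  have := congrArg PrimeSpectrum.asIdeal h
  exact IsDiscreteValuationRing.not_a_field A this.symm

theorem eq_genPt_of_ne_closedPoint (p : PrimeSpectrum A) (h : p ≠ IsLocalRing.closedPoint A) :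
    p = genPt A := by
  apply PrimeSpectrum.ext
  by_contra hne
  apply h
  apply PrimeSpectrum.ext
  have : p.asIdeal.IsMaximal := Ring.DimensionLEOne.maximalOfPrime hne p.isPrime
  exact IsLocalRing.eq_maximalIdeal this

theorem dense_iff_genPt_mem (S : Set (PrimeSpectrum A)) : Dense S ↔ genPt A ∈ S := by
  constructor
  · intro hS
    have hopen : IsOpen ({IsLocalRing.closedPoint A}ᶜ : Set (PrimeSpectrum A)) :=
      (IsLocalRing.isClosed_singleton_closedPoint A).isOpen_compl
    obtain ⟨p, hp, hpS⟩ := hS.inter_open_nonempty _ hopen ⟨genPt A, genPt_ne_closedPoint A⟩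
    rwa [← eq_genPt_of_ne_closedPoint A p hp]
  · intro h p
    exact closure_mono (Set.singleton_subset_iff.mpr h) (genPt_specializes A p).mem_closure

end DVRPoints

section Criterion

variable {X Y : Scheme.{u}}

/-- The discrete valuation ring condition of EGA IV 14.5.8 at the point `x`. -/
def DVRCond (f : X ⟶ Y) (x : X) : Prop :=
  ∀ (A : Type u) [CommRing A] [IsDomain A] [IsDiscreteValuationRing A]
    (g : Spec (CommRingCat.of A) ⟶ Y), g.base (IsLocalRing.closedPoint A) = f.base x →
    ∀ x' : ↥(pullback f g), (pullback.fst f g).base x' = x →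
      (pullback.snd f g).base x' = IsLocalRing.closedPoint A →
      ∃ z' : ↥(pullback f g), z' ⤳ x' ∧ (pullback.snd f g).base z' ≠ IsLocalRing.closedPoint A

theorem dvrCond_of_isUnivOpenAt (f : X ⟶ Y) (x : X) (H : IsUnivOpenAt f x) : DVRCond f x := by
  intro A _ _ _ g _ x' hx' hx'cl
  have h1 : IsOpenAt (pullback.snd f g).base x' := H _ g x' hx'
  have h2 := genLift_of_isOpenAt_scheme _ _ h1
  obtain ⟨z', hz', hz'η⟩ := h2 (genPt A) (genPt_specializes A _)
  refine ⟨z', hz', ?_⟩
  rw [hz'η]
  exact genPt_ne_closedPoint A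

set_option backward.isDefEq.respectTransparency.types false in
theorem isUnivOpenAt_of_dvrCond [IsLocallyNoetherian Y] (f : X ⟶ Y) [LocallyOfFiniteType f]
    (x : X) (H : DVRCond f x) : IsUnivOpenAt f x := by
  apply isUnivOpenAt_of_finiteType
  intro T g _ xT hxT
  haveI : IsLocallyNoetherian T := LocallyOfFiniteType.isLocallyNoetherian g
  apply isOpenAt_of_genLift_scheme
  intro t' ht'
  by_cases hne : t' = (pullback.snd f g).base xT
  · exact ⟨xT, specializes_rfl, hne.symm⟩
  obtain ⟨A, h, hA, hcl, hgen⟩ := Groth.Agent.Lib.Helper78.exists_dvr_specialization (𝟙 T) t'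
    ((pullback.snd f g).base xT) ht' (Ne.symm hne)
  have sq' : IsPullback (pullback.fst (pullback.snd f g) h ≫ pullback.fst f g)
      (pullback.snd (pullback.snd f g) h) f (h ≫ g) :=
    (IsPullback.of_hasPullback (pullback.snd f g) h).paste_horiz (IsPullback.of_hasPullback f g)
  obtain ⟨w, hw1, hw2⟩ := Scheme.Pullback.exists_preimage_pullback (f := pullback.snd f g)
    (g := h) xT (IsLocalRing.closedPoint A) hcl.symm
  have hgcl : (h ≫ g).base (IsLocalRing.closedPoint A) = f.base x := by
    rw [Scheme.Hom.comp_apply, hcl, ← hxT, ← Scheme.Hom.comp_apply, ← Scheme.Hom.comp_apply,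
      pullback.condition]
  have hfst : (pullback.fst f (h ≫ g)).base (sq'.isoPullback.hom.base w) = x := by
    rw [← Scheme.Hom.comp_apply, sq'.isoPullback_hom_fst, Scheme.Hom.comp_apply]
    erw [hw1]
    exact hxT
  have hsnd : (pullback.snd f (h ≫ g)).base (sq'.isoPullback.hom.base w) =
      IsLocalRing.closedPoint A := by
    rw [← Scheme.Hom.comp_apply, sq'.isoPullback_hom_snd]
    exact hw2
  obtain ⟨zA, hzsp, hzne⟩ := H A (h ≫ g) hgcl _ hfst hsnd
  have hw' : sq'.isoPullback.inv.base zA ⤳ w := by
    have h1 := hzsp.map sq'.isoPullback.inv.continuous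
    have h2 : sq'.isoPullback.inv.base (sq'.isoPullback.hom.base w) = w := by
      rw [← Scheme.Hom.comp_apply, Iso.hom_inv_id]
      rfl
    rwa [h2] at h1
  refine ⟨(pullback.fst (pullback.snd f g) h).base (sq'.isoPullback.inv.base zA), ?_, ?_⟩
  · have h1 := hw'.map (pullback.fst (pullback.snd f g) h).continuous
    erw [hw1] at h1
    exact h1
  · rw [← Scheme.Hom.comp_apply, pullback.condition, Scheme.Hom.comp_apply]
    have h1 : (pullback.snd (pullback.snd f g) h).base (sq'.isoPullback.inv.base zA) =
        (pullback.snd f (h ≫ g)).base zA := by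
      rw [← Scheme.Hom.comp_apply, sq'.isoPullback_inv_snd]
    have h2 : (pullback.snd (pullback.snd f g) h).base (sq'.isoPullback.inv.base zA) = genPt A :=
      eq_genPt_of_ne_closedPoint A _ (by rw [h1]; exact hzne)
    erw [h2]
    -- `h` maps the generic point to `t'`
    have h3 := congrArg (fun m : Spec (T.residueField t') ⟶ T =>
      m.base (IsLocalRing.closedPoint (T.residueField t'))) hgen
    simp only [Scheme.Hom.comp_apply] at h3
    have h4 : (Spec.map (CommRingCat.ofHom A.subtype)).base
        (IsLocalRing.closedPoint (T.residueField t')) = genPt A := by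
      apply PrimeSpectrum.ext
      change Ideal.comap A.subtype (IsLocalRing.maximalIdeal (T.residueField t')) = ⊥
      rw [IsLocalRing.maximalIdeal_eq_bot]
      exact (RingHom.injective_iff_ker_eq_bot _).mp A.subtype_injective
    erw [h4] at h3
    rw [h3]
    exact Scheme.fromSpecResidueField_apply _ _

/-- The statement of S2587. -/
theorem main_pointwise [IsLocallyNoetherian Y] (f : X ⟶ Y) [LocallyOfFiniteType f] (x : X) :
    EGA43.IsUnivOpenAt f x ↔
      ∀ (A : Type u) [CommRing A] [IsDomain A] [IsDiscreteValuationRing A]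
        (g : Spec (CommRingCat.of A) ⟶ Y), g.base (IsLocalRing.closedPoint A) = f.base x →
        ∀ x' : ↥(pullback f g), (pullback.fst f g).base x' = x →
          (pullback.snd f g).base x' = IsLocalRing.closedPoint A →
          ∃ z' : ↥(pullback f g), z' ⤳ x' ∧
            (pullback.snd f g).base z' ≠ IsLocalRing.closedPoint A :=
  ⟨dvrCond_of_isUnivOpenAt f x, isUnivOpenAt_of_dvrCond f x⟩

end Criterion

section Components

variable {X Y : Scheme.{u}}

theorem dvrCond_of_components (f : X ⟶ Y) (x : X)
    (H : ∀ (A : Type u) [CommRing A] [IsDomain A] [IsDiscreteValuationRing A]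
      (g : Spec (CommRingCat.of A) ⟶ Y), g.base (IsLocalRing.closedPoint A) = f.base x →
      ∀ Z ∈ irreducibleComponents (↥(pullback f g) : Type u),
        Dense ((pullback.snd f g).base '' Z)) : DVRCond f x := by
  intro A _ _ _ g hg x' hx' hx'cl
  have hZ := irreducibleComponent_mem_irreducibleComponents x'
  have hd0 := H A g hg _ hZ
  have hd : genPt A ∈ (pullback.snd f g).base '' irreducibleComponent x' :=
    (dense_iff_genPt_mem A _).mp hd0
  obtain ⟨w, hwZ, hw⟩ := hd
  obtain ⟨ξ, hξ⟩ := QuasiSober.sober hZ.1 (isClosed_of_mem_irreducibleComponents _ hZ)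
  have h1 : ξ ⤳ x' := hξ.specializes mem_irreducibleComponent
  have h2 : ξ ⤳ w := hξ.specializes hwZ
  have h3 := h2.map (pullback.snd f g).continuous
  rw [hw] at h3
  refine ⟨ξ, h1, ?_⟩
  rw [eq_genPt_of_specializes A _ h3]
  exact genPt_ne_closedPoint A

theorem components_of_dvrCond (f : X ⟶ Y) (A : Type u) [CommRing A] [IsDomain A]
    [IsDiscreteValuationRing A] (g : Spec (CommRingCat.of A) ⟶ Y)
    (H : ∀ x : X, f.base x = g.base (IsLocalRing.closedPoint A) → DVRCond f x)
    (Z : Set ↥(pullback f g)) (hZ : Z ∈ irreducibleComponents (↥(pullback f g) : Type u)) :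
    Dense ((pullback.snd f g).base '' Z) := by
  refine (dense_iff_genPt_mem A _).mpr ?_
  obtain ⟨ξ, hξ⟩ := QuasiSober.sober hZ.1 (isClosed_of_mem_irreducibleComponents _ hZ)
  refine ⟨ξ, hξ.mem, ?_⟩
  by_contra hne
  have hcl : (pullback.snd f g).base ξ = IsLocalRing.closedPoint A := by
    by_contra h
    exact hne (eq_genPt_of_ne_closedPoint A _ h)
  have hx : f.base ((pullback.fst f g).base ξ) = g.base (IsLocalRing.closedPoint A) := by
    rw [← hcl, ← Scheme.Hom.comp_apply, ← Scheme.Hom.comp_apply, pullback.condition]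
  obtain ⟨z', hz', hz'ne⟩ := H _ hx A g hx.symm ξ rfl hcl
  have hirr : IsIrreducible (closure ({z'} : Set ↥(pullback f g))) :=
    isIrreducible_singleton.closure
  have hsub : Z ⊆ closure ({z'} : Set ↥(pullback f g)) := by
    rw [← hξ.def]
    exact closure_minimal (Set.singleton_subset_iff.mpr hz'.mem_closure) isClosed_closure
  have hz'Z : z' ∈ Z := hZ.2 hirr hsub (subset_closure rfl)
  have : z' = ξ := ((hξ.specializes hz'Z).antisymm hz').eq.symm
  exact hz'ne (this ▸ hcl)

/-- The statement of S4930. -/
theorem main_fibre [IsLocallyNoetherian Y] (f : X ⟶ Y) [LocallyOfFiniteType f] (y : Y) :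
    (∀ x : X, f.base x = y → EGA43.IsUnivOpenAt f x) ↔
      ∀ (A : Type u) [CommRing A] [IsDomain A] [IsDiscreteValuationRing A]
        (g : Spec (CommRingCat.of A) ⟶ Y), g.base (IsLocalRing.closedPoint A) = y →
        ∀ Z ∈ irreducibleComponents (↥(pullback f g) : Type u),
          Dense ((pullback.snd f g).base '' Z) := by
  constructor
  · intro H A _ _ _ g hg Z hZ
    exact components_of_dvrCond f A g
      (fun x hx => dvrCond_of_isUnivOpenAt f x (H x (hx.trans hg))) Z hZ
  · intro H x hx
    apply isUnivOpenAt_of_dvrCond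
    apply dvrCond_of_components
    intro A _ _ _ g hg Z hZ
    exact H A g (hg.trans hx) Z hZ

theorem universallyOpen_iff_forall_isUnivOpenAt (f : X ⟶ Y) :
    UniversallyOpen f ↔ ∀ x : X, IsUnivOpenAt f x := by
  constructor
  · intro hf x Y' g x' _
    exact isOpenAt_of_isOpenMap' (pullback.snd f g).isOpenMap x'
  · intro H
    refine ⟨fun X' Y' i₁ i₂ f' h => ?_⟩
    apply isOpenMap_of_forall_isOpenAt
    intro p
    have h1 : IsOpenAt (pullback.snd f i₂).base (h.flip.isoPullback.hom.base p) := by
      refine H (i₁.base p) Y' i₂ _ ?_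
      rw [← Scheme.Hom.comp_apply, h.flip.isoPullback_hom_fst]
    have h2 : IsOpenAt h.flip.isoPullback.hom.base p :=
      isOpenAt_of_isOpenMap' h.flip.isoPullback.hom.isOpenEmbedding.isOpenMap p
    have h3 : f'.base = (pullback.snd f i₂).base ∘ h.flip.isoPullback.hom.base := by
      ext q
      simp only [Function.comp_apply]
      rw [← Scheme.Hom.comp_apply, h.flip.isoPullback_hom_snd]
    rw [h3]
    intro U hU
    rw [Set.image_comp]
    exact h1 _ (h2 U hU)

/-- The statement of S4931. -/
theorem main_global [IsLocallyNoetherian Y] (f : X ⟶ Y) [LocallyOfFiniteType f] :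
    UniversallyOpen f ↔
      ∀ (A : Type u) [CommRing A] [IsDomain A] [IsDiscreteValuationRing A]
        (g : Spec (CommRingCat.of A) ⟶ Y),
        ∀ Z ∈ irreducibleComponents (↥(pullback f g) : Type u),
          Dense ((pullback.snd f g).base '' Z) := by
  rw [universallyOpen_iff_forall_isUnivOpenAt]
  constructor
  · intro H A _ _ _ g Z hZ
    exact (main_fibre f (g.base (IsLocalRing.closedPoint A))).mp (fun x _ => H x) A g rfl Z hZ
  · intro H x
    exact (main_fibre f (f.base x)).mpr (fun A _ _ _ g _ Z hZ => H A g Z hZ) x rfl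

end Components

end Groth.Agent.H72.UODvr
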