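import Groth.Agent.H72.IntOpen
import Groth.Agent.H72.OpenAt

/-!
# Openness at a quasi-finite point via Zariski's main theorem

Library of helper72.  A finite type algebra `ℬ` over `𝒜`, quasi-finite at a prime `q`, is open at
`q` as soon as `q` contains a prime lying over the (prime) nilradical of `𝒜` and the prime of `𝒜`
under `q` is "unibranch" in the sense that a normalization `N` of `𝒜_red` has only one prime
above it.
-/

set_option autoImplicit false

namespace Groth.Agent.H72.ZMTOpen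

open PrimeSpectrum EGA43 Topology Groth.Agent.H72.OpenAt Groth.Agent.H72.IntOpen

section Top

variable {α β γ : Type*} [TopologicalSpace α] [TopologicalSpace β] [TopologicalSpace γ]

theorem isOpenAt_comp {f : α → β} {g : β → γ} (x : α) (hf : IsOpenAt f x)
    (hg : IsOpenAt g (f x)) : IsOpenAt (g ∘ f) x := by
  intro W hW
  have := hg _ (hf W hW)
  rwa [← Set.image_comp] at this

theorem isOpenAt_of_comp {f : α → β} {g : β → γ} (hf : Continuous f) (x : α)
    (h : IsOpenAt (g ∘ f) x) : IsOpenAt g (f x) := by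
  intro W hW
  have h1 := h _ (hf.continuousAt hW)
  refine Filter.mem_of_superset h1 ?_
  rintro _ ⟨a, ha, rfl⟩
  exact ⟨f a, ha, rfl⟩

end Top

/-- Under Zariski's main property, `Spec ℬ → Spec (integral closure)` is open at the point. -/
theorem isOpenAt_comap_val_of_zmp {𝒜 ℬ : Type*} [CommRing 𝒜] [CommRing ℬ] [Algebra 𝒜 ℬ]
    (q : PrimeSpectrum ℬ) (H : Algebra.ZariskisMainProperty 𝒜 q.asIdeal) :
    IsOpenAt (comap (integralClosure 𝒜 ℬ).val.toRingHom) q := by
  obtain ⟨r, hr, hbij⟩ := H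
  let φ : integralClosure 𝒜 ℬ →+* ℬ := (integralClosure 𝒜 ℬ).val.toRingHom
  let j := comap (algebraMap ℬ (Localization.Away (φ r)))
  let j' := comap (algebraMap (integralClosure 𝒜 ℬ) (Localization.Away r))
  let f₀ := comap (Localization.awayMap φ r)
  have hj : IsOpenEmbedding j := localization_away_isOpenEmbedding (Localization.Away (φ r)) (φ r)
  have hj' : IsOpenEmbedding j' := localization_away_isOpenEmbedding (Localization.Away r) r
  have hf₀ : IsOpenMap f₀ := (isHomeomorph_comap_of_bijective hbij).isOpenMap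
  have hcomm : ∀ u, comap φ (j u) = j' (f₀ u) := by
    intro u
    change comap φ (comap _ u) = comap _ (comap _ u)
    rw [← comap_comp_apply, ← comap_comp_apply]
    congr 1
    exact (IsLocalization.map_comp _).symm
  have hq : q ∈ Set.range j := by
    rw [localization_away_comap_range (Localization.Away (φ r)) (φ r)]
    exact hr
  obtain ⟨z, rfl⟩ := hq
  exact (isOpenAt_iff_of_isOpenEmbedding hj hj' hcomm z).mpr (isOpenAt_of_isOpenMap' hf₀ z)


/-- **Openness at a quasi-finite point.** -/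
theorem isOpenAt_of_quasiFiniteAt {𝒜 ℬ N : Type*} [CommRing 𝒜] [CommRing ℬ] [Algebra 𝒜 ℬ]
    [Algebra.FiniteType 𝒜 ℬ] (q : PrimeSpectrum ℬ) [Algebra.QuasiFiniteAt 𝒜 q.asIdeal]
    (P : PrimeSpectrum ℬ) (hPq : P.asIdeal ≤ q.asIdeal)
    (hPnil : ∀ a : 𝒜, algebraMap 𝒜 ℬ a ∈ P.asIdeal → IsNilpotent a)
    [CommRing N] [IsDomain N] [IsIntegrallyClosed N] (φN : 𝒜 →+* N) (hNint : φN.IsIntegral)
    (hNker : ∀ a, φN a = 0 → IsNilpotent a)
    (hfrac : ∀ b : N, ∃ a c : 𝒜, φN c ≠ 0 ∧ b * φN c = φN a)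
    (huniq : ∀ n₁ n₂ : PrimeSpectrum N, comap φN n₁ = comap (algebraMap 𝒜 ℬ) q →
      comap φN n₂ = comap (algebraMap 𝒜 ℬ) q → n₁ = n₂) :
    IsOpenAt (comap (algebraMap 𝒜 ℬ)) q := by
  have hZ := Algebra.ZariskisMainProperty.of_finiteType (R := 𝒜) q.asIdeal
  have h1 := isOpenAt_comap_val_of_zmp q hZ
  let ℬ' := integralClosure 𝒜 ℬ
  let P' : Ideal ℬ' := P.asIdeal.comap ℬ'.val.toRingHom
  have : P'.IsPrime := Ideal.comap_isPrime _ _
  let D := ℬ' ⧸ P'
  let I := RingHom.ker φN
  have : I.IsPrime := RingHom.ker_isPrime φN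
  let R' := 𝒜 ⧸ I
  let φN' : R' →+* N := RingHom.kerLift φN
  let μ : 𝒜 →+* D := (Ideal.Quotient.mk P').comp (algebraMap 𝒜 ℬ')
  have hμ : ∀ a ∈ I, μ a = 0 := by
    intro a ha
    exact ((hNker a ha).map μ).eq_zero
  let φD : R' →+* D := Ideal.Quotient.lift I μ hμ
  have hφDmk : φD.comp (Ideal.Quotient.mk I) = μ := Ideal.Quotient.lift_comp_mk I μ hμ
  have hφNmk : φN'.comp (Ideal.Quotient.mk I) = φN := by
    ext a
    rfl
  have hφDinj : Function.Injective φD := by
    rw [injective_iff_map_eq_zero]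
    intro x hx
    obtain ⟨a, rfl⟩ := Ideal.Quotient.mk_surjective x
    rw [Ideal.Quotient.lift_mk] at hx
    have h3' : algebraMap 𝒜 ℬ' a ∈ P' := Ideal.Quotient.eq_zero_iff_mem.mp hx
    have h3 : algebraMap 𝒜 ℬ a ∈ P.asIdeal := h3'
    have h4 : φN a = 0 := ((hPnil a h3).map φN).eq_zero
    exact Ideal.Quotient.eq_zero_iff_mem.mpr h4
  have hφN'inj : Function.Injective φN' := RingHom.kerLift_injective φN
  have hφN'int : φN'.IsIntegral :=
    RingHom.IsIntegral.tower_top (Ideal.Quotient.mk I) φN' (by rw [hφNmk]; exact hNint)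
  have hμint : μ.IsIntegral :=
    RingHom.IsIntegral.trans _ _ (algebraMap_isIntegral_iff.mpr inferInstance)
      (RingHom.isIntegral_of_surjective _ Ideal.Quotient.mk_surjective)
  have hφDint : φD.IsIntegral :=
    RingHom.IsIntegral.tower_top (Ideal.Quotient.mk I) φD (by rw [hφDmk]; exact hμint)
  have hfrac' : ∀ b : N, ∃ a c : R', c ≠ 0 ∧ b * φN' c = φN' a := by
    intro b
    obtain ⟨a, c, hc, h⟩ := hfrac b
    refine ⟨Ideal.Quotient.mk I a, Ideal.Quotient.mk I c, ?_, h⟩
    intro h0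
    apply hc
    exact Ideal.Quotient.eq_zero_iff_mem.mp h0
  let q' : PrimeSpectrum ℬ' := comap ℬ'.val.toRingHom q
  have hP'q' : P' ≤ q'.asIdeal := Ideal.comap_mono hPq
  obtain ⟨QD, hQD⟩ : ∃ QD : PrimeSpectrum D, comap (Ideal.Quotient.mk P') QD = q' := by
    have : q' ∈ Set.range (comap (Ideal.Quotient.mk P')) := by
      rw [range_comap_of_surjective _ _ Ideal.Quotient.mk_surjective, Ideal.mk_ker]
      exact hP'q'
    exact this
  have htower : (ℬ'.val.toRingHom).comp (algebraMap 𝒜 ℬ') = algebraMap 𝒜 ℬ := rfl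
  have hbase : comap (Ideal.Quotient.mk I) (comap φD QD) = comap (algebraMap 𝒜 ℬ) q := by
    rw [← comap_comp_apply, hφDmk, comap_comp_apply, hQD, ← comap_comp_apply, htower]
  have huniq' : ∀ n₁ n₂ : PrimeSpectrum N, comap φN' n₁ = comap φD QD →
      comap φN' n₂ = comap φD QD → n₁ = n₂ := by
    intro n₁ n₂ h₁ h₂
    apply huniq
    · rw [← hφNmk, comap_comp_apply, h₁, hbase]
    · rw [← hφNmk, comap_comp_apply, h₂, hbase]
  have h2 := isOpenAt_comap_of_unique φN' φD hφN'inj hφDinj hφN'int hφDint hfrac' QD huniq'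
  -- `Spec R' → Spec 𝒜` is a homeomorphism
  have hIle : I ≤ nilradical 𝒜 := fun a ha => mem_nilradical.mpr (hNker a ha)
  have hh : IsOpenMap (comap (Ideal.Quotient.mk I)) :=
    ((isClosedEmbedding_comap_of_surjective _ _
      Ideal.Quotient.mk_surjective).isEmbedding.toHomeomorphOfSurjective
      (comap_quotientMk_bijective_of_le_nilradical hIle).2).isOpenMap
  have h3 : IsOpenAt (comap (Ideal.Quotient.mk I) ∘ comap φD) QD :=
    isOpenAt_comp QD h2 (isOpenAt_of_isOpenMap' hh _)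
  have heq : comap (Ideal.Quotient.mk I) ∘ comap φD =
      comap (algebraMap 𝒜 ℬ') ∘ comap (Ideal.Quotient.mk P') := by
    funext x
    simp only [Function.comp_apply]
    rw [← comap_comp_apply, ← comap_comp_apply, hφDmk]
  rw [heq] at h3
  have h4 : IsOpenAt (comap (algebraMap 𝒜 ℬ')) (comap (Ideal.Quotient.mk P') QD) :=
    isOpenAt_of_comp (continuous_comap _) QD h3
  rw [hQD] at h4
  have h5 := isOpenAt_comp q h1 h4
  have heq2 : comap (algebraMap 𝒜 ℬ') ∘ comap ℬ'.val.toRingHom = comap (algebraMap 𝒜 ℬ) := by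
    funext x
    simp only [Function.comp_apply]
    rw [← comap_comp_apply, htower]
  rwa [heq2] at h5

end Groth.Agent.H72.ZMTOpen
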