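import Groth.Agent.H72.UOLimit
import Groth.Agent.H72.ZMTOpen

/-!
# Universal openness at a point: reduction to polynomial base changes of a chart

Library of helper72.
-/

set_option autoImplicit false

namespace Groth.Agent.H72.UOPoly

open CategoryTheory AlgebraicGeometry Limits EGA43 PrimeSpectrum TopologicalSpace Topology
open TensorProduct
open Groth.Agent.H72.OpenAt Groth.Agent.H72.UOLimit Groth.Agent.H72.ZMTOpen

universe u

section Ring

variable {R P B C : Type u} [CommRing R] [CommRing P] [CommRing B] [CommRing C]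
  [Algebra R P] [Algebra R B] [Algebra R C]

/-- Openness at a point of `Spec (B ⊗ C) → Spec C` follows from that of `Spec (B ⊗ P) → Spec P`
when `P → C` is surjective. -/
theorem isOpenAt_tensor_of_surjective (θ : P →ₐ[R] C) (hθ : Function.Surjective θ)
    (z : PrimeSpectrum (B ⊗[R] C))
    (H : IsOpenAt (comap (Algebra.TensorProduct.includeRight (R := R) (A := B) (B := P)).toRingHom)
        (comap (Algebra.TensorProduct.map (AlgHom.id B B) θ).toRingHom z)) :
    IsOpenAt (comap (Algebra.TensorProduct.includeRight (R := R) (A := B) (B := C)).toRingHom)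
      z := by
  intro W hW
  obtain ⟨_, ⟨c', rfl⟩, hzc, hcW⟩ :=
    (isTopologicalBasis_basic_opens (R := B ⊗[R] C)).mem_nhds_iff.mp hW
  set Θ := Algebra.TensorProduct.map (AlgHom.id B B) θ with hΘ
  have hΘs : Function.Surjective Θ :=
    Algebra.TensorProduct.map_surjective (AlgHom.id B B) θ Function.surjective_id hθ
  obtain ⟨c₀, hc₀'⟩ := hΘs c'
  set z₀ := comap Θ.toRingHom z with hz₀
  have hz₀c : z₀ ∈ (basicOpen c₀ : Set (PrimeSpectrum (B ⊗[R] P))) := by
    change Θ c₀ ∉ z.asIdeal
    rw [hc₀']
    exact hzc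
  have h1 := H _ ((basicOpen c₀).isOpen.mem_nhds hz₀c)
  have hcomm : comap (Algebra.TensorProduct.includeRight (R := R) (A := B) (B := P)).toRingHom z₀
      = comap θ.toRingHom
        (comap (Algebra.TensorProduct.includeRight (R := R) (A := B) (B := C)).toRingHom z) := by
    apply PrimeSpectrum.ext
    ext r
    change Θ ((1 : B) ⊗ₜ[R] r) ∈ z.asIdeal ↔ (1 : B) ⊗ₜ[R] (θ r) ∈ z.asIdeal
    rw [hΘ, Algebra.TensorProduct.map_tmul]
    simp
  rw [hcomm] at h1
  have h2 := (continuous_comap θ.toRingHom).continuousAt h1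
  refine Filter.mem_of_superset h2 ?_
  rintro p'' ⟨q₀, hq₀c, hq₀⟩
  obtain ⟨Q, hQ1, hQ2⟩ := exists_prime_tensor' (B := B) θ q₀ p'' hq₀
  refine ⟨Q, hcW ?_, hQ2⟩
  change c' ∉ Q.asIdeal
  rw [← hc₀']
  intro hmem
  apply hq₀c
  rw [← hQ1]
  exact hmem

/-- Flipping the factors of the tensor product. -/
theorem isOpenAt_includeRight_of_flip (z : PrimeSpectrum (B ⊗[R] P))
    (H : IsOpenAt (comap (algebraMap P (P ⊗[R] B)))
      (comap (Algebra.TensorProduct.comm R P B).toAlgHom.toRingHom z)) :
    IsOpenAt (comap (Algebra.TensorProduct.includeRight (R := R) (A := B) (B := P)).toRingHom)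
      z := by
  let c := Algebra.TensorProduct.comm R P B
  have hc : IsOpenMap (comap c.toAlgHom.toRingHom) :=
    (isHomeomorph_comap_of_bijective (f := c.toAlgHom.toRingHom) c.bijective).isOpenMap
  have h1 := isOpenAt_comp z (isOpenAt_of_isOpenMap' hc z) H
  have heq : comap (algebraMap P (P ⊗[R] B)) ∘ comap c.toAlgHom.toRingHom =
      comap (Algebra.TensorProduct.includeRight (R := R) (A := B) (B := P)).toRingHom := by
    funext w
    simp only [Function.comp_apply]
    rw [← comap_comp_apply]
    congr 1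
  rwa [heq] at h1

end Ring


section Scheme

open Algebra.TensorProduct CommRingCat RingHomClass

set_option backward.isDefEq.respectTransparency.types false in
/-- Universal openness at a point of a chart can be tested on the polynomial base changes of the
chart. -/
theorem isUnivOpenAt_of_mvPolynomial {X Y : Scheme.{u}} (f : X ⟶ Y) (x : X)
    (R B : Type u) [CommRing R] [CommRing B] [Algebra R B]
    (i : Spec (.of R) ⟶ Y) (j : Spec (.of B) ⟶ X) [IsOpenImmersion i] [IsOpenImmersion j]
    (hjf : j ≫ f = Spec.map (CommRingCat.ofHom (algebraMap R B)) ≫ i)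
    (qB : PrimeSpectrum B) (hqB : j.base qB = x)
    (H : ∀ (n : ℕ) (z : PrimeSpectrum (MvPolynomial (Fin n) R ⊗[R] B)),
      comap (Algebra.TensorProduct.includeRight (R := R) (A := MvPolynomial (Fin n) R)
        (B := B)).toRingHom z = qB →
      IsOpenAt (comap (algebraMap (MvPolynomial (Fin n) R) (MvPolynomial (Fin n) R ⊗[R] B))) z) :
    IsUnivOpenAt f x := by
  intro Y' g x' hx'
  have hcov : f.base x ∈ Set.range i.base := by
    rw [← hqB, ← Scheme.Hom.comp_apply, hjf, Scheme.Hom.comp_apply]
    exact ⟨_, rfl⟩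
  have ht : g.base ((pullback.snd f g).base x') = f.base x := by
    rw [← hx', ← Scheme.Hom.comp_apply, ← Scheme.Hom.comp_apply, pullback.condition]
  obtain ⟨R', j', g₀, hj', qR', hqR', hjg, -, -⟩ :=
    exists_chart_over g ((pullback.snd f g).base x') i (by rw [ht]; exact hcov)
  obtain ⟨ψ, rfl⟩ := Spec.map_surjective g₀
  algebraize [ψ.hom]
  have hjg' : j' ≫ g = Spec.map (CommRingCat.ofHom (algebraMap R R')) ≫ i := hjg
  have hx'r : x' ∈ Set.range (chartMap f g R B R' i j j' hjf hjg').base := by
    rw [range_chartMap]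
    exact ⟨⟨qB, by rw [hqB, hx']⟩, ⟨qR', hqR'⟩⟩
  obtain ⟨z, rfl⟩ := hx'r
  have hzq : comap includeLeftRingHom z = qB := by
    apply j.isOpenEmbedding.injective
    rw [hqB, ← hx', chartMap_fst_apply]
  rw [isOpenAt_chartMap_iff]
  apply isOpenAt_tensor_of_fg
  intro C hC
  haveI : Algebra.FiniteType R C := (Subalgebra.fg_iff_finiteType C).mp hC
  obtain ⟨n, θ, hθ⟩ := Algebra.FiniteType.iff_quotient_mvPolynomial''.mp
    (inferInstance : Algebra.FiniteType R C)
  apply isOpenAt_tensor_of_surjective θ hθ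
  apply isOpenAt_includeRight_of_flip
  apply H n
  rw [← hzq]
  apply PrimeSpectrum.ext
  ext b
  simp only [comap_asIdeal, Ideal.mem_comap]
  have e : (Algebra.TensorProduct.map (AlgHom.id B B) C.val).toRingHom
      ((Algebra.TensorProduct.map (AlgHom.id B B) θ).toRingHom
        ((↑(Algebra.TensorProduct.comm R (MvPolynomial (Fin n) R) B) :
          MvPolynomial (Fin n) R ⊗[R] B →ₐ[R] B ⊗[R] MvPolynomial (Fin n) R).toRingHom
          ((includeRight : B →ₐ[R] MvPolynomial (Fin n) R ⊗[R] B).toRingHom b))) =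
      includeLeftRingHom b := by
    simp
  rw [e]

end Scheme

end Groth.Agent.H72.UOPoly
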