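import Mathlib
import Groth.Agent.H72.CurveUO
import Groth.Agent.H72.FinExt
import Groth.Agent.H72.UODvr
import Groth.Agent.H72.UOPoly

/-!
# Universal openness can be tested after finite base changes (Noetherian base)

Library of helper72.
-/

set_option autoImplicit false

namespace Groth.Agent.H72.UOFinite

open CategoryTheory AlgebraicGeometry Limits EGA43 PrimeSpectrum TopologicalSpace Topology
open TensorProduct
open Groth.Agent.H72.OpenAt Groth.Agent.H72.UOLimit Groth.Agent.H72.CurveUO
open Groth.Agent.H72.UODvr Groth.Agent.H72.UOPoly Groth.Agent.H72.FinExt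

universe u

section Ring

variable {R P B : Type u} [CommRing R] [CommRing P] [CommRing B] [Algebra R P] [Algebra R B]

/-- Flipping the factors of the tensor product, other direction. -/
theorem isOpenAt_algebraMap_of_flip (w : PrimeSpectrum (P ⊗[R] B))
    (H : IsOpenAt (comap (Algebra.TensorProduct.includeRight (R := R) (A := B) (B := P)).toRingHom)
      (comap (Algebra.TensorProduct.comm R B P).toAlgHom.toRingHom w)) :
    IsOpenAt (comap (algebraMap P (P ⊗[R] B))) w := by
  let c := Algebra.TensorProduct.comm R B P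
  have hc : IsOpenMap (comap c.toAlgHom.toRingHom) :=
    (isHomeomorph_comap_of_bijective (f := c.toAlgHom.toRingHom) c.bijective).isOpenMap
  have h1 := Groth.Agent.H72.ZMTOpen.isOpenAt_comp w (isOpenAt_of_isOpenMap' hc w) H
  have heq : comap (Algebra.TensorProduct.includeRight (R := R) (A := B) (B := P)).toRingHom ∘
      comap c.toAlgHom.toRingHom = comap (algebraMap P (P ⊗[R] B)) := by
    funext w
    simp only [Function.comp_apply]
    rw [← comap_comp_apply]
    congr 1
  rwa [heq] at h1

end Ring

section Scheme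

open Algebra.TensorProduct CommRingCat RingHomClass

variable {X Y : Scheme.{u}}

/-- The hypothesis on finite base changes gives lifting of generizations over finite algebras
over a chart. -/
theorem GLift_of_isOpenMap_finite [IsNoetherian Y] (f : X ⟶ Y)
    (H : ∀ (Y₁ : Scheme.{u}) (g : Y₁ ⟶ Y) [IsFinite g], IsOpenMap (pullback.snd f g).base)
    (R B : Type u) [CommRing R] [CommRing B] [Algebra R B]
    (i : Spec (.of R) ⟶ Y) (j : Spec (.of B) ⟶ X) [IsOpenImmersion i] [IsOpenImmersion j]
    (hjf : j ≫ f = Spec.map (CommRingCat.ofHom (algebraMap R B)) ≫ i)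
    (R₁ : Type u) [CommRing R₁] [Algebra R R₁] [Module.Finite R R₁] : GLift R B R₁ := by
  let U : Y.Opens := i.opensRange
  have hU : IsCompact (U : Set Y) := isCompact_range i.continuous
  let v : Spec (.of R₁) ⟶ (U : Scheme.{u}) :=
    Spec.map (CommRingCat.ofHom (algebraMap R R₁)) ≫ i.isoOpensRange.hom
  haveI : IsFinite (Spec.map (CommRingCat.ofHom (algebraMap R R₁))) := by
    rw [IsFinite.SpecMap_iff]
    exact RingHom.finite_algebraMap.mpr inferInstance
  haveI : IsFinite v := inferInstance
  obtain ⟨Y₁, π, i₁, hπ, hsq⟩ := exists_finite_extension U hU v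
  haveI : IsOpenImmersion i₁ := MorphismProperty.of_isPullback (P := @IsOpenImmersion) hsq.flip
    inferInstance
  have hjg : i₁ ≫ π = Spec.map (CommRingCat.ofHom (algebraMap R R₁)) ≫ i := by
    rw [hsq.w]
    simp only [v, Category.assoc]
    congr 1
    exact Scheme.Hom.isoOpensRange_hom_ι i
  have hopen := H Y₁ π
  intro Q
  apply genLift_of_isOpenAt
  apply isOpenAt_algebraMap_of_flip
  exact (isOpenAt_chartMap_iff f π R B R₁ i j i₁ hjf hjg _).mp (isOpenAt_of_isOpenMap' hopen _)

set_option backward.isDefEq.respectTransparency.types false in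
/-- EGA IV 14.4: over a Noetherian base, universal openness of a morphism locally of finite type
can be tested after finite base changes. -/
theorem universallyOpen_of_isOpenMap_finite [IsNoetherian Y] (f : X ⟶ Y) [LocallyOfFiniteType f]
    (H : ∀ (Y₁ : Scheme.{u}) (g : Y₁ ⟶ Y) [IsFinite g], IsOpenMap (pullback.snd f g).base) :
    UniversallyOpen f := by
  rw [universallyOpen_iff_forall_isUnivOpenAt]
  intro x
  obtain ⟨R, i, hi, hcov⟩ : ∃ (R : CommRingCat.{u}) (i : Spec R ⟶ Y), IsOpenImmersion i ∧
      f.base x ∈ Set.range i.base :=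
    ⟨_, Y.affineOpenCover.f (Y.affineOpenCover.idx (f.base x)), inferInstance,
      Y.affineOpenCover.covers (f.base x)⟩
  obtain ⟨B, j, f₀, hj, qB, hqB, hjf, -, hft⟩ := exists_chart_over f x i hcov
  obtain ⟨φ, rfl⟩ := Spec.map_surjective f₀
  have hφ : φ.hom.FiniteType :=
    (HasRingHomProperty.Spec_iff (P := @LocallyOfFiniteType)).mp (hft inferInstance)
  algebraize [φ.hom]
  have hjf' : j ≫ f = Spec.map (CommRingCat.ofHom (algebraMap R B)) ≫ i := hjf
  haveI : IsLocallyNoetherian (Spec R) := isLocallyNoetherian_of_isOpenImmersion i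
  haveI : IsNoetherianRing R := isLocallyNoetherian_Spec.mp inferInstance
  have HR : ∀ (R₁ : Type u) [CommRing R₁] [Algebra R R₁] [Module.Finite R R₁], GLift R B R₁ :=
    fun R₁ _ _ _ => GLift_of_isOpenMap_finite f H R B i j hjf' R₁
  apply isUnivOpenAt_of_finiteType
  intro T g _ x' hx'
  have ht : g.base ((pullback.snd f g).base x') = f.base x := by
    rw [← hx', ← Scheme.Hom.comp_apply, ← Scheme.Hom.comp_apply, pullback.condition]
  obtain ⟨R', j', g₀, hj', qR', hqR', hjg, -, hgft⟩ :=
    exists_chart_over g ((pullback.snd f g).base x') i (by rw [ht]; exact hcov)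
  obtain ⟨ψ, rfl⟩ := Spec.map_surjective g₀
  have hψ : ψ.hom.FiniteType :=
    (HasRingHomProperty.Spec_iff (P := @LocallyOfFiniteType)).mp (hgft inferInstance)
  algebraize [ψ.hom]
  have hjg' : j' ≫ g = Spec.map (CommRingCat.ofHom (algebraMap R R')) ≫ i := hjg
  have hx'r : x' ∈ Set.range (chartMap f g R B R' i j j' hjf' hjg').base := by
    rw [range_chartMap]
    exact ⟨⟨qB, by rw [hqB, hx']⟩, ⟨qR', hqR'⟩⟩
  obtain ⟨z, rfl⟩ := hx'r
  rw [isOpenAt_chartMap_iff]
  apply isOpenAt_includeRight_of_flip
  haveI : Algebra.FinitePresentation R B :=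
    (Algebra.FinitePresentation.of_finiteType (R := R) (A := B)).mp inferInstance
  apply isOpenAt_of_genLift
  · exact RingHom.finitePresentation_algebraMap.mpr inferInstance
  · exact GLift_of_finite HR R' _

end Scheme

end Groth.Agent.H72.UOFinite
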