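import Mathlib
import Groth.Agent.H72.CurveUOAt
import Groth.Agent.H72.UOFinite

/-!
# Universal openness at a point can be tested after finite base changes (Noetherian base)

Library of helper72.
-/

set_option autoImplicit false

namespace Groth.Agent.H72.UOFiniteAt

open CategoryTheory AlgebraicGeometry Limits EGA43 PrimeSpectrum TopologicalSpace Topology
open TensorProduct
open Groth.Agent.H72.OpenAt Groth.Agent.H72.UOLimit Groth.Agent.H72.CurveUO
open Groth.Agent.H72.UODvr Groth.Agent.H72.UOPoly Groth.Agent.H72.FinExt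
open Groth.Agent.H72.CurveUOAt Groth.Agent.H72.UOFinite

universe u

section Scheme

open Algebra.TensorProduct CommRingCat RingHomClass

variable {X Y : Scheme.{u}}

/-- The hypothesis on finite base changes gives lifting of generizations over finite algebras
over a chart, at the points over `x`. -/
theorem GLiftAt_of_isOpenAt_finite [IsNoetherian Y] (f : X ⟶ Y) (x : X)
    (H : ∀ (Y₁ : Scheme.{u}) (g : Y₁ ⟶ Y) [IsFinite g] (x' : ↥(pullback f g)),
      (pullback.fst f g).base x' = x → IsOpenAt (pullback.snd f g).base x')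
    (R B : Type u) [CommRing R] [CommRing B] [Algebra R B]
    (i : Spec (.of R) ⟶ Y) (j : Spec (.of B) ⟶ X) [IsOpenImmersion i] [IsOpenImmersion j]
    (hjf : j ≫ f = Spec.map (CommRingCat.ofHom (algebraMap R B)) ≫ i)
    (qB : PrimeSpectrum B) (hqB : j.base qB = x)
    (R₁ : Type u) [CommRing R₁] [Algebra R R₁] [Module.Finite R R₁] : GLiftAt R B qB R₁ := by
  let U : Y.Opens := i.opensRange
  have hU : IsCompact (U : Set Y) := isCompact_range i.continuous
  let v : Spec (.of R₁) ⟶ (U : Scheme.{u}) :=
    Spec.map (CommRingCat.ofHom (algebraMap R R₁)) ≫ i.isoOpensRange.hom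
  haveI : IsFinite (Spec.map (CommRingCat.ofHom (algebraMap R R₁))) := by
    rw [IsFinite.SpecMap_iff]
    exact RingHom.finite_algebraMap.mpr inferInstance
  haveI : IsFinite v := inferInstance
  obtain ⟨Y₁, π, i₁, hπ, hsq⟩ := exists_finite_extension U hU v
  haveI : IsOpenImmersion i₁ := MorphismProperty.of_isPullback (P := @IsOpenImmersion) hsq.flip
    inferInstance
  have hjg : i₁ ≫ π = Spec.map (CommRingCat.ofHom (algebraMap R R₁)) ≫ i := by
    rw [hsq.w]
    simp only [v, Category.assoc]
    congr 1
    exact Scheme.Hom.isoOpensRange_hom_ι i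
  intro Q hQ
  apply genLift_of_isOpenAt
  apply isOpenAt_algebraMap_of_flip
  apply (isOpenAt_chartMap_iff f π R B R₁ i j i₁ hjf hjg _).mp
  apply H Y₁ π
  rw [chartMap_fst_apply, ← hqB, ← hQ]
  congr 1

set_option backward.isDefEq.respectTransparency.types false in
/-- EGA IV 14.4, pointwise: over a Noetherian base, universal openness at a point of a morphism
locally of finite type can be tested after finite base changes. -/
theorem isUnivOpenAt_of_isOpenAt_finite [IsNoetherian Y] (f : X ⟶ Y) [LocallyOfFiniteType f]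
    (x : X)
    (H : ∀ (Y₁ : Scheme.{u}) (g : Y₁ ⟶ Y) [IsFinite g] (x' : ↥(pullback f g)),
      (pullback.fst f g).base x' = x → IsOpenAt (pullback.snd f g).base x') :
    IsUnivOpenAt f x := by
  obtain ⟨R, i, hi, hcov⟩ : ∃ (R : CommRingCat.{u}) (i : Spec R ⟶ Y), IsOpenImmersion i ∧
      f.base x ∈ Set.range i.base :=
    ⟨_, Y.affineOpenCover.f (Y.affineOpenCover.idx (f.base x)), inferInstance,
      Y.affineOpenCover.covers (f.base x)⟩
  obtain ⟨B, j, f₀, hj, qB, hqB, hjf, -, hft⟩ := exists_chart_over f x i hcov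
  obtain ⟨φ, rfl⟩ := Spec.map_surjective f₀
  have hφ : φ.hom.FiniteType :=
    (HasRingHomProperty.Spec_iff (P := @LocallyOfFiniteType)).mp (hft inferInstance)
  algebraize [φ.hom]
  have hjf' : j ≫ f = Spec.map (CommRingCat.ofHom (algebraMap R B)) ≫ i := hjf
  haveI : IsLocallyNoetherian (Spec R) := isLocallyNoetherian_of_isOpenImmersion i
  haveI : IsNoetherianRing R := isLocallyNoetherian_Spec.mp inferInstance
  have HR : ∀ (R₁ : Type u) [CommRing R₁] [Algebra R R₁] [Module.Finite R R₁],
      GLiftAt R B qB R₁ :=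
    fun R₁ _ _ _ => GLiftAt_of_isOpenAt_finite f x H R B i j hjf' qB hqB R₁
  apply isUnivOpenAt_of_finiteType
  intro T g _ x' hx'
  have ht : g.base ((pullback.snd f g).base x') = f.base x := by
    rw [← hx', ← Scheme.Hom.comp_apply, ← Scheme.Hom.comp_apply, pullback.condition]
  obtain ⟨R', j', g₀, hj', qR', hqR', hjg, -, hgft⟩ :=
    exists_chart_over g ((pullback.snd f g).base x') i (by rw [ht]; exact hcov)
  obtain ⟨ψ, rfl⟩ := Spec.map_surjective g₀
  have hψ : ψ.hom.FiniteType :=
    (HasRingHomProperty.Spec_iff (P := @LocallyOfFiniteType)).mp (hgft inferInstance)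
  algebraize [ψ.hom]
  have hjg' : j' ≫ g = Spec.map (CommRingCat.ofHom (algebraMap R R')) ≫ i := hjg
  have hx'r : x' ∈ Set.range (chartMap f g R B R' i j j' hjf' hjg').base := by
    rw [range_chartMap]
    exact ⟨⟨qB, by rw [hqB, hx']⟩, ⟨qR', hqR'⟩⟩
  obtain ⟨z, rfl⟩ := hx'r
  have hzB : PrimeSpectrum.comap includeLeftRingHom z = qB := by
    apply j.isOpenEmbedding.injective
    rw [← chartMap_fst_apply f g R B R' i j j' hjf' hjg', hx', hqB]
  rw [isOpenAt_chartMap_iff]
  apply isOpenAt_includeRight_of_flip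
  haveI : Algebra.FinitePresentation R B :=
    (Algebra.FinitePresentation.of_finiteType (R := R) (A := B)).mp inferInstance
  apply isOpenAt_of_genLift
  · exact RingHom.finitePresentation_algebraMap.mpr inferInstance
  · apply GLiftAt_of_finite qB HR R' _
    rw [← hzB]
    unfold ptB
    rw [← comap_comp_apply]
    congr 1

end Scheme

end Groth.Agent.H72.UOFiniteAt
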