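import Groth.Agent.H72.OpenAt
import Groth.Agent.Lib.Helper24.UnivOpenAt

/-!
# Universal openness at a point can be tested over the local scheme of the base (EGA IV 14.3.?)

Library of helper72.
-/

set_option autoImplicit false

namespace Groth.Agent.H72.UOStalk

open CategoryTheory AlgebraicGeometry Limits EGA43 TopologicalSpace Topology
open Groth.Agent.H72.OpenAt Groth.Agent.Lib.Helper24

universe u

set_option backward.isDefEq.respectTransparency.types false in
theorem isUnivOpenAt_of_fromSpecStalk {X Y : Scheme.{u}} (f : X ⟶ Y)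
    [LocallyOfFinitePresentation f] (x : X) (y : Y) (hy : f.base x = y)
    (x₁ : ↥(pullback f (Y.fromSpecStalk y)))
    (hx₁ : (pullback.fst f (Y.fromSpecStalk y)).base x₁ = x)
    (H₁ : IsUnivOpenAt (pullback.snd f (Y.fromSpecStalk y)) x₁) : IsUnivOpenAt f x := by
  intro T g x' hx'
  obtain ⟨t, ht0⟩ : ∃ t, (pullback.snd f g).base x' = t := ⟨_, rfl⟩
  have ht : g.base t = y := by
    rw [← ht0, ← hy, ← hx', ← Scheme.Hom.comp_apply, ← Scheme.Hom.comp_apply, pullback.condition]
  subst ht
  apply isOpenAt_of_genLift_scheme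
  intro t' ht'
  rw [ht0] at ht'
  -- the local scheme of `T` at `t`
  let ιT := T.fromSpecStalk t
  let ι := Y.fromSpecStalk (g.base t)
  let h : Spec (T.presheaf.stalk t) ⟶ Spec (Y.presheaf.stalk (g.base t)) :=
    Spec.map (g.stalkMap t)
  have hh : h ≫ ι = ιT ≫ g := Scheme.SpecMap_stalkMap_fromSpecStalk g
  -- pasting
  have sqO : IsPullback (pullback.fst (pullback.snd f g) ιT ≫ pullback.fst f g)
      (pullback.snd (pullback.snd f g) ιT) f (ιT ≫ g) :=
    (IsPullback.of_hasPullback (pullback.snd f g) ιT).paste_horiz (IsPullback.of_hasPullback f g)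
  have sqR : IsPullback (pullback.fst f ι) (pullback.snd f ι) f ι := IsPullback.of_hasPullback f ι
  let k : pullback (pullback.snd f g) ιT ⟶ pullback f ι :=
    pullback.lift (pullback.fst (pullback.snd f g) ιT ≫ pullback.fst f g)
      (pullback.snd (pullback.snd f g) ιT ≫ h) (by rw [Category.assoc _ h ι, hh]; exact sqO.w)
  have hk1 : k ≫ pullback.fst f ι = pullback.fst (pullback.snd f g) ιT ≫ pullback.fst f g :=
    pullback.lift_fst _ _ _
  have hk2 : k ≫ pullback.snd f ι = pullback.snd (pullback.snd f g) ιT ≫ h :=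
    pullback.lift_snd _ _ _
  have sqL : IsPullback k (pullback.snd (pullback.snd f g) ιT) (pullback.snd f ι) h := by
    refine IsPullback.of_right ?_ hk2 sqR
    rw [hk1, hh]
    exact sqO
  -- the point
  have hcl : ιT.base (IsLocalRing.closedPoint (T.presheaf.stalk t)) = t :=
    Scheme.fromSpecStalk_closedPoint
  obtain ⟨p, hp1, hp2⟩ := Scheme.Pullback.exists_preimage_pullback (f := pullback.snd f g)
    (g := ιT) x' (IsLocalRing.closedPoint (T.presheaf.stalk t)) (ht0.trans hcl.symm)
  have hkp : k.base p = x₁ := by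
    have hinj : Function.Injective (pullback.fst f ι).base :=
      (pullback.fst f ι).isEmbedding.injective
    apply hinj
    rw [← Scheme.Hom.comp_apply, hk1, Scheme.Hom.comp_apply]
    erw [hp1]
    rw [hx', hx₁]
  have hopen : IsOpenAt (pullback.snd (pullback.snd f g) ιT).base p :=
    isOpenAt_snd_of_isUnivOpenAt H₁ sqL p hkp
  have hgl := genLift_of_isOpenAt_scheme _ _ hopen
  -- `t'` comes from the local scheme
  have ht'r : t' ∈ Set.range ιT.base := by
    rw [Scheme.range_fromSpecStalk]
    exact ht'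
  obtain ⟨t₁', ht₁'⟩ := ht'r
  have hsp : t₁' ⤳ (pullback.snd (pullback.snd f g) ιT).base p := by
    erw [hp2]
    exact IsLocalRing.specializes_closedPoint t₁'
  obtain ⟨p', hp', hp'b⟩ := hgl t₁' hsp
  refine ⟨(pullback.fst (pullback.snd f g) ιT).base p', ?_, ?_⟩
  · have := hp'.map (pullback.fst (pullback.snd f g) ιT).continuous
    erw [hp1] at this
    exact this
  · rw [← Scheme.Hom.comp_apply, pullback.condition, Scheme.Hom.comp_apply]
    erw [hp'b]
    exact ht₁'

/-- The statement of S4928. -/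
theorem main {X Y : Scheme.{u}} (f : X ⟶ Y) [LocallyOfFinitePresentation f]
    (x : X) (x₁ : ↥(pullback f (Y.fromSpecStalk (f.base x))))
    (hx₁ : (pullback.fst f (Y.fromSpecStalk (f.base x))).base x₁ = x) :
    EGA43.IsUnivOpenAt f x ↔
      EGA43.IsUnivOpenAt (pullback.snd f (Y.fromSpecStalk (f.base x))) x₁ :=
  ⟨fun H => isUnivOpenAt_of_isPullback H (IsPullback.of_hasPullback f _) x₁ hx₁,
    fun H₁ => isUnivOpenAt_of_fromSpecStalk f x (f.base x) rfl x₁ hx₁ H₁⟩

end Groth.Agent.H72.UOStalk
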