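import Groth.Agent.H72.GUPoly
import Groth.Agent.Lib.Helper38.NormAff

/-!
# Unibranch localizations: uniqueness of the prime of the normalization over a unibranch point

Library of helper72.
-/

set_option autoImplicit false

namespace Groth.Agent.H72.UnibranchLoc

open PrimeSpectrum Groth.Agent.H72.GUPoly Groth.Agent.Lib.Helper38

universe u

section

variable (R : Type u) [CommRing R] (hnil : (nilradical R).IsPrime)
  (A : Type u) [CommRing A] [IsLocalRing A] [Algebra R A]

/-- The induced map on reductions. -/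
noncomputable def redMap : CAlg2.red R →+* CAlg2.red A :=
  Ideal.quotientMap (nilradical A) (algebraMap R A) (by
    intro a ha
    exact mem_nilradical.mpr ((mem_nilradical.mp ha).map (algebraMap R A)))

theorem redMap_mk (a : R) : redMap R A (Ideal.Quotient.mk _ a) =
    Ideal.Quotient.mk _ (algebraMap R A a) := rfl

include hnil in
theorem redMap_injective (p : Ideal R) [p.IsPrime] [IsLocalization.AtPrime A p] :
    Function.Injective (redMap R A) := by
  rw [injective_iff_map_eq_zero]
  intro x hx
  obtain ⟨a, rfl⟩ := Ideal.Quotient.mk_surjective x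
  rw [redMap_mk, Ideal.Quotient.eq_zero_iff_mem] at hx
  obtain ⟨n, hn⟩ := mem_nilradical.mp hx
  have hn' : algebraMap R A (a ^ (n + 1)) = 0 := by
    rw [map_pow, pow_succ, hn, zero_mul]
  obtain ⟨s, hs⟩ := (IsLocalization.map_eq_zero_iff p.primeCompl A (a ^ (n + 1))).mp hn'
  have h1 : ((s : R) * a) ^ (n + 1) = 0 := by
    rw [mul_pow, pow_succ (s : R), mul_assoc, hs, mul_zero]
  have h2 : (s : R) * a ∈ nilradical R := mem_nilradical.mpr ⟨n + 1, h1⟩
  have h3 : (s : R) ∉ nilradical R := fun h => s.2 (nilradical_le_prime p h)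
  rw [Ideal.Quotient.eq_zero_iff_mem]
  exact (hnil.mem_or_mem h2).resolve_left h3

/-- The image of `p` in the reduction. -/
noncomputable def pbar (p : Ideal R) : Ideal (CAlg2.red R) :=
  p.map (Ideal.Quotient.mk (nilradical R))

theorem pbar_isPrime (p : Ideal R) [p.IsPrime] : (pbar R p).IsPrime :=
  Ideal.map_isPrime_of_surjective Ideal.Quotient.mk_surjective
    (by rw [Ideal.mk_ker]; exact nilradical_le_prime p)

theorem mk_mem_pbar_iff (p : Ideal R) [p.IsPrime] (a : R) :
    Ideal.Quotient.mk (nilradical R) a ∈ pbar R p ↔ a ∈ p := by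
  constructor
  · intro h
    obtain ⟨y, hy, hya⟩ := (Ideal.mem_map_iff_of_surjective _ Ideal.Quotient.mk_surjective).mp h
    have h1 : y - a ∈ nilradical R := Ideal.Quotient.eq.mp hya
    have h2 : y - a ∈ p := nilradical_le_prime p h1
    have h3 := p.sub_mem hy h2
    rwa [sub_sub_cancel] at h3
  · intro h
    exact Ideal.mem_map_of_mem _ h

theorem comap_mk_pbar (p : Ideal R) [p.IsPrime] :
    (pbar R p).comap (Ideal.Quotient.mk (nilradical R)) = p := by
  ext a
  exact mk_mem_pbar_iff R p a

include hnil in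
theorem isLocalization_red (p : Ideal R) [p.IsPrime] [IsLocalization.AtPrime A p]
    [hp : (pbar R p).IsPrime] :
    @IsLocalization.AtPrime (CAlg2.red R) _ (CAlg2.red A) _ (redMap R A).toAlgebra (pbar R p) hp := by
  letI : Algebra (CAlg2.red R) (CAlg2.red A) := (redMap R A).toAlgebra
  have halg : ∀ x, algebraMap (CAlg2.red R) (CAlg2.red A) x = redMap R A x := fun _ => rfl
  refine ⟨?_, ?_, ?_⟩
  · rintro ⟨x, hx⟩
    obtain ⟨s, rfl⟩ := Ideal.Quotient.mk_surjective x
    have hs : s ∉ p := fun h => hx ((mk_mem_pbar_iff R p s).mpr h)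
    have hu : IsUnit (algebraMap R A s) := IsLocalization.map_units A (⟨s, hs⟩ : p.primeCompl)
    rw [halg, redMap_mk]
    exact hu.map (Ideal.Quotient.mk (nilradical A))
  · intro z
    obtain ⟨x, rfl⟩ := Ideal.Quotient.mk_surjective z
    obtain ⟨⟨a, s⟩, hs⟩ := IsLocalization.surj p.primeCompl x
    refine ⟨⟨Ideal.Quotient.mk _ a, ⟨Ideal.Quotient.mk _ (s : R), ?_⟩⟩, ?_⟩
    · intro h
      exact s.2 ((mk_mem_pbar_iff R p s).mp h)
    · simp only [halg, redMap_mk]
      rw [← map_mul, hs]
  · intro x y hxy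
    refine ⟨1, ?_⟩
    rw [halg, halg] at hxy
    rw [redMap_injective R hnil A p hxy]

include hnil in
/-- If `A = R_p` is unibranch, then the normalization of `R_red` has exactly one prime over `p`. -/
theorem unique_prime_normRed (p : Ideal R) [p.IsPrime] [IsLocalization.AtPrime A p]
    (hA : CAlg2.IsUnibranch A) (n₁ n₂ : PrimeSpectrum (CAlg2.normRed R))
    (h₁ : (comap (rho R) n₁).asIdeal = p) (h₂ : (comap (rho R) n₂).asIdeal = p) : n₁ = n₂ := by
  haveI := hnil
  haveI : IsDomain (CAlg2.red R) := Ideal.Quotient.isDomain _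
  haveI : IsDomain (CAlg2.red A) := hA.1
  haveI : IsLocalRing (CAlg2.normRed A) := hA.2
  letI : Algebra (CAlg2.red R) (CAlg2.red A) := (redMap R A).toAlgebra
  haveI hp : (pbar R p).IsPrime := pbar_isPrime R p
  haveI : IsLocalization.AtPrime (CAlg2.red A) (pbar R p) := isLocalization_red R hnil A p
  haveI : IsLocalRing (CAlg2.red A) :=
    IsLocalRing.of_surjective' (Ideal.Quotient.mk (nilradical A)) Ideal.Quotient.mk_surjective
  have hφ := NormAff.isFracExt_algebraMap (CAlg2.red R)
  have hφi := NormAff.isIntegral_algebraMap (CAlg2.red R)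
  have hι := NormAff.isFracExt_algebraMap (CAlg2.red A)
  have hιi := NormAff.isIntegral_algebraMap (CAlg2.red A)
  obtain ⟨β, hβ⟩ := NormLocal.exists_beta (R := CAlg2.red A) (pbar R p) hφ hφi hι
  have LP := NormLocal.exists_mul_mem_range (R := CAlg2.red A) (pbar R p) hφ hι hιi hβ
  let m' := IsLocalRing.maximalIdeal (CAlg2.normRed A)
  have hn₀ : (m'.comap β).comap (algebraMap (CAlg2.red R) (CAlg2.normRed R)) = pbar R p :=
    NormLocal.comap_phi_comap_beta (R := CAlg2.red A) (pbar R p) hι hιi hβ m'
  have hβφ : ∀ a, β (algebraMap (CAlg2.red R) (CAlg2.normRed R) a) =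
      algebraMap (CAlg2.red A) (CAlg2.normRed A) (algebraMap (CAlg2.red R) (CAlg2.red A) a) :=
    fun a => by
      have := congrArg (fun f => f a) hβ
      simpa only [RingHom.comp_apply] using this
  -- injectivity of `β`
  have hβinj : Function.Injective β := by
    rw [injective_iff_map_eq_zero]
    intro b hb
    obtain ⟨a, c, hc, hac⟩ := hφ.frac b
    have h1 : β (algebraMap _ _ a) = 0 := by rw [← hac, map_mul, hb, zero_mul]
    rw [hβφ] at h1
    have h2 : algebraMap (CAlg2.red R) (CAlg2.red A) a = 0 := hι.inj (by rw [h1, map_zero])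
    have h3 : a = 0 := redMap_injective R hnil A p (by rw [map_zero]; exact h2)
    rw [h3, map_zero] at hac
    have hc' : algebraMap (CAlg2.red R) (CAlg2.normRed R) c ≠ 0 :=
      fun h0 => hc (hφ.inj (by rw [h0, map_zero]))
    exact (mul_eq_zero.mp hac).resolve_right hc'
  have key : ∀ n : PrimeSpectrum (CAlg2.normRed R),
      n.asIdeal.comap (algebraMap (CAlg2.red R) (CAlg2.normRed R)) = pbar R p →
      n.asIdeal = m'.comap β := by
    intro n hn
    have hle : n.asIdeal ≤ m'.comap β := by
      intro x hx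
      by_contra hxm
      have hu : IsUnit (β x) := by
        by_contra hnu
        exact hxm ((IsLocalRing.mem_maximalIdeal _).mpr hnu)
      obtain ⟨y, hy⟩ := hu.exists_right_inv
      obtain ⟨s, hs, b, hb⟩ := LP y
      have h1 : β (x * b) = β (algebraMap _ _ s) := by
        rw [map_mul, hb, hβφ, ← mul_assoc, mul_comm (β x), mul_assoc, hy, mul_one]
      have h2 : x * b = algebraMap _ _ s := hβinj h1
      have h3 : algebraMap (CAlg2.red R) (CAlg2.normRed R) s ∈ n.asIdeal := by
        rw [← h2]; exact Ideal.mul_mem_right _ _ hx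
      have h4 : s ∈ pbar R p := by rw [← hn]; exact h3
      exact hs h4
    -- incomparability
    by_contra hne
    have hlt : n.asIdeal < m'.comap β := lt_of_le_of_ne hle hne
    obtain ⟨x, hx1, hx2⟩ := Set.exists_of_ssubset hlt
    haveI : Algebra.IsIntegral (CAlg2.red R) (CAlg2.normRed R) := ⟨hφi⟩
    have := Ideal.comap_lt_comap_of_integral_mem_sdiff (R := CAlg2.red R) hle ⟨hx1, hx2⟩
      (Algebra.IsIntegral.isIntegral x)
    rw [hn, hn₀] at this
    exact lt_irrefl _ this
  have hconv : ∀ n : PrimeSpectrum (CAlg2.normRed R), (comap (rho R) n).asIdeal = p →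
      n.asIdeal.comap (algebraMap (CAlg2.red R) (CAlg2.normRed R)) = pbar R p := by
    intro n hn
    ext x
    obtain ⟨a, rfl⟩ := Ideal.Quotient.mk_surjective x
    rw [mk_mem_pbar_iff, ← hn]
    rfl
  apply PrimeSpectrum.ext
  rw [key n₁ (hconv n₁ h₁), key n₂ (hconv n₂ h₂)]

end

end Groth.Agent.H72.UnibranchLoc
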