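import Groth.Agent.H72.UnibranchLoc
import Groth.Agent.H72.ZMTOpen

/-!
# Openness at quasi-finite points over unibranch points (EGA IV 14.4.1.2, SGA 3 VI_B 12.?)

Library of helper72.
-/

set_option autoImplicit false

namespace Groth.Agent.H72.UnibranchOpen

open CategoryTheory AlgebraicGeometry EGA43 PrimeSpectrum TopologicalSpace Topology
open Groth.Agent.H72.OpenAt Groth.Agent.H72.GUPoly Groth.Agent.H72.UnibranchLoc

universe u

/-- Integral extensions of domains are open at primes over unibranch points (S5383 (i)). -/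
theorem isOpenAt_of_isIntegral_of_isUnibranch (A B : Type u) [CommRing A] [IsDomain A]
    [CommRing B] [IsDomain B] [Algebra A B] (hinj : Function.Injective (algebraMap A B))
    [Algebra.IsIntegral A B] (q : PrimeSpectrum B)
    (hA : CAlg2.IsUnibranch (Localization.AtPrime (q.asIdeal.comap (algebraMap A B)))) :
    IsOpenAt (comap (algebraMap A B)) q := by
  have hnil : (nilradical A).IsPrime := by
    rw [nilradical_eq_zero A]; exact Ideal.isPrime_bot
  haveI : IsDomain (CAlg2.red A) := Ideal.Quotient.isDomain _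
  haveI : IsIntegrallyClosed (CAlg2.normRed A) :=
    integralClosure.isIntegrallyClosedOfFiniteExtension (FractionRing (CAlg2.red A))
  have hρinj : Function.Injective (rho A) := by
    rw [injective_iff_map_eq_zero]
    intro a ha
    have := isNilpotent_of_rho_eq_zero a ha
    exact this.eq_zero
  refine IntOpen.isOpenAt_comap_of_unique (rho A) (algebraMap A B) hρinj hinj rho_isIntegral
    (algebraMap_isIntegral_iff.mpr inferInstance) ?_ q ?_
  · intro b
    obtain ⟨a, c, hc, h⟩ := rho_frac b
    exact ⟨a, c, fun h0 => hc (by rw [h0, map_zero]), h⟩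
  · intro n₁ n₂ h₁ h₂
    exact unique_prime_normRed A hnil _ (q.asIdeal.comap (algebraMap A B)) hA n₁ n₂
      (congrArg PrimeSpectrum.asIdeal h₁) (congrArg PrimeSpectrum.asIdeal h₂)

/-- Ring level version of openness at a quasi-finite point over a unibranch point. -/
theorem isOpenAt_of_unibranch_ring {R B : Type u} [CommRing R] [CommRing B] [Algebra R B]
    [Algebra.FiniteType R B] (hnilR : (nilradical R).IsPrime) (hnilB : (nilradical B).IsPrime)
    (hdom : RingHom.ker (algebraMap R B) ≤ nilradical R) (q : PrimeSpectrum B)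
    [Algebra.QuasiFiniteAt R q.asIdeal] (p : Ideal R) [p.IsPrime]
    (hp : q.asIdeal.comap (algebraMap R B) = p)
    (A : Type u) [CommRing A] [IsLocalRing A] [Algebra R A] [IsLocalization.AtPrime A p]
    (hA : CAlg2.IsUnibranch A) : IsOpenAt (comap (algebraMap R B)) q := by
  haveI := hnilR
  haveI : IsDomain (CAlg2.red R) := Ideal.Quotient.isDomain _
  haveI : IsIntegrallyClosed (CAlg2.normRed R) :=
    integralClosure.isIntegrallyClosedOfFiniteExtension (FractionRing (CAlg2.red R))
  refine ZMTOpen.isOpenAt_of_quasiFiniteAt (N := CAlg2.normRed R) q ⟨nilradical B, hnilB⟩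
    (nilradical_le_prime _) ?_ (rho R) rho_isIntegral isNilpotent_of_rho_eq_zero rho_frac ?_
  · intro a ha
    obtain ⟨n, hn⟩ := mem_nilradical.mp ha
    rw [← map_pow] at hn
    have h1 : a ^ n ∈ nilradical R := hdom hn
    obtain ⟨m, hm⟩ := mem_nilradical.mp h1
    exact ⟨n * m, by rw [pow_mul, hm]⟩
  · intro n₁ n₂ h₁ h₂
    refine unique_prime_normRed R hnilR A p hA n₁ n₂ ?_ ?_
    · rw [h₁]; exact hp
    · rw [h₂]; exact hp


theorem nilradical_isPrime_of_isOpenEmbedding {T : Type*} [TopologicalSpace T] [IrreducibleSpace T]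
    {R : Type*} [CommRing R] [Nonempty (PrimeSpectrum R)] (i : PrimeSpectrum R → T)
    (hi : IsOpenEmbedding i) : (nilradical R).IsPrime := by
  rw [← irreducibleSpace_iff_isPrime_nilradical]
  have h1 : IsPreirreducible (i ⁻¹' Set.univ) :=
    (PreirreducibleSpace.isPreirreducible_univ (X := T)).preimage hi
  rw [Set.preimage_univ] at h1
  exact { isPreirreducible_univ := h1, toNonempty := inferInstance }

set_option backward.isDefEq.respectTransparency.types false in
/-- S5383 (ii): a dominant morphism locally of finite type between irreducible schemes is open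
at every point which is isolated in its fibre and lies over a unibranch point. -/
theorem isOpenAt_of_isUnibranch {X Y : Scheme.{u}} (f : X ⟶ Y) [IrreducibleSpace X]
    [IrreducibleSpace Y] [LocallyOfFiniteType f] (hd : DenseRange f.base) (x : X)
    (hiso : nhdsWithin x (f.base ⁻¹' {f.base x}) = pure x)
    (hY : CAlg2.IsUnibranch (Y.presheaf.stalk (f.base x))) : IsOpenAt f.base x := by
  obtain ⟨U, hU, hyU, -⟩ := exists_isAffineOpen_mem_and_subset (x := f.base x) (U := ⊤) trivial
  obtain ⟨V, hV, hxV, hVU⟩ := exists_isAffineOpen_mem_and_subset (x := x) (U := f ⁻¹ᵁ U) hyU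
  have e : V ≤ f ⁻¹ᵁ U := hVU
  let φ := f.appLE U V e
  have hφft : φ.hom.FiniteType := f.finiteType_appLE hU hV e
  algebraize [φ.hom]
  let i := hU.fromSpec
  let j := hV.fromSpec
  have hcomm : Spec.map φ ≫ i = j ≫ f := IsAffineOpen.SpecMap_appLE_fromSpec f hU hV e
  let q : PrimeSpectrum Γ(X, V) := hV.primeIdealOf ⟨x, hxV⟩
  let p : PrimeSpectrum Γ(Y, U) := hU.primeIdealOf ⟨f.base x, hyU⟩
  have hjq : j.base q = x := hV.fromSpec_primeIdealOf ⟨x, hxV⟩
  have hip : i.base p = f.base x := hU.fromSpec_primeIdealOf ⟨f.base x, hyU⟩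
  have hpt : ∀ w, f.base (j.base w) = i.base (comap φ.hom w) := by
    intro w
    rw [← Scheme.Hom.comp_apply, ← hcomm, Scheme.Hom.comp_apply]
    rfl
  have hqp : comap φ.hom q = p := by
    apply i.isOpenEmbedding.injective
    rw [← hpt, hjq, hip]
  rw [← hjq, isOpenAt_iff_of_isOpenEmbedding j.isOpenEmbedding i.isOpenEmbedding hpt]
  -- irreducibility
  haveI : Nonempty (PrimeSpectrum Γ(X, V)) := ⟨q⟩
  haveI : Nonempty (PrimeSpectrum Γ(Y, U)) := ⟨p⟩
  have hnilB : (nilradical Γ(X, V)).IsPrime :=
    nilradical_isPrime_of_isOpenEmbedding j.base j.isOpenEmbedding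
  have hnilR : (nilradical Γ(Y, U)).IsPrime :=
    nilradical_isPrime_of_isOpenEmbedding i.base i.isOpenEmbedding
  -- dominance
  have hdom : RingHom.ker (algebraMap Γ(Y, U) Γ(X, V)) ≤ nilradical Γ(Y, U) := by
    rw [← denseRange_comap_iff_ker_le_nilRadical]
    have hj : DenseRange j.base :=
      (j.isOpenEmbedding.isOpen_range.dense ⟨_, ⟨q, rfl⟩⟩)
    have h1 : DenseRange (f.base ∘ j.base) := hd.comp hj f.continuous
    have h2 : Dense (i.base ⁻¹' Set.range (f.base ∘ j.base)) :=
      h1.preimage i.isOpenEmbedding.isOpenMap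
    refine h2.mono ?_
    rintro w ⟨v, hv⟩
    refine ⟨v, ?_⟩
    apply i.isOpenEmbedding.injective
    rw [← hv]
    exact (hpt v).symm
  -- quasi-finiteness
  haveI : Algebra.FiniteType Γ(Y, U) Γ(X, V) := RingHom.finiteType_algebraMap.mp hφft
  haveI : Algebra.QuasiFiniteAt Γ(Y, U) q.asIdeal := by
    apply Algebra.QuasiFiniteAt.of_isOpen_singleton_fiber q
    have hmem : ({x} : Set X) ∈ nhdsWithin x (f.base ⁻¹' {f.base x}) := by
      rw [hiso]; exact Filter.mem_pure.mpr rfl
    obtain ⟨O, hO, hxO, hOsub⟩ := mem_nhdsWithin.mp hmem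
    have : ({⟨q, rfl⟩} : Set (comap (algebraMap Γ(Y, U) Γ(X, V)) ⁻¹'
        {comap (algebraMap Γ(Y, U) Γ(X, V)) q})) = Subtype.val ⁻¹' (j.base ⁻¹' O) := by
      ext ⟨w, hw⟩
      simp only [Set.mem_singleton_iff, Subtype.mk.injEq, Set.mem_preimage]
      constructor
      · rintro rfl
        change j.base q ∈ O
        rw [hjq]; exact hxO
      · intro hwO
        apply j.isOpenEmbedding.injective
        rw [hjq]
        apply hOsub
        refine ⟨hwO, ?_⟩
        change f.base (j.base w) = f.base x
        rw [hpt, ← hjq, hpt]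
        congr 1
    rw [this]
    exact (hO.preimage j.continuous).preimage continuous_subtype_val
  letI := Y.presheaf.algebra_section_stalk (U := U) ⟨f.base x, hyU⟩
  haveI := hU.isLocalization_stalk ⟨f.base x, hyU⟩
  exact isOpenAt_of_unibranch_ring hnilR hnilB hdom q p.asIdeal
    (congrArg PrimeSpectrum.asIdeal hqp) (Y.presheaf.stalk (f.base x)) hY

end Groth.Agent.H72.UnibranchOpen
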