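import Groth.Agent.H72.UOPoly
import Groth.Agent.H72.GUPoly
import Groth.Agent.H72.UOStalk
import Groth.Agent.H72.UODvr

/-!
# Locally quasi-finite morphisms over geometrically unibranch bases are universally open

Library of helper72.
-/

set_option autoImplicit false

namespace Groth.Agent.H72.UnibranchUO

open CategoryTheory AlgebraicGeometry Limits EGA43 PrimeSpectrum TopologicalSpace Topology
open TensorProduct
open Groth.Agent.H72.OpenAt Groth.Agent.H72.UOPoly Groth.Agent.H72.GUPoly

universe u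

set_option backward.isDefEq.respectTransparency.types false in
/-- Universal openness at a point over the spectrum of a geometrically unibranch local ring. -/
theorem isUnivOpenAt_of_isGeomUnibranch_local {A : Type u} [CommRing A] [IsLocalRing A]
    (hA : CAlg2.IsGeomUnibranch A) {X₁ : Scheme.{u}} (f₁ : X₁ ⟶ Spec (CommRingCat.of A))
    [LocallyOfFiniteType f₁] [LocallyQuasiFinite f₁] (x₁ ξ₁ : X₁)
    (hx₁ : f₁.base x₁ = IsLocalRing.closedPoint A) (hξx : ξ₁ ⤳ x₁)
    (hξ : ∀ a : A, a ∈ (f₁.base ξ₁).asIdeal → IsNilpotent a) : IsUnivOpenAt f₁ x₁ := by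
  obtain ⟨B, j, f₀, hj, qB, hqB, hjf, -, hft⟩ :=
    exists_chart_over f₁ x₁ (𝟙 (Spec (CommRingCat.of A))) ⟨f₁.base x₁, rfl⟩
  obtain ⟨φ, rfl⟩ := Spec.map_surjective f₀
  algebraize [φ.hom]
  have hjf' : j ≫ f₁ = Spec.map (CommRingCat.ofHom (algebraMap A B)) ≫
      𝟙 (Spec (CommRingCat.of A)) := hjf
  -- finiteness properties of the chart
  have hft' : LocallyOfFiniteType (Spec.map φ) := hft inferInstance
  have hφft : φ.hom.FiniteType := (HasRingHomProperty.Spec_iff (P := @LocallyOfFiniteType)).mp hft'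
  haveI : Algebra.FiniteType A B := RingHom.finiteType_algebraMap.mp hφft
  have hqf : LocallyQuasiFinite (Spec.map φ) := by
    have h1 : LocallyQuasiFinite (j ≫ f₁) := inferInstance
    rw [hjf, Category.comp_id] at h1
    exact h1
  have hφqf : φ.hom.QuasiFinite := (HasRingHomProperty.Spec_iff (P := @LocallyQuasiFinite)).mp hqf
  haveI : Algebra.QuasiFinite A B := RingHom.quasiFinite_algebraMap.mp hφqf
  haveI : Algebra.QuasiFiniteAt A qB.asIdeal := inferInstance
  -- the generic point in the chart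
  have hξr : ξ₁ ∈ Set.range j.base := by
    apply hξx.mem_open j.isOpenEmbedding.isOpen_range
    exact ⟨qB, hqB⟩
  obtain ⟨P, rfl⟩ := hξr
  have hPq : P.asIdeal ≤ qB.asIdeal := by
    rw [← hqB] at hξx
    exact (PrimeSpectrum.le_iff_specializes P qB).mpr
      (j.isOpenEmbedding.toIsInducing.specializes_iff.mp hξx)
  have hpt : ∀ w : Spec B, f₁.base (j.base w) = comap φ.hom w := by
    intro w
    rw [← Scheme.Hom.comp_apply, hjf, Category.comp_id]
    rfl
  have hq : qB.asIdeal.comap (algebraMap A B) = IsLocalRing.maximalIdeal A := by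
    have := hpt qB
    rw [hqB, hx₁] at this
    exact (congrArg PrimeSpectrum.asIdeal this).symm
  have hP : ∀ a : A, algebraMap A B a ∈ P.asIdeal → IsNilpotent a := by
    intro a ha
    apply hξ
    rw [hpt P]
    exact ha
  exact isUnivOpenAt_of_mvPolynomial f₁ x₁ A B (𝟙 _) j hjf' qB hqB
    (fun n z hz => isOpenAt_tensor_mvPolynomial hA qB P hq hPq hP (Fin n) z hz)


/-- A generization of the generic point of an irreducible component is that generic point. -/
theorem eq_of_specializes_of_isGenericPoint {T : Type*} [TopologicalSpace T] [T0Space T]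
    {η η' : T} {W : Set T} (hW : W ∈ irreducibleComponents T) (hη : IsGenericPoint η W)
    (h : η' ⤳ η) : η' = η := by
  have h1 : W ⊆ closure {η'} := by
    rw [← hη.def]
    exact h.closure_subset
  have h2 : IsIrreducible (closure ({η'} : Set T)) := isIrreducible_singleton.closure
  have h3 : closure ({η'} : Set T) = W := (hW.2 h2 h1).antisymm h1 |>.symm |> fun e => e ▸ rfl
  exact (IsGenericPoint.eq (show IsGenericPoint η' W from h3) hη)


set_option backward.isDefEq.respectTransparency.types false in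
/-- Pointwise version of S1454. -/
theorem isUnivOpenAt_of_isGeomUnibranch {X Y : Scheme.{u}} (f : X ⟶ Y) [LocallyQuasiFinite f]
    [LocallyOfFiniteType f] [IsLocallyNoetherian Y] (x ξ : X)
    (hY : CAlg2.IsGeomUnibranch (Y.presheaf.stalk (f.base x)))
    (hξx : ξ ⤳ x) (W : Set Y) (hW : W ∈ irreducibleComponents Y)
    (hξW : IsGenericPoint (f.base ξ) W) : IsUnivOpenAt f x := by
  obtain ⟨y, hy⟩ : ∃ y, f.base x = y := ⟨_, rfl⟩
  rw [hy] at hY
  let ι := Y.fromSpecStalk y
  have hcl : f.base x = ι.base (IsLocalRing.closedPoint (Y.presheaf.stalk y)) := by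
    rw [hy]; exact Scheme.fromSpecStalk_closedPoint.symm
  obtain ⟨x₁, hx₁, hx₁'⟩ := Scheme.Pullback.exists_preimage_pullback (f := f) (g := ι) x _ hcl
  apply UOStalk.isUnivOpenAt_of_fromSpecStalk f x y hy x₁ hx₁
  -- the generic point
  have hξy : f.base ξ ⤳ y := by
    rw [← hy]; exact hξx.map f.continuous
  have hξr : f.base ξ ∈ Set.range ι.base := by
    rw [Scheme.range_fromSpecStalk]; exact hξy
  obtain ⟨𝔭, h𝔭⟩ := hξr
  obtain ⟨ξ₁, hξ₁, hξ₁'⟩ := Scheme.Pullback.exists_preimage_pullback (f := f) (g := ι) ξ 𝔭 h𝔭.symm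
  have hemb : Topology.IsEmbedding (pullback.fst f ι).base := (pullback.fst f ι).isEmbedding
  have hξ₁x₁ : ξ₁ ⤳ x₁ := by
    apply hemb.toIsInducing.specializes_iff.mp
    rw [hξ₁, hx₁]; exact hξx
  refine isUnivOpenAt_of_isGeomUnibranch_local hY (pullback.snd f ι) x₁ ξ₁ hx₁' hξ₁x₁ ?_
  -- `𝔭` is the nilradical
  rw [hξ₁']
  haveI : IsDomain (CAlg2.red (Y.presheaf.stalk y)) := hY.1.1
  have hnp : (nilradical (Y.presheaf.stalk y)).IsPrime :=
    (Ideal.Quotient.isDomain_iff_prime _).mp inferInstance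
  let 𝔫 : PrimeSpectrum (Y.presheaf.stalk y) := ⟨nilradical _, hnp⟩
  have hsp : 𝔫 ⤳ 𝔭 := by
    rw [← PrimeSpectrum.le_iff_specializes]
    exact nilradical_le_prime 𝔭.asIdeal
  have hsp' : ι.base 𝔫 ⤳ f.base ξ := by
    rw [← h𝔭]; exact hsp.map ι.continuous
  have heq := eq_of_specializes_of_isGenericPoint hW hξW hsp'
  rw [← h𝔭] at heq
  have h𝔫𝔭 : 𝔫 = 𝔭 := ι.isEmbedding.injective heq
  intro a ha
  rw [← h𝔫𝔭] at ha
  exact mem_nilradical.mp ha

/-- The statement of S1454. -/
theorem main {X Y : Scheme.{u}} (f : X ⟶ Y) [LocallyQuasiFinite f] [LocallyOfFiniteType f]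
    [IsLocallyNoetherian Y]
    (hY : ∀ y : Y, CAlg2.IsGeomUnibranch (Y.presheaf.stalk y))
    (hdom : ∀ Z ∈ irreducibleComponents ↑X, ∀ x : X, IsGenericPoint x Z →
      ∃ W ∈ irreducibleComponents ↑Y, IsGenericPoint (f x) W) :
    UniversallyOpen f := by
  rw [UODvr.universallyOpen_iff_forall_isUnivOpenAt]
  intro x
  have hZ : irreducibleComponent x ∈ irreducibleComponents X := irreducibleComponent_mem_irreducibleComponents x
  have hirr : IsIrreducible (irreducibleComponent x) := isIrreducible_irreducibleComponent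
  have hcl : IsClosed (irreducibleComponent x) := isClosed_irreducibleComponent
  let ξ := hirr.genericPoint
  have hξ : IsGenericPoint ξ (irreducibleComponent x) := by
    have := hirr.isGenericPoint_genericPoint_closure
    rwa [hcl.closure_eq] at this
  have hξx : ξ ⤳ x := by
    rw [specializes_iff_mem_closure, hξ.def]
    exact mem_irreducibleComponent
  obtain ⟨W, hW, hξW⟩ := hdom _ hZ ξ hξ
  exact isUnivOpenAt_of_isGeomUnibranch f x ξ (hY _) hξx W hW hξW

end Groth.Agent.H72.UnibranchUO
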