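import Groth.Agent.H72.UOPoly
import Groth.Agent.H72.GUGlobalOpen
import Groth.Agent.H72.UODvr

/-!
# Locally quasi-finite morphisms over geometrically unibranch bases are universally open
(no Noetherian hypothesis)

Library of helper72.  Non-Noetherian version of `UnibranchUO.isUnivOpenAt_of_isGeomUnibranch`: the
irreducible closed set dominated by a component through `x` has to be a neighbourhood of `f x`
(automatic when the irreducible components of the base are locally finite and the base is
unibranch at `f x`).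
-/

set_option autoImplicit false

namespace Groth.Agent.H72.UnibranchUO2

open CategoryTheory AlgebraicGeometry Limits EGA43 PrimeSpectrum TopologicalSpace Topology
open TensorProduct
open Groth.Agent.H72.OpenAt Groth.Agent.H72.UOPoly Groth.Agent.H72.GUPoly
open Groth.Agent.H72.GUGlobal

universe u

set_option backward.isDefEq.respectTransparency.types false in
/-- A locally quasi-finite morphism `f : X ⟶ Y` is universally open at `x` if `Y` is geometrically
unibranch at `f x` and there is a generization `ξ` of `x` such that the closure of `f ξ` is a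
neighbourhood of `f x`. -/
theorem isUnivOpenAt_of_isGeomUnibranch {X Y : Scheme.{u}} (f : X ⟶ Y) [LocallyQuasiFinite f]
    [LocallyOfFiniteType f] (x ξ : X)
    (hY : CAlg2.IsGeomUnibranch (Y.presheaf.stalk (f.base x)))
    (hξx : ξ ⤳ x) (hnhd : closure {f.base ξ} ∈ 𝓝 (f.base x)) : IsUnivOpenAt f x := by
  -- an affine open neighbourhood of `f x` inside the closure of `f ξ`
  obtain ⟨O, hOsub, hOopen, hxO⟩ := mem_nhds_iff.mp hnhd
  obtain ⟨_, ⟨V, hV : IsAffineOpen V, rfl⟩, hxV, hVO⟩ :=
    Y.isBasis_affineOpens.exists_subset_of_mem_open hxO hOopen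
  have hxr : f.base x ∈ Set.range hV.fromSpec.base := by
    rw [hV.range_fromSpec]; exact hxV
  obtain ⟨B, j, f₀, hj, qB, hqB, hjf, -, hft⟩ := exists_chart_over f x hV.fromSpec hxr
  obtain ⟨φ, rfl⟩ := Spec.map_surjective f₀
  algebraize [φ.hom]
  have hjf' : j ≫ f = Spec.map (CommRingCat.ofHom (algebraMap Γ(Y, V) B)) ≫ hV.fromSpec := hjf
  -- finiteness properties of the chart
  have hft' : LocallyOfFiniteType (Spec.map φ) := hft inferInstance
  have hφft : φ.hom.FiniteType := (HasRingHomProperty.Spec_iff (P := @LocallyOfFiniteType)).mp hft'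
  haveI : Algebra.FiniteType Γ(Y, V) B := RingHom.finiteType_algebraMap.mp hφft
  have hqf : LocallyQuasiFinite (Spec.map φ) := by
    haveI h1 : LocallyQuasiFinite (Spec.map φ ≫ hV.fromSpec) := by
      rw [← hjf]; infer_instance
    exact LocallyQuasiFinite.of_comp (Spec.map φ) hV.fromSpec
  have hφqf : φ.hom.QuasiFinite := (HasRingHomProperty.Spec_iff (P := @LocallyQuasiFinite)).mp hqf
  haveI : Algebra.QuasiFinite Γ(Y, V) B := RingHom.quasiFinite_algebraMap.mp hφqf
  haveI : Algebra.QuasiFiniteAt Γ(Y, V) qB.asIdeal := inferInstance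
  -- the generic point in the chart
  have hξr : ξ ∈ Set.range j.base := by
    apply hξx.mem_open j.isOpenEmbedding.isOpen_range
    exact ⟨qB, hqB⟩
  obtain ⟨P, rfl⟩ := hξr
  have hPq : P.asIdeal ≤ qB.asIdeal := by
    rw [← hqB] at hξx
    exact (PrimeSpectrum.le_iff_specializes P qB).mpr
      (j.isOpenEmbedding.toIsInducing.specializes_iff.mp hξx)
  have hpt : ∀ w : Spec B, f.base (j.base w) = hV.fromSpec.base (comap φ.hom w) := by
    intro w
    rw [← Scheme.Hom.comp_apply, hjf, Scheme.Hom.comp_apply]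
    rfl
  -- `P` lies over the generic point
  have hP : ∀ a : Γ(Y, V), algebraMap Γ(Y, V) B a ∈ P.asIdeal → IsNilpotent a := by
    intro a ha
    rw [nilpotent_iff_mem_prime]
    intro J hJ
    let 𝔮 : PrimeSpectrum Γ(Y, V) := ⟨J, hJ⟩
    have h1 : hV.fromSpec.base 𝔮 ∈ closure {f.base (j.base P)} := by
      apply hOsub
      apply hVO
      rw [← hV.range_fromSpec]
      exact ⟨𝔮, rfl⟩
    rw [hpt P, ← specializes_iff_mem_closure] at h1
    have h2 : comap φ.hom P ⤳ 𝔮 :=
      hV.fromSpec.isOpenEmbedding.toIsInducing.specializes_iff.mp h1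
    exact (PrimeSpectrum.le_iff_specializes _ _).mpr h2 ha
  -- geometric unibranchness of the localization
  obtain ⟨𝔭, h𝔭⟩ : ∃ 𝔭 : PrimeSpectrum Γ(Y, V), 𝔭 = comap φ.hom qB := ⟨_, rfl⟩
  have hGU : CAlg2.IsGeomUnibranch (Localization.AtPrime 𝔭.asIdeal) := by
    obtain ⟨y, hy⟩ : ∃ y, f.base x = y := ⟨_, rfl⟩
    rw [hy] at hY
    have hy' : y = hV.fromSpec.base 𝔭 := by
      rw [← hy, ← hqB, hpt qB, h𝔭]
    subst hy'
    have h1 := Groth.Agent.Lib.Helper61.GU.isGeomUnibranch_of_ringEquiv'
      (asIso (hV.fromSpec.stalkMap 𝔭)).commRingCatIsoToRingEquiv hY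
    exact Groth.Agent.Lib.Helper61.GU.isGeomUnibranch_of_ringEquiv'
      (Spec.stalkIso Γ(Y, V) 𝔭).commRingCatIsoToRingEquiv h1
  have hq : qB.asIdeal.comap (algebraMap Γ(Y, V) B) = 𝔭.asIdeal := by
    rw [h𝔭]; rfl
  exact isUnivOpenAt_of_mvPolynomial f x Γ(Y, V) B hV.fromSpec j hjf' qB hqB
    (fun n z hz => isOpenAt_tensor_mvPolynomial_global qB P 𝔭.asIdeal hq hGU hPq hP (Fin n) z hz)

end Groth.Agent.H72.UnibranchUO2
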