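import Mathlib

/-!
# Affine scheme lemmas for the universal finite open (helper72)
-/

set_option autoImplicit false
universe u

open CategoryTheory CategoryTheory.Limits AlgebraicGeometry TensorProduct

namespace Groth.Agent.H72.UnivClopen

/-- the coordinate ring of a fibre product of affine schemes is the tensor product -/
theorem exists_comparison {T Y Y' : Scheme.{u}} [IsAffine T] [IsAffine Y] [IsAffine Y']
    (π : T ⟶ Y) (b : Y' ⟶ Y) [Algebra Γ(Y, ⊤) Γ(T, ⊤)] [Algebra Γ(Y, ⊤) Γ(Y', ⊤)]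
    (h1 : algebraMap Γ(Y, ⊤) Γ(T, ⊤) = π.appTop.hom)
    (h2 : algebraMap Γ(Y, ⊤) Γ(Y', ⊤) = b.appTop.hom) :
    ∃ ε : (Γ(Y', ⊤) ⊗[Γ(Y, ⊤)] Γ(T, ⊤)) ≃+* Γ(pullback π b, ⊤),
      ∀ x y, ε (x ⊗ₜ y) = (pullback.snd π b).appTop x * (pullback.fst π b).appTop y := by
  have hpo : IsPushout b.appTop π.appTop (pullback.snd π b).appTop (pullback.fst π b).appTop :=
    (isPushout_appTop_of_isPullback (IsPullback.of_hasPullback π b)).flip
  have hpo' := CommRingCat.isPushout_tensorProduct Γ(Y, ⊤) Γ(Y', ⊤) Γ(T, ⊤)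
  have e1 : CommRingCat.ofHom (algebraMap Γ(Y, ⊤) Γ(Y', ⊤)) = b.appTop := by rw [h2]; rfl
  have e2 : CommRingCat.ofHom (algebraMap Γ(Y, ⊤) Γ(T, ⊤)) = π.appTop := by rw [h1]; rfl
  rw [e1, e2] at hpo'
  let ε := hpo'.isoIsPushout _ _ hpo
  have hl : CommRingCat.ofHom (S := Γ(Y', ⊤) ⊗[Γ(Y, ⊤)] Γ(T, ⊤))
      Algebra.TensorProduct.includeLeftRingHom ≫ ε.hom = (pullback.snd π b).appTop :=
    IsPushout.inl_isoIsPushout_hom _ _ hpo' hpo
  have hr : CommRingCat.ofHom (S := Γ(Y', ⊤) ⊗[Γ(Y, ⊤)] Γ(T, ⊤))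
      Algebra.TensorProduct.includeRight.toRingHom ≫ ε.hom = (pullback.fst π b).appTop :=
    IsPushout.inr_isoIsPushout_hom _ _ hpo' hpo
  refine ⟨ε.commRingCatIsoToRingEquiv, fun x y => ?_⟩
  have hxy : x ⊗ₜ[Γ(Y, ⊤)] y = (x ⊗ₜ[Γ(Y, ⊤)] (1 : Γ(T, ⊤))) * ((1 : Γ(Y', ⊤)) ⊗ₜ[Γ(Y, ⊤)] y) := by
    rw [Algebra.TensorProduct.tmul_mul_tmul, mul_one, one_mul]
  rw [hxy, map_mul]
  congr 1
  · exact congrArg (fun f => f.hom x) hl
  · exact congrArg (fun f => f.hom y) hr

/-- in an affine scheme, containment of a basic open in a union of basic opens -/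
theorem mem_radical_of_basicOpen_le {P : Scheme.{u}} [IsAffine P] (e : Γ(P, ⊤)) {J : Type*}
    (h : J → Γ(P, ⊤)) (hle : P.basicOpen e ≤ ⨆ j, P.basicOpen (h j)) :
    e ∈ (Ideal.span (Set.range h)).radical := by
  by_contra hne
  rw [Ideal.radical_eq_sInf, Submodule.mem_sInf] at hne
  push Not at hne
  obtain ⟨𝔭, ⟨hI, hp⟩, he⟩ := hne
  haveI := hp
  let x : PrimeSpectrum Γ(P, ⊤) := ⟨𝔭, hp⟩
  have hx : (isAffineOpen_top P).fromSpec x ∈ P.basicOpen e := by
    change x ∈ (isAffineOpen_top P).fromSpec ⁻¹ᵁ P.basicOpen e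
    rw [IsAffineOpen.fromSpec_preimage_basicOpen]
    exact he
  obtain ⟨j, hj⟩ := TopologicalSpace.Opens.mem_iSup.mp (hle hx)
  have hj' : x ∈ (isAffineOpen_top P).fromSpec ⁻¹ᵁ P.basicOpen (h j) := hj
  rw [IsAffineOpen.fromSpec_preimage_basicOpen] at hj'
  exact hj' (hI (Ideal.subset_span ⟨j, rfl⟩))

/-- an idempotent in the radical of an ideal lies in the ideal -/
theorem mem_of_mem_radical_of_isIdempotentElem {R : Type*} [CommRing R] {e : R}
    (he : IsIdempotentElem e) {I : Ideal R} (h : e ∈ I.radical) : e ∈ I := by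
  obtain ⟨n, hn⟩ := h
  rcases n with _ | n
  · rw [pow_zero] at hn
    rw [(Ideal.eq_top_iff_one I).mpr hn]
    trivial
  · rwa [he.pow_succ_eq] at hn

/-- clopen subsets of affine schemes are basic opens of idempotents -/
theorem exists_idempotent_of_isClopen {P : Scheme.{u}} [IsAffine P] (W : P.Opens)
    (hW : IsClosed (W : Set P)) :
    ∃ e : Γ(P, ⊤), IsIdempotentElem e ∧ W = P.basicOpen e := by
  let W' : Set (PrimeSpectrum Γ(P, ⊤)) := P.isoSpec.inv ⁻¹' (W : Set P)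
  have hW' : IsClopen W' :=
    ⟨hW.preimage P.isoSpec.inv.continuous, W.2.preimage P.isoSpec.inv.continuous⟩
  obtain ⟨e, he, hWe⟩ := PrimeSpectrum.isClopen_iff.mp hW'
  refine ⟨e, he, ?_⟩
  rw [← Scheme.toSpecΓ_preimage_basicOpen]
  ext x
  have hx : x = P.isoSpec.inv (P.isoSpec.hom x) := by
    rw [← Scheme.Hom.comp_apply, Iso.hom_inv_id]
    rfl
  constructor
  · intro hxW
    change P.toSpecΓ x ∈ PrimeSpectrum.basicOpen e
    have : P.isoSpec.hom x ∈ W' := by
      change P.isoSpec.inv (P.isoSpec.hom x) ∈ W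
      rw [← hx]
      exact hxW
    rw [hWe] at this
    exact this
  · intro hxe
    have : P.isoSpec.hom x ∈ W' := by
      rw [hWe]
      exact hxe
    rw [hx]
    exact this

/-- the basic open of an idempotent is closed -/
theorem isClosed_basicOpen_of_isIdempotentElem {P : Scheme.{u}} (e : Γ(P, ⊤))
    (he : IsIdempotentElem e) : IsClosed (P.basicOpen e : Set P) := by
  have hcompl : (P.basicOpen e : Set P)ᶜ = (P.basicOpen (1 - e) : Set P) := by
    ext x
    simp only [Set.mem_compl_iff, SetLike.mem_coe]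
    rw [Scheme.mem_basicOpen_top, Scheme.mem_basicOpen_top]
    constructor
    · intro h1
      have hsum : P.presheaf.germ ⊤ x trivial e + P.presheaf.germ ⊤ x trivial (1 - e) = 1 := by
        rw [← map_add]
        simp
      rcases IsLocalRing.isUnit_or_isUnit_of_add_one hsum with h | h
      · exact absurd h h1
      · exact h
    · intro h1 h2
      have hprod : P.presheaf.germ ⊤ x trivial e * P.presheaf.germ ⊤ x trivial (1 - e) = 0 := by
        rw [← map_mul, mul_sub, mul_one, he.eq, sub_self, map_zero]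
      have := h2.mul h1
      rw [hprod] at this
      exact not_isUnit_zero this
  rw [← isOpen_compl_iff, hcompl]
  exact (P.basicOpen (1 - e)).2

end Groth.Agent.H72.UnivClopen
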