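import Mathlib

/-!
# The universal idempotent of a finitely presented finite algebra lying in a given ideal (helper72)

`B` a commutative `A`-algebra which is finitely presented as an `A`-module, `g : J → B` a finite
family. The functor `A' ↦ {e ∈ A' ⊗[A] B | e² = e, e ∈ (1 ⊗ g_j)_j}` is weakly represented by a
finitely presented `A`-algebra.
-/

set_option autoImplicit false
universe u v

open TensorProduct

namespace Groth.Agent.H72.UnivIdem

section Pres

variable {A : Type u} [CommRing A] {B : Type u} [CommRing B] [Algebra A B]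
variable {n m : ℕ} (p : (Fin n → A) →ₗ[A] B) (k : Fin m → (Fin n → A))

/-- the generators of `B` given by `p` -/
def gen (i : Fin n) : B := p (Pi.single i 1)

lemma p_eq_sum (v : Fin n → A) : p v = ∑ i, v i • gen p i := by
  conv_lhs => rw [← Finset.univ_sum_single v]
  rw [map_sum]
  refine Finset.sum_congr rfl fun i _ => ?_
  rw [gen, ← map_smul]
  congr 1
  ext j
  simp [Pi.single_apply]

variable (A' : Type v) [CommRing A'] [Algebra A A']

/-- `x ↦ Σ x_i ⊗ b_i` -/
noncomputable def comb : (Fin n → A') →ₗ[A'] A' ⊗[A] B :=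
  Fintype.linearCombination A' (fun i => (1 : A') ⊗ₜ[A] gen p i)

lemma comb_apply (x : Fin n → A') : comb p A' x = ∑ i, x i ⊗ₜ[A] gen p i := by
  rw [comb, Fintype.linearCombination_apply]
  refine Finset.sum_congr rfl fun i _ => ?_
  rw [TensorProduct.smul_tmul', smul_eq_mul, mul_one]

lemma tmul_eq_comb (a : A') (v : Fin n → A) :
    a ⊗ₜ[A] p v = comb p A' (fun i => a * algebraMap A A' (v i)) := by
  rw [comb_apply, p_eq_sum, TensorProduct.tmul_sum]
  refine Finset.sum_congr rfl fun i _ => ?_
  rw [← TensorProduct.smul_tmul, Algebra.smul_def, mul_comm]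

include p in
lemma comb_surjective (hp : Function.Surjective p) : Function.Surjective (comb p A') := by
  intro z
  induction z using TensorProduct.induction_on with
  | zero => exact ⟨0, map_zero _⟩
  | tmul a b =>
    obtain ⟨v, rfl⟩ := hp b
    exact ⟨_, (tmul_eq_comb p A' a v).symm⟩
  | add z₁ z₂ h₁ h₂ =>
    obtain ⟨x₁, rfl⟩ := h₁
    obtain ⟨x₂, rfl⟩ := h₂
    exact ⟨x₁ + x₂, map_add _ _ _⟩

lemma lTensor_comb_id (x : Fin n → A') :
    LinearMap.lTensor A' p (comb (LinearMap.id : (Fin n → A) →ₗ[A] (Fin n → A)) A' x) =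
      comb p A' x := by
  rw [comb_apply, comb_apply, map_sum]
  refine Finset.sum_congr rfl fun i _ => ?_
  rw [LinearMap.lTensor_tmul]
  rfl

lemma piScalarRight_comb_id (x : Fin n → A') :
    TensorProduct.piScalarRight A A' A' (Fin n)
      (comb (LinearMap.id : (Fin n → A) →ₗ[A] (Fin n → A)) A' x) = x := by
  rw [comb_apply, map_sum]
  ext j
  rw [Finset.sum_apply]
  simp only [TensorProduct.piScalarRight_apply, TensorProduct.piScalarRightHom_tmul, gen,
    LinearMap.id_coe, id_eq, Pi.single_apply]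
  simp

/-- the kernel of `comb` -/
lemma comb_eq_zero_iff (hp : Function.Surjective p)
    (hk : LinearMap.ker p = Submodule.span A (Set.range k)) (x : Fin n → A') :
    comb p A' x = 0 ↔ ∃ ω : Fin m → A', ∀ i, x i = ∑ l, ω l * algebraMap A A' (k l i) := by
  constructor
  · intro h0
    let ι : (Fin m → A) →ₗ[A] (Fin n → A) := Fintype.linearCombination A k
    have hex : Function.Exact ι p := by
      rw [LinearMap.exact_iff, hk, Fintype.range_linearCombination]
    have hex' := lTensor_exact A' hex hp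
    rw [← lTensor_comb_id] at h0
    obtain ⟨ζ, hζ⟩ := (hex' _).mp h0
    obtain ⟨ω, rfl⟩ := comb_surjective (LinearMap.id : (Fin m → A) →ₗ[A] (Fin m → A)) A'
      Function.surjective_id ζ
    refine ⟨ω, fun i => ?_⟩
    have h1 := congrArg (fun z => TensorProduct.piScalarRight A A' A' (Fin n) z i) hζ
    simp only [piScalarRight_comb_id] at h1
    rw [← h1, comb_apply, map_sum, map_sum, Finset.sum_apply]
    refine Finset.sum_congr rfl fun l _ => ?_
    rw [LinearMap.lTensor_tmul, TensorProduct.piScalarRight_apply,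
      TensorProduct.piScalarRightHom_tmul]
    have : ι (gen LinearMap.id l) = k l := by
      simp only [gen, LinearMap.id_coe, id_eq, ι, Fintype.linearCombination_apply]
      simp [Pi.single_apply]
    rw [this]
    change k l i • ω l = _
    rw [Algebra.smul_def, mul_comm]
  · rintro ⟨ω, hω⟩
    have hx : x = ∑ l, (fun i => ω l * algebraMap A A' (k l i)) := by
      ext i
      rw [hω i, Finset.sum_apply]
    rw [hx, map_sum]
    refine Finset.sum_eq_zero fun l _ => ?_
    rw [← tmul_eq_comb]
    have : p (k l) = 0 := by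
      have : k l ∈ LinearMap.ker p := by
        rw [hk]
        exact Submodule.subset_span ⟨l, rfl⟩
      exact this
    rw [this, TensorProduct.tmul_zero]

/-- multiplication of `a ⊗ β` with `comb y` -/
lemma tmul_mul_comb (β : B) (D : Fin n → Fin n → A)
    (hD : ∀ i, β * gen p i = ∑ l, D i l • gen p l) (a : A') (y : Fin n → A') :
    (a ⊗ₜ[A] β) * comb p A' y =
      comb p A' (fun l => ∑ i, a * y i * algebraMap A A' (D i l)) := by
  rw [comb_apply, comb_apply, Finset.mul_sum]
  simp_rw [Algebra.TensorProduct.tmul_mul_tmul, hD, TensorProduct.tmul_sum, TensorProduct.sum_tmul]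
  rw [Finset.sum_comm]
  refine Finset.sum_congr rfl fun l _ => Finset.sum_congr rfl fun i _ => ?_
  rw [← TensorProduct.smul_tmul, Algebra.smul_def, mul_comm]

lemma comb_mul_comb (c : Fin n → Fin n → Fin n → A)
    (hc : ∀ i k', gen p i * gen p k' = ∑ l, c i k' l • gen p l) (x y : Fin n → A') :
    comb p A' x * comb p A' y =
      comb p A' (fun l => ∑ i, ∑ k', x i * y k' * algebraMap A A' (c i k' l)) := by
  conv_lhs => rw [comb_apply, Finset.sum_mul]
  have : ∀ i, (x i ⊗ₜ[A] gen p i) * comb p A' y =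
      comb p A' (fun l => ∑ k', x i * y k' * algebraMap A A' (c i k' l)) :=
    fun i => tmul_mul_comb p A' (gen p i) (c i) (hc i) (x i) y
  simp_rw [this]
  rw [← map_sum]
  congr 1
  ext l
  rw [Finset.sum_apply]

lemma map_comb {A'' : Type v} [CommRing A''] [Algebra A A''] (φ : A' →ₐ[A] A'')
    (x : Fin n → A') :
    Algebra.TensorProduct.map φ (AlgHom.id A B) (comb p A' x) = comb p A'' (fun i => φ (x i)) := by
  rw [comb_apply, comb_apply, map_sum]
  refine Finset.sum_congr rfl fun i _ => ?_
  rw [Algebra.TensorProduct.map_tmul]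
  rfl

/-- idempotency in coordinates -/
lemma isIdempotentElem_comb_iff (hp : Function.Surjective p)
    (hk : LinearMap.ker p = Submodule.span A (Set.range k))
    (c : Fin n → Fin n → Fin n → A)
    (hc : ∀ i k', gen p i * gen p k' = ∑ l, c i k' l • gen p l) (x : Fin n → A') :
    IsIdempotentElem (comb p A' x) ↔ ∃ ω : Fin m → A', ∀ l,
      (∑ i, ∑ k', x i * x k' * algebraMap A A' (c i k' l)) - x l =
        ∑ t, ω t * algebraMap A A' (k t l) := by
  unfold IsIdempotentElem
  rw [comb_mul_comb p A' c hc, ← sub_eq_zero, ← map_sub, comb_eq_zero_iff p k A' hp hk]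
  rfl

/-- membership in the ideal generated by the `1 ⊗ g_j` in coordinates -/
lemma comb_mem_span_iff (hp : Function.Surjective p)
    (hk : LinearMap.ker p = Submodule.span A (Set.range k))
    {J : Type*} [Fintype J] (g : J → B) (d : J → Fin n → Fin n → A)
    (hd : ∀ j i, g j * gen p i = ∑ l, d j i l • gen p l) (x : Fin n → A') :
    comb p A' x ∈ Ideal.span (Set.range fun j => (1 : A') ⊗ₜ[A] g j) ↔
      ∃ (y : J → Fin n → A') (ω : Fin m → A'), ∀ l,
        x l - (∑ j, ∑ i, y j i * algebraMap A A' (d j i l)) =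
          ∑ t, ω t * algebraMap A A' (k t l) := by
  have key : ∀ y : J → Fin n → A', ∑ j, comb p A' (y j) * ((1 : A') ⊗ₜ[A] g j) =
      comb p A' (fun l => ∑ j, ∑ i, y j i * algebraMap A A' (d j i l)) := by
    intro y
    have : ∀ j, comb p A' (y j) * ((1 : A') ⊗ₜ[A] g j) =
        comb p A' (fun l => ∑ i, y j i * algebraMap A A' (d j i l)) := by
      intro j
      rw [mul_comm, tmul_mul_comb p A' (g j) (d j) (hd j)]
      simp only [one_mul]
    simp_rw [this]
    rw [← map_sum]
    congr 1
    ext l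
    rw [Finset.sum_apply]
  rw [Ideal.mem_span_range_iff_exists_fun]
  constructor
  · rintro ⟨η, hη⟩
    choose y hy using fun j => comb_surjective p A' hp (η j)
    have h1 : ∑ j, comb p A' (y j) * ((1 : A') ⊗ₜ[A] g j) = comb p A' x := by
      rw [← hη]
      exact Finset.sum_congr rfl fun j _ => by rw [hy j]
    rw [key y] at h1
    have h2 : comb p A' (x - fun l => ∑ j, ∑ i, y j i * algebraMap A A' (d j i l)) = 0 := by
      rw [map_sub, h1, sub_self]
    obtain ⟨ω, hω⟩ := (comb_eq_zero_iff p k A' hp hk _).mp h2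
    exact ⟨y, ω, hω⟩
  · rintro ⟨y, ω, hω⟩
    refine ⟨fun j => comb p A' (y j), ?_⟩
    rw [key y]
    have h2 : comb p A' (x - fun l => ∑ j, ∑ i, y j i * algebraMap A A' (d j i l)) = 0 :=
      (comb_eq_zero_iff p k A' hp hk _).mpr ⟨ω, hω⟩
    rw [map_sub, sub_eq_zero] at h2
    exact h2.symm

end Pres

section Univ

variable {A : Type u} [CommRing A] {n m : ℕ} {J : Type u} [Fintype J]

/-- the variables `x_i`, `ω_t`, `y_{j i}`, `ω'_t` -/
abbrev Var (n m : ℕ) (J : Type u) : Type u := Fin n ⊕ Fin m ⊕ (J × Fin n) ⊕ Fin m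

variable (k : Fin m → (Fin n → A)) (c : Fin n → Fin n → Fin n → A) (d : J → Fin n → Fin n → A)

/-- the idempotency equations -/
noncomputable def polyP (l : Fin n) : MvPolynomial (Var n m J) A :=
  (∑ i, ∑ k', MvPolynomial.X (Sum.inl i) * MvPolynomial.X (Sum.inl k') *
      MvPolynomial.C (c i k' l)) - MvPolynomial.X (Sum.inl l) -
    ∑ t, MvPolynomial.X (Sum.inr (Sum.inl t)) * MvPolynomial.C (k t l)

/-- the ideal-membership equations -/
noncomputable def polyQ (l : Fin n) : MvPolynomial (Var n m J) A :=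
  MvPolynomial.X (Sum.inl l) -
    (∑ j, ∑ i, MvPolynomial.X (Sum.inr (Sum.inr (Sum.inl (j, i)))) * MvPolynomial.C (d j i l)) -
    ∑ t, MvPolynomial.X (Sum.inr (Sum.inr (Sum.inr t))) * MvPolynomial.C (k t l)

/-- the ideal of relations -/
noncomputable def relIdeal : Ideal (MvPolynomial (Var n m J) A) :=
  Ideal.span (Set.range (polyP (J := J) k c) ∪ Set.range (polyQ k d))

lemma relIdeal_fg : (relIdeal k c d).FG :=
  Submodule.fg_span ((Set.finite_range _).union (Set.finite_range _))

variable {A' : Type v} [CommRing A'] [Algebra A A'] (v : Var n m J → A')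

omit [Fintype J] in
lemma aeval_polyP (l : Fin n) :
    MvPolynomial.aeval v (polyP (J := J) k c l) =
      (∑ i, ∑ k', v (Sum.inl i) * v (Sum.inl k') * algebraMap A A' (c i k' l)) - v (Sum.inl l) -
        ∑ t, v (Sum.inr (Sum.inl t)) * algebraMap A A' (k t l) := by
  simp [polyP, map_sub, map_sum, map_mul]

lemma aeval_polyQ (l : Fin n) :
    MvPolynomial.aeval v (polyQ k d l) =
      v (Sum.inl l) -
        (∑ j, ∑ i, v (Sum.inr (Sum.inr (Sum.inl (j, i)))) * algebraMap A A' (d j i l)) -
        ∑ t, v (Sum.inr (Sum.inr (Sum.inr t))) * algebraMap A A' (k t l) := by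
  simp [polyQ, map_sub, map_sum, map_mul]

lemma relIdeal_le_ker_iff :
    relIdeal k c d ≤ RingHom.ker (MvPolynomial.aeval v : MvPolynomial (Var n m J) A →ₐ[A] A') ↔
      (∀ l, MvPolynomial.aeval v (polyP (J := J) k c l) = 0) ∧
        ∀ l, MvPolynomial.aeval v (polyQ k d l) = 0 := by
  rw [relIdeal, Ideal.span_le, Set.union_subset_iff]
  constructor
  · rintro ⟨h1, h2⟩
    exact ⟨fun l => h1 ⟨l, rfl⟩, fun l => h2 ⟨l, rfl⟩⟩
  · rintro ⟨h1, h2⟩
    exact ⟨by rintro _ ⟨l, rfl⟩; exact h1 l, by rintro _ ⟨l, rfl⟩; exact h2 l⟩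

end Univ

section Main

variable {A : Type u} [CommRing A] {B : Type u} [CommRing B] [Algebra A B]

/-- **The universal idempotent.** -/
theorem exists_univ_of_pres {n m : ℕ} (p : (Fin n → A) →ₗ[A] B) (k : Fin m → (Fin n → A))
    (hp : Function.Surjective p) (hk : LinearMap.ker p = Submodule.span A (Set.range k))
    {J : Type u} [Fintype J] (g : J → B) :
    ∃ (Au : Type u) (_ : CommRing Au) (_ : Algebra A Au) (_ : Algebra.FinitePresentation A Au)
      (eu : Au ⊗[A] B), IsIdempotentElem eu ∧
      eu ∈ Ideal.span (Set.range fun j => (1 : Au) ⊗ₜ[A] g j) ∧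
      ∀ (A' : Type u) [CommRing A'] [Algebra A A'] (e : A' ⊗[A] B), IsIdempotentElem e →
        e ∈ Ideal.span (Set.range fun j => (1 : A') ⊗ₜ[A] g j) →
        ∃ φ : Au →ₐ[A] A', Algebra.TensorProduct.map φ (AlgHom.id A B) eu = e := by
  classical
  -- structure constants
  have hgen : ∀ b : B, ∃ v : Fin n → A, b = ∑ l, v l • gen p l := by
    intro b
    obtain ⟨v, rfl⟩ := hp b
    exact ⟨v, p_eq_sum p v⟩
  choose c hc using fun i k' => hgen (gen p i * gen p k')
  choose d hd using fun j i => hgen (g j * gen p i)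
  let I := relIdeal (J := J) k c d
  let R := MvPolynomial (Var n m J) A
  let Au := R ⧸ I
  let vu : Var n m J → Au := fun w => Ideal.Quotient.mk I (MvPolynomial.X w)
  have hmk : ∀ P : R, MvPolynomial.aeval vu P = Ideal.Quotient.mk I P := by
    intro P
    have : (MvPolynomial.aeval vu : R →ₐ[A] Au) = Ideal.Quotient.mkₐ A I := by
      apply MvPolynomial.algHom_ext
      intro w
      simp only [MvPolynomial.aeval_X, vu]
      rfl
    rw [this]
    rfl
  have hle : I ≤ RingHom.ker (MvPolynomial.aeval vu : R →ₐ[A] Au) := by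
    intro P hP
    rw [RingHom.mem_ker, hmk]
    exact Ideal.Quotient.eq_zero_iff_mem.mpr hP
  obtain ⟨hPu, hQu⟩ := (relIdeal_le_ker_iff k c d vu).mp hle
  have : Algebra.FinitePresentation A Au :=
    Algebra.FinitePresentation.quotient (relIdeal_fg k c d)
  let xu : Fin n → Au := fun i => vu (Sum.inl i)
  refine ⟨Au, inferInstance, inferInstance, inferInstance, comb p Au xu, ?_, ?_, ?_⟩
  · rw [isIdempotentElem_comb_iff p k Au hp hk c hc]
    refine ⟨fun t => vu (Sum.inr (Sum.inl t)), fun l => ?_⟩
    have := hPu l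
    rw [aeval_polyP, sub_eq_zero] at this
    exact this
  · rw [comb_mem_span_iff p k Au hp hk g d hd]
    refine ⟨fun j i => vu (Sum.inr (Sum.inr (Sum.inl (j, i)))),
      fun t => vu (Sum.inr (Sum.inr (Sum.inr t))), fun l => ?_⟩
    have := hQu l
    rw [aeval_polyQ, sub_eq_zero] at this
    exact this
  · intro A' _ _ e he hmem
    obtain ⟨x, rfl⟩ := comb_surjective p A' hp e
    obtain ⟨ω, hω⟩ := (isIdempotentElem_comb_iff p k A' hp hk c hc x).mp he
    obtain ⟨y, ω', hω'⟩ := (comb_mem_span_iff p k A' hp hk g d hd x).mp hmem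
    let v : Var n m J → A' :=
      Sum.elim x (Sum.elim ω (Sum.elim (fun ji => y ji.1 ji.2) ω'))
    have hv : I ≤ RingHom.ker (MvPolynomial.aeval v : R →ₐ[A] A') := by
      rw [relIdeal_le_ker_iff]
      constructor
      · intro l
        rw [aeval_polyP, sub_eq_zero]
        exact hω l
      · intro l
        rw [aeval_polyQ, sub_eq_zero]
        exact hω' l
    let φ : Au →ₐ[A] A' := Ideal.Quotient.liftₐ I (MvPolynomial.aeval v) hv
    refine ⟨φ, ?_⟩
    rw [map_comb]
    have hx : (fun i => φ (xu i)) = x := by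
      ext i
      change φ (Ideal.Quotient.mk I (MvPolynomial.X (Sum.inl i))) = x i
      erw [Ideal.Quotient.liftₐ_apply, Ideal.Quotient.lift_mk]
      simp [v]
    rw [hx]

/-- version for finitely presented modules -/
theorem exists_univ [Module.FinitePresentation A B]
    {J : Type u} [Fintype J] (g : J → B) :
    ∃ (Au : Type u) (_ : CommRing Au) (_ : Algebra A Au) (_ : Algebra.FinitePresentation A Au)
      (eu : Au ⊗[A] B), IsIdempotentElem eu ∧
      eu ∈ Ideal.span (Set.range fun j => (1 : Au) ⊗ₜ[A] g j) ∧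
      ∀ (A' : Type u) [CommRing A'] [Algebra A A'] (e : A' ⊗[A] B), IsIdempotentElem e →
        e ∈ Ideal.span (Set.range fun j => (1 : A') ⊗ₜ[A] g j) →
        ∃ φ : Au →ₐ[A] A', Algebra.TensorProduct.map φ (AlgHom.id A B) eu = e := by
  obtain ⟨n, p, hp⟩ := Module.Finite.exists_fin' A B
  have hfg : (LinearMap.ker p).FG := Module.FinitePresentation.fg_ker p hp
  obtain ⟨m, k, hk⟩ := Submodule.fg_iff_exists_fin_generating_family.mp hfg
  exact exists_univ_of_pres p k hp hk.symm g

end Main

end Groth.Agent.H72.UnivIdem
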