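import Mathlib
import Groth.Agent.H72.UnivClopenA
import Groth.Agent.H72.UnivIdem

/-!
# The universal clopen of a finite finitely presented morphism lying over an open (helper72)
-/

set_option autoImplicit false
universe u

open CategoryTheory CategoryTheory.Limits AlgebraicGeometry TensorProduct

namespace Groth.Agent.H72.UnivClopen

/-- in any scheme, membership in the ideal gives containment of basic opens -/
theorem basicOpen_le_iSup_of_mem_span {P : Scheme.{u}} (e : Γ(P, ⊤)) {J : Type*} [Fintype J]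
    (h : J → Γ(P, ⊤)) (he : e ∈ Ideal.span (Set.range h)) :
    P.basicOpen e ≤ ⨆ j, P.basicOpen (h j) := by
  obtain ⟨c, rfl⟩ := Ideal.mem_span_range_iff_exists_fun.mp he
  intro x hx
  rw [Scheme.mem_basicOpen_top] at hx
  by_contra hne
  rw [TopologicalSpace.Opens.mem_iSup] at hne
  push Not at hne
  have hmem : ∀ j, P.presheaf.germ ⊤ x trivial (h j) ∈
      IsLocalRing.maximalIdeal (P.presheaf.stalk x) := by
    intro j
    rw [IsLocalRing.mem_maximalIdeal, mem_nonunits_iff]
    intro hu
    exact hne j ((Scheme.mem_basicOpen_top P (h j) x).mpr hu)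
  have : P.presheaf.germ ⊤ x trivial (∑ j, c j * h j) ∈
      IsLocalRing.maximalIdeal (P.presheaf.stalk x) := by
    rw [map_sum]
    refine Ideal.sum_mem _ fun j _ => ?_
    rw [map_mul]
    exact Ideal.mul_mem_left _ _ (hmem j)
  rw [IsLocalRing.mem_maximalIdeal, mem_nonunits_iff] at this
  exact this hx

set_option backward.isDefEq.respectTransparency.types false in
/-- **The universal clopen.** -/
theorem exists_univ_idempotent {T Y : Scheme.{u}} [IsAffine Y] (π : T ⟶ Y) [IsFinite π]
    [LocallyOfFinitePresentation π] (V : T.Opens) (hV : IsCompact (V : Set T)) :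
    ∃ (Yu : Scheme.{u}) (a : Yu ⟶ Y) (eu : Γ(pullback π a, ⊤)), IsAffine Yu ∧
      LocallyOfFinitePresentation a ∧ IsIdempotentElem eu ∧
      (pullback π a).basicOpen eu ≤ (pullback.fst π a) ⁻¹ᵁ V ∧
      ∀ (Y' : Scheme.{u}) (b : Y' ⟶ Y) (e : Γ(pullback π b, ⊤)), IsAffine Y' →
        IsIdempotentElem e → (pullback π b).basicOpen e ≤ (pullback.fst π b) ⁻¹ᵁ V →
        ∃ (c : Y' ⟶ Yu) (hc : c ≫ a = b),
          (pullback.map π b π a (𝟙 T) c (𝟙 Y)
            ((Category.comp_id π).trans (Category.id_comp π).symm)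
            ((Category.comp_id b).trans hc.symm)).appTop eu = e := by
  classical
  haveI : IsAffine T := isAffine_of_isAffineHom π
  let A := Γ(Y, ⊤)
  let B := Γ(T, ⊤)
  letI algB : Algebra A B := π.appTop.hom.toAlgebra
  have hfin : Module.Finite A B :=
    ((HasAffineProperty.iff_of_isAffine (P := @IsFinite)).mp inferInstance).2
  have hfp : Algebra.FinitePresentation A B :=
    (HasRingHomProperty.iff_of_isAffine (P := @LocallyOfFinitePresentation)).mp inferInstance
  haveI : Module.FinitePresentation A B :=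
    Module.FinitePresentation.of_finite_of_finitePresentation A B
  obtain ⟨gs, hgsfin, hgs⟩ := (isCompact_and_isOpen_iff_finite_and_eq_biUnion_basicOpen (X := T)
    (U := (V : Set T))).mp ⟨hV, V.2⟩
  let J := ↥hgsfin.toFinset
  let g : J → B := fun j => j.1
  have hVsup : V = ⨆ j : J, T.basicOpen (g j) := by
    ext x
    rw [SetLike.mem_coe, ← SetLike.mem_coe, hgs]
    simp only [Set.mem_iUnion, SetLike.mem_coe, TopologicalSpace.Opens.mem_iSup, exists_prop]
    constructor
    · rintro ⟨r, hr, hx⟩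
      exact ⟨⟨r, (Set.Finite.mem_toFinset hgsfin).mpr hr⟩, hx⟩
    · rintro ⟨j, hx⟩
      exact ⟨j.1, (Set.Finite.mem_toFinset hgsfin).mp j.2, hx⟩
  have hpre : ∀ {Y' : Scheme.{u}} (b : Y' ⟶ Y), (pullback.fst π b) ⁻¹ᵁ V =
      ⨆ j : J, (pullback π b).basicOpen ((pullback.fst π b).appTop (g j)) := by
    intro Y' b
    rw [hVsup, Scheme.Hom.preimage_iSup]
    congr 1
    ext1 j
    rw [Scheme.preimage_basicOpen_top]
  obtain ⟨Au, _, _, hAufp, eu₀, heu₀, hmem₀, huniv⟩ :=
    Groth.Agent.H72.UnivIdem.exists_univ (A := A) (B := B) g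
  let AuC : CommRingCat.{u} := CommRingCat.of Au
  let Yu : Scheme.{u} := Spec AuC
  let αu : Γ(Y, ⊤) ⟶ AuC := CommRingCat.ofHom (algebraMap A Au)
  let a : Yu ⟶ Y := Spec.map αu ≫ Y.isoSpec.inv
  have hinvtop : Y.isoSpec.inv.appTop = (Scheme.ΓSpecIso Γ(Y, ⊤)).inv := by
    have h1 : Y.isoSpec.inv.appTop ≫ Y.isoSpec.hom.appTop = 𝟙 _ := by
      rw [← Scheme.Hom.comp_appTop, Iso.hom_inv_id]
      rfl
    have h2 : Y.isoSpec.hom.appTop = (Scheme.ΓSpecIso Γ(Y, ⊤)).hom := Scheme.toSpecΓ_appTop Y
    rw [h2] at h1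
    rw [← cancel_mono (Scheme.ΓSpecIso Γ(Y, ⊤)).hom, h1, Iso.inv_hom_id]
  have ha_top : a.appTop = αu ≫ (Scheme.ΓSpecIso AuC).inv := by
    rw [Scheme.Hom.comp_appTop, hinvtop, Scheme.ΓSpecIso_inv_naturality]
  haveI : LocallyOfFinitePresentation a := by
    have : LocallyOfFinitePresentation (Spec.map αu) := by
      rw [HasRingHomProperty.Spec_iff (P := @LocallyOfFinitePresentation)]
      exact RingHom.finitePresentation_algebraMap.mpr hAufp
    infer_instance
  letI algU : Algebra A Γ(Yu, ⊤) := a.appTop.hom.toAlgebra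
  let ιu : Au →ₐ[A] Γ(Yu, ⊤) :=
    { (Scheme.ΓSpecIso AuC).inv.hom with
      commutes' := fun r => by
        change (Scheme.ΓSpecIso AuC).inv.hom (algebraMap A Au r) = a.appTop.hom r
        rw [ha_top]
        rfl }
  have hιu : ∀ x : Au, ιu x = (Scheme.ΓSpecIso AuC).inv x := fun x => rfl
  obtain ⟨εa, hεa⟩ := exists_comparison π a rfl rfl
  let eu : Γ(pullback π a, ⊤) := εa (Algebra.TensorProduct.map ιu (AlgHom.id A B) eu₀)
  refine ⟨Yu, a, eu, inferInstance, inferInstance, ?_, ?_, ?_⟩
  · exact (heu₀.map (Algebra.TensorProduct.map ιu (AlgHom.id A B))).map εa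
  · rw [hpre a]
    apply basicOpen_le_iSup_of_mem_span
    obtain ⟨c, hc⟩ := Ideal.mem_span_range_iff_exists_fun.mp hmem₀
    rw [Ideal.mem_span_range_iff_exists_fun]
    refine ⟨fun j => εa (Algebra.TensorProduct.map ιu (AlgHom.id A B) (c j)), ?_⟩
    simp only [eu]
    rw [← hc, map_sum, map_sum]
    refine Finset.sum_congr rfl fun j _ => ?_
    rw [map_mul, map_mul, Algebra.TensorProduct.map_tmul, hεa, map_one, map_one, one_mul]
    rfl
  · intro Y' b e hY' he hle
    let A' := Γ(Y', ⊤)
    letI algA' : Algebra A A' := b.appTop.hom.toAlgebra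
    obtain ⟨εb, hεb⟩ := exists_comparison π b rfl rfl
    let e₀ : A' ⊗[A] B := εb.symm e
    have he₀ : IsIdempotentElem e₀ := he.map εb.symm
    have hespan : e ∈ Ideal.span (Set.range fun j : J => (pullback.fst π b).appTop (g j)) := by
      apply mem_of_mem_radical_of_isIdempotentElem he
      apply mem_radical_of_basicOpen_le
      rw [← hpre b]
      exact hle
    have he₀span : e₀ ∈ Ideal.span (Set.range fun j : J => (1 : A') ⊗ₜ[A] g j) := by
      obtain ⟨c, hc⟩ := Ideal.mem_span_range_iff_exists_fun.mp hespan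
      rw [Ideal.mem_span_range_iff_exists_fun]
      refine ⟨fun j => εb.symm (c j), ?_⟩
      simp only [e₀]
      rw [← hc, map_sum]
      refine Finset.sum_congr rfl fun j _ => ?_
      rw [map_mul]
      congr 1
      rw [RingEquiv.eq_symm_apply, hεb, map_one, one_mul]
    obtain ⟨φ, hφ⟩ := huniv A' e₀ he₀ he₀span
    let φC : AuC ⟶ Γ(Y', ⊤) := CommRingCat.ofHom φ.toRingHom
    let c : Y' ⟶ Yu := Y'.toSpecΓ ≫ Spec.map φC
    have hαφ : αu ≫ φC = b.appTop := by
      ext r
      exact φ.commutes r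
    have hc : c ≫ a = b := by
      simp only [c, a, Category.assoc]
      rw [← Spec.map_comp_assoc, hαφ, ← Scheme.toSpecΓ_naturality_assoc]
      simp
    have hctop : ∀ x : Au, c.appTop (ιu x) = φ x := by
      intro x
      have h1 : c.appTop = (Scheme.ΓSpecIso AuC).hom ≫ φC := by
        simp only [c, Scheme.Hom.comp_appTop, Scheme.toSpecΓ_appTop]
        exact Scheme.ΓSpecIso_naturality φC
      rw [h1, hιu]
      simp only [CommRingCat.comp_apply]
      erw [Iso.inv_hom_id_apply]
      rfl
    refine ⟨c, hc, ?_⟩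
    set m := pullback.map π b π a (𝟙 T) c (𝟙 Y)
      ((Category.comp_id π).trans (Category.id_comp π).symm)
      ((Category.comp_id b).trans hc.symm) with hm
    have hmfst : m ≫ pullback.fst π a = pullback.fst π b := by
      rw [hm, pullback.lift_fst, Category.comp_id]
    have hmsnd : m ≫ pullback.snd π a = pullback.snd π b ≫ c := by
      rw [hm, pullback.lift_snd]
    have hmfst' : ∀ y : B, m.appTop ((pullback.fst π a).appTop y) = (pullback.fst π b).appTop y := by
      intro y
      rw [← hmfst, Scheme.Hom.comp_appTop]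
      rfl
    have hmsnd' : ∀ z : Γ(Yu, ⊤), m.appTop ((pullback.snd π a).appTop z) =
        (pullback.snd π b).appTop (c.appTop z) := by
      intro z
      have : (pullback.snd π a).appTop ≫ m.appTop = c.appTop ≫ (pullback.snd π b).appTop := by
        rw [← Scheme.Hom.comp_appTop, ← Scheme.Hom.comp_appTop, hmsnd]
      exact congrArg (fun f => f.hom z) this
    have key : ∀ z : Au ⊗[A] B, m.appTop (εa (Algebra.TensorProduct.map ιu (AlgHom.id A B) z)) =
        εb (Algebra.TensorProduct.map φ (AlgHom.id A B) z) := by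
      intro z
      induction z using TensorProduct.induction_on with
      | zero => simp only [map_zero]
      | tmul x y =>
        rw [Algebra.TensorProduct.map_tmul, Algebra.TensorProduct.map_tmul, hεa, hεb, map_mul,
          hmsnd', hmfst', hctop]
      | add z₁ z₂ h₁ h₂ => simp only [map_add, h₁, h₂]
    change m.appTop (εa (Algebra.TensorProduct.map ιu (AlgHom.id A B) eu₀)) = e
    rw [key, hφ]
    exact εb.apply_symm_apply e

end Groth.Agent.H72.UnivClopen
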