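import Mathlib

/-!
# Finitely presented form of Zariski's main theorem, ring level (helper72)

`C` a quasi-finite, finitely presented `A`-algebra. Then there are a finite and finitely presented
`A`-algebra `B`, an `A`-algebra map `ψ : B → C` and finitely many `g ∈ B` whose images generate the
unit ideal of `C` and such that `B_g → C_{ψ g}` is bijective.
-/

set_option autoImplicit false
universe u

namespace Groth.Agent.H72.ZMTfp

variable {A C : Type u} [CommRing A] [CommRing C] [Algebra A C]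

/-- a finite subalgebra which is locally everything -/
theorem exists_finite_subalgebra [Algebra.FiniteType A C] [Algebra.QuasiFinite A C] :
    ∃ (B' : Subalgebra A C) (rs : Finset C), Module.Finite A B' ∧ (∀ r ∈ rs, r ∈ B') ∧
      Ideal.span (rs : Set C) = ⊤ ∧ ∀ r ∈ rs, ∀ x : C, ∃ m : ℕ, r ^ m * x ∈ B' := by
  classical
  have key : ∀ q : PrimeSpectrum C, ∃ (S' : Subalgebra A C), Module.Finite A S' ∧ ∃ r : C,
      r ∈ S' ∧ r ∉ q.asIdeal ∧ ∀ x : C, ∃ m : ℕ, r ^ m * x ∈ S' := by
    intro q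
    obtain ⟨S', hfg, r, hr, hbij⟩ :=
      Algebra.QuasiFiniteAt.exists_fg_and_exists_notMem_and_awayMap_bijective (R := A) q.asIdeal
    refine ⟨S', ⟨(Submodule.fg_top _).mpr hfg⟩, r.1, r.2, hr, fun x => ?_⟩
    obtain ⟨b, m, hb⟩ := Localization.awayMap_surjective_iff.mp hbij.2 x
    have hb' : (r : C) ^ m * x = (b : C) := hb.symm
    exact ⟨m, by rw [hb']; exact b.2⟩
  choose S' hfin r hrmem hrq hsat using key
  have hspan : Ideal.span (Set.range r) = ⊤ := by
    by_contra hne
    obtain ⟨M, hM, hle⟩ := Ideal.exists_le_maximal _ hne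
    exact hrq ⟨M, hM.isPrime⟩ (hle (Ideal.subset_span ⟨_, rfl⟩))
  obtain ⟨t, ht, htspan⟩ := (Ideal.span_eq_top_iff_finite _).mp hspan
  obtain ⟨t', -, rfl⟩ := Finset.subset_set_image_iff.mp
    (show (t : Set C) ⊆ r '' Set.univ by rwa [Set.image_univ])
  refine ⟨t'.sup S', t'.image r, ?_, ?_, htspan, ?_⟩
  · refine Finset.sup_induction (p := fun S : Subalgebra A C => Module.Finite A S)
      Subalgebra.finite_bot (fun S₁ h₁ S₂ h₂ => ?_) (fun q _ => hfin q)
    haveI := h₁
    haveI := h₂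
    exact Subalgebra.finite_sup S₁ S₂
  · intro c hc
    obtain ⟨q, hq, rfl⟩ := Finset.mem_image.mp hc
    exact (Finset.le_sup (f := S') hq) (hrmem q)
  · intro c hc x
    obtain ⟨q, hq, rfl⟩ := Finset.mem_image.mp hc
    obtain ⟨m, hm⟩ := hsat q x
    exact ⟨m, (Finset.le_sup (f := S') hq) hm⟩

/-- the kernel of `θ` is, up to `r`-power torsion, finitely generated when `θ` is surjective after
inverting `r` and both sides are finitely presented -/
theorem exists_finset_ker {B₀ : Type u} [CommRing B₀] [Algebra A B₀]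
    [Algebra.FinitePresentation A B₀] [Algebra.FinitePresentation A C] (θ : B₀ →ₐ[A] C) (r : B₀)
    (hsat : ∀ x : C, ∃ (y : B₀) (m : ℕ), θ y = θ r ^ m * x) :
    ∃ F : Finset B₀, (∀ y ∈ F, θ y = 0) ∧
      ∀ y, θ y = 0 → ∃ m : ℕ, r ^ m * y ∈ Ideal.span (F : Set B₀) := by
  classical
  let L := Localization.Away r
  let L' := Localization.Away (θ r)
  let lam : L →ₐ[A] L' := Localization.awayMapₐ θ r
  have hlam_alg : ∀ y : B₀, lam (algebraMap B₀ L y) = algebraMap C L' (θ y) := by
    intro y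
    change IsLocalization.Away.map L L' θ.toRingHom r (algebraMap B₀ L y) = _
    rw [IsLocalization.Away.map, IsLocalization.map_eq]
    rfl
  have hsurj : Function.Surjective lam := by
    have h1 : Function.Surjective (Localization.awayMap θ.toRingHom r) :=
      Localization.awayMap_surjective_iff.mpr hsat
    exact h1
  have hfg : (RingHom.ker lam.toRingHom).FG :=
    Algebra.FinitePresentation.ker_fG_of_surjective lam hsurj
  obtain ⟨Z, hZ⟩ := hfg
  -- representatives
  have hrep : ∀ z : L, lam z = 0 → ∃ (y : B₀) (n : ℕ), θ y = 0 ∧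
      z * algebraMap B₀ L (r ^ n) = algebraMap B₀ L y := by
    intro z hz
    obtain ⟨⟨y, ⟨_, n, rfl⟩⟩, rfl⟩ := IsLocalization.mk'_surjective (Submonoid.powers r) z
    have h1 : algebraMap C L' (θ y) = 0 := by
      have h2 : IsLocalization.mk' L y (⟨r ^ n, n, rfl⟩ : Submonoid.powers r) *
          algebraMap B₀ L (r ^ n) = algebraMap B₀ L y := IsLocalization.mk'_spec _ _ _
      have h3 := congrArg lam h2
      rw [map_mul, hz, zero_mul, hlam_alg] at h3
      exact h3.symm
    obtain ⟨⟨_, k, rfl⟩, hk⟩ := (IsLocalization.map_eq_zero_iff (Submonoid.powers (θ r)) L' _).mp h1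
    refine ⟨r ^ k * y, n + k, ?_, ?_⟩
    · rw [map_mul, map_pow]
      exact hk
    · have h2 : IsLocalization.mk' L y (⟨r ^ n, n, rfl⟩ : Submonoid.powers r) *
          algebraMap B₀ L (r ^ n) = algebraMap B₀ L y := IsLocalization.mk'_spec _ _ _
      rw [pow_add, map_mul, ← mul_assoc, h2, map_mul, mul_comm]
  have hZker : ∀ z ∈ Z, lam z = 0 := by
    intro z hz
    have : z ∈ RingHom.ker lam.toRingHom := by
      rw [← hZ]
      exact Ideal.subset_span hz
    exact this
  choose! yy nn hyy0 hyyn using hrep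
  refine ⟨Z.image yy, ?_, ?_⟩
  · intro y hy
    obtain ⟨z, hz, rfl⟩ := Finset.mem_image.mp hy
    exact hyy0 z (hZker z hz)
  · intro y hy
    have hmem : algebraMap B₀ L y ∈ RingHom.ker lam.toRingHom := by
      change lam (algebraMap B₀ L y) = 0
      rw [hlam_alg, hy, map_zero]
    have hle : RingHom.ker lam.toRingHom ≤
        Ideal.map (algebraMap B₀ L) (Ideal.span ((Z.image yy : Finset B₀) : Set B₀)) := by
      rw [← hZ, Ideal.span_le]
      intro z hz
      rw [SetLike.mem_coe, IsLocalization.mem_map_algebraMap_iff (Submonoid.powers r)]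
      refine ⟨⟨⟨yy z, Ideal.subset_span (Finset.mem_coe.mpr (Finset.mem_image_of_mem yy hz))⟩,
        ⟨r ^ nn z, nn z, rfl⟩⟩, ?_⟩
      exact hyyn z (hZker z hz)
    have h1 := hle hmem
    rw [IsLocalization.mem_map_algebraMap_iff (Submonoid.powers r)] at h1
    obtain ⟨⟨⟨x, hx⟩, ⟨_, m, rfl⟩⟩, h2⟩ := h1
    simp only at h2
    rw [← map_mul] at h2
    obtain ⟨⟨_, k, rfl⟩, hk⟩ := (IsLocalization.eq_iff_exists (Submonoid.powers r) L).mp h2
    refine ⟨k + m, ?_⟩
    have : r ^ (k + m) * y = r ^ k * x := by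
      rw [pow_add, mul_assoc, mul_comm (r ^ m) y]
      exact hk
    rw [this]
    exact Ideal.mul_mem_left _ _ hx

/-- **Finitely presented Zariski main theorem**, ring level. -/
theorem exists_fp_model [Algebra.FinitePresentation A C] [Algebra.QuasiFinite A C] :
    ∃ (B : Type u) (_ : CommRing B) (_ : Algebra A B) (_ : Module.Finite A B)
      (_ : Algebra.FinitePresentation A B) (ψ : B →ₐ[A] C) (gs : Finset B),
      Ideal.span ((fun g => ψ g) '' (gs : Set B)) = ⊤ ∧
      ∀ g ∈ gs, Function.Bijective (Localization.awayMap ψ.toRingHom g) := by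
  classical
  obtain ⟨B', rs, hfin, hmem, hspan, hsat⟩ := exists_finite_subalgebra (A := A) (C := C)
  haveI := hfin
  obtain ⟨B₀, _, _, _, _, _, π, hπ⟩ := Module.Finite.exists_free_surjective A B'
  let θ : B₀ →ₐ[A] C := B'.val.comp π
  have hθ : ∀ y, θ y = (π y : C) := fun y => rfl
  have hlift : ∀ r ∈ rs, ∃ r' : B₀, θ r' = r := fun r hr => by
    obtain ⟨r', hr'⟩ := hπ ⟨r, hmem r hr⟩
    exact ⟨r', by rw [hθ, hr']⟩
  choose! lift hlift' using hlift
  have htrim : ∀ r ∈ rs, ∃ F : Finset B₀, (∀ y ∈ F, θ y = 0) ∧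
      ∀ y, θ y = 0 → ∃ m : ℕ, lift r ^ m * y ∈ Ideal.span (F : Set B₀) := by
    intro r hr
    apply exists_finset_ker θ (lift r)
    intro x
    obtain ⟨m, hm⟩ := hsat r hr x
    obtain ⟨y, hy⟩ := hπ ⟨_, hm⟩
    refine ⟨y, m, ?_⟩
    rw [hlift' r hr, hθ, hy]
  choose! F hF0 hFsat using htrim
  let K₀ : Ideal B₀ := Ideal.span ((rs.biUnion F : Finset B₀) : Set B₀)
  have hK₀ : ∀ y ∈ K₀, θ y = 0 := by
    intro y hy
    have : K₀ ≤ RingHom.ker θ.toRingHom := by
      rw [Ideal.span_le]
      intro z hz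
      obtain ⟨r, hr, hz⟩ := Finset.mem_biUnion.mp (Finset.mem_coe.mp hz)
      exact hF0 r hr z hz
    exact this hy
  let B := B₀ ⧸ K₀
  let ψ : B →ₐ[A] C := Ideal.Quotient.liftₐ K₀ θ hK₀
  have hψ : ∀ y : B₀, ψ (Ideal.Quotient.mk K₀ y) = θ y := fun y => rfl
  have hfinB : Module.Finite A B :=
    Module.Finite.of_surjective (Ideal.Quotient.mkₐ A K₀).toLinearMap
      (Ideal.Quotient.mkₐ_surjective A K₀)
  have hfpB : Algebra.FinitePresentation A B :=
    Algebra.FinitePresentation.quotient (Submodule.fg_span (Finset.finite_toSet _))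
  refine ⟨B, inferInstance, inferInstance, hfinB, hfpB, ψ,
    rs.image (fun r => Ideal.Quotient.mk K₀ (lift r)), ?_, ?_⟩
  · have : (fun g => ψ g) '' ((rs.image fun r => Ideal.Quotient.mk K₀ (lift r) : Finset B) : Set B)
        = (rs : Set C) := by
      ext c
      simp only [Finset.coe_image, Set.mem_image, Finset.mem_coe, exists_exists_and_eq_and]
      constructor
      · rintro ⟨r, hr, rfl⟩
        rw [hψ, hlift' r hr]
        exact hr
      · intro hc
        exact ⟨c, hc, by rw [hψ, hlift' c hc]⟩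
    rw [this, hspan]
  · intro g hg
    obtain ⟨r, hr, rfl⟩ := Finset.mem_image.mp hg
    constructor
    · rw [Localization.awayMap_injective_iff]
      intro a ha
      obtain ⟨a₀, rfl⟩ := Ideal.Quotient.mk_surjective a
      have h0 : θ a₀ = 0 := ha
      obtain ⟨m, hm⟩ := hFsat r hr a₀ h0
      refine ⟨m, ?_⟩
      rw [← map_pow, ← map_mul, Ideal.Quotient.eq_zero_iff_mem]
      refine Ideal.span_mono ?_ hm
      intro z hz
      exact Finset.mem_coe.mpr (Finset.mem_biUnion.mpr ⟨r, hr, Finset.mem_coe.mp hz⟩)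
    · rw [Localization.awayMap_surjective_iff]
      intro x
      obtain ⟨m, hm⟩ := hsat r hr x
      obtain ⟨y, hy⟩ := hπ ⟨_, hm⟩
      refine ⟨Ideal.Quotient.mk K₀ y, m, ?_⟩
      change θ y = θ (lift r) ^ m * x
      rw [hlift' r hr, hθ, hy]

end Groth.Agent.H72.ZMTfp
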