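import Mathlib
import Groth.Agent.H72.ZMTfp
import Groth.Agent.H72.FinExtAff

/-!
# Finitely presented form of Zariski's main theorem for affine schemes (helper72)

A quasi-finite morphism of finite presentation `f : X ⟶ Y` of affine schemes factors as an open
immersion `X ⟶ T` followed by a finite morphism of finite presentation `T ⟶ Y`.
-/

set_option autoImplicit false
universe u

open CategoryTheory CategoryTheory.Limits AlgebraicGeometry

namespace Groth.Agent.H72.ZMTfp

open Groth.Agent.H72.FinExt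

set_option backward.isDefEq.respectTransparency.types false in
theorem exists_finite_fp_factorization {X Y : Scheme.{u}} (f : X ⟶ Y) [IsAffine X] [IsAffine Y]
    [LocallyQuasiFinite f] [LocallyOfFinitePresentation f] :
    ∃ (T : Scheme.{u}) (π : T ⟶ Y) (j : X ⟶ T), IsFinite π ∧ LocallyOfFinitePresentation π ∧
      IsOpenImmersion j ∧ j ≫ π = f := by
  classical
  let A := Γ(Y, ⊤)
  let C := Γ(X, ⊤)
  let φ : A →+* C := f.appTop.hom
  letI : Algebra A C := φ.toAlgebra
  have hfp : Algebra.FinitePresentation A C :=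
    (HasRingHomProperty.iff_of_isAffine (P := @LocallyOfFinitePresentation)).mp inferInstance
  have hqf : Algebra.QuasiFinite A C :=
    (HasRingHomProperty.iff_of_isAffine (P := @LocallyQuasiFinite)).mp inferInstance
  obtain ⟨B, _, _, hfinB, hfpB, ψ, gs, hspan, hbij⟩ := exists_fp_model (A := A) (C := C)
  let BB : CommRingCat.{u} := CommRingCat.of B
  let T : Scheme.{u} := Spec BB
  let σ : BB ⟶ Γ(X, ⊤) := CommRingCat.ofHom ψ.toRingHom
  let α : Γ(Y, ⊤) ⟶ BB := CommRingCat.ofHom (algebraMap A B)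
  have hασ : α ≫ σ = f.appTop := by
    ext x
    exact ψ.commutes x
  let ρ : X ⟶ T := X.toSpecΓ ≫ Spec.map σ
  let π : T ⟶ Y := Spec.map α ≫ Y.isoSpec.inv
  have hρπ : ρ ≫ π = f := by
    simp only [ρ, π, Category.assoc]
    rw [← Spec.map_comp_assoc, hασ, ← Scheme.toSpecΓ_naturality_assoc]
    simp
  haveI : IsFinite π := by
    have : IsFinite (Spec.map α) := by
      rw [IsFinite.SpecMap_iff]
      exact RingHom.finite_algebraMap.mpr hfinB
    infer_instance
  haveI : LocallyOfFinitePresentation π := by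
    have : LocallyOfFinitePresentation (Spec.map α) := by
      rw [HasRingHomProperty.Spec_iff (P := @LocallyOfFinitePresentation)]
      exact RingHom.finitePresentation_algebraMap.mpr hfpB
    infer_instance
  have hρtop : ρ.appTop = (Scheme.ΓSpecIso BB).hom ≫ σ := by
    simp only [ρ, Scheme.Hom.comp_appTop, Scheme.toSpecΓ_appTop]
    exact Scheme.ΓSpecIso_naturality σ
  let sg : B → Γ(T, ⊤) := fun g => (Scheme.ΓSpecIso BB).inv g
  have hsg : ∀ b : B, ρ.appTop (sg b) = ψ b := by
    intro b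
    rw [hρtop]
    simp only [CommRingCat.comp_apply, sg]
    erw [Iso.inv_hom_id_apply]
    rfl
  have hsurj : ∀ a : Γ(T, ⊤), ∃ b : B, a = sg b := by
    intro a
    refine ⟨(Scheme.ΓSpecIso BB).hom a, ?_⟩
    simp only [sg]
    erw [Iso.hom_inv_id_apply]
  have hsginj : ∀ b : B, sg b = 0 → b = 0 := by
    intro b hb
    have := congrArg (Scheme.ΓSpecIso BB).hom hb
    simp only [sg] at this
    erw [Iso.inv_hom_id_apply] at this
    rw [this, map_zero]
  have hiso : ∀ g ∈ gs, IsIso (ρ ∣_ T.basicOpen (sg g)) := by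
    intro g hg
    apply isIso_morphismRestrict_basicOpen_of_bijective
    obtain ⟨hinj, hsur⟩ := hbij g hg
    rw [Localization.awayMap_injective_iff] at hinj
    rw [Localization.awayMap_surjective_iff] at hsur
    constructor
    · rw [IsLocalization.Away.map_injective_iff]
      intro a ha
      obtain ⟨b, rfl⟩ := hsurj a
      have hb : ψ b = 0 := by rw [← hsg b]; exact ha
      obtain ⟨n, hn⟩ := hinj b hb
      refine ⟨n, ?_⟩
      have : sg g ^ n * sg b = sg (g ^ n * b) := by
        simp only [sg, map_mul, map_pow]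
      rw [this, hn]
      simp only [sg, map_zero]
    · rw [IsLocalization.Away.map_surjective_iff]
      intro x
      obtain ⟨b, m, hb⟩ := hsur x
      refine ⟨sg b, m, ?_⟩
      change ρ.appTop (sg b) = ρ.appTop (sg g) ^ m * x
      rw [hsg, hsg]
      exact hb
  let V : T.Opens := ⨆ g : gs, T.basicOpen (sg g.1)
  haveI hisoV : IsIso (ρ ∣_ V) := isIso_morphismRestrict_iSup ρ _ fun g => hiso g.1 g.2
  have hVtop : ρ ⁻¹ᵁ V = ⊤ := by
    have h1 := iSup_basicOpen_of_span_eq_top (X := X) ⊤ _ hspan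
    rw [eq_top_iff, ← h1]
    simp only [iSup_le_iff]
    rintro _ ⟨g, hg, rfl⟩
    have h2 : X.basicOpen (ψ g) = ρ ⁻¹ᵁ T.basicOpen (sg g) := by
      rw [Scheme.preimage_basicOpen_top, hsg]
    change X.basicOpen (ψ g) ≤ _
    rw [h2]
    intro x hx
    exact TopologicalSpace.Opens.mem_iSup.mpr ⟨⟨g, hg⟩, hx⟩
  have hsub : Set.range (𝟙 X : X ⟶ X) ⊆ Set.range (ρ ⁻¹ᵁ V).ι := by
    rw [Scheme.Opens.range_ι, hVtop]
    intro x _
    trivial
  let l : X ⟶ (ρ ⁻¹ᵁ V) := IsOpenImmersion.lift (ρ ⁻¹ᵁ V).ι (𝟙 X) hsub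
  have hl : l ≫ (ρ ⁻¹ᵁ V).ι = 𝟙 X := IsOpenImmersion.lift_fac _ _ _
  haveI : IsOpenImmersion l := by
    haveI : IsOpenImmersion (l ≫ (ρ ⁻¹ᵁ V).ι) := by rw [hl]; infer_instance
    exact IsOpenImmersion.of_comp l (ρ ⁻¹ᵁ V).ι
  have hjT : l ≫ (ρ ∣_ V) ≫ V.ι = ρ := by
    rw [morphismRestrict_ι, ← Category.assoc, hl, Category.id_comp]
  haveI : IsOpenImmersion ρ := by
    rw [← hjT]
    infer_instance
  exact ⟨T, π, ρ, inferInstance, inferInstance, inferInstance, hρπ⟩

end Groth.Agent.H72.ZMTfp
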