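import Mathlib
import Groth.Agent.H72.UnivClopen
import Groth.Agent.H72.ZMTfpGeo

/-!
# The universal finite open of a quasi-finite morphism of affine schemes (helper72)
-/

set_option autoImplicit false
universe u

open CategoryTheory CategoryTheory.Limits AlgebraicGeometry

namespace Groth.Agent.H72.UnivFiniteOpen

open Groth.Agent.H72.UnivClopen Groth.Agent.H72.ZMTfp

section Rho

variable {X T Y Y' : Scheme.{u}} (f : X ⟶ Y) (π : T ⟶ Y) (j : X ⟶ T) (hjπ : j ≫ π = f)
  (b : Y' ⟶ Y)

/-- the base change of `j` -/
noncomputable def rho : pullback f b ⟶ pullback π b :=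
  pullback.map f b π b j (𝟙 _) (𝟙 _) (by rw [Category.comp_id, hjπ]) (by simp)

@[reassoc]
lemma rho_fst : rho f π j hjπ b ≫ pullback.fst π b = pullback.fst f b ≫ j :=
  pullback.lift_fst _ _ _

@[reassoc]
lemma rho_snd : rho f π j hjπ b ≫ pullback.snd π b = pullback.snd f b := by
  rw [rho, pullback.lift_snd, Category.comp_id]

instance [IsOpenImmersion j] : IsOpenImmersion (rho f π j hjπ b) := by
  unfold rho
  infer_instance

lemma isPullback_rho :
    IsPullback (rho f π j hjπ b) (pullback.fst f b) (pullback.fst π b) j := by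
  have s : IsPullback (rho f π j hjπ b ≫ pullback.snd π b) (pullback.fst f b) b (j ≫ π) := by
    rw [rho_snd, hjπ]
    exact (IsPullback.of_hasPullback f b).flip
  exact IsPullback.of_right s (rho_fst f π j hjπ b) (IsPullback.of_hasPullback π b).flip

end Rho

set_option backward.isDefEq.respectTransparency.types false in
/-- **Main theorem.** -/
theorem main {X Y : Scheme.{u}} (f : X ⟶ Y) [IsAffine X] [IsAffine Y] [LocallyQuasiFinite f]
    [LocallyOfFinitePresentation f] :
    ∃ (Yu : Scheme.{u}) (a : Yu ⟶ Y) (Uu : (pullback f a).Opens),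
      LocallyOfFinitePresentation a ∧ QuasiCompact a ∧ QuasiSeparated a ∧
      IsFinite (Uu.ι ≫ pullback.snd f a) ∧
      ∀ (Y' : Scheme.{u}) (b : Y' ⟶ Y) (U' : (pullback f b).Opens), IsAffine Y' →
        IsFinite (U'.ι ≫ pullback.snd f b) →
        ∃ (c : Y' ⟶ Yu) (hc : c ≫ a = b),
          (pullback.map f b f a (𝟙 X) c (𝟙 Y)
            ((Category.comp_id f).trans (Category.id_comp f).symm)
            ((Category.comp_id b).trans hc.symm)) ⁻¹ᵁ Uu = U' := by
  obtain ⟨T, π, j, hπfin, hπfp, hj, hjπ⟩ := exists_finite_fp_factorization f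
  let V : T.Opens := j.opensRange
  have hV : IsCompact (V : Set T) := isCompact_range j.continuous
  obtain ⟨Yu, a, eu, hYu, hafp, heu, hle, huniv⟩ := exists_univ_idempotent π V hV
  let D : (pullback π a).Opens := (pullback π a).basicOpen eu
  let Uu : (pullback f a).Opens := rho f π j hjπ a ⁻¹ᵁ D
  refine ⟨Yu, a, Uu, hafp, inferInstance, inferInstance, ?_, ?_⟩
  · -- finiteness
    have h1 : Uu.ι ≫ pullback.snd f a = (Uu.ι ≫ rho f π j hjπ a) ≫ pullback.snd π a := by
      rw [Category.assoc, rho_snd]
    have hDsub : (D : Set ↥(pullback π a)) ⊆ Set.range (rho f π j hjπ a) := by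
      intro t ht
      have h2 : pullback.fst π a t ∈ V := hle ht
      obtain ⟨x, hx⟩ := h2
      obtain ⟨p, hp, -⟩ := Scheme.exists_preimage_of_isPullback
        (isPullback_rho f π j hjπ a) t x hx.symm
      exact ⟨p, hp⟩
    have hrange : Set.range (Uu.ι ≫ rho f π j hjπ a) = (D : Set ↥(pullback π a)) := by
      rw [Scheme.Hom.comp_base, TopCat.coe_comp, Set.range_comp, Scheme.Opens.range_ι]
      change rho f π j hjπ a '' (rho f π j hjπ a ⁻¹' (D : Set ↥(pullback π a))) = _
      rw [Set.image_preimage_eq_inter_range]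
      exact Set.inter_eq_left.mpr hDsub
    haveI : IsClosedImmersion (Uu.ι ≫ rho f π j hjπ a) := by
      apply IsClosedImmersion.of_isPreimmersion
      rw [hrange]
      exact isClosed_basicOpen_of_isIdempotentElem eu heu
    rw [h1]
    infer_instance
  · intro Y' b U' hY' hfinU'
    haveI : IsAffine (pullback π b) := by
      haveI : IsAffineHom (pullback.snd π b) :=
        MorphismProperty.pullback_snd (P := @IsAffineHom) _ _ inferInstance
      exact isAffine_of_isAffineHom (pullback.snd π b)
    let W' : (pullback π b).Opens := (U'.ι ≫ rho f π j hjπ b).opensRange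
    have hW'closed : IsClosed (W' : Set ↥(pullback π b)) := by
      haveI : IsProper ((U'.ι ≫ rho f π j hjπ b) ≫ pullback.snd π b) := by
        rw [Category.assoc, rho_snd]
        infer_instance
      haveI : IsProper (U'.ι ≫ rho f π j hjπ b) :=
        IsProper.of_comp _ (pullback.snd π b)
      exact (U'.ι ≫ rho f π j hjπ b).isClosedMap.isClosed_range
    obtain ⟨e', he', hW'e⟩ := exists_idempotent_of_isClopen W' hW'closed
    have hle' : (pullback π b).basicOpen e' ≤ (pullback.fst π b) ⁻¹ᵁ V := by
      rw [← hW'e]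
      rintro _ ⟨u, rfl⟩
      change pullback.fst π b ((U'.ι ≫ rho f π j hjπ b) u) ∈ V
      rw [← Scheme.Hom.comp_apply, Category.assoc, rho_fst, ← Category.assoc,
        Scheme.Hom.comp_apply]
      exact ⟨_, rfl⟩
    obtain ⟨c, hc, hm⟩ := huniv Y' b e' hY' he' hle'
    refine ⟨c, hc, ?_⟩
    set mf := pullback.map f b f a (𝟙 X) c (𝟙 Y)
      ((Category.comp_id f).trans (Category.id_comp f).symm)
      ((Category.comp_id b).trans hc.symm) with hmf
    set m := pullback.map π b π a (𝟙 T) c (𝟙 Y)
      ((Category.comp_id π).trans (Category.id_comp π).symm)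
      ((Category.comp_id b).trans hc.symm) with hmdef
    have hmf_fst : mf ≫ pullback.fst f a = pullback.fst f b := by
      rw [hmf]
      exact (pullback.lift_fst _ _ _).trans (Category.comp_id _)
    have hmf_snd : mf ≫ pullback.snd f a = pullback.snd f b ≫ c := by
      rw [hmf]
      exact pullback.lift_snd _ _ _
    have hm_fst : m ≫ pullback.fst π a = pullback.fst π b := by
      rw [hmdef]
      exact (pullback.lift_fst _ _ _).trans (Category.comp_id _)
    have hm_snd : m ≫ pullback.snd π a = pullback.snd π b ≫ c := by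
      rw [hmdef]
      exact pullback.lift_snd _ _ _
    have hcomm : mf ≫ rho f π j hjπ a = rho f π j hjπ b ≫ m := by
      apply pullback.hom_ext
      · rw [Category.assoc, rho_fst, ← Category.assoc, hmf_fst, Category.assoc, hm_fst, rho_fst]
      · rw [Category.assoc, rho_snd, hmf_snd, Category.assoc, hm_snd, ← Category.assoc, rho_snd]
    change mf ⁻¹ᵁ (rho f π j hjπ a ⁻¹ᵁ D) = U'
    rw [← Scheme.Hom.comp_preimage, hcomm, Scheme.Hom.comp_preimage]
    have hD : m ⁻¹ᵁ D = W' := by
      change m ⁻¹ᵁ (pullback π a).basicOpen eu = W'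
      rw [Scheme.preimage_basicOpen_top, hm, hW'e]
    rw [hD]
    ext x
    constructor
    · rintro ⟨u, hu⟩
      have hinj : Function.Injective (rho f π j hjπ b) :=
        (rho f π j hjπ b).isOpenEmbedding.injective
      rw [Scheme.Hom.comp_apply] at hu
      have := hinj hu
      rw [← this]
      exact u.2
    · intro hx
      exact ⟨⟨x, hx⟩, by rw [Scheme.Hom.comp_apply]; rfl⟩

end Groth.Agent.H72.UnivFiniteOpen
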