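import Mathlib

/-!
# Valuation rings through a specialization, compatible with a morphism (helper72)
-/

set_option autoImplicit false
universe u

open CategoryTheory CategoryTheory.Limits AlgebraicGeometry IsLocalRing

namespace Groth.Agent.H72.ValGen

/-- in a T0 space, a point specializing to the generic point of an irreducible component is that
generic point -/
theorem eq_of_specializes_generic {T : Type*} [TopologicalSpace T] [T0Space T] {C : Set T}
    (hC : C ∈ irreducibleComponents T) {x p : T} (hx : IsGenericPoint x C) (hp : p ⤳ x) : p = x := by
  have h1 : closure {x} ⊆ closure {p} := by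
    apply closure_minimal _ isClosed_closure
    rintro _ rfl
    exact hp.mem_closure
  have h2 : IsIrreducible (closure ({p} : Set T)) := isIrreducible_singleton.closure
  have hxC : closure {x} = C := hx
  have h3 : closure {p} ⊆ C := hC.2 h2 (hxC ▸ h1)
  have h4 : closure {p} = C := le_antisymm h3 (hxC ▸ h1)
  exact IsGenericPoint.eq (show IsGenericPoint p C from h4) hx

/-- every point of a closed subset of a quasi-sober space is a specialization of the generic point
of an irreducible component of that subset -/
theorem exists_generic_component {T : Type*} [TopologicalSpace T] [QuasiSober T] (W : Set T)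
    (hW : IsClosed W) (w : W) :
    ∃ ξ : W, ξ ⤳ w ∧ ∃ C ∈ irreducibleComponents W, IsGenericPoint ξ C := by
  haveI : QuasiSober W := hW.isClosedEmbedding_subtypeVal.quasiSober
  obtain ⟨ξ, hξ⟩ := QuasiSober.sober (isIrreducible_irreducibleComponent (x := w))
    isClosed_irreducibleComponent
  refine ⟨ξ, ?_, irreducibleComponent w, irreducibleComponent_mem_irreducibleComponents w, hξ⟩
  rw [specializes_iff_mem_closure, hξ.def]
  exact mem_irreducibleComponent

/-- the point of the spectrum of a field maps to the generic point under an injective ring map -/
theorem specMap_closedPoint_eq_bot {R K : Type u} [CommRing R] [IsDomain R] [Field K]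
    (φ : R →+* K) (hφ : Function.Injective φ) (p : Spec (CommRingCat.of K)) :
    Spec.map (CommRingCat.ofHom φ) p = (⊥ : PrimeSpectrum R) := by
  apply PrimeSpectrum.ext
  change Ideal.comap φ p.asIdeal = ⊥
  have hp : p.asIdeal = ⊥ := by
    have := p.2
    exact ((Ideal.eq_bot_or_top p.asIdeal).resolve_right this.ne_top)
  rw [hp]
  exact Ideal.comap_bot_of_injective φ hφ

/-- the generic point maps to the generic point under an injective ring map of domains -/
theorem specMap_bot_eq_bot {R R' : Type u} [CommRing R] [IsDomain R] [CommRing R'] [IsDomain R']
    (φ : R →+* R') (hφ : Function.Injective φ) :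
    Spec.map (CommRingCat.ofHom φ) (⊥ : PrimeSpectrum R') = (⊥ : PrimeSpectrum R) := by
  apply PrimeSpectrum.ext
  change Ideal.comap φ ⊥ = ⊥
  exact Ideal.comap_bot_of_injective φ hφ

end Groth.Agent.H72.ValGen
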