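import Mathlib
import Groth.Agent.H72.ValGenA

/-!
# Valuation rings through a specialization, compatible with a morphism (helper72)
-/

set_option autoImplicit false
universe u

open CategoryTheory CategoryTheory.Limits AlgebraicGeometry IsLocalRing

namespace Groth.Agent.H72.ValGen

/-- the comap of a valuation subring along a field map is dominated by it -/
theorem isLocalHom_comap {K L : Type u} [Field K] [Field L] (R' : ValuationSubring L) (φ : K →+* L)
    (ι : ↥(R'.comap φ) →+* ↥R') (hι : ∀ r, (ι r : L) = φ (r : K)) : IsLocalHom ι := by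
  constructor
  intro r hr
  obtain ⟨u, hu⟩ := hr
  have h1 : (φ (r : K)) * ((u⁻¹ : (↥R')ˣ) : ↥R') = 1 := by
    rw [← hι, ← hu]
    have := u.mul_inv
    exact_mod_cast congrArg (Subtype.val) this
  have hr0 : (r : K) ≠ 0 := by
    intro h0
    rw [h0, map_zero, zero_mul] at h1
    exact zero_ne_one h1
  have h2 : φ ((r : K)⁻¹) = (((u⁻¹ : (↥R')ˣ) : ↥R') : L) := by
    rw [map_inv₀]
    exact (eq_inv_of_mul_eq_one_right h1).symm
  have h3 : (r : K)⁻¹ ∈ R'.comap φ := by
    rw [ValuationSubring.mem_comap, h2]
    exact Subtype.property _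
  rw [isUnit_iff_exists_inv]
  refine ⟨⟨(r : K)⁻¹, h3⟩, ?_⟩
  apply Subtype.ext
  exact mul_inv_cancel₀ hr0

set_option backward.isDefEq.respectTransparency.types false in
/-- Given a morphism `f : X ⟶ S` and a specialization `y ⤳ x` in `X`, there are valuation rings
`R'` (of the residue field of `y`) and `R` (of the residue field of `f y`) with compatible morphisms
from their spectra to `X` and `S`, sending generic points to `y` and `f y` and closed points to
`x` and `f x`. -/
theorem exists_valuationRings {X S : Scheme.{u}} (f : X ⟶ S) {y x : X} (h : y ⤳ x) :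
    ∃ (R' : ValuationSubring (X.residueField y)) (R : ValuationSubring (S.residueField (f y)))
      (a : Spec (CommRingCat.of ↥R') ⟶ X) (b : Spec (CommRingCat.of ↥R') ⟶ Spec (CommRingCat.of ↥R))
      (g : Spec (CommRingCat.of ↥R) ⟶ S),
      a ≫ f = b ≫ g ∧ a (⊥ : PrimeSpectrum ↥R') = y ∧ a (closedPoint ↥R') = x ∧
      b (⊥ : PrimeSpectrum ↥R') = (⊥ : PrimeSpectrum ↥R) ∧ b (closedPoint ↥R') = closedPoint ↥R ∧
      g (closedPoint ↥R) = f x ∧
      Spec.map (CommRingCat.ofHom (algebraMap ↥R (S.residueField (f y)))) ≫ g =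
        S.fromSpecResidueField (f y) := by
  have ht : f y ⤳ f x := f.base.hom.map_specializes h
  let φ₀ : X.presheaf.stalk x ⟶ X.residueField y := X.presheaf.stalkSpecializes h ≫ X.residue y
  let ψ₀ : S.presheaf.stalk (f x) ⟶ S.residueField (f y) :=
    S.presheaf.stalkSpecializes ht ≫ S.residue (f y)
  have hE : ψ₀ ≫ f.residueFieldMap y = f.stalkMap x ≫ φ₀ := by
    change (S.presheaf.stalkSpecializes ht ≫ S.residue (f y)) ≫ f.residueFieldMap y =
      f.stalkMap x ≫ X.presheaf.stalkSpecializes h ≫ X.residue y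
    rw [Category.assoc, Scheme.residue_residueFieldMap, ← Category.assoc,
      Scheme.Hom.stalkSpecializes_stalkMap, Category.assoc]
  obtain ⟨R', hR', hloc⟩ := exists_factor_valuationRing φ₀.hom
  let φ' : X.presheaf.stalk x →+* ↥R' := φ₀.hom.codRestrict R'.toSubring hR'
  let R : ValuationSubring (S.residueField (f y)) := R'.comap (f.residueFieldMap y).hom
  have hψmem : ∀ z, ψ₀.hom z ∈ R.toSubring := by
    intro z
    change (f.residueFieldMap y).hom (ψ₀.hom z) ∈ R'
    have : (f.residueFieldMap y).hom (ψ₀.hom z) = φ₀.hom ((f.stalkMap x).hom z) :=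
      congrArg (fun k => k.hom z) hE
    rw [this]
    exact hR' _
  let ψ' : S.presheaf.stalk (f x) →+* ↥R := ψ₀.hom.codRestrict R.toSubring hψmem
  let ι : ↥R →+* ↥R' := ((f.residueFieldMap y).hom.comp R.subtype).codRestrict R'.toSubring
    (fun r => r.2)
  have hιinj : Function.Injective ι := by
    intro r₁ r₂ h12
    apply Subtype.ext
    apply (f.residueFieldMap y).hom.injective
    exact congrArg Subtype.val h12
  haveI hιloc : IsLocalHom ι := isLocalHom_comap R' (f.residueFieldMap y).hom ι (fun r => rfl)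
  have hcomm : φ'.comp (f.stalkMap x).hom = ι.comp ψ' := by
    ext z
    change φ₀.hom ((f.stalkMap x).hom z) = (f.residueFieldMap y).hom (ψ₀.hom z)
    exact (congrArg (fun k => k.hom z) hE).symm
  haveI hψloc : IsLocalHom ψ' := by
    constructor
    intro z hz
    have h1 : IsUnit (ι (ψ' z)) := hz.map ι
    have h2 : IsUnit (φ' ((f.stalkMap x).hom z)) := by
      have : φ' ((f.stalkMap x).hom z) = ι (ψ' z) := congrArg (fun k => k z) hcomm
      rw [this]
      exact h1
    have h3 : IsUnit ((f.stalkMap x).hom z) := hloc.map_nonunit _ h2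
    exact (isUnit_map_iff (f.stalkMap x).hom z).mp h3
  refine ⟨R', R, Spec.map (CommRingCat.ofHom φ') ≫ X.fromSpecStalk x,
    Spec.map (CommRingCat.ofHom ι), Spec.map (CommRingCat.ofHom ψ') ≫ S.fromSpecStalk (f x),
    ?_, ?_, ?_, ?_, ?_, ?_, ?_⟩
  · rw [Category.assoc, ← Scheme.SpecMap_stalkMap_fromSpecStalk, ← Spec.map_comp_assoc,
      ← Spec.map_comp_assoc]
    congr 2
    ext z
    exact congrArg (fun k => ((k z : ↥R') : X.residueField y)) hcomm
  · have h1 : Spec.map (CommRingCat.ofHom (algebraMap ↥R' (X.residueField y))) ≫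
        Spec.map (CommRingCat.ofHom φ') ≫ X.fromSpecStalk x = X.fromSpecResidueField y := by
      rw [← Spec.map_comp_assoc]
      have : CommRingCat.ofHom φ' ≫ CommRingCat.ofHom (algebraMap ↥R' (X.residueField y)) =
          X.presheaf.stalkSpecializes h ≫ X.residue y := by
        ext z
        rfl
      rw [this, Spec.map_comp, Category.assoc, Scheme.SpecMap_stalkSpecializes_fromSpecStalk]
      rfl
    have h2 := specMap_closedPoint_eq_bot (algebraMap ↥R' (X.residueField y))
      (Subtype.val_injective) (closedPoint (X.residueField y))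
    rw [← h2, ← Scheme.Hom.comp_apply, h1, Scheme.fromSpecResidueField_apply]
  · rw [Scheme.Hom.comp_apply]
    have : Spec.map (CommRingCat.ofHom φ') (closedPoint ↥R') = closedPoint (X.presheaf.stalk x) :=
      comap_closedPoint φ'
    rw [this, Scheme.fromSpecStalk_closedPoint]
  · exact specMap_bot_eq_bot ι hιinj
  · exact comap_closedPoint ι
  · rw [Scheme.Hom.comp_apply]
    have : Spec.map (CommRingCat.ofHom ψ') (closedPoint ↥R) =
        closedPoint (S.presheaf.stalk (f x)) := comap_closedPoint ψ'
    rw [this, Scheme.fromSpecStalk_closedPoint]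
  · rw [← Spec.map_comp_assoc]
    have : CommRingCat.ofHom ψ' ≫ CommRingCat.ofHom (algebraMap ↥R (S.residueField (f y))) =
        S.presheaf.stalkSpecializes ht ≫ S.residue (f y) := by
      ext z
      rfl
    rw [this, Spec.map_comp, Category.assoc, Scheme.SpecMap_stalkSpecializes_fromSpecStalk]
    rfl

end Groth.Agent.H72.ValGen
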