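import Mathlib
import Groth.Agent.H72.ValGenB

/-!
# Valuation ring base change through generic points (helper72)
-/

set_option autoImplicit false
universe u

open CategoryTheory CategoryTheory.Limits AlgebraicGeometry IsLocalRing

namespace Groth.Agent.H72.ValGen

set_option backward.isDefEq.respectTransparency.types false in
/-- on the fibre of a base change over a point whose residue field is that of its image, the
projection reflects specializations -/
theorem specializes_of_fst_specializes {X S T : Scheme.{u}} (f : X ⟶ S) (g : T ⟶ S) {K : CommRingCat.{u}}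
    (k : Spec K ⟶ T) (t : S) (hk : IsPreimmersion (k ≫ g))
    (a' b' : ↑(pullback f g)) (ha : pullback.snd f g a' ∈ Set.range k)
    (hb : pullback.snd f g b' ∈ Set.range k)
    (hab : pullback.fst f g a' ⤳ pullback.fst f g b') : a' ⤳ b' := by
  let i := pullback.fst (pullback.snd f g) k
  have hrange : Set.range i = (pullback.snd f g) ⁻¹' Set.range k := Scheme.Pullback.range_fst _ _
  obtain ⟨a'', rfl⟩ : a' ∈ Set.range i := by rw [hrange]; exact ha
  obtain ⟨b'', rfl⟩ : b' ∈ Set.range i := by rw [hrange]; exact hb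
  let e := pullbackLeftPullbackSndIso f g k
  have he : e.hom ≫ pullback.fst f (k ≫ g) = i ≫ pullback.fst f g :=
    pullbackLeftPullbackSndIso_hom_fst f g k
  haveI : IsPreimmersion (pullback.fst f (k ≫ g)) := inferInstance
  haveI : IsPreimmersion (i ≫ pullback.fst f g) := by rw [← he]; infer_instance
  have hind := (Scheme.Hom.isEmbedding (i ≫ pullback.fst f g)).isInducing
  have h1 : a'' ⤳ b'' := by
    rw [← hind.specializes_iff]
    exact hab
  exact h1.map i.continuous

set_option backward.isDefEq.respectTransparency.types false in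
theorem main {X S : Scheme.{u}} (f : X ⟶ S) (y : X) (s : S) (x : X)
    (hx : x ∈ closure ({y} : Set ↑X)) (hxs : f x = s)
    (hgen : ∃ C ∈ irreducibleComponents ↑(closure ({y} : Set ↑X) ∩ f ⁻¹' {s}), IsGenericPoint (⟨x, hx, hxs⟩ : ↑(closure ({y} : Set ↑X) ∩ f ⁻¹' {s})) C) :
    ∃ (R : Type u) (_ : CommRing R) (_ : IsDomain R) (_ : ValuationRing R) (g : Spec (CommRingCat.of R) ⟶ S),
      g (⊥ : PrimeSpectrum R) = f y ∧ g (IsLocalRing.closedPoint R) = s ∧
      ∃ (y' : ↑(pullback f g)) (hy't : pullback.snd f g y' = (⊥ : PrimeSpectrum R)) (hy'Y : pullback.fst f g y' ∈ closure ({y} : Set ↑X)),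
        pullback.fst f g y' = y ∧
        (∃ C ∈ irreducibleComponents ↑((pullback.fst f g) ⁻¹' closure ({y} : Set ↑X) ∩ (pullback.snd f g) ⁻¹' {(⊥ : PrimeSpectrum R)}),
          IsGenericPoint (⟨y', hy'Y, hy't⟩ : ↑((pullback.fst f g) ⁻¹' closure ({y} : Set ↑X) ∩ (pullback.snd f g) ⁻¹' {(⊥ : PrimeSpectrum R)})) C) ∧
        ∃ (x' : ↑(pullback f g)) (hx' : x' ∈ closure ({y'} : Set ↑(pullback f g))) (hx's : pullback.snd f g x' = IsLocalRing.closedPoint R),
          pullback.fst f g x' = x ∧
          ∃ C ∈ irreducibleComponents ↑(closure ({y'} : Set ↑(pullback f g)) ∩ (pullback.snd f g) ⁻¹' {IsLocalRing.closedPoint R}),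
            IsGenericPoint (⟨x', hx', hx's⟩ : ↑(closure ({y'} : Set ↑(pullback f g)) ∩ (pullback.snd f g) ⁻¹' {IsLocalRing.closedPoint R})) C := by
  subst hxs
  have h : y ⤳ x := specializes_iff_mem_closure.mpr hx
  obtain ⟨R', R, a, b, g, hab, hay, hax, hb0, hbc, hgc, hkg⟩ := exists_valuationRings f h
  let k := Spec.map (CommRingCat.ofHom (algebraMap ↥R (S.residueField (f y))))
  have hk0 : ∀ p, k p = (⊥ : PrimeSpectrum ↥R) :=
    fun p => specMap_closedPoint_eq_bot _ Subtype.val_injective p
  have hg0 : g (⊥ : PrimeSpectrum ↥R) = f y := by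
    rw [← hk0 (closedPoint _), ← Scheme.Hom.comp_apply, hkg, Scheme.fromSpecResidueField_apply]
  have hkpre : IsPreimmersion (k ≫ g) := by rw [hkg]; infer_instance
  have hbotk : (⊥ : PrimeSpectrum ↥R) ∈ Set.range k := ⟨closedPoint _, hk0 _⟩
  refine ⟨↥R, inferInstance, inferInstance, inferInstance, g, hg0, hgc, ?_⟩
  let l : Spec (CommRingCat.of ↥R') ⟶ pullback f g := pullback.lift a b hab
  have hy'1 : pullback.fst f g (l (⊥ : PrimeSpectrum ↥R')) = y := by
    rw [← Scheme.Hom.comp_apply, pullback.lift_fst, hay]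
  have hy'2 : pullback.snd f g (l (⊥ : PrimeSpectrum ↥R')) = (⊥ : PrimeSpectrum ↥R) := by
    rw [← Scheme.Hom.comp_apply, pullback.lift_snd, hb0]
  have hx''1 : pullback.fst f g (l (closedPoint ↥R')) = x := by
    rw [← Scheme.Hom.comp_apply, pullback.lift_fst, hax]
  have hx''2 : pullback.snd f g (l (closedPoint ↥R')) = closedPoint ↥R := by
    rw [← Scheme.Hom.comp_apply, pullback.lift_snd, hbc]
  have hspec : l (⊥ : PrimeSpectrum ↥R') ⤳ l (closedPoint ↥R') :=
    (specializes_closedPoint (R := ↥R') _).map l.continuous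
  have hy'Y : pullback.fst f g (l (⊥ : PrimeSpectrum ↥R')) ∈ closure ({y} : Set ↑X) := by
    rw [hy'1]; exact subset_closure rfl
  refine ⟨l (⊥ : PrimeSpectrum ↥R'), hy'2, hy'Y, hy'1, ?_, ?_⟩
  · -- the generic fibre
    refine ⟨Set.univ, ?_, ?_⟩
    · have hgenpt : closure ({⟨l (⊥ : PrimeSpectrum ↥R'), hy'Y, hy'2⟩} :
          Set ↑((pullback.fst f g) ⁻¹' closure ({y} : Set ↑X) ∩
            (pullback.snd f g) ⁻¹' {(⊥ : PrimeSpectrum ↥R)})) = Set.univ := by
        rw [Set.eq_univ_iff_forall]
        rintro ⟨z', hz'1, hz'2⟩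
        rw [← specializes_iff_mem_closure, ← Topology.IsInducing.subtypeVal.specializes_iff]
        apply specializes_of_fst_specializes f g k (f y) hkpre
        · rw [hy'2]; exact hbotk
        · rw [hz'2]; exact hbotk
        · rw [hy'1]
          exact specializes_iff_mem_closure.mpr hz'1
      refine ⟨?_, fun T _ _ => Set.subset_univ T⟩
      rw [← hgenpt]
      exact isIrreducible_singleton.closure
    · rw [IsGenericPoint, Set.eq_univ_iff_forall]
      rintro ⟨z', hz'1, hz'2⟩
      rw [← specializes_iff_mem_closure, ← Topology.IsInducing.subtypeVal.specializes_iff]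
      apply specializes_of_fst_specializes f g k (f y) hkpre
      · rw [hy'2]; exact hbotk
      · rw [hz'2]; exact hbotk
      · rw [hy'1]
        exact specializes_iff_mem_closure.mpr hz'1
  · -- the special fibre
    have hclosedpt : IsClosed ({closedPoint ↥R} : Set (Spec (CommRingCat.of ↥R))) :=
      (PrimeSpectrum.isClosed_singleton_iff_isMaximal (closedPoint ↥R)).mpr
        (IsLocalRing.maximalIdeal.isMaximal _)
    have hW : IsClosed (closure ({l (⊥ : PrimeSpectrum ↥R')} : Set ↑(pullback f g)) ∩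
        (pullback.snd f g) ⁻¹' {closedPoint ↥R}) :=
      isClosed_closure.inter (hclosedpt.preimage (pullback.snd f g).continuous)
    obtain ⟨ξ, hξw, C', hC', hξ⟩ := exists_generic_component _ hW
      ⟨l (closedPoint ↥R'), hspec.mem_closure, hx''2⟩
    have hξ1 : (ξ : ↑(pullback f g)) ⤳ l (closedPoint ↥R') := hξw.map continuous_subtype_val
    have hyξ : l (⊥ : PrimeSpectrum ↥R') ⤳ (ξ : ↑(pullback f g)) :=
      specializes_iff_mem_closure.mpr ξ.2.1
    have hmem1 : pullback.fst f g (ξ : ↑(pullback f g)) ∈ closure ({y} : Set ↑X) := by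
      have := hyξ.map (pullback.fst f g).continuous
      rw [hy'1] at this
      exact this.mem_closure
    have hmem2 : f (pullback.fst f g (ξ : ↑(pullback f g))) = f x := by
      rw [← Scheme.Hom.comp_apply, pullback.condition, Scheme.Hom.comp_apply]
      have : pullback.snd f g (ξ : ↑(pullback f g)) = closedPoint ↥R := ξ.2.2
      rw [this, hgc]
    obtain ⟨C, hC, hxC⟩ := hgen
    have hp : (⟨pullback.fst f g (ξ : ↑(pullback f g)), hmem1, hmem2⟩ :
        ↑(closure ({y} : Set ↑X) ∩ f ⁻¹' {f x})) ⤳ ⟨x, hx, rfl⟩ := by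
      rw [← Topology.IsInducing.subtypeVal.specializes_iff]
      have := hξ1.map (pullback.fst f g).continuous
      rw [hx''1] at this
      exact this
    have heq := eq_of_specializes_generic hC hxC hp
    refine ⟨(ξ : ↑(pullback f g)), ξ.2.1, ξ.2.2, congrArg Subtype.val heq, C', hC', hξ⟩

end Groth.Agent.H72.ValGen
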