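import Groth.Prelude.Def_Pi1
import Groth.Agent.H72.NormalBir2

/-!
# Closed birational morphisms onto the spectrum of a valuation ring (helper72)

`isIso_of_valuationRing`: an integral separated scheme with a closed map to `Spec A`, `A` a
valuation ring, whose generic fibre is one point with trivial residue field extension, is
isomorphic to `Spec A` (valuation rings are maximal for domination, then a section argument).
-/

set_option autoImplicit false
set_option linter.style.haveILetI false
universe u
open CategoryTheory CategoryTheory.Limits AlgebraicGeometry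

namespace Groth.Agent.H72.ValSec

/-- A local homomorphism from a valuation ring to a domain inducing an isomorphism of
fraction fields is bijective (valuation rings are maximal for domination). -/
theorem bijective_of_valuationRing {R B K K' : Type*} [CommRing R] [IsDomain R] [ValuationRing R]
    [CommRing B] [CommRing K] [Algebra R K] [IsFractionRing R K] [CommRing K']
    (φ : R →+* B) [IsLocalHom φ] (ψ : B →+* K') (hψ : Function.Injective ψ)
    (θ : K →+* K') (hθ : Function.Bijective θ)
    (hcomm : ∀ r, ψ (φ r) = θ (algebraMap R K r)) : Function.Bijective φ := by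
  constructor
  · intro r s hrs
    apply IsFractionRing.injective R K
    apply hθ.1
    rw [← hcomm, ← hcomm, hrs]
  · intro b
    obtain ⟨k, hk⟩ := hθ.2 (ψ b)
    obtain ⟨⟨r, s⟩, hrs⟩ := IsLocalization.surj (nonZeroDivisors R) k
    have hsu : IsUnit (algebraMap R K (s : R)) := IsLocalization.map_units K s
    obtain ⟨c, hc | hc⟩ := ValuationRing.cond r (s : R)
    · -- r * c = s
      have hr0 : r ≠ 0 := by
        rintro rfl
        rw [zero_mul] at hc
        exact nonZeroDivisors.ne_zero s.2 hc.symm
      have hru : IsUnit (algebraMap R K r) :=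
        IsLocalization.map_units K (⟨r, mem_nonZeroDivisors_of_ne_zero hr0⟩ : nonZeroDivisors R)
      have h0 : k * algebraMap R K c * algebraMap R K r = 1 * algebraMap R K r := by
        have : k * algebraMap R K (s : R) = algebraMap R K r := hrs
        rw [← hc, map_mul] at this
        calc k * algebraMap R K c * algebraMap R K r
            = k * (algebraMap R K r * algebraMap R K c) := by ring
          _ = algebraMap R K r := this
          _ = 1 * algebraMap R K r := (one_mul _).symm
      have h1 : k * algebraMap R K c = 1 := hru.mul_right_cancel h0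
      have h2 : ψ (b * φ c) = ψ 1 := by
        rw [map_mul, hcomm, ← hk, ← map_mul, h1, map_one, map_one]
      have h3 : b * φ c = 1 := hψ h2
      have hu : IsUnit (φ c) := IsUnit.of_mul_eq_one b (by rw [mul_comm]; exact h3)
      have huc : IsUnit c := (isUnit_map_iff φ c).mp hu
      obtain ⟨u, rfl⟩ := huc
      refine ⟨((u⁻¹ : Rˣ) : R), ?_⟩
      have h4 : φ (u : R) * φ ((u⁻¹ : Rˣ) : R) = 1 := by
        rw [← map_mul, Units.mul_inv, map_one]
      calc φ ((u⁻¹ : Rˣ) : R) = (b * φ (u : R)) * φ ((u⁻¹ : Rˣ) : R) := by rw [h3, one_mul]
        _ = b := by rw [mul_assoc, h4, mul_one]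
    · -- s * c = r
      refine ⟨c, hψ ?_⟩
      rw [hcomm, ← hk]
      congr 1
      have : k * algebraMap R K (s : R) = algebraMap R K r := hrs
      rw [← hc, map_mul, mul_comm (algebraMap R K (s : R))] at this
      exact (hsu.mul_right_cancel this).symm

variable (A : Type u) [CommRing A]

/-- the stalk of `Spec A` at a point equal to the generic point is a fraction ring -/
theorem isFractionRing_stalk [IsDomain A] (y : Spec (CommRingCat.of A))
    (hy : y = genericPoint (Spec (CommRingCat.of A))) :
    @IsFractionRing A _ ((Spec (CommRingCat.of A)).presheaf.stalk y) _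
      (StructureSheaf.toStalk A y).hom.toAlgebra := by
  subst hy
  exact functionField_isFractionRing_of_affine (CommRingCat.of A)

theorem toStalk_bijective [IsLocalRing A] (y : Spec (CommRingCat.of A))
    (hy : y = IsLocalRing.closedPoint A) :
    Function.Bijective (StructureSheaf.toStalk A y).hom := by
  subst hy
  have h := stalkClosedPointIso_inv (CommRingCat.of A)
  have : IsIso (StructureSheaf.toStalk A (IsLocalRing.closedPoint A)) := by
    rw [← h]; exact Iso.isIso_inv _
  exact ConcreteCategory.bijective_of_isIso (StructureSheaf.toStalk A (IsLocalRing.closedPoint A))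

open Groth.Agent.H72.NormalBir in
theorem isIso_of_valuationRing [IsDomain A] [ValuationRing A]
    (X : Scheme.{u}) [IsIntegral X] [X.IsSeparated] (f : X ⟶ Spec (CommRingCat.of A))
    (hf : IsClosedMap f.base)
    (x : X) (hx : f.base ⁻¹' {genericPoint (Spec (CommRingCat.of A))} = {x})
    (hres : Function.Bijective (f.residueFieldMap x).hom) : IsIso f := by
  have hfx : f x = genericPoint (Spec (CommRingCat.of A)) := by
    have : x ∈ f.base ⁻¹' {genericPoint (Spec (CommRingCat.of A))} := hx ▸ rfl
    exact this
  have hxgen : x = genericPoint X := by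
    have h1 : f (genericPoint X) ⤳ f x :=
      ((genericPoint_spec X).specializes trivial).map f.continuous
    have h3 : f (genericPoint X) = genericPoint (Spec (CommRingCat.of A)) := by
      rw [hfx] at h1
      exact (((genericPoint_spec (Spec (CommRingCat.of A))).specializes trivial).antisymm h1).symm.eq
    have : genericPoint X ∈ f.base ⁻¹' {genericPoint (Spec (CommRingCat.of A))} := h3
    rw [hx] at this
    exact this.symm
  subst hxgen
  -- f is surjective
  have hsurj : Function.Surjective f := by
    rw [← Set.range_eq_univ]
    have hcl : IsClosed (Set.range f) := hf.isClosed_range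
    have hmem : genericPoint (Spec (CommRingCat.of A)) ∈ Set.range f := ⟨_, hfx⟩
    apply Set.eq_univ_of_univ_subset
    rw [← show closure {genericPoint (Spec (CommRingCat.of A))} = Set.univ from
      genericPoint_spec (Spec (CommRingCat.of A))]
    exact hcl.closure_subset_iff.mpr (Set.singleton_subset_iff.mpr hmem)
  obtain ⟨z, hz⟩ := hsurj (IsLocalRing.closedPoint A)
  -- the ring maps
  have hα := toStalk_bijective A (f z) hz
  have hθ : Function.Bijective (f.stalkMap (genericPoint X)).hom := stalkMap_bijective f hfx hres
  letI : Algebra A ((Spec (CommRingCat.of A)).presheaf.stalk (f (genericPoint X))) :=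
    (StructureSheaf.toStalk A (f (genericPoint X))).hom.toAlgebra
  haveI := isFractionRing_stalk A (f (genericPoint X)) hfx
  have hspec : genericPoint X ⤳ z := (genericPoint_spec X).specializes trivial
  have hψ : Function.Injective (X.presheaf.stalkSpecializes hspec).hom :=
    IsFractionRing.injective (X.presheaf.stalk z) X.functionField
  have hφ : Function.Bijective ((f.stalkMap z).hom.comp (StructureSheaf.toStalk A (f z)).hom) := by
    haveI : IsLocalHom ((f.stalkMap z).hom.comp (StructureSheaf.toStalk A (f z)).hom) := by
      refine ⟨fun a ha => ?_⟩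
      have ha' : IsUnit ((StructureSheaf.toStalk A (f z)).hom a) :=
        (isUnit_map_iff (f.stalkMap z).hom _).mp ha
      obtain ⟨b, hb⟩ := hα.2 ↑ha'.unit⁻¹
      exact IsUnit.of_mul_eq_one b (hα.1 (by rw [map_mul, hb, map_one]; exact ha'.mul_val_inv))
    refine bijective_of_valuationRing (K := (Spec (CommRingCat.of A)).presheaf.stalk (f (genericPoint X)))
      _ (X.presheaf.stalkSpecializes hspec).hom hψ
      (f.stalkMap (genericPoint X)).hom hθ ?_
    intro a
    have h1 := Scheme.Hom.stalkSpecializes_stalkMap_apply f (genericPoint X) z hspec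
      ((StructureSheaf.toStalk A (f z)).hom a)
    have h2 := StructureSheaf.toStalk_stalkSpecializes_apply (f.base.hom.map_specializes hspec) a
    exact h1.symm.trans (congrArg _ h2)
  -- the stalk map at z is an isomorphism
  have hφz : Function.Bijective (f.stalkMap z).hom := by
    have := (Function.Bijective.of_comp_iff (f.stalkMap z).hom hα).mp hφ
    exact this
  haveI : IsIso (f.stalkMap z) := (ConcreteCategory.isIso_iff_bijective _).mpr hφz
  -- `Y.fromSpecStalk (f z)` is an isomorphism
  haveI : IsIso (StructureSheaf.toStalk A (f z)) := (ConcreteCategory.isIso_iff_bijective _).mpr hα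
  haveI : IsIso ((Spec (CommRingCat.of A)).fromSpecStalk (f z)) := by
    rw [Spec.fromSpecStalk_eq']
    exact Functor.map_isIso Scheme.Spec (StructureSheaf.toStalk A (f z)).op
  -- the section
  let τ : Spec (CommRingCat.of A) ⟶ X :=
    inv ((Spec (CommRingCat.of A)).fromSpecStalk (f z)) ≫ Spec.map (inv (f.stalkMap z)) ≫
      X.fromSpecStalk z
  have hτ : τ ≫ f = 𝟙 _ := by
    simp only [τ, Category.assoc]
    rw [← Scheme.SpecMap_stalkMap_fromSpecStalk, ← Spec.map_comp_assoc, IsIso.hom_inv_id,
      Spec.map_id, Category.id_comp, IsIso.inv_hom_id]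
  haveI : IsClosedImmersion (τ ≫ f) := by rw [hτ]; infer_instance
  haveI : IsClosedImmersion τ := IsClosedImmersion.of_comp τ f
  have hτgen : τ (genericPoint (Spec (CommRingCat.of A))) = genericPoint X := by
    have h1 : f (τ (genericPoint (Spec (CommRingCat.of A)))) =
        genericPoint (Spec (CommRingCat.of A)) := by
      rw [← Scheme.Hom.comp_apply, hτ]; rfl
    have h2 : τ (genericPoint (Spec (CommRingCat.of A))) ∈
        f.base ⁻¹' {genericPoint (Spec (CommRingCat.of A))} := h1
    rw [hx] at h2
    exact h2
  have hτsurj : Function.Surjective τ := by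
    rw [← Set.range_eq_univ]
    have hcl : IsClosed (Set.range τ) := τ.isClosedEmbedding.isClosed_range
    have hmem : genericPoint X ∈ Set.range τ := ⟨_, hτgen⟩
    apply Set.eq_univ_of_univ_subset
    rw [← show closure {genericPoint X} = Set.univ from genericPoint_spec X]
    exact hcl.closure_subset_iff.mpr (Set.singleton_subset_iff.mpr hmem)
  haveI : Surjective τ := ⟨hτsurj⟩
  haveI : IsIso τ := isIso_of_isClosedImmersion_of_surjective τ
  have hfe : f = inv τ := by
    calc f = (inv τ ≫ τ) ≫ f := by rw [IsIso.inv_hom_id, Category.id_comp]
      _ = inv τ := by rw [Category.assoc, hτ, Category.comp_id]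
  rw [hfe]
  infer_instance

end Groth.Agent.H72.ValSec
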