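import Groth.Agent.H72.ZMTNormal
import Mathlib.AlgebraicGeometry.Morphisms.Immersion
import Mathlib.AlgebraicGeometry.SpreadingOut

/-!
# Rational maps defined at a normal point with an isolated point in the graph fibre (helper72)

EGA IV 20.4-type statement: if the projection from the closure of the graph of a rational map has an
isolated point in its fibre over a normal point `x`, then the rational map is defined at `x`.
-/

set_option autoImplicit false
set_option linter.style.haveILetI false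
universe u
open AlgebraicGeometry CategoryTheory CategoryTheory.Limits

namespace Groth.Agent.H72.ZMTRat

open Groth.Agent.H72.ZMTNormal

/-- the scheme-theoretic image of an integral scheme under a quasi-compact morphism is integral -/
theorem isIntegral_image {A B : Scheme.{u}} [IsIntegral A] (f : A ⟶ B) [QuasiCompact f] :
    IsIntegral f.image := by
  have hred : IsReduced f.image := by
    have (U : f.ker.subschemeCover.openCover.I₀) :
        IsReduced (f.ker.subschemeCover.openCover.X U) := by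
      have : _root_.IsReduced (Γ(B, U.1) ⧸ f.ker.ideal U) := by
        rw [f.ker_apply U]
        exact isReduced_of_injective (RingHom.kerLift (f.app U.1).hom)
          (RingHom.kerLift_injective _)
      show IsReduced (Spec (.of (Γ(B, U.1) ⧸ f.ker.ideal U)))
      infer_instance
    exact .of_openCover _ f.ker.subschemeCover.openCover
  have : IrreducibleSpace f.image := by
    rw [irreducibleSpace_def]
    convert!
      ((IrreducibleSpace.isIrreducible_univ A).image _
          f.toImage.continuous.continuousOn).closure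
    simpa using f.toImage.denseRange.closure_range.symm
  exact isIntegral_of_irreducibleSpace_of_isReduced _

theorem birational_of_isOpenImmersion_comp {T N W : Scheme.{u}} [IsIntegral T] [IsIntegral N]
    [IsIntegral W] (a : T ⟶ N) (g : N ⟶ W) [IsOpenImmersion a] [IsOpenImmersion (a ≫ g)] :
    Function.Bijective (g.stalkMap (genericPoint N)) ∧ g (genericPoint N) = genericPoint W := by
  have ha : a (genericPoint T) = genericPoint N := genericPoint_eq_of_isOpenImmersion a
  have hag : (a ≫ g) (genericPoint T) = genericPoint W := genericPoint_eq_of_isOpenImmersion (a ≫ g)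
  have hcomp := Scheme.Hom.stalkMap_comp a g (genericPoint T)
  haveI h1 : IsIso ((a ≫ g).stalkMap (genericPoint T)) := inferInstance
  haveI h2 : IsIso (a.stalkMap (genericPoint T)) := inferInstance
  haveI h3 : IsIso (g.stalkMap (a (genericPoint T)) ≫ a.stalkMap (genericPoint T)) := by
    rw [← hcomp]; exact h1
  have h4 : IsIso (g.stalkMap (a (genericPoint T))) :=
    IsIso.of_isIso_comp_right _ (a.stalkMap (genericPoint T))
  have h5 : Function.Bijective (g.stalkMap (a (genericPoint T))) :=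
    ConcreteCategory.bijective_of_isIso _
  have key : ∀ p, a (genericPoint T) = p → Function.Bijective (g.stalkMap p) := by
    rintro _ rfl; exact h5
  refine ⟨key _ ha, ?_⟩
  rw [← ha]; exact hag

theorem quasiFiniteAt_of_isolated {N W : Scheme.{u}} (g : N ⟶ W) [LocallyOfFiniteType g] (z : N)
    (O : N.Opens) (hz : z ∈ O) (hO : ∀ n ∈ O, g n = g z → n = z) : g.QuasiFiniteAt z := by
  rw [Scheme.Hom.quasiFiniteAt_iff_isOpen_singleton_asFiber,
    ← (g.fiberHomeo (g z)).isOpen_image]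
  simp only [Set.image_singleton, Scheme.Hom.asFiber, Homeomorph.apply_symm_apply]
  have : ({⟨z, rfl⟩} : Set (g ⁻¹' {g z})) = Subtype.val ⁻¹' (O : Set N) := by
    ext ⟨n, hn⟩
    constructor
    · intro h
      have h' : n = z := congrArg Subtype.val h
      show n ∈ O
      rw [h']; exact hz
    · intro hnO
      exact Subtype.ext (hO n hnO hn)
  rw [this]
  exact O.isOpen.preimage continuous_subtype_val

set_option backward.isDefEq.respectTransparency.types false in
set_option backward.isDefEq.respectTransparency false in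
/-- `fromSpecStalk` of an open subscheme in terms of `fromSpecStalkOfMem` -/
theorem fromSpecStalk_eq_fromSpecStalkOfMem {X : Scheme.{u}} (U : X.Opens) (x : X) (hxU : x ∈ U) :
    U.toScheme.fromSpecStalk ⟨x, hxU⟩ =
      Spec.map (U.ι.stalkMap ⟨x, hxU⟩) ≫ U.fromSpecStalkOfMem x hxU := by
  simp only [Scheme.Opens.fromSpecStalkOfMem, Spec.map_inv, IsIso.hom_inv_id_assoc]


set_option backward.isDefEq.respectTransparency.types false in
/-- Main local statement over an integral affine base `W`. -/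
theorem exists_extension_of_isolated' {W Y S : Scheme.{u}} [IsIntegral W] [IsAffine W]
    (pW : W ⟶ S) (pY : Y ⟶ S) [LocallyOfFiniteType pY] [IsSeparated pY]
    (U' : W.Opens) (hU' : IsAffineOpen U') (hne : (U' : Set W).Nonempty)
    (h' : (U' : Scheme.{u}) ⟶ Y) (hh' : U'.ι ≫ pW = h' ≫ pY)
    (x : W) (hx : IsIntegrallyClosed (W.presheaf.stalk x))
    (z : ↥(pullback pW pY)) (hz : pullback.fst pW pY z = x)
    (hzΓ : z ∈ closure (Set.range (pullback.lift U'.ι h' hh')))
    (O : (pullback pW pY).Opens) (hzO : z ∈ O)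
    (hO : ∀ p ∈ O, p ∈ closure (Set.range (pullback.lift U'.ι h' hh')) →
      pullback.fst pW pY p = x → p = z) :
    ∃ (V₀ : W.Opens) (f₀ : (V₀ : Scheme.{u}) ⟶ Y), x ∈ V₀ ∧ f₀ ≫ pY = V₀.ι ≫ pW ∧
      (∀ hx : x ∈ V₀, f₀ ⟨x, hx⟩ = pullback.snd pW pY z) ∧
      ∃ (T : Scheme.{u}) (a : T ⟶ (U' : Scheme.{u})) (b : T ⟶ (V₀ : Scheme.{u})),
        Nonempty T ∧ IsOpenImmersion a ∧ a ≫ U'.ι = b ≫ V₀.ι ∧ a ≫ h' = b ≫ f₀ := by
  -- basic set-up
  haveI : Nonempty (U' : Scheme.{u}) := ⟨⟨hne.some, hne.some_mem⟩⟩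
  haveI : IsAffine (U' : Scheme.{u}) := hU'
  haveI : IsIntegral (U' : Scheme.{u}) := isIntegral_of_isOpenImmersion U'.ι
  set q : pullback pW pY ⟶ W := pullback.fst pW pY with hq
  set j' : (U' : Scheme.{u}) ⟶ pullback pW pY := pullback.lift U'.ι h' hh' with hj'
  have hjq : j' ≫ q = U'.ι := pullback.lift_fst _ _ _
  have hjs : j' ≫ pullback.snd pW pY = h' := pullback.lift_snd _ _ _
  haveI : IsImmersion j' := by
    haveI : IsImmersion (j' ≫ q) := by rw [hjq]; infer_instance
    exact IsImmersion.of_comp j' q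
  haveI : QuasiCompact j' := by
    haveI : QuasiCompact (j' ≫ q) := by rw [hjq]; infer_instance
    exact QuasiCompact.of_comp j' q
  haveI : IsIntegral j'.image := isIntegral_image j'
  haveI : IsOpenImmersion j'.toImage := inferInstance
  set Γ := j'.image with hΓ
  set t : (U' : Scheme.{u}) ⟶ Γ := j'.toImage with ht
  set i : Γ ⟶ pullback pW pY := j'.imageι with hi
  have hti : t ≫ i = j' := j'.toImage_imageι
  set g : Γ ⟶ W := i ≫ q with hg
  have htg : t ≫ g = U'.ι := by rw [hg, ← Category.assoc, hti, hjq]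
  -- the point of Γ over z
  have hrange : Set.range i = closure (Set.range j') := by
    rw [hi, Scheme.Hom.imageι, Scheme.IdealSheafData.range_subschemeι, Scheme.Hom.support_ker]
  obtain ⟨zΓ, hzΓ'⟩ : ∃ zΓ : Γ, i zΓ = z := by
    have : z ∈ Set.range i := by rw [hrange]; exact hzΓ
    exact this
  -- an affine open neighbourhood N of zΓ
  obtain ⟨N, hN, hzN'⟩ : ∃ N : Γ.Opens, IsAffineOpen N ∧ zΓ ∈ N := by
    obtain ⟨_, ⟨N, hN : IsAffineOpen N, rfl⟩, hzN, -⟩ :=
      Γ.isBasis_affineOpens.exists_subset_of_mem_open (Set.mem_univ zΓ) isOpen_univ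
    exact ⟨N, hN, hzN⟩
  haveI : Nonempty (N : Scheme.{u}) := ⟨⟨zΓ, hzN'⟩⟩
  haveI : IsAffine (N : Scheme.{u}) := hN
  haveI : IsIntegral (N : Scheme.{u}) := isIntegral_of_isOpenImmersion N.ι
  set zN : (N : Scheme.{u}) := ⟨zΓ, hzN'⟩ with hzNdef
  set gN : (N : Scheme.{u}) ⟶ W := N.ι ≫ g with hgN
  haveI : QuasiCompact gN := inferInstance
  haveI : IsSeparated gN := inferInstance
  haveI : LocallyOfFiniteType gN := inferInstance
  have hgNz : gN zN = x := by
    show q (i (N.ι zN)) = x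
    have : N.ι zN = zΓ := rfl
    rw [this, hzΓ']; exact hz
  -- birationality of gN
  obtain ⟨hst, hgen⟩ : Function.Bijective (gN.stalkMap (genericPoint (N : Scheme.{u}))) ∧
      gN (genericPoint (N : Scheme.{u})) = genericPoint W := by
    obtain ⟨u₀, hu₀⟩ : ∃ u₀ : (U' : Scheme.{u}), t u₀ ∈ N :=
      t.denseRange.exists_mem_open N.isOpen ⟨zΓ, hzN'⟩
    haveI : Nonempty ((t ⁻¹ᵁ N : (U' : Scheme.{u}).Opens) : Scheme.{u}) := ⟨⟨u₀, hu₀⟩⟩
    haveI : IsIntegral ((t ⁻¹ᵁ N : (U' : Scheme.{u}).Opens) : Scheme.{u}) :=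
      isIntegral_of_isOpenImmersion (t ⁻¹ᵁ N).ι
    haveI : IsOpenImmersion ((t ∣_ N) ≫ gN) := by
      have e : (t ∣_ N) ≫ gN = (t ⁻¹ᵁ N).ι ≫ U'.ι := by
        rw [hgN, ← Category.assoc, morphismRestrict_ι, Category.assoc, htg]
      rw [e]; infer_instance
    exact birational_of_isOpenImmersion_comp (t ∣_ N) gN
  -- quasi-finiteness at zN
  have hqf : gN.QuasiFiniteAt zN := by
    refine quasiFiniteAt_of_isolated gN zN ((N.ι ≫ i) ⁻¹ᵁ O) ?_ ?_
    · show i (N.ι zN) ∈ O
      have : N.ι zN = zΓ := rfl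
      rw [this, hzΓ']; exact hzO
    · intro n hn hgn
      have h1 : i (N.ι n) ∈ O := hn
      have h2 : i (N.ι n) ∈ closure (Set.range j') := by
        rw [← hrange]; exact ⟨_, rfl⟩
      have h3 : q (i (N.ι n)) = x := by
        have : gN n = x := hgn.trans hgNz
        exact this
      have h4 : i (N.ι n) = z := hO _ h1 h2 h3
      have h5 : i (N.ι n) = i (N.ι zN) := by
        have : N.ι zN = zΓ := rfl
        rw [h4, this, hzΓ']
      have h6 : N.ι n = N.ι zN := i.isClosedEmbedding.injective h5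
      exact N.ι.isOpenEmbedding.injective h6
  have hNcl : IsIntegrallyClosed (W.presheaf.stalk (gN zN)) := by
    have : ∀ p : W, p = x → IsIntegrallyClosed (W.presheaf.stalk p) := by
      rintro _ rfl; exact hx
    exact this _ hgNz
  have hbij := stalkMap_bijective_of_quasiFiniteAt gN hst hgen zN hqf hNcl
  haveI hisoS : IsIso (gN.stalkMap zN) := (ConcreteCategory.isIso_iff_bijective _).mpr hbij
  set eY : (N : Scheme.{u}) ⟶ Y := N.ι ≫ i ≫ pullback.snd pW pY with heY
  have heYp : eY ≫ pY = gN ≫ pW := by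
    rw [heY, hgN, hg, hq]
    simp only [Category.assoc]
    rw [pullback.condition]
  set φ : Spec (W.presheaf.stalk (gN zN)) ⟶ Y :=
    Spec.map (inv (gN.stalkMap zN)) ≫ (N : Scheme.{u}).fromSpecStalk zN ≫ eY with hφdef
  have hφ : φ ≫ pY = W.fromSpecStalk (gN zN) ≫ pW := by
    rw [hφdef]
    simp only [Category.assoc]
    rw [heYp, ← Scheme.SpecMap_stalkMap_fromSpecStalk_assoc, ← Spec.map_comp_assoc,
      IsIso.hom_inv_id, Spec.map_id, Category.id_comp]
  obtain ⟨V₀, hxV₀, f₀, hφf, hf₀⟩ := spread_out_of_isGermInjective' pW pY φ hφ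
  -- agreement near zN
  have hz₀ : zN ∈ gN ⁻¹ᵁ V₀ := hxV₀
  set N₀ : (N : Scheme.{u}).Opens := gN ⁻¹ᵁ V₀ with hN₀
  haveI : Nonempty (N₀ : Scheme.{u}) := ⟨⟨zN, hz₀⟩⟩
  haveI : IsIntegral (N₀ : Scheme.{u}) := isIntegral_of_isOpenImmersion N₀.ι
  set a₁ : (N₀ : Scheme.{u}) ⟶ Y := N₀.ι ≫ eY with ha₁
  set a₂ : (N₀ : Scheme.{u}) ⟶ Y := (gN ∣_ V₀) ≫ f₀ with ha₂
  have hkey : N₀.fromSpecStalkOfMem zN hz₀ ≫ a₁ = N₀.fromSpecStalkOfMem zN hz₀ ≫ a₂ := by
    have h1 : N₀.fromSpecStalkOfMem zN hz₀ ≫ (gN ∣_ V₀) =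
        Spec.map (gN.stalkMap zN) ≫ V₀.fromSpecStalkOfMem (gN zN) hxV₀ := by
      rw [← cancel_mono V₀.ι]
      simp only [Category.assoc]
      rw [morphismRestrict_ι, Scheme.Opens.fromSpecStalkOfMem_ι_assoc,
        Scheme.Opens.fromSpecStalkOfMem_ι, Scheme.SpecMap_stalkMap_fromSpecStalk]
    have h2 : N₀.fromSpecStalkOfMem zN hz₀ ≫ a₁ = (N : Scheme.{u}).fromSpecStalk zN ≫ eY := by
      rw [ha₁, Scheme.Opens.fromSpecStalkOfMem_ι_assoc]
    have h3 : N₀.fromSpecStalkOfMem zN hz₀ ≫ a₂ = Spec.map (gN.stalkMap zN) ≫ φ := by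
      rw [ha₂, ← Category.assoc, h1, Category.assoc, ← hφf]
    have h4 : Spec.map (gN.stalkMap zN) ≫ φ = (N : Scheme.{u}).fromSpecStalk zN ≫ eY := by
      rw [hφdef, ← Spec.map_comp_assoc, IsIso.inv_hom_id, Spec.map_id, Category.id_comp]
    rw [h2, h3, h4]
  obtain ⟨N₁, hzN₁, hN₁⟩ := spread_out_unique_of_isGermInjective' (x := (⟨zN, hz₀⟩ : (N₀ : Scheme.{u})))
    a₁ a₂ (by
      rw [fromSpecStalk_eq_fromSpecStalkOfMem N₀ zN hz₀]
      simp only [Category.assoc]
      exact congrArg (CategoryStruct.comp _) hkey)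
  -- the final data
  set κ : (N₁ : Scheme.{u}) ⟶ Γ := N₁.ι ≫ N₀.ι ≫ N.ι with hκ
  refine ⟨V₀, f₀, ?_, hf₀, ?_, pullback t κ, pullback.fst t κ,
    pullback.snd t κ ≫ N₁.ι ≫ (gN ∣_ V₀), ?_, inferInstance, ?_, ?_⟩
  · have : ∀ p : W, gN zN = p → p ∈ V₀ := by
      rintro _ rfl; exact hxV₀
    exact this _ hgNz
  · have key : ∀ p : W, gN zN = p → ∀ hp : p ∈ V₀, f₀ ⟨p, hp⟩ = pullback.snd pW pY z := by
      rintro _ rfl hp
      -- the closed point maps to the point `gN zN` of `V₀`
      have hcp : V₀.fromSpecStalkOfMem (gN zN) hxV₀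
          (IsLocalRing.closedPoint (W.presheaf.stalk (gN zN))) = ⟨gN zN, hp⟩ := by
        apply V₀.ι.isOpenEmbedding.injective
        have h1 : (V₀.fromSpecStalkOfMem (gN zN) hxV₀ ≫ V₀.ι)
            (IsLocalRing.closedPoint (W.presheaf.stalk (gN zN))) = gN zN := by
          rw [Scheme.Opens.fromSpecStalkOfMem_ι]
          exact Scheme.fromSpecStalk_closedPoint
        exact h1
      have h2 : f₀ ⟨gN zN, hp⟩ = φ (IsLocalRing.closedPoint (W.presheaf.stalk (gN zN))) := by
        rw [hφf, ← hcp]; rfl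
      rw [h2]
      have h3 : Spec.map (inv (gN.stalkMap zN))
          (IsLocalRing.closedPoint (W.presheaf.stalk (gN zN))) =
          IsLocalRing.closedPoint ((N : Scheme.{u}).presheaf.stalk zN) :=
        IsLocalRing.comap_closedPoint (inv (gN.stalkMap zN)).hom
      have h4 : φ (IsLocalRing.closedPoint (W.presheaf.stalk (gN zN))) =
          eY ((N : Scheme.{u}).fromSpecStalk zN (Spec.map (inv (gN.stalkMap zN))
            (IsLocalRing.closedPoint (W.presheaf.stalk (gN zN))))) := rfl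
      rw [h4, h3, Scheme.fromSpecStalk_closedPoint]
      show pullback.snd pW pY (i (N.ι zN)) = _
      have : N.ι zN = zΓ := rfl
      rw [this, hzΓ']
    exact key _ hgNz
  · obtain ⟨u, n, hun⟩ : ∃ (u : (U' : Scheme.{u})) (n : (N₁ : Scheme.{u})), t u = κ n := by
      obtain ⟨u, n, hn⟩ := t.denseRange.exists_mem_open κ.isOpenEmbedding.isOpen_range
        ⟨_, ⟨⟨⟨zN, hz₀⟩, hzN₁⟩, rfl⟩⟩
      exact ⟨u, n, hn.symm⟩
    obtain ⟨w, -, -⟩ := Scheme.Pullback.exists_preimage_pullback u n hun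
    exact ⟨w⟩
  · have hc : pullback.fst t κ ≫ t = pullback.snd t κ ≫ κ := pullback.condition
    calc pullback.fst t κ ≫ U'.ι = pullback.fst t κ ≫ t ≫ g := by rw [htg]
      _ = pullback.snd t κ ≫ κ ≫ g := by rw [← Category.assoc, hc, Category.assoc]
      _ = (pullback.snd t κ ≫ N₁.ι ≫ (gN ∣_ V₀)) ≫ V₀.ι := by
        have e1 : (gN ∣_ V₀) ≫ V₀.ι = N₀.ι ≫ N.ι ≫ g := morphismRestrict_ι gN V₀
        simp only [Category.assoc]
        rw [e1, hκ]
        simp only [Category.assoc]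
  · have hc : pullback.fst t κ ≫ t = pullback.snd t κ ≫ κ := pullback.condition
    calc pullback.fst t κ ≫ h' = pullback.fst t κ ≫ t ≫ i ≫ pullback.snd pW pY := by
          rw [← hjs, ← hti]; simp only [Category.assoc]
      _ = pullback.snd t κ ≫ κ ≫ i ≫ pullback.snd pW pY := by
          rw [← Category.assoc, hc, Category.assoc]
      _ = pullback.snd t κ ≫ N₁.ι ≫ a₁ := by
          rw [ha₁, heY, hκ]; simp only [Category.assoc]
      _ = pullback.snd t κ ≫ N₁.ι ≫ a₂ := by rw [hN₁]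
      _ = (pullback.snd t κ ≫ N₁.ι ≫ (gN ∣_ V₀)) ≫ f₀ := by
          rw [ha₂]; simp only [Category.assoc]

theorem exists_extension_of_isolated {W Y S : Scheme.{u}} [IsIntegral W] [IsAffine W]
    (pW : W ⟶ S) (pY : Y ⟶ S) [LocallyOfFiniteType pY] [IsSeparated pY]
    (U' : W.Opens) (hU' : IsAffineOpen U') (hne : (U' : Set W).Nonempty)
    (h' : (U' : Scheme.{u}) ⟶ Y) (hh' : U'.ι ≫ pW = h' ≫ pY)
    (x : W) (hx : IsIntegrallyClosed (W.presheaf.stalk x))
    (z : ↥(pullback pW pY)) (hz : pullback.fst pW pY z = x)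
    (hzΓ : z ∈ closure (Set.range (pullback.lift U'.ι h' hh')))
    (O : (pullback pW pY).Opens) (hzO : z ∈ O)
    (hO : ∀ p ∈ O, p ∈ closure (Set.range (pullback.lift U'.ι h' hh')) →
      pullback.fst pW pY p = x → p = z) :
    ∃ (V₀ : W.Opens) (f₀ : (V₀ : Scheme.{u}) ⟶ Y), x ∈ V₀ ∧ f₀ ≫ pY = V₀.ι ≫ pW ∧
      ∃ (T : Scheme.{u}) (a : T ⟶ (U' : Scheme.{u})) (b : T ⟶ (V₀ : Scheme.{u})),
        Nonempty T ∧ IsOpenImmersion a ∧ a ≫ U'.ι = b ≫ V₀.ι ∧ a ≫ h' = b ≫ f₀ := by
  obtain ⟨V₀, f₀, h1, h2, -, h3⟩ :=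
    exists_extension_of_isolated' pW pY U' hU' hne h' hh' x hx z hz hzΓ O hzO hO
  exact ⟨V₀, f₀, h1, h2, h3⟩

end Groth.Agent.H72.ZMTRat
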