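import Groth.Agent.H72.ZMTRat

/-!
# Rational maps defined at a normal point with an isolated point in the graph fibre, global form
(helper72)
-/

set_option autoImplicit false
set_option linter.style.haveILetI false
universe u
open AlgebraicGeometry CategoryTheory CategoryTheory.Limits

namespace Groth.Agent.H72.ZMTRat

/-- density lemma for the closure of a graph -/
theorem mem_closure_image_of_dense {X P : Scheme.{u}} (U : X.Opens) (j : (U : Scheme.{u}) ⟶ P)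
    (fst : P ⟶ X) (hj : j ≫ fst = U.ι) (W : X.Opens) (hW : IsPreirreducible (W : Set X))
    (D : X.Opens) (hDW : D ≤ W) (hD : (D : Set X).Nonempty)
    (z : P) (hz : z ∈ closure (Set.range j)) (hzW : fst z ∈ W) :
    z ∈ closure (j '' {u | u.1 ∈ D}) := by
  rw [mem_closure_iff]
  intro o ho hzo
  have ho' : IsOpen (o ∩ fst ⁻¹' (W : Set X)) := ho.inter (W.isOpen.preimage fst.continuous)
  obtain ⟨_, ⟨hpo, hpW⟩, ⟨u, rfl⟩⟩ := mem_closure_iff.mp hz _ ho' ⟨hzo, hzW⟩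
  have hfu : fst (j u) = u.1 := by
    rw [← Scheme.Hom.comp_apply, hj]; rfl
  have hOX : IsOpen (U.ι '' (j ⁻¹' o)) := U.ι.isOpenEmbedding.isOpenMap _ (ho.preimage j.continuous)
  have h1 : ((W : Set X) ∩ (U.ι '' (j ⁻¹' o))).Nonempty :=
    ⟨u.1, by rw [← hfu]; exact hpW, ⟨u, hpo, rfl⟩⟩
  have h2 : ((W : Set X) ∩ (D : Set X)).Nonempty := by
    obtain ⟨d, hd⟩ := hD
    exact ⟨d, hDW hd, hd⟩
  obtain ⟨y, -, ⟨u', hu'o, rfl⟩, hyD⟩ := hW _ _ hOX D.isOpen h1 h2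
  exact ⟨j u', hu'o, ⟨u', hyD, rfl⟩⟩


set_option backward.isDefEq.respectTransparency.types false in
theorem extends_nhd'' {X Y S : Scheme.{u}} (pX : X ⟶ S) (pY : Y ⟶ S)
    [LocallyOfFiniteType pY] [IsSeparated pY] (x : ↥X)
    (U : X.Opens) (hU : x ∈ closure (U : Set ↥X)) (h : (U : Scheme.{u}) ⟶ Y)
    (hh : U.ι ≫ pX = h ≫ pY)
    (hXx : ∃ W : X.Opens, x ∈ W ∧ IsIntegral (W : Scheme.{u}))
    (hx : IsIntegrallyClosed (X.presheaf.stalk x))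
    (z : ↥(pullback pX pY)) (hz : pullback.fst pX pY z = x)
    (hzΓ : z ∈ closure (Set.range (pullback.lift U.ι h hh)))
    (hiso : ∃ W : (pullback pX pY).Opens,
      (W : Set ↥(pullback pX pY)) ∩ closure (Set.range (pullback.lift U.ι h hh)) ∩
      (pullback.fst pX pY) ⁻¹' {x} = {z}) :
    ∃ (V : X.Opens) (v : (V : Scheme.{u}) ⟶ Y), x ∈ V ∧ v ≫ pY = V.ι ≫ pX ∧
      (∀ hxV : x ∈ V, v ⟨x, hxV⟩ = pullback.snd pX pY z) ∧
      X.homOfLE (inf_le_right : U ⊓ V ≤ V) ≫ v = X.homOfLE (inf_le_left : U ⊓ V ≤ U) ≫ h := by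
  obtain ⟨W₀, hxW₀, hW₀int⟩ := hXx
  obtain ⟨W, hWaff, hxW, hWW₀⟩ : ∃ W : X.Opens, IsAffineOpen W ∧ x ∈ W ∧ W ≤ W₀ := by
    obtain ⟨_, ⟨W, hW : IsAffineOpen W, rfl⟩, hxW, hWW₀⟩ :=
      X.isBasis_affineOpens.exists_subset_of_mem_open hxW₀ W₀.isOpen
    exact ⟨W, hW, hxW, hWW₀⟩
  haveI : Nonempty (W : Scheme.{u}) := ⟨⟨x, hxW⟩⟩
  haveI : IsIntegral (W : Scheme.{u}) := isIntegral_of_isOpenImmersion (X.homOfLE hWW₀)
  haveI : IsAffine (W : Scheme.{u}) := hWaff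
  -- an affine open U' of W inside U
  obtain ⟨U', hU'aff, hU'ne, hU'U⟩ : ∃ U' : (W : Scheme.{u}).Opens,
      IsAffineOpen U' ∧ (U' : Set (W : Scheme.{u})).Nonempty ∧ U' ≤ W.ι ⁻¹ᵁ U := by
    obtain ⟨y, hyU, hyW⟩ := mem_closure_iff.mp hU W W.isOpen hxW
    obtain ⟨_, ⟨U', hU' : IsAffineOpen U', rfl⟩, hyU', hU'U⟩ :=
      (W : Scheme.{u}).isBasis_affineOpens.exists_subset_of_mem_open
        (show (⟨y, hyU⟩ : (W : Scheme.{u})) ∈ (W.ι ⁻¹ᵁ U : (W : Scheme.{u}).Opens) from hyW)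
        (W.ι ⁻¹ᵁ U).isOpen
    exact ⟨U', hU', ⟨_, hyU'⟩, hU'U⟩
  -- the morphism U' → U
  have hcr : Set.range (U'.ι ≫ W.ι) ⊆ Set.range U.ι := by
    rintro _ ⟨u, rfl⟩
    have : W.ι (U'.ι u) ∈ U := hU'U u.2
    rw [Scheme.Opens.range_ι]
    exact this
  set c : (U' : Scheme.{u}) ⟶ (U : Scheme.{u}) := IsOpenImmersion.lift U.ι (U'.ι ≫ W.ι) hcr with hcdef
  have hc : c ≫ U.ι = U'.ι ≫ W.ι := IsOpenImmersion.lift_fac _ _ _
  set h' : (U' : Scheme.{u}) ⟶ Y := c ≫ h with hh'def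
  have hh' : U'.ι ≫ (W.ι ≫ pX) = h' ≫ pY := by
    rw [hh'def, Category.assoc, ← hh, ← Category.assoc, ← Category.assoc, hc]
  -- the open immersion of pullbacks
  set e : pullback (W.ι ≫ pX) pY ⟶ pullback pX pY :=
    pullback.map (W.ι ≫ pX) pY pX pY W.ι (𝟙 Y) (𝟙 S) (by simp) (by simp) with hedef
  haveI : IsOpenImmersion e := inferInstance
  have he1 : e ≫ pullback.fst pX pY = pullback.fst (W.ι ≫ pX) pY ≫ W.ι :=
    pullback.lift_fst _ _ _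
  have he2 : e ≫ pullback.snd pX pY = pullback.snd (W.ι ≫ pX) pY :=
    (pullback.lift_snd _ _ _).trans (Category.comp_id _)
  have hrange_e : Set.range e = (pullback.fst pX pY) ⁻¹' (W : Set X) := by
    rw [hedef, Scheme.Pullback.range_map]
    simp
  set j : (U : Scheme.{u}) ⟶ pullback pX pY := pullback.lift U.ι h hh with hjdef
  set j'' : (U' : Scheme.{u}) ⟶ pullback (W.ι ≫ pX) pY := pullback.lift U'.ι h' hh' with hj''def
  have hjfst : j ≫ pullback.fst pX pY = U.ι := pullback.lift_fst _ _ _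
  have hje : j'' ≫ e = c ≫ j := by
    apply pullback.hom_ext
    · rw [Category.assoc, he1, Category.assoc, hjfst, hc, hj''def, pullback.lift_fst_assoc]
    · rw [Category.assoc, he2, Category.assoc, hjdef, pullback.lift_snd, pullback.lift_snd]
  -- the point z' over z
  obtain ⟨z', hz'⟩ : ∃ z' : ↥(pullback (W.ι ≫ pX) pY), e z' = z := by
    have : z ∈ Set.range e := by
      rw [hrange_e]
      show pullback.fst pX pY z ∈ W
      rw [hz]; exact hxW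
    exact this
  set xW : (W : Scheme.{u}) := ⟨x, hxW⟩ with hxWdef
  have hfe : ∀ p' : ↥(pullback (W.ι ≫ pX) pY),
      pullback.fst pX pY (e p') = W.ι (pullback.fst (W.ι ≫ pX) pY p') := by
    intro p'
    rw [← Scheme.Hom.comp_apply, he1, Scheme.Hom.comp_apply]
  have hz'x : pullback.fst (W.ι ≫ pX) pY z' = xW := by
    apply W.ι.isOpenEmbedding.injective
    rw [← hfe, hz', hz]; rfl
  -- range of c
  have hrc : e '' (Set.range j'') = j '' {u | u.1 ∈ W.ι ''ᵁ U'} := by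
    rw [← Set.range_comp]
    have : (e : _ → _) ∘ (j'' : _ → _) = (j : _ → _) ∘ (c : _ → _) := by
      funext u
      show e (j'' u) = j (c u)
      rw [← Scheme.Hom.comp_apply, hje, Scheme.Hom.comp_apply]
    rw [this, Set.range_comp]
    congr 1
    ext u
    constructor
    · rintro ⟨u', rfl⟩
      refine ⟨U'.ι u', u'.2, ?_⟩
      have h1 : (U'.ι ≫ W.ι) u' = (c ≫ U.ι) u' := by rw [hc]
      exact h1
    · rintro ⟨w, hw, hwu⟩
      refine ⟨⟨w, hw⟩, ?_⟩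
      apply U.ι.isOpenEmbedding.injective
      have h1 : (c ≫ U.ι) ⟨w, hw⟩ = (U'.ι ≫ W.ι) ⟨w, hw⟩ := by rw [hc]
      exact h1.trans hwu
  have hWirr : IsPreirreducible (W : Set X) := by
    haveI : IrreducibleSpace (W : Set X) :=
      inferInstanceAs (IrreducibleSpace (W : Scheme.{u}))
    exact IsPreirreducible.of_subtype
  have hzcl : z' ∈ closure (Set.range j'') := by
    rw [e.isOpenEmbedding.isInducing.closure_eq_preimage_closure_image, Set.mem_preimage, hz', hrc]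
    refine mem_closure_image_of_dense U j (pullback.fst pX pY) hjfst W hWirr (W.ι ''ᵁ U') ?_ ?_ z
      hzΓ ?_
    · rintro _ ⟨w, -, rfl⟩
      exact w.2
    · obtain ⟨u, hu⟩ := hU'ne
      exact ⟨W.ι u, u, hu, rfl⟩
    · rw [hz]; exact hxW
  -- isolation
  obtain ⟨O, hO⟩ := hiso
  have hzO : z ∈ O := by
    have : z ∈ (O : Set ↥(pullback pX pY)) ∩ closure (Set.range j) ∩
        (pullback.fst pX pY) ⁻¹' {x} := by rw [hO]; rfl
    exact this.1.1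
  have hO' : ∀ p' ∈ e ⁻¹ᵁ O, p' ∈ closure (Set.range j'') →
      pullback.fst (W.ι ≫ pX) pY p' = xW → p' = z' := by
    intro p' hp'O hp'cl hp'x
    apply e.isOpenEmbedding.injective
    rw [hz']
    have hmem : e p' ∈ (O : Set ↥(pullback pX pY)) ∩ closure (Set.range j) ∩
        (pullback.fst pX pY) ⁻¹' {x} := by
      refine ⟨⟨hp'O, ?_⟩, ?_⟩
      · have h1 : e p' ∈ closure (e '' Set.range j'') :=
          image_closure_subset_closure_image e.continuous ⟨p', hp'cl, rfl⟩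
        refine closure_mono ?_ h1
        rw [hrc]
        exact Set.image_subset_range _ _
      · show pullback.fst pX pY (e p') = x
        rw [hfe, hp'x]; rfl
    rw [hO] at hmem
    exact hmem
  have hx' : IsIntegrallyClosed ((W : Scheme.{u}).presheaf.stalk xW) :=
    IsIntegrallyClosed.of_equiv (W.stalkIso xW).symm.commRingCatIsoToRingEquiv
  obtain ⟨V₀, f₀, hxV₀, hf₀, hf₀x, T, a, b, hT, ha, hab, habf⟩ :=
    exists_extension_of_isolated' (W.ι ≫ pX) pY U' hU'aff hU'ne h' hh' xW hx' z' hz'x hzcl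
      (e ⁻¹ᵁ O) (by show e z' ∈ O; rw [hz']; exact hzO) hO'
  -- the final morphism
  set V : X.Opens := W.ι ''ᵁ V₀ with hVdef
  set v : (V : Scheme.{u}) ⟶ Y := (W.ι.isoImage V₀).inv ≫ f₀ with hvdef
  have hvι : (W.ι.isoImage V₀).inv ≫ V₀.ι ≫ W.ι = V.ι := W.ι.isoImage_inv_ι V₀
  have hVW : V ≤ W := by
    rintro _ ⟨w, -, rfl⟩
    exact w.2
  refine ⟨V, v, ⟨xW, hxV₀, rfl⟩, ?_, ?_, ?_⟩
  · rw [hvdef, Category.assoc, hf₀, ← hvι]
    simp only [Category.assoc]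
  · intro hxV
    have h1 : (W.ι.isoImage V₀).inv ⟨x, hxV⟩ = ⟨xW, hxV₀⟩ := by
      apply (V₀.ι ≫ W.ι).isOpenEmbedding.injective
      have h2 : ((W.ι.isoImage V₀).inv ≫ V₀.ι ≫ W.ι) ⟨x, hxV⟩ = V.ι ⟨x, hxV⟩ := by rw [hvι]
      exact h2
    have h3 : v ⟨x, hxV⟩ = f₀ ((W.ι.isoImage V₀).inv ⟨x, hxV⟩) := rfl
    rw [h3, h1, hf₀x hxV₀]
    have h4 : (e ≫ pullback.snd pX pY) z' = pullback.snd (W.ι ≫ pX) pY z' := by rw [he2]
    rw [← h4, Scheme.Hom.comp_apply, hz']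
  -- agreement on U ⊓ V
  have hιr : Set.range (a ≫ U'.ι ≫ W.ι) ⊆ Set.range (U ⊓ V).ι := by
    rintro _ ⟨τ, rfl⟩
    rw [Scheme.Opens.range_ι]
    refine ⟨?_, ?_⟩
    · have h1 : (a ≫ U'.ι ≫ W.ι) τ = (a ≫ c ≫ U.ι) τ := by rw [hc]
      rw [h1]
      exact (c (a τ)).2
    · have h1 : (a ≫ U'.ι ≫ W.ι) τ = (b ≫ V₀.ι ≫ W.ι) τ := by
        rw [← Category.assoc, hab, Category.assoc]
      rw [h1]
      exact ⟨V₀.ι (b τ), (b τ).2, rfl⟩
  set ι : T ⟶ ((U ⊓ V : X.Opens) : Scheme.{u}) :=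
    IsOpenImmersion.lift (U ⊓ V).ι (a ≫ U'.ι ≫ W.ι) hιr with hιdef
  have hι : ι ≫ (U ⊓ V).ι = a ≫ U'.ι ≫ W.ι := IsOpenImmersion.lift_fac _ _ _
  haveI : IsOpenImmersion a := ha
  haveI : IsOpenImmersion ι := by
    haveI : IsOpenImmersion (ι ≫ (U ⊓ V).ι) := by rw [hι]; infer_instance
    exact IsOpenImmersion.of_comp ι (U ⊓ V).ι
  obtain ⟨τ₀⟩ := hT
  haveI : Nonempty ((U ⊓ V : X.Opens) : Scheme.{u}) := ⟨ι τ₀⟩
  haveI : IsIntegral ((U ⊓ V : X.Opens) : Scheme.{u}) :=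
    isIntegral_of_isOpenImmersion (X.homOfLE (inf_le_right.trans hVW : U ⊓ V ≤ W))
  haveI : IsDominant ι := by
    refine ⟨?_⟩
    exact (ι.isOpenEmbedding.isOpen_range).dense ⟨ι τ₀, τ₀, rfl⟩
  refine ext_of_isDominant_of_isSeparated pY ?_ ι ?_
  · have hL : (X.homOfLE (inf_le_right : U ⊓ V ≤ V) ≫ v) ≫ pY = (U ⊓ V).ι ≫ pX := by
      calc (X.homOfLE (inf_le_right : U ⊓ V ≤ V) ≫ v) ≫ pY
          = X.homOfLE (inf_le_right : U ⊓ V ≤ V) ≫
              ((W.ι.isoImage V₀).inv ≫ V₀.ι ≫ W.ι) ≫ pX := by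
            rw [hvdef]; simp only [Category.assoc]; rw [hf₀]
        _ = (U ⊓ V).ι ≫ pX := by rw [hvι, ← Category.assoc, X.homOfLE_ι]
    have hR : (X.homOfLE (inf_le_left : U ⊓ V ≤ U) ≫ h) ≫ pY = (U ⊓ V).ι ≫ pX := by
      rw [Category.assoc, ← hh, ← Category.assoc, X.homOfLE_ι]
    rw [hL, hR]
  · have h1 : ι ≫ X.homOfLE (inf_le_left : U ⊓ V ≤ U) = a ≫ c := by
      rw [← cancel_mono U.ι, Category.assoc, X.homOfLE_ι, hι, Category.assoc, hc]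
    have h2 : ι ≫ X.homOfLE (inf_le_right : U ⊓ V ≤ V) ≫ (W.ι.isoImage V₀).inv = b := by
      rw [← cancel_mono (V₀.ι ≫ W.ι)]
      simp only [Category.assoc]
      rw [hvι, X.homOfLE_ι, hι, ← Category.assoc, hab, Category.assoc]
    calc ι ≫ X.homOfLE (inf_le_right : U ⊓ V ≤ V) ≫ v
        = (ι ≫ X.homOfLE (inf_le_right : U ⊓ V ≤ V) ≫ (W.ι.isoImage V₀).inv) ≫ f₀ := by
          rw [hvdef]; simp only [Category.assoc]
      _ = b ≫ f₀ := by rw [h2]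
      _ = a ≫ h' := habf.symm
      _ = (a ≫ c) ≫ h := by rw [hh'def, Category.assoc]
      _ = ι ≫ X.homOfLE (inf_le_left : U ⊓ V ≤ U) ≫ h := by rw [← h1, Category.assoc]

theorem extends_nhd' {X Y S : Scheme.{u}} (pX : X ⟶ S) (pY : Y ⟶ S)
    [LocallyOfFiniteType pY] [IsSeparated pY]
    (U : X.Opens) (hU : Dense (U : Set ↥X)) (h : (U : Scheme.{u}) ⟶ Y) (hh : U.ι ≫ pX = h ≫ pY)
    (x : ↥X) (hXx : ∃ W : X.Opens, x ∈ W ∧ IsIntegral (W : Scheme.{u}))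
    (hx : IsIntegrallyClosed (X.presheaf.stalk x))
    (z : ↥(pullback pX pY)) (hz : pullback.fst pX pY z = x)
    (hzΓ : z ∈ closure (Set.range (pullback.lift U.ι h hh)))
    (hiso : ∃ W : (pullback pX pY).Opens,
      (W : Set ↥(pullback pX pY)) ∩ closure (Set.range (pullback.lift U.ι h hh)) ∩
      (pullback.fst pX pY) ⁻¹' {x} = {z}) :
    ∃ (V : X.Opens) (v : (V : Scheme.{u}) ⟶ Y), x ∈ V ∧ v ≫ pY = V.ι ≫ pX ∧
      X.homOfLE (inf_le_right : U ⊓ V ≤ V) ≫ v = X.homOfLE (inf_le_left : U ⊓ V ≤ U) ≫ h := by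
  obtain ⟨V, v, hxV, hv, -, hvU⟩ :=
    extends_nhd'' pX pY x U (hU.closure_eq ▸ Set.mem_univ x) h hh hXx hx z hz hzΓ hiso
  exact ⟨V, v, hxV, hv, hvU⟩

theorem extends_nhd {X Y S : Scheme.{u}} (pX : X ⟶ S) (pY : Y ⟶ S)
    [LocallyOfFiniteType pY] [IsSeparated pY]
    (hX : ∀ y : ↥X, ∃ W : X.Opens, y ∈ W ∧ IsIntegral (W : Scheme.{u}))
    (U : X.Opens) (hU : Dense (U : Set ↥X)) (h : (U : Scheme.{u}) ⟶ Y) (hh : U.ι ≫ pX = h ≫ pY)
    (x : ↥X) (hx : IsIntegrallyClosed (X.presheaf.stalk x))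
    (z : ↥(pullback pX pY)) (hz : pullback.fst pX pY z = x)
    (hzΓ : z ∈ closure (Set.range (pullback.lift U.ι h hh)))
    (hiso : ∃ W : (pullback pX pY).Opens,
      (W : Set ↥(pullback pX pY)) ∩ closure (Set.range (pullback.lift U.ι h hh)) ∩
      (pullback.fst pX pY) ⁻¹' {x} = {z}) :
    ∃ (V : X.Opens) (v : (V : Scheme.{u}) ⟶ Y), x ∈ V ∧ v ≫ pY = V.ι ≫ pX ∧
      X.homOfLE (inf_le_right : U ⊓ V ≤ V) ≫ v = X.homOfLE (inf_le_left : U ⊓ V ≤ U) ≫ h :=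
  extends_nhd' pX pY U hU h hh x (hX x) hx z hz hzΓ hiso

end Groth.Agent.H72.ZMTRat
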