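import Mathlib
import Groth.Agent.H72.FinExtAff

/-!
# Lemmas for the finitely presented form of Zariski's main theorem over a qcqs base (helper72)
-/

set_option autoImplicit false
universe u

open CategoryTheory CategoryTheory.Limits AlgebraicGeometry

namespace Groth.Agent.H72.ZMTfpGlobal

open Groth.Agent.H72.FinExt

/-- an open immersion is an isomorphism over any open contained in its range -/
theorem isIso_morphismRestrict_of_le_opensRange {X T : Scheme.{u}} (j : X ⟶ T)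
    [IsOpenImmersion j] (E : T.Opens) (hE : E ≤ j.opensRange) : IsIso (j ∣_ E) := by
  haveI : Epi (j ∣_ E).base := by
    rw [TopCat.epi_iff_surjective]
    rintro ⟨t, ht⟩
    obtain ⟨x, rfl⟩ := hE ht
    refine ⟨⟨x, ht⟩, ?_⟩
    apply Subtype.ext
    exact morphismRestrict_base_coe j E ⟨x, ht⟩
  exact IsOpenImmersion.isIso _

/-- a morphism which is an isomorphism over each member of a family of opens whose preimages
cover the source is an open immersion -/
theorem isOpenImmersion_of_isIso_morphismRestrict {X T : Scheme.{u}} (j : X ⟶ T) {J : Type u}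
    (D : J → T.Opens) (h : ∀ α, IsIso (j ∣_ D α)) (hcov : j ⁻¹ᵁ (⨆ α, D α) = ⊤) :
    IsOpenImmersion j := by
  let V : T.Opens := ⨆ α, D α
  haveI hisoV : IsIso (j ∣_ V) := isIso_morphismRestrict_iSup j _ h
  have hsub : Set.range (𝟙 X : X ⟶ X) ⊆ Set.range (j ⁻¹ᵁ V).ι := by
    rw [Scheme.Opens.range_ι, hcov]
    intro x _
    trivial
  let l : X ⟶ (j ⁻¹ᵁ V) := IsOpenImmersion.lift (j ⁻¹ᵁ V).ι (𝟙 X) hsub
  have hl : l ≫ (j ⁻¹ᵁ V).ι = 𝟙 X := IsOpenImmersion.lift_fac _ _ _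
  haveI : IsOpenImmersion l := by
    haveI : IsOpenImmersion (l ≫ (j ⁻¹ᵁ V).ι) := by rw [hl]; infer_instance
    exact IsOpenImmersion.of_comp l (j ⁻¹ᵁ V).ι
  have hjT : l ≫ (j ∣_ V) ≫ V.ι = j := by
    rw [morphismRestrict_ι, ← Category.assoc, hl, Category.id_comp]
  rw [← hjT]
  infer_instance

set_option backward.isDefEq.respectTransparency.types false in
/-- the ideal of a closed subscheme is finitely generated over an affine open where the closed
subscheme coincides with an open subscheme of finite presentation -/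
theorem fg_ker_ideal {X T₀ W S : Scheme.{u}} (j₀ : X ⟶ T₀) [IsOpenImmersion j₀] (c : T₀ ⟶ W)
    [IsClosedImmersion c] (p : W ⟶ S) [LocallyOfFinitePresentation p]
    [LocallyOfFinitePresentation (j₀ ≫ c ≫ p)] (U : S.Opens) (hU : IsAffineOpen U) (V : W.Opens)
    (hV : IsAffineOpen V) (hVU : V ≤ p ⁻¹ᵁ U) (hle : c ⁻¹ᵁ V ≤ j₀.opensRange) :
    (c.ker.ideal ⟨V, hV⟩).FG := by
  have hE : IsAffineOpen (c ⁻¹ᵁ V) := hV.preimage c
  have hX : IsAffineOpen (j₀ ⁻¹ᵁ c ⁻¹ᵁ V) := by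
    rw [← Scheme.Hom.isAffineOpen_iff_of_isOpenImmersion j₀]
    have : j₀ ''ᵁ (j₀ ⁻¹ᵁ c ⁻¹ᵁ V) = c ⁻¹ᵁ V := by
      rw [Scheme.Hom.image_preimage_eq_opensRange_inf]
      exact inf_eq_right.mpr hle
    rw [this]
    exact hE
  have hXU : j₀ ⁻¹ᵁ c ⁻¹ᵁ V ≤ (j₀ ≫ c ≫ p) ⁻¹ᵁ U := by
    intro x hx
    exact hVU hx
  have h1 := HasRingHomProperty.appLE (P := @LocallyOfFinitePresentation) (f := j₀ ≫ c ≫ p)
    inferInstance ⟨U, hU⟩ ⟨j₀ ⁻¹ᵁ c ⁻¹ᵁ V, hX⟩ hXU
  have h2 : (j₀ ≫ c ≫ p).appLE U (j₀ ⁻¹ᵁ c ⁻¹ᵁ V) hXU =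
      (p.appLE U V hVU ≫ c.app V) ≫ j₀.app (c ⁻¹ᵁ V) := by
    rw [Scheme.Hom.app_eq_appLE, Scheme.Hom.app_eq_appLE, Scheme.Hom.appLE_comp_appLE,
      Scheme.Hom.appLE_comp_appLE]
  haveI : IsIso (j₀.app (c ⁻¹ᵁ V)) := Scheme.Hom.isIso_app j₀ _ hle
  rw [h2, CommRingCat.hom_comp, RingHom.finitePresentation_respectsIso.cancel_right_isIso] at h1
  have h3 : (p.appLE U V hVU).hom.FinitePresentation :=
    HasRingHomProperty.appLE (P := @LocallyOfFinitePresentation) (f := p)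
      inferInstance ⟨U, hU⟩ ⟨V, hV⟩ hVU
  have hsurj : Function.Surjective (c.app V).hom := c.app_surjective V hV
  rw [Scheme.Hom.ker_apply]
  -- algebra structures
  let A := Γ(S, U)
  let Bv := Γ(W, V)
  let Cv := Γ(T₀, c ⁻¹ᵁ V)
  letI algB : Algebra A Bv := (p.appLE U V hVU).hom.toAlgebra
  letI algC : Algebra A Cv := ((c.app V).hom.comp (p.appLE U V hVU).hom).toAlgebra
  let ψ : Bv →ₐ[A] Cv := { (c.app V).hom with commutes' := fun r => rfl }
  haveI : Algebra.FinitePresentation A Bv := h3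
  haveI : Algebra.FinitePresentation A Cv := by
    rw [CommRingCat.hom_comp] at h1
    exact h1
  exact Algebra.FinitePresentation.ker_fG_of_surjective ψ hsurj

/-- a quasi-compact open part of a closed subscheme is covered by finitely many traces of basic
opens of an ambient affine open -/
theorem exists_finset_basicOpen_cover {T₀ W : Scheme.{u}} (c : T₀ ⟶ W) [IsClosedImmersion c]
    (R : T₀.Opens) (WU : W.Opens) (hWU : IsAffineOpen WU)
    (hcomp : IsCompact ((R ⊓ c ⁻¹ᵁ WU : T₀.Opens) : Set T₀)) :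
    ∃ G : Finset Γ(W, WU), (∀ g ∈ G, c ⁻¹ᵁ (W.basicOpen g) ≤ R) ∧
      R ⊓ c ⁻¹ᵁ WU ≤ ⨆ g : G, c ⁻¹ᵁ (W.basicOpen g.1) := by
  classical
  obtain ⟨O, hO, hOR⟩ := c.isClosedEmbedding.isInducing.isOpen_iff.mp R.2
  let O' : W.Opens := ⟨O, hO⟩
  have hex : ∀ t : T₀, t ∈ ((R ⊓ c ⁻¹ᵁ WU : T₀.Opens) : Set T₀) →
      ∃ g : Γ(W, WU), W.basicOpen g ≤ O' ∧ c t ∈ W.basicOpen g := by
    intro t ht
    have h1 : c t ∈ O' := by
      have : t ∈ c ⁻¹' O := by rw [hOR]; exact ht.1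
      exact this
    exact hWU.exists_basicOpen_le (V := O') ⟨c t, h1⟩ ht.2
  choose! g hgO hgt using hex
  obtain ⟨F, hFs, hFcov⟩ := hcomp.elim_nhds_subcover
    (fun t => ((c ⁻¹ᵁ (W.basicOpen (g t)) : T₀.Opens) : Set T₀))
    (fun t ht => (c ⁻¹ᵁ (W.basicOpen (g t))).2.mem_nhds (hgt t ht))
  refine ⟨F.image g, ?_, ?_⟩
  · intro g' hg'
    obtain ⟨t, ht, rfl⟩ := Finset.mem_image.mp hg'
    intro x hx
    have h1 : c x ∈ O' := hgO t (hFs t ht) hx
    have : x ∈ c ⁻¹' O := h1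
    rw [hOR] at this
    exact this
  · intro x hx
    obtain ⟨t, ht, hxt⟩ := Set.mem_iUnion₂.mp (hFcov hx)
    exact TopologicalSpace.Opens.mem_iSup.mpr ⟨⟨g t, Finset.mem_image_of_mem g ht⟩, hxt⟩

set_option backward.isDefEq.respectTransparency.types false in
/-- a closed immersion into `V(K)` is an isomorphism over an affine open of the ambient scheme on
which its ideal agrees with `K` -/
theorem isIso_morphismRestrict_of_ideal_eq {T₀ W : Scheme.{u}} (K : W.IdealSheafData)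
    (cK : T₀ ⟶ K.subscheme) [IsClosedImmersion cK] (V : W.affineOpens)
    (hK : (cK ≫ K.subschemeι).ker.ideal V = K.ideal V) :
    IsIso (cK ∣_ (K.subschemeι ⁻¹ᵁ V.1)) := by
  have hD : IsAffineOpen (K.subschemeι ⁻¹ᵁ V.1) := V.2.preimage K.subschemeι
  rw [isIso_morphismRestrict_iff_isIso_app (f := cK) hD, ConcreteCategory.isIso_iff_bijective]
  refine ⟨?_, cK.app_surjective _ hD⟩
  rw [injective_iff_map_eq_zero]
  intro x hx
  obtain ⟨y, rfl⟩ := K.subschemeι_app_surjective V x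
  have h1 : ((cK ≫ K.subschemeι).app V.1).hom y = 0 := hx
  have h2 : y ∈ (cK ≫ K.subschemeι).ker.ideal V := by
    rw [Scheme.Hom.ker_apply]
    exact h1
  rw [hK, ← K.ker_subschemeι_app V] at h2
  exact h2

end Groth.Agent.H72.ZMTfpGlobal
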