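import Mathlib
import Groth.Agent.H72.ZMTfpGlobalA
import Groth.Agent.H72.FinFact
import Groth.Agent.Lib.Helper18.FiniteFP
import Groth.Agent.Lib.Helper49.PrinPartFP

/-!
# Finitely presented form of Zariski's main theorem over a qcqs base (helper72)

A separated, quasi-compact, locally quasi-finite morphism locally of finite presentation to a
quasi-compact quasi-separated scheme is a quasi-compact open immersion followed by a finite
morphism of finite presentation.
-/

set_option autoImplicit false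
universe u

open CategoryTheory CategoryTheory.Limits AlgebraicGeometry

namespace Groth.Agent.H72.ZMTfpGlobal

open Groth.Agent.Lib.Helper18

set_option backward.isDefEq.respectTransparency.types false in
theorem exists_fp_factorization {X S : Scheme.{u}} (f : X ⟶ S) [CompactSpace S]
    [QuasiSeparatedSpace S] [IsSeparated f] [QuasiCompact f] [LocallyQuasiFinite f]
    [LocallyOfFinitePresentation f] :
    ∃ (T : Scheme.{u}) (j : X ⟶ T) (π : T ⟶ S), IsOpenImmersion j ∧ QuasiCompact j ∧ IsFinite π ∧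
      LocallyOfFinitePresentation π ∧ j ≫ π = f := by
  classical
  -- Step 1: a finite factorization
  haveI : QuasiCompact (f.toNormalization ≫ f.fromNormalization) := by
    rw [Scheme.Hom.toNormalization_fromNormalization]; infer_instance
  haveI : QuasiCompact f.toNormalization :=
    QuasiCompact.of_comp f.toNormalization f.fromNormalization
  haveI : LocallyOfFiniteType (f.toNormalization ≫ f.fromNormalization) := by
    rw [Scheme.Hom.toNormalization_fromNormalization]; infer_instance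
  obtain ⟨T₀, π₀, j₀, hπ₀, hj₀, hjπ₀⟩ :=
    Groth.Agent.H72.FinFact.exists_finite_factorization f.fromNormalization f.toNormalization
  rw [Scheme.Hom.toNormalization_fromNormalization] at hjπ₀
  -- Step 2: embed into a finitely presented affine scheme over `S`
  obtain ⟨W, p, c, K₀, hp, hlfp, hc, hcp, hWc, hWq, hK₀, hK₀fg, hfin⟩ :=
    SymQC.exists_embedding_finite π₀
  have hfcp : j₀ ≫ c ≫ p = f := by rw [hcp, hjπ₀]
  haveI : LocallyOfFinitePresentation (j₀ ≫ c ≫ p) := by rw [hfcp]; infer_instance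
  -- Step 3: covers by basic opens
  obtain ⟨C, hC⟩ := FTApprox.exists_finite_affine_cover S
  have key3 : ∀ U : S.affineOpens, ∃ G : Finset Γ(W, p ⁻¹ᵁ U.1),
      (∀ g ∈ G, c ⁻¹ᵁ (W.basicOpen g) ≤ j₀.opensRange) ∧
      j₀.opensRange ⊓ c ⁻¹ᵁ (p ⁻¹ᵁ U.1) ≤ ⨆ g : G, c ⁻¹ᵁ (W.basicOpen g.1) := by
    intro U
    apply exists_finset_basicOpen_cover c j₀.opensRange (p ⁻¹ᵁ U.1) (U.2.preimage p)
    have hset : ((j₀.opensRange ⊓ c ⁻¹ᵁ (p ⁻¹ᵁ U.1) : T₀.Opens) : Set T₀) =
        j₀ '' ((f ⁻¹ᵁ U.1 : X.Opens) : Set X) := by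
      ext t
      constructor
      · rintro ⟨⟨x, rfl⟩, ht⟩
        refine ⟨x, ?_, rfl⟩
        change f x ∈ U.1
        rw [← hfcp]
        exact ht
      · rintro ⟨x, hx, rfl⟩
        refine ⟨⟨x, rfl⟩, ?_⟩
        change (j₀ ≫ c ≫ p) x ∈ U.1
        rw [hfcp]
        exact hx
    rw [hset]
    exact (QuasiCompact.isCompact_preimage (f := f) _ U.1.2 U.2.isCompact).image j₀.continuous
  choose G hG1 hG2 using key3
  -- Step 4: finite generation of the ideal over these basic opens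
  have hVaff : ∀ (U : S.affineOpens) (g : Γ(W, p ⁻¹ᵁ U.1)), IsAffineOpen (W.basicOpen g) :=
    fun U g => (U.2.preimage p).basicOpen g
  have key4 : ∀ (U : S.affineOpens) (g : ↥(G U)),
      ∃ Z : Finset Γ(W, W.basicOpen g.1), Ideal.span (Z : Set Γ(W, W.basicOpen g.1)) =
        c.ker.ideal ⟨W.basicOpen g.1, hVaff U g.1⟩ :=
    fun U g => fg_ker_ideal j₀ c p U.1 U.2 (W.basicOpen g.1) (hVaff U g.1)
      (W.basicOpen_le g.1) (hG1 U g.1 g.2)
  choose Z hZ using key4
  -- Step 5: the finite type ideal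
  let ι' := Σ (U : ↥C) (g : ↥(G U.1)), ↥(Z U.1 g)
  let Wf : ι' → W.affineOpens := fun i => ⟨W.basicOpen i.2.1.1, hVaff i.1.1 i.2.1.1⟩
  obtain ⟨K₁, hK₁, hK₁s, hK₁fg⟩ := FTApprox.exists_le_ft_mem_family c.ker Wf (fun i => i.2.2.1)
    (fun i => by
      rw [← hZ i.1.1 i.2.1]
      exact Ideal.subset_span i.2.2.2)
  let K : W.IdealSheafData := K₀ ⊔ K₁
  have hK : K ≤ c.ker := sup_le hK₀ hK₁
  have hKfg : ∀ V : W.affineOpens, (K.ideal V).FG := fun V =>
    Submodule.FG.sup (hK₀fg V) (hK₁fg V)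
  have hKeq : ∀ (U : ↥C) (g : ↥(G U.1)),
      c.ker.ideal ⟨W.basicOpen g.1, hVaff U.1 g.1⟩ = K.ideal ⟨W.basicOpen g.1, hVaff U.1 g.1⟩ := by
    intro U g
    apply le_antisymm
    · rw [← hZ U.1 g, Ideal.span_le]
      intro z hz
      have h1 : z ∈ K₁.ideal ⟨W.basicOpen g.1, hVaff U.1 g.1⟩ := hK₁s ⟨U, g, ⟨z, hz⟩⟩
      exact (le_sup_right : K₁ ≤ K) _ h1
    · exact hK _
  -- Step 6: the factorization
  have h1 : LocallyOfFinitePresentation K.subschemeι :=
    Groth.Agent.Lib.Helper49.PrinPartFP.locallyOfFinitePresentation_subschemeι K hKfg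
  let cK : T₀ ⟶ K.subscheme := c.toImage ≫ Scheme.IdealSheafData.inclusion hK
  have hcK : cK ≫ K.subschemeι = c := by
    rw [Category.assoc, Scheme.IdealSheafData.inclusion_subschemeι]
    exact c.toImage_imageι
  haveI : IsClosedImmersion cK := by
    haveI : IsClosedImmersion (cK ≫ K.subschemeι) := hcK ▸ hc
    exact IsClosedImmersion.of_comp cK K.subschemeι
  let j : X ⟶ K.subscheme := j₀ ≫ cK
  have hjf : j ≫ K.subschemeι ≫ p = f := by
    rw [Category.assoc, ← Category.assoc cK, hcK, hfcp]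
  haveI : IsFinite (K.subschemeι ≫ p) := hfin K le_sup_left
  have hjoi : IsOpenImmersion j := by
    let D : (Σ (U : ↥C), ↥(G U.1)) → K.subscheme.Opens :=
      fun i => K.subschemeι ⁻¹ᵁ (W.basicOpen i.2.1)
    apply isOpenImmersion_of_isIso_morphismRestrict j D
    · intro i
      have hi1 : IsIso (cK ∣_ D i) := by
        apply isIso_morphismRestrict_of_ideal_eq K cK ⟨W.basicOpen i.2.1, hVaff i.1.1 i.2.1⟩
        rw [hcK]
        exact hKeq i.1 i.2
      have hi2 : IsIso (j₀ ∣_ (cK ⁻¹ᵁ D i)) := by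
        apply isIso_morphismRestrict_of_le_opensRange
        intro x hx
        apply hG1 i.1.1 i.2.1 i.2.2
        change c x ∈ W.basicOpen i.2.1
        rw [← hcK]
        exact hx
      change IsIso ((j₀ ≫ cK) ∣_ D i)
      rw [morphismRestrict_comp]
      exact @IsIso.comp_isIso _ _ _ _ _ _ _ hi2 hi1
    · rw [eq_top_iff]
      intro x _
      have hx : f x ∈ (⨆ U : ↥C, (U.1 : S.affineOpens).1) := by rw [hC]; trivial
      obtain ⟨U, hxU⟩ := TopologicalSpace.Opens.mem_iSup.mp hx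
      have h2 : j₀ x ∈ j₀.opensRange ⊓ c ⁻¹ᵁ (p ⁻¹ᵁ U.1.1) := by
        refine ⟨⟨x, rfl⟩, ?_⟩
        change (j₀ ≫ c ≫ p) x ∈ U.1.1
        rw [hfcp]
        exact hxU
      obtain ⟨g, hg⟩ := TopologicalSpace.Opens.mem_iSup.mp (hG2 U.1 h2)
      change j x ∈ ⨆ α, D α
      refine TopologicalSpace.Opens.mem_iSup.mpr ⟨⟨U, g⟩, ?_⟩
      change (j₀ ≫ cK ≫ K.subschemeι) x ∈ W.basicOpen g.1
      rw [hcK]
      exact hg
  refine ⟨K.subscheme, j, K.subschemeι ≫ p, hjoi, ?_, inferInstance, inferInstance, hjf⟩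
  haveI : QuasiCompact (j ≫ K.subschemeι ≫ p) := by rw [hjf]; infer_instance
  exact QuasiCompact.of_comp j (K.subschemeι ≫ p)

end Groth.Agent.H72.ZMTfpGlobal
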